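import Mathlib
import Groth.Prelude.Def_Coh
import Groth.Prelude.Def_FlatMod2
import Groth.Agent.H8.FreeMod

/-!
# The action of global functions on the cohomology of `O`-modules

Naturality of the `Γ(X, O_X)`-action on `H^n(X, M)` in `M`, and annihilators of the cohomology of
finite free modules.
-/

set_option autoImplicit false
set_option linter.unusedSectionVars false
set_option linter.unusedVariables false
set_option linter.style.haveILetI false

universe u

open CategoryTheory CategoryTheory.Limits AlgebraicGeometry TopologicalSpace Opposite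
open Groth.Agent.H8

namespace Groth.Agent.H82.HHA

variable {X : Scheme.{u}}

/-- underlying morphism of abelian sheaves -/
noncomputable abbrev abMap {M N : X.Modules} (φ : M ⟶ N) : Coh.toAb M ⟶ Coh.toAb N :=
  (SheafOfModules.toSheaf X.ringCatSheaf).map φ

theorem abMap_app {M N : X.Modules} (φ : M ⟶ N) (U : (Opens X)ᵒᵖ) (m : (Coh.toAb M).obj.obj U) :
    (abMap φ).hom.app U m = φ.app U.unop m := rfl

theorem smulAb_naturality {M N : X.Modules} (φ : M ⟶ N) (r : Coh.Γtop X) :
    Coh.smulAb M r ≫ abMap φ = abMap φ ≫ Coh.smulAb N r := by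
  ext U m
  show (abMap φ).hom.app U ((Coh.smulAb M r).hom.app U m) =
    (Coh.smulAb N r).hom.app U ((abMap φ).hom.app U m)
  rw [Coh.smulAb_app, Coh.smulAb_app]
  exact (φ.val.app U).hom.map_smul _ _

theorem smul_def {M : X.Modules} (n : ℕ) (r : Coh.Γtop X) (x : Coh.HH X M n) :
    r • x = Sheaf.H.map (Coh.smulAb M r) n x := rfl

theorem map_smul {M N : X.Modules} (φ : M ⟶ N) (n : ℕ) (r : Coh.Γtop X) (x : Coh.HH X M n) :
    Sheaf.H.map (abMap φ) n (r • x) = r • Sheaf.H.map (abMap φ) n x := by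
  rw [smul_def, smul_def, ← Sheaf.H.map_comp_apply, ← Sheaf.H.map_comp_apply, smulAb_naturality]

theorem smul_eq_of_comp {F G : X.Modules} (a : G ⟶ F) (b : F ⟶ G) (c : Coh.Γtop X)
    (h : ∀ (V : X.Opens) (x : Γ(F, V)), a.app V (b.app V x) =
      (X.presheaf.map (homOfLE (le_top : V ≤ ⊤)).op c : Γ(X, V)) • x)
    (n : ℕ) (x : Coh.HH X F n) :
    c • x = Sheaf.H.map (abMap a) n (Sheaf.H.map (abMap b) n x) := by
  have key : Coh.smulAb F c = abMap b ≫ abMap a := by
    ext U m
    show (Coh.smulAb F c).hom.app U m = (abMap a).hom.app U ((abMap b).hom.app U m)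
    rw [Coh.smulAb_app, abMap_app, abMap_app]
    exact (h U.unop m).symm
  rw [smul_def, ← Sheaf.H.map_comp_apply, key]

theorem H_map_sum {A B : Sheaf (Opens.grothendieckTopology X) AddCommGrpCat.{u}} {ι : Type*}
    (s : Finset ι) (φ : ι → (A ⟶ B)) (n : ℕ) (x : Sheaf.H A n) :
    Sheaf.H.map (∑ i ∈ s, φ i) n x = ∑ i ∈ s, Sheaf.H.map (φ i) n x := by
  classical
  induction s using Finset.induction_on with
  | empty =>
    rw [Finset.sum_empty, Finset.sum_empty]
    show ((Sheaf.functorH _ n).map (0 : A ⟶ B)).hom x = 0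
    rw [Functor.map_zero]
    rfl
  | insert i s hi ih =>
    rw [Finset.sum_insert hi, Sheaf.H.map_add_apply, ih, Finset.sum_insert hi]

theorem abMap_sum {M N : X.Modules} {ι : Type*} (s : Finset ι) (φ : ι → (M ⟶ N)) :
    abMap (∑ i ∈ s, φ i) = ∑ i ∈ s, abMap (φ i) :=
  Functor.map_sum (SheafOfModules.toSheaf X.ringCatSheaf) _ _

theorem smul_eq_zero_freeMod (r : ℕ) (n : ℕ) (c : Coh.Γtop X)
    (hc : ∀ x : Coh.HH X (Coh.structureModule X) n, c • x = 0)
    (x : Coh.HH X (FlatMod.freeMod X r) n) : c • x = 0 := by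
  have h1 : x = ∑ i, Sheaf.H.map (abMap (freeι X r i)) n (Sheaf.H.map (abMap (freeπ X r i)) n x) := by
    have h2 : 𝟙 (Coh.toAb (FlatMod.freeMod X r)) =
        ∑ i, abMap (freeπ X r i) ≫ abMap (freeι X r i) := by
      have h3 := congrArg abMap (sum_freeπ_ι X r)
      rw [abMap_sum] at h3
      rw [show abMap (𝟙 (FlatMod.freeMod X r)) = 𝟙 _ from
        (SheafOfModules.toSheaf X.ringCatSheaf).map_id _] at h3
      rw [← h3]
      refine Finset.sum_congr rfl fun i _ => ?_
      exact ((SheafOfModules.toSheaf X.ringCatSheaf).map_comp _ _).symm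
    conv_lhs => rw [← Sheaf.H.map_id_apply (F := Coh.toAb (FlatMod.freeMod X r)) x, h2]
    rw [H_map_sum]
    refine Finset.sum_congr rfl fun i _ => ?_
    rw [Sheaf.H.map_comp_apply]
  rw [h1, Finset.smul_sum]
  refine Finset.sum_eq_zero fun i _ => ?_
  rw [← map_smul, hc, _root_.map_zero]

end Groth.Agent.H82.HHA
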