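import Mathlib
import Groth.Prelude.Def_Coh
import Groth.Agent.H82.HHAction
import Groth.Agent.H22.SerreH1
import Groth.Agent.H8.CohKerCoker
import Groth.Agent.H95.QCohColim
import Groth.Agent.H22.QCohLimits
import Groth.Agent.H8.FinType
import Groth.Agent.H8.Coh

/-!
# Finiteness of cohomology along short exact sequences and finite coproducts

* `δ`, `δ_smul`: the connecting map `H^i(X₃) → H^{i+1}(X₁)` of a short exact sequence of
  `O_X`-modules, and its linearity for the action of global functions.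
* `finite_of_ses`: over a Noetherian base ring, finiteness of `H^i(X₂)` and `H^{i+1}(X₁)` gives
  finiteness of `H^i(X₃)`.
* `finite_HH_sigma`: finiteness of the cohomology of a finite coproduct.
* `isCoh_sigma`: finite coproducts of coherent modules are coherent.
-/

set_option autoImplicit false
set_option linter.unusedSectionVars false
set_option linter.unusedVariables false
set_option linter.style.haveILetI false

universe u

open CategoryTheory CategoryTheory.Limits AlgebraicGeometry TopologicalSpace Opposite Abelian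
open Groth.Agent.H8 Groth.Agent.H82.HHA
open Groth.Agent.H22.SerreH1 (toAbF constZ)

namespace Groth.Agent.H82.HHFinite

variable {X : Scheme.{u}}

/-- multiplication by a global function as an endomorphism of a short complex of abelian sheaves -/
noncomputable def smulHom (S : ShortComplex X.Modules) (g : Coh.Γtop X) :
    S.map (toAbF X) ⟶ S.map (toAbF X) where
  τ₁ := Coh.smulAb S.X₁ g
  τ₂ := Coh.smulAb S.X₂ g
  τ₃ := Coh.smulAb S.X₃ g
  comm₁₂ := smulAb_naturality S.f g
  comm₂₃ := smulAb_naturality S.g g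

/-- the connecting map in cohomology -/
noncomputable def δ (S : ShortComplex X.Modules) (hS : S.ShortExact) (i : ℕ) :
    Coh.HH X S.X₃ i →+ Coh.HH X S.X₁ (i + 1) :=
  (hS.map_of_exact (toAbF X)).extClass.postcomp (constZ X) rfl

theorem δ_smul (S : ShortComplex X.Modules) (hS : S.ShortExact) (i : ℕ) (g : Coh.Γtop X)
    (x : Coh.HH X S.X₃ i) : δ S hS i (g • x) = g • δ S hS i x := by
  have hS' : (S.map (toAbF X)).ShortExact := hS.map_of_exact _
  have hnat := ShortComplex.ShortExact.extClass_naturality hS' hS' (smulHom S g)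
  show ((x.comp (Ext.mk₀ (Coh.smulAb S.X₃ g)) (add_zero i)).comp hS'.extClass rfl) =
    (x.comp hS'.extClass rfl).comp (Ext.mk₀ (Coh.smulAb S.X₁ g)) (add_zero (i + 1))
  rw [Ext.comp_assoc_of_second_deg_zero, Ext.comp_assoc_of_third_deg_zero]
  exact congrArg (fun z => x.comp z rfl) hnat.symm

theorem δ_exact (S : ShortComplex X.Modules) (hS : S.ShortExact) (i : ℕ)
    (x : Coh.HH X S.X₃ i) (hx : δ S hS i x = 0) :
    ∃ y : Coh.HH X S.X₂ i, Sheaf.H.map (abMap S.g) i y = x :=
  Ext.covariant_sequence_exact₃ (constZ X) (hS.map_of_exact (toAbF X)) x rfl hx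

theorem δ_map (S : ShortComplex X.Modules) (hS : S.ShortExact) (i : ℕ)
    (y : Coh.HH X S.X₂ i) : δ S hS i (Sheaf.H.map (abMap S.g) i y) = 0 := by
  have hS' : (S.map (toAbF X)).ShortExact := hS.map_of_exact _
  show ((y.comp (Ext.mk₀ (S.map (toAbF X)).g) (add_zero i)).comp hS'.extClass rfl) = 0
  refine (Ext.comp_assoc_of_second_deg_zero _ _ _ _).trans ?_
  refine (congrArg (fun z => y.comp z rfl) hS'.comp_extClass).trans ?_
  exact Ext.comp_zero _ _ _ _ _

section Over

variable {A : Type u} [CommRing A] [X.Over (Spec (CommRingCat.of A))]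

theorem over_smul_def {M : X.Modules} (n : ℕ) (r : A) (x : Coh.HH X M n) :
    r • x = (Coh.toGlobal (X ↘ Spec (CommRingCat.of A)) r) • x := rfl

/-- the map on cohomology induced by a morphism of modules, as a linear map over the base -/
noncomputable def mapL {M N : X.Modules} (φ : M ⟶ N) (n : ℕ) :
    Coh.HH X M n →ₗ[A] Coh.HH X N n where
  toFun := Sheaf.H.map (abMap φ) n
  map_add' := map_add _
  map_smul' r x := map_smul φ n _ x

theorem mapL_apply {M N : X.Modules} (φ : M ⟶ N) (n : ℕ) (x : Coh.HH X M n) :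
    mapL (A := A) φ n x = Sheaf.H.map (abMap φ) n x := rfl

/-- the connecting map as a linear map over the base -/
noncomputable def δL (S : ShortComplex X.Modules) (hS : S.ShortExact) (i : ℕ) :
    Coh.HH X S.X₃ i →ₗ[A] Coh.HH X S.X₁ (i + 1) where
  toFun := δ S hS i
  map_add' := map_add _
  map_smul' r x := δ_smul S hS i _ x

theorem finite_of_ses [IsNoetherianRing A] (S : ShortComplex X.Modules) (hS : S.ShortExact) (i : ℕ)
    (h₂ : Module.Finite A (Coh.HH X S.X₂ i)) (h₁ : Module.Finite A (Coh.HH X S.X₁ (i + 1))) :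
    Module.Finite A (Coh.HH X S.X₃ i) := by
  haveI : IsNoetherian A (Coh.HH X S.X₁ (i + 1)) := isNoetherian_of_isNoetherianRing_of_finite _ _
  let d : Coh.HH X S.X₃ i →ₗ[A] Coh.HH X S.X₁ (i + 1) := δL S hS i
  let g : Coh.HH X S.X₂ i →ₗ[A] Coh.HH X S.X₃ i := mapL S.g i
  have hker : LinearMap.ker d = LinearMap.range g := by
    ext x
    constructor
    · intro hx
      obtain ⟨y, hy⟩ := δ_exact S hS i x hx
      exact ⟨y, hy⟩
    · rintro ⟨y, rfl⟩
      exact δ_map S hS i y
  haveI : Module.Finite A (LinearMap.ker d) := by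
    rw [hker]
    infer_instance
  haveI : IsNoetherian A (LinearMap.range d) := isNoetherian_submodule' _
  haveI : Module.Finite A (LinearMap.range d) := Module.IsNoetherian.finite A _
  haveI : Module.Finite A (Coh.HH X S.X₃ i ⧸ LinearMap.ker d) :=
    Module.Finite.equiv (LinearMap.quotKerEquivRange d).symm
  exact Module.Finite.of_submodule_quotient (LinearMap.ker d)

end Over

section Sigma

variable {C : Type*} [Category C] [Preadditive C] [HasFiniteBiproducts C]

theorem exists_sigma_total {ι : Type} [Fintype ι] [DecidableEq ι] (F : ι → C) :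
    ∃ π : ∀ j, (∐ F) ⟶ F j, ∑ j, π j ≫ Sigma.ι F j = 𝟙 (∐ F) := by
  refine ⟨fun j => (biproduct.isoCoproduct F).inv ≫ biproduct.π F j, ?_⟩
  have h1 : ∀ j, Sigma.ι F j = biproduct.ι F j ≫ (biproduct.isoCoproduct F).hom := by
    intro j
    rw [biproduct.isoCoproduct_hom, biproduct.ι_desc]
  calc ∑ j, ((biproduct.isoCoproduct F).inv ≫ biproduct.π F j) ≫ Sigma.ι F j
      = (biproduct.isoCoproduct F).inv ≫ (∑ j, biproduct.π F j ≫ biproduct.ι F j) ≫
          (biproduct.isoCoproduct F).hom := by
        rw [Preadditive.sum_comp, Preadditive.comp_sum]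
        refine Finset.sum_congr rfl fun j _ => ?_
        rw [h1 j, Category.assoc, Category.assoc]
    _ = 𝟙 _ := by rw [biproduct.total, Category.id_comp, Iso.inv_hom_id]

end Sigma

section SigmaMod

variable {ι : Type} [Fintype ι] [DecidableEq ι] (F : ι → X.Modules)

theorem H_eq_sum (π : ∀ j, (∐ F) ⟶ F j) (hπ : ∑ j, π j ≫ Sigma.ι F j = 𝟙 (∐ F)) (n : ℕ)
    (x : Coh.HH X (∐ F) n) :
    x = ∑ j, Sheaf.H.map (abMap (Sigma.ι F j)) n (Sheaf.H.map (abMap (π j)) n x) := by
  have h2 : 𝟙 (Coh.toAb (∐ F)) = ∑ j, abMap (π j) ≫ abMap (Sigma.ι F j) := by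
    have h3 := congrArg abMap hπ
    rw [abMap_sum] at h3
    rw [show abMap (𝟙 (∐ F)) = 𝟙 _ from (SheafOfModules.toSheaf X.ringCatSheaf).map_id _] at h3
    rw [← h3]
    refine Finset.sum_congr rfl fun j _ => ?_
    exact ((SheafOfModules.toSheaf X.ringCatSheaf).map_comp _ _).symm
  conv_lhs => rw [← Sheaf.H.map_id_apply (F := Coh.toAb (∐ F)) x, h2]
  rw [H_map_sum]
  refine Finset.sum_congr rfl fun j _ => ?_
  rw [Sheaf.H.map_comp_apply]

theorem finite_HH_sigma {A : Type u} [CommRing A] [X.Over (Spec (CommRingCat.of A))] (n : ℕ)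
    (h : ∀ j, Module.Finite A (Coh.HH X (F j) n)) : Module.Finite A (Coh.HH X (∐ F) n) := by
  haveI : HasFiniteBiproducts X.Modules := HasFiniteBiproducts.of_hasFiniteProducts
  obtain ⟨π, hπ⟩ := exists_sigma_total F
  let Φ : (∀ j, Coh.HH X (F j) n) →ₗ[A] Coh.HH X (∐ F) n :=
    LinearMap.lsum A _ A (fun j => mapL (A := A) (Sigma.ι F j) n)
  refine Module.Finite.of_surjective Φ (fun x => ?_)
  refine ⟨fun j => Sheaf.H.map (abMap (π j)) n x, ?_⟩
  show (LinearMap.lsum A _ A (fun j => mapL (A := A) (Sigma.ι F j) n))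
    (fun j => Sheaf.H.map (abMap (π j)) n x) = x
  rw [LinearMap.lsum_apply]
  simp only [LinearMap.coe_sum, Finset.sum_apply, LinearMap.comp_apply, LinearMap.proj_apply]
  exact (H_eq_sum F π hπ n x).symm

theorem app_sum {M N : X.Modules} {κ : Type*} (s : Finset κ) (φ : κ → (M ⟶ N)) (U : X.Opens)
    (x : Γ(M, U)) : (∑ i ∈ s, φ i).app U x = ∑ i ∈ s, (φ i).app U x := by
  classical
  induction s using Finset.induction_on with
  | empty =>
    rw [Finset.sum_empty, Finset.sum_empty]
    rfl
  | insert i s hi ih =>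
    rw [Finset.sum_insert hi, Finset.sum_insert hi, ← ih]
    rfl

theorem finite_sections_sigma (U : X.Opens) (h : ∀ j, Module.Finite Γ(X, U) Γ(F j, U)) :
    Module.Finite Γ(X, U) Γ(∐ F, U) := by
  haveI : HasFiniteBiproducts X.Modules := HasFiniteBiproducts.of_hasFiniteProducts
  obtain ⟨π, hπ⟩ := exists_sigma_total F
  refine Module.Finite.of_surjective
    (LinearMap.lsum Γ(X, U) _ Γ(X, U) (fun j => appₗ (Sigma.ι F j) U)) (fun x => ?_)
  refine ⟨fun j => (π j).app U x, ?_⟩
  rw [LinearMap.lsum_apply]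
  simp only [LinearMap.coe_sum, Finset.sum_apply, LinearMap.comp_apply, LinearMap.proj_apply,
    appₗ_apply]
  have h1 : (∑ j, π j ≫ Sigma.ι F j).app U x = x := by
    rw [hπ]
    rfl
  rw [app_sum] at h1
  exact h1

theorem isQuasicoherent_sigma (h : ∀ j, (F j).IsQuasicoherent) : (∐ F).IsQuasicoherent := by
  let G : ULift.{u} ι → X.Modules := F ∘ Equiv.ulift
  haveI : (∐ G).IsQuasicoherent :=
    Groth.Agent.H95.QCohColim.isQuasicoherent_of_isColimit _ (colimit.isColimit (Discrete.functor G))
      (fun j => h j.as.down)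
  exact Groth.Agent.H22.QCohLimits.isQuasicoherent_of_iso (Sigma.reindex Equiv.ulift F)

theorem isCoh_sigma (h : ∀ j, Coh.IsCoh (F j)) : Coh.IsCoh (∐ F) := by
  haveI : (∐ F).IsQuasicoherent := isQuasicoherent_sigma F (fun j => (h j).1)
  refine ⟨inferInstance, ?_⟩
  apply isFiniteType_of_forall_affine_finite
  intro U
  exact finite_sections_sigma F (U : X.Opens) (fun j => finite_sections_of_isCoh (F j) (h j) U.2)

end SigmaMod

end Groth.Agent.H82.HHFinite
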