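import Mathlib
import Groth.Prelude.Def_DerCA
import Groth.Agent.H46.ExtCech

/-!
# Functoriality and exactness of the extended Čech complex `DerCA.extCech`
-/

set_option autoImplicit false
set_option linter.unusedSectionVars false
set_option linter.unusedVariables false
set_option linter.style.haveILetI false

universe u

open CategoryTheory Limits DerCA CochainComplex HomComplex

namespace Groth.Agent.H82.Cech

variable {R : Type u} [CommRing R]

/-- naturality of the termwise localisation map -/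
theorem locCxUnit_naturality (S : Submonoid R) {K L : DRing.Cx R} (a : K ⟶ L) :
    locCxUnit S K ≫ (locCx S).map a = a ≫ locCxUnit S L := by
  refine HomologicalComplex.hom_ext _ _ (fun i => ?_)
  exact ((locUnit S).naturality (a.f i)).symm

section coneElem

variable {K₁ L₁ K₂ L₂ K₃ L₃ : DRing.Cx R} (φ₁ : K₁ ⟶ L₁) (φ₂ : K₂ ⟶ L₂) (φ₃ : K₃ ⟶ L₃)
  (a : K₁ ⟶ K₂) (b : L₁ ⟶ L₂) (comm : φ₁ ≫ b = a ≫ φ₂)

theorem map_f_fst (p q : ℤ) (hpq : p + 1 = q) :
    (mappingCone.map φ₁ φ₂ a b comm).f p ≫ (mappingCone.fst φ₂).1.v p q hpq =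
      (mappingCone.fst φ₁).1.v p q hpq ≫ a.f q := by
  apply mappingCone.ext_from φ₁ q p hpq
  · simp [mappingCone.map]
  · simp [mappingCone.map]

theorem map_f_snd (p : ℤ) :
    (mappingCone.map φ₁ φ₂ a b comm).f p ≫ (mappingCone.snd φ₂).v p p (add_zero p) =
      (mappingCone.snd φ₁).v p p (add_zero p) ≫ b.f p := by
  apply mappingCone.ext_from φ₁ (p + 1) p rfl
  · simp [mappingCone.map]
  · simp [mappingCone.map]

theorem map_eq_zero (ha : a = 0) (hb : b = 0) : mappingCone.map φ₁ φ₂ a b comm = 0 := by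
  subst ha hb
  refine HomologicalComplex.hom_ext _ _ (fun n => ?_)
  simp [mappingCone.ext_from_iff _ (n + 1) n rfl, mappingCone.map]

end coneElem

section coneEquiv

variable {K L : DRing.Cx R} (φ : K ⟶ L) (p q : ℤ) (hpq : p + 1 = q)

/-- The degree-`p` term of the mapping cone as a product. -/
noncomputable def coneEquiv : (mappingCone φ).X p ≃ₗ[R] (K.X q × L.X p) :=
  LinearEquiv.ofLinear
    (LinearMap.prod ((mappingCone.fst φ).1.v p q hpq).hom
      ((mappingCone.snd φ).v p p (add_zero p)).hom)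
    (LinearMap.coprod ((mappingCone.inl φ).v q p (by omega)).hom ((mappingCone.inr φ).f p).hom)
    (by
      apply LinearMap.ext
      rintro ⟨k, l⟩
      have h1 := congrArg (fun m => m.hom k) (mappingCone.inl_v_fst_v φ q p (by omega))
      have h2 := congrArg (fun m => m.hom k) (mappingCone.inl_v_snd_v φ q p (by omega))
      have h3 := congrArg (fun m => m.hom l) (mappingCone.inr_f_fst_v φ p q hpq)
      have h4 := congrArg (fun m => m.hom l) (mappingCone.inr_f_snd_v φ p)
      simp only [ModuleCat.hom_comp, LinearMap.comp_apply, ModuleCat.hom_id, LinearMap.id_apply,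
        ModuleCat.hom_zero, LinearMap.zero_apply] at h1 h2 h3 h4
      show (((mappingCone.fst φ).1.v p q hpq).hom
          (((mappingCone.inl φ).v q p (by omega)).hom k + ((mappingCone.inr φ).f p).hom l),
        ((mappingCone.snd φ).v p p (add_zero p)).hom
          (((mappingCone.inl φ).v q p (by omega)).hom k + ((mappingCone.inr φ).f p).hom l)) = (k, l)
      rw [map_add, map_add, h1, h2, h3, h4, add_zero, zero_add])
    (by
      apply LinearMap.ext
      intro x
      have h := congrArg (fun m => m.hom x) (mappingCone.id_X φ p q hpq)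
      simp only [ModuleCat.hom_comp, LinearMap.comp_apply, ModuleCat.hom_id, LinearMap.id_apply,
        ModuleCat.hom_add, LinearMap.add_apply] at h
      exact h)

theorem coneEquiv_apply (x : (mappingCone φ).X p) :
    coneEquiv φ p q hpq x = (((mappingCone.fst φ).1.v p q hpq).hom x,
      ((mappingCone.snd φ).v p p (add_zero p)).hom x) := rfl

end coneEquiv

section coneExact

variable {K₁ L₁ K₂ L₂ K₃ L₃ : DRing.Cx R} (φ₁ : K₁ ⟶ L₁) (φ₂ : K₂ ⟶ L₂) (φ₃ : K₃ ⟶ L₃)
  (a : K₁ ⟶ K₂) (b : L₁ ⟶ L₂) (comm : φ₁ ≫ b = a ≫ φ₂)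
  (a' : K₂ ⟶ K₃) (b' : L₂ ⟶ L₃) (comm' : φ₂ ≫ b' = a' ≫ φ₃)

theorem coneEquiv_map (p q : ℤ) (hpq : p + 1 = q) (x : (mappingCone φ₁).X p) :
    coneEquiv φ₂ p q hpq (((mappingCone.map φ₁ φ₂ a b comm).f p).hom x) =
      ((a.f q).hom (coneEquiv φ₁ p q hpq x).1, (b.f p).hom (coneEquiv φ₁ p q hpq x).2) := by
  rw [coneEquiv_apply, coneEquiv_apply]
  have h1 := congrArg (fun m => m.hom x) (map_f_fst φ₁ φ₂ a b comm p q hpq)
  have h2 := congrArg (fun m => m.hom x) (map_f_snd φ₁ φ₂ a b comm p)
  simp only [ModuleCat.hom_comp, LinearMap.comp_apply] at h1 h2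
  exact Prod.ext h1 h2

theorem cone_map_injective (p q : ℤ) (hpq : p + 1 = q) (ha : Function.Injective (a.f q).hom)
    (hb : Function.Injective (b.f p).hom) :
    Function.Injective ((mappingCone.map φ₁ φ₂ a b comm).f p).hom := by
  intro x y hxy
  apply (coneEquiv φ₁ p q hpq).injective
  have h := congrArg (coneEquiv φ₂ p q hpq) hxy
  rw [coneEquiv_map, coneEquiv_map] at h
  exact Prod.ext (ha (congrArg Prod.fst h)) (hb (congrArg Prod.snd h))

theorem cone_map_surjective (p q : ℤ) (hpq : p + 1 = q) (ha : Function.Surjective (a.f q).hom)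
    (hb : Function.Surjective (b.f p).hom) :
    Function.Surjective ((mappingCone.map φ₁ φ₂ a b comm).f p).hom := by
  intro y
  obtain ⟨k, hk⟩ := ha (coneEquiv φ₂ p q hpq y).1
  obtain ⟨l, hl⟩ := hb (coneEquiv φ₂ p q hpq y).2
  refine ⟨(coneEquiv φ₁ p q hpq).symm (k, l), ?_⟩
  apply (coneEquiv φ₂ p q hpq).injective
  rw [coneEquiv_map, LinearEquiv.apply_symm_apply]
  exact Prod.ext hk hl

theorem cone_map_exact (p q : ℤ) (hpq : p + 1 = q)
    (ha : Function.Exact (a.f q).hom (a'.f q).hom)
    (hb : Function.Exact (b.f p).hom (b'.f p).hom) :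
    Function.Exact ((mappingCone.map φ₁ φ₂ a b comm).f p).hom
      ((mappingCone.map φ₂ φ₃ a' b' comm').f p).hom := by
  intro y
  constructor
  · intro hy
    have h := congrArg (coneEquiv φ₃ p q hpq) hy
    rw [coneEquiv_map, map_zero] at h
    obtain ⟨k, hk⟩ := (ha _).1 (congrArg Prod.fst h)
    obtain ⟨l, hl⟩ := (hb _).1 (congrArg Prod.snd h)
    refine ⟨(coneEquiv φ₁ p q hpq).symm (k, l), ?_⟩
    apply (coneEquiv φ₂ p q hpq).injective
    rw [coneEquiv_map, LinearEquiv.apply_symm_apply]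
    exact Prod.ext hk hl
  · rintro ⟨x, rfl⟩
    apply (coneEquiv φ₃ p q hpq).injective
    rw [coneEquiv_map, coneEquiv_map, map_zero]
    exact Prod.ext ((ha _).2 ⟨_, rfl⟩) ((hb _).2 ⟨_, rfl⟩)

end coneExact

section coconeMap

variable {K₁ L₁ K₂ L₂ K₃ L₃ : DRing.Cx R} (φ₁ : K₁ ⟶ L₁) (φ₂ : K₂ ⟶ L₂) (φ₃ : K₃ ⟶ L₃)
  (a : K₁ ⟶ K₂) (b : L₁ ⟶ L₂) (comm : φ₁ ≫ b = a ≫ φ₂)

/-- The morphism induced on mapping cocones by a commutative square. -/
noncomputable def coconeMap : mappingCocone φ₁ ⟶ mappingCocone φ₂ :=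
  (mappingCone.map φ₁ φ₂ a b comm)⟦(-1 : ℤ)⟧'

theorem coconeMap_f (p : ℤ) :
    (coconeMap φ₁ φ₂ a b comm).f p = (mappingCone.map φ₁ φ₂ a b comm).f (p + -1) := rfl

theorem coconeMap_id :
    coconeMap φ₁ φ₁ (𝟙 _) (𝟙 _) (by rw [Category.id_comp, Category.comp_id]) = 𝟙 _ := by
  unfold coconeMap
  rw [mappingCone.map_id]
  exact (CategoryTheory.shiftFunctor (DRing.Cx R) (-1 : ℤ)).map_id _

theorem coconeMap_comp (a' : K₂ ⟶ K₃) (b' : L₂ ⟶ L₃) (comm' : φ₂ ≫ b' = a' ≫ φ₃) :
    coconeMap φ₁ φ₃ (a ≫ a') (b ≫ b') (by rw [reassoc_of% comm, comm', Category.assoc]) =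
      coconeMap φ₁ φ₂ a b comm ≫ coconeMap φ₂ φ₃ a' b' comm' := by
  unfold coconeMap
  rw [mappingCone.map_comp φ₁ φ₂ φ₃ a b comm a' b' comm']
  exact (CategoryTheory.shiftFunctor (DRing.Cx R) (-1 : ℤ)).map_comp _ _

theorem coconeMap_eq_zero (ha : a = 0) (hb : b = 0) : coconeMap φ₁ φ₂ a b comm = 0 := by
  unfold coconeMap
  rw [map_eq_zero φ₁ φ₂ a b comm ha hb]
  exact (CategoryTheory.shiftFunctor (DRing.Cx R) (-1 : ℤ)).map_zero _ _

set_option backward.defeqAttrib.useBackward true in
set_option backward.isDefEq.respectTransparency false in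
theorem cocone_fst_f {K L : DRing.Cx R} (φ : K ⟶ L) (p : ℤ) :
    (mappingCocone.fst φ).f p =
      ((mappingCone.fst φ).1.v (p + -1) p (by omega) : (mappingCocone φ).X p ⟶ K.X p) := by
  simp [mappingCocone.fst, mappingCocone,
    Cochain.leftShift_v (n := 1) _ _ _ _ _ p _ (p + -1) (by omega)]

theorem coconeMap_fst :
    coconeMap φ₁ φ₂ a b comm ≫ mappingCocone.fst φ₂ = mappingCocone.fst φ₁ ≫ a := by
  refine HomologicalComplex.hom_ext _ _ (fun p => ?_)
  rw [HomologicalComplex.comp_f, HomologicalComplex.comp_f, coconeMap_f,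
    cocone_fst_f φ₂ p, cocone_fst_f φ₁ p]
  exact map_f_fst φ₁ φ₂ a b comm (p + -1) p (by omega)

theorem coconeMap_eq_id {K L : DRing.Cx R} (φ : K ⟶ L) (a : K ⟶ K) (b : L ⟶ L)
    (comm : φ ≫ b = a ≫ φ) (ha : a = 𝟙 _) (hb : b = 𝟙 _) : coconeMap φ φ a b comm = 𝟙 _ := by
  subst ha hb
  exact coconeMap_id φ

theorem coconeMap_eq_comp (a' : K₂ ⟶ K₃) (b' : L₂ ⟶ L₃) (comm' : φ₂ ≫ b' = a' ≫ φ₃)
    (a'' : K₁ ⟶ K₃) (b'' : L₁ ⟶ L₃) (comm'' : φ₁ ≫ b'' = a'' ≫ φ₃)
    (ha : a'' = a ≫ a') (hb : b'' = b ≫ b') :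
    coconeMap φ₁ φ₃ a'' b'' comm'' =
      coconeMap φ₁ φ₂ a b comm ≫ coconeMap φ₂ φ₃ a' b' comm' := by
  subst ha hb
  exact coconeMap_comp φ₁ φ₂ φ₃ a b comm a' b' comm'

end coconeMap

section cechMap

/-- Functoriality of the extended Čech complex in the module. -/
noncomputable def cechMap {M N : ModuleCat.{u} R} (g : M ⟶ N) :
    (fs : List R) → (extCech M fs ⟶ extCech N fs)
  | [] => (HomologicalComplex.single (ModuleCat.{u} R) (ComplexShape.up ℤ) 0).map g
  | f :: fs => coconeMap (locCxUnit (Submonoid.powers f) (extCech M fs))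
      (locCxUnit (Submonoid.powers f) (extCech N fs)) (cechMap g fs)
      ((locCx (Submonoid.powers f)).map (cechMap g fs))
      (locCxUnit_naturality (Submonoid.powers f) (cechMap g fs))

theorem cechMap_id (M : ModuleCat.{u} R) : ∀ fs : List R, cechMap (𝟙 M) fs = 𝟙 _
  | [] => (HomologicalComplex.single (ModuleCat.{u} R) (ComplexShape.up ℤ) 0).map_id M
  | f :: fs => coconeMap_eq_id _ _ _ _ (cechMap_id M fs)
      (by rw [cechMap_id M fs, CategoryTheory.Functor.map_id])

theorem cechMap_comp {M N P : ModuleCat.{u} R} (g : M ⟶ N) (h : N ⟶ P) :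
    ∀ fs : List R, cechMap (g ≫ h) fs = cechMap g fs ≫ cechMap h fs
  | [] => (HomologicalComplex.single (ModuleCat.{u} R) (ComplexShape.up ℤ) 0).map_comp g h
  | f :: fs => coconeMap_eq_comp _ _ _ _ _ _ _ _ _ _ _ _
      (cechMap_comp g h fs) (by rw [cechMap_comp g h fs, CategoryTheory.Functor.map_comp])

theorem cechMap_zero (M N : ModuleCat.{u} R) : ∀ fs : List R, cechMap (0 : M ⟶ N) fs = 0
  | [] => (HomologicalComplex.single (ModuleCat.{u} R) (ComplexShape.up ℤ) 0).map_zero M N
  | f :: fs => coconeMap_eq_zero _ _ _ _ _ (cechMap_zero M N fs)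
      (by rw [cechMap_zero M N fs, CategoryTheory.Functor.map_zero])

/-- The extended Čech complex as a functor of the module. -/
noncomputable def cechF (fs : List R) : ModuleCat.{u} R ⥤ DRing.Cx R where
  obj M := extCech M fs
  map g := cechMap g fs
  map_id M := cechMap_id M fs
  map_comp g h := cechMap_comp g h fs

instance (fs : List R) : (cechF fs).PreservesZeroMorphisms where
  map_zero M N := cechMap_zero M N fs

theorem locFunctor_preservesFiniteLimits (S : Submonoid R) :
    PreservesFiniteLimits (locFunctor S) :=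
  Functor.preservesFiniteLimits_of_preservesHomology _

theorem locFunctor_preservesFiniteColimits (S : Submonoid R) :
    PreservesFiniteColimits (locFunctor S) :=
  Functor.preservesFiniteColimits_of_preservesHomology _

/-- The extended Čech complex is an exact functor of the module. -/
theorem cechF_shortExact {S : ShortComplex (ModuleCat.{u} R)} (hS : S.ShortExact) :
    ∀ fs : List R, (S.map (cechF fs)).ShortExact
  | [] => hS.map_of_exact (HomologicalComplex.single (ModuleCat.{u} R) (ComplexShape.up ℤ) 0)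
  | f :: fs => by
      have ih := cechF_shortExact hS fs
      apply HomologicalComplex.shortExact_of_degreewise_shortExact
      intro n
      haveI := locFunctor_preservesFiniteLimits (Submonoid.powers f)
      haveI := locFunctor_preservesFiniteColimits (Submonoid.powers f)
      have hK : ∀ i : ℤ, ((S.map (cechF fs)).map
          (HomologicalComplex.eval (ModuleCat.{u} R) (ComplexShape.up ℤ) i)).ShortExact :=
        fun i => ih.map_of_exact _
      have hL : ∀ i : ℤ, (((S.map (cechF fs)).map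
          (HomologicalComplex.eval (ModuleCat.{u} R) (ComplexShape.up ℤ) i)).map
            (locFunctor (Submonoid.powers f))).ShortExact :=
        fun i => (hK i).map_of_exact _
      refine ModuleCat.shortComplex_shortExact _ ?_ ?_ ?_
      · exact cone_map_exact _ _ _ _ _ (locCxUnit_naturality _ _) _ _
          (locCxUnit_naturality _ _) (n + -1) n (by omega)
          ((ShortComplex.ShortExact.moduleCat_exact_iff_function_exact _).1 (hK n).exact)
          ((ShortComplex.ShortExact.moduleCat_exact_iff_function_exact _).1 (hL (n + -1)).exact)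
      · exact cone_map_injective _ _ _ _ (locCxUnit_naturality _ _) (n + -1) n (by omega)
          (hK n).moduleCat_injective_f (hL (n + -1)).moduleCat_injective_f
      · exact cone_map_surjective _ _ _ _ (locCxUnit_naturality _ _) (n + -1) n (by omega)
          (hK n).moduleCat_surjective_g (hL (n + -1)).moduleCat_surjective_g

end cechMap

section eps

/-- The projection of the extended Čech complex onto its degree-zero part. -/
noncomputable def ε (M : ModuleCat.{u} R) : (fs : List R) →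
    (extCech M fs ⟶ (HomologicalComplex.single (ModuleCat.{u} R) (ComplexShape.up ℤ) 0).obj M)
  | [] => 𝟙 _
  | f :: fs => mappingCocone.fst (locCxUnit (Submonoid.powers f) (extCech M fs)) ≫ ε M fs

theorem ε_naturality {M N : ModuleCat.{u} R} (g : M ⟶ N) : ∀ fs : List R,
    cechMap g fs ≫ ε N fs =
      ε M fs ≫ (HomologicalComplex.single (ModuleCat.{u} R) (ComplexShape.up ℤ) 0).map g
  | [] => by
      show (HomologicalComplex.single (ModuleCat.{u} R) (ComplexShape.up ℤ) 0).map g ≫ 𝟙 _ =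
        𝟙 _ ≫ (HomologicalComplex.single (ModuleCat.{u} R) (ComplexShape.up ℤ) 0).map g
      rw [Category.comp_id, Category.id_comp]
  | f :: fs => by
      show coconeMap _ _ (cechMap g fs) _ _ ≫ (mappingCocone.fst _ ≫ ε N fs) =
        (mappingCocone.fst _ ≫ ε M fs) ≫ _
      rw [← Category.assoc, coconeMap_fst, Category.assoc, ε_naturality g fs, Category.assoc]

end eps

end Groth.Agent.H82.Cech
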