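import Mathlib
import Groth.Agent.H82.CechFun

/-!
# Low-degree analysis of the mapping cocone of a localisation map

Abstract gluing step computing `Z¹` of the extended Čech complex.
-/

set_option autoImplicit false
set_option linter.unusedSectionVars false
set_option linter.unusedVariables false
set_option linter.style.haveILetI false
set_option backward.isDefEq.respectTransparency false

universe u

open CategoryTheory Limits DerCA CochainComplex HomComplex

namespace Groth.Agent.H82.CechGeo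

open Groth.Agent.H82.Cech

variable {R : Type u} [CommRing R]

section ConeD

variable {K L : DRing.Cx R} (φ : K ⟶ L)

theorem coneEquiv_d (p q r : ℤ) (hpq : p + 1 = q) (hqr : q + 1 = r) (x : (mappingCone φ).X p) :
    coneEquiv φ q r hqr (((mappingCone φ).d p q).hom x) =
      (-((K.d q r).hom (coneEquiv φ p q hpq x).1),
        (φ.f q).hom (coneEquiv φ p q hpq x).1 + (L.d p q).hom (coneEquiv φ p q hpq x).2) := by
  rw [coneEquiv_apply, coneEquiv_apply]
  have h1 := congrArg (fun m => m.hom x) (mappingCone.d_fst_v φ p q r hpq hqr)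
  have h2 := congrArg (fun m => m.hom x) (mappingCone.d_snd_v φ p q hpq)
  simp only [ModuleCat.hom_comp, LinearMap.comp_apply, ModuleCat.hom_neg, LinearMap.neg_apply,
    ModuleCat.hom_add, LinearMap.add_apply, map_neg] at h1 h2
  exact Prod.ext h1 h2

theorem cocone_d_hom (n m : ℤ) (x : (mappingCone φ).X (n + -1)) :
    ((mappingCocone φ).d n m).hom x = -(((mappingCone φ).d (n + -1) (m + -1)).hom x) := by
  have h : (mappingCocone φ).d n m =
      (-1 : ℤ).negOnePow • (mappingCone φ).d (n + -1) (m + -1) := rfl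
  rw [h]
  simp
  rfl

/-- Coordinates on the cocone. -/
noncomputable def cEquiv (n : ℤ) : (mappingCocone φ).X n ≃ₗ[R] (K.X n × L.X (n + -1)) :=
  coneEquiv φ (n + -1) n (by omega)

theorem cEquiv_d (c : ℤ) (x : (mappingCocone φ).X (c + -1)) :
    cEquiv φ c (((mappingCocone φ).d (c + -1) c).hom x) =
      ((K.d (c + -1) c).hom (cEquiv φ (c + -1) x).1,
        -((φ.f (c + -1)).hom (cEquiv φ (c + -1) x).1) -
          (L.d (c + -1 + -1) (c + -1)).hom (cEquiv φ (c + -1) x).2) := by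
  have hx : ∀ y : (mappingCone φ).X (c + -1 + -1),
      coneEquiv φ (c + -1) c (by omega) (((mappingCocone φ).d (c + -1) c).hom y) =
      ((K.d (c + -1) c).hom (coneEquiv φ (c + -1 + -1) (c + -1) (by omega) y).1,
        -((φ.f (c + -1)).hom (coneEquiv φ (c + -1 + -1) (c + -1) (by omega) y).1) -
          (L.d (c + -1 + -1) (c + -1)).hom (coneEquiv φ (c + -1 + -1) (c + -1) (by omega) y).2) := by
    intro y
    rw [cocone_d_hom φ (c + -1) c y, map_neg,
      coneEquiv_d φ (c + -1 + -1) (c + -1) c (by omega) (by omega)]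
    refine Prod.ext ?_ ?_
    · simp
    · simp only [Prod.snd_neg]
      abel
  exact hx x

end ConeD

section Step

/-- Data identifying the bottom term and the cocycles in the next degree of a complex. -/
structure ZData (K : DRing.Cx R) (a b c : ℤ) {M G : Type u} [AddCommGroup M] [Module R M]
    [AddCommGroup G] [Module R G] (ρ : M →ₗ[R] G) where
  sub : ∀ n : ℤ, n < a → Subsingleton (K.X n)
  α : K.X a ≃ₗ[R] M
  θ : LinearMap.ker (K.d b c).hom ≃ₗ[R] G
  comm : ∀ x : K.X a,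
    ((θ.symm (ρ (α x)) : LinearMap.ker (K.d b c).hom) : K.X b) = (K.d a b).hom x

def ZData.cast {K : DRing.Cx R} {a b c a' b' : ℤ} {M G : Type u} [AddCommGroup M] [Module R M]
    [AddCommGroup G] [Module R G] {ρ : M →ₗ[R] G} (ha : a = a') (hb : b = b')
    (Z : ZData K a b c ρ) : ZData K a' b' c ρ := by
  subst ha hb
  exact Z

/-- The algebraic shadow of gluing along `U ∪ X_f`. -/
structure Glue (f : R) {M G G₁ G₀₁ G' : Type u} [AddCommGroup M] [Module R M] [AddCommGroup G]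
    [Module R G] [AddCommGroup G₁] [Module R G₁] [AddCommGroup G₀₁] [Module R G₀₁]
    [AddCommGroup G'] [Module R G'] (ρ : M →ₗ[R] G) (ρ₁ : M →ₗ[R] G₁) (ρ' : M →ₗ[R] G')
    (r : G →ₗ[R] G₀₁) (r₁ : G₁ →ₗ[R] G₀₁) (p : G' →ₗ[R] G) (p₁ : G' →ₗ[R] G₁) : Prop where
  pρ : ∀ m, p (ρ' m) = ρ m
  p₁ρ : ∀ m, p₁ (ρ' m) = ρ₁ m
  sq : ∀ g', r (p g') = r₁ (p₁ g')
  inj : ∀ g', p g' = 0 → p₁ g' = 0 → g' = 0
  glue : ∀ g g₁, r g = r₁ g₁ → ∃ g', p g' = g ∧ p₁ g' = g₁
  loc : IsLocalizedModule (Submonoid.powers f) ρ₁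
  ker : ∀ g, r g = 0 → ∃ m : ℕ, f ^ m • g = 0
  reg : ∀ g₀₁ : G₀₁, f • g₀₁ = 0 → g₀₁ = 0

variable {M G G₁ G₀₁ G' : Type u} [AddCommGroup M] [Module R M] [AddCommGroup G]
    [Module R G] [AddCommGroup G₁] [Module R G₁] [AddCommGroup G₀₁] [Module R G₀₁]
    [AddCommGroup G'] [Module R G'] {ρ : M →ₗ[R] G} {ρ₁ : M →ₗ[R] G₁} {ρ' : M →ₗ[R] G'}
    {r : G →ₗ[R] G₀₁} {r₁ : G₁ →ₗ[R] G₀₁} {p : G' →ₗ[R] G} {p₁ : G' →ₗ[R] G₁}

theorem step (f : R) (K : DRing.Cx R) (c : ℤ) (Z : ZData K (c + -1 + -1) (c + -1) c ρ)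
    (hG : Glue f ρ ρ₁ ρ' r r₁ p p₁) :
    Nonempty (ZData (mappingCocone (locCxUnit (Submonoid.powers f) K))
      (c + -1 + -1) (c + -1) c ρ') := by
  classical
  set S : Submonoid R := Submonoid.powers f with hS
  obtain ⟨φ, hφ⟩ : ∃ φ : K ⟶ (locCx S).obj K, φ = locCxUnit S K := ⟨_, rfl⟩
  rw [← hφ]
  have hrρ : ∀ m, r (ρ m) = r₁ (ρ₁ m) := fun m => by rw [← hG.pρ, hG.sq, hG.p₁ρ]
  have hregpow : ∀ (n : ℕ) (g : G₀₁), f ^ n • g = 0 → g = 0 := by
    intro n
    induction n with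
    | zero => intro g h; simpa using h
    | succ n ih =>
      intro g h
      rw [pow_succ, mul_smul] at h
      exact hG.reg _ (ih _ h)
  have hloc : ∀ n, IsLocalizedModule S (φ.f n).hom := fun n => by
    rw [hφ]
    exact inferInstanceAs (IsLocalizedModule S (LocalizedModule.mkLinearMap S (K.X n)))
  have hpowS : ∀ n : ℕ, f ^ n ∈ S := fun n => ⟨n, rfl⟩
  have hSpow : ∀ s : S, ∃ n : ℕ, f ^ n = (s : R) := fun s =>
    (Submonoid.mem_powers_iff _ _).1 s.2
  have hLinj : ∀ (n : ℤ) (k : ℕ) (x y : ((locCx S).obj K).X n), f ^ k • x = f ^ k • y → x = y := by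
    intro n k x y h
    haveI := hloc n
    exact IsLocalizedModule.smul_injective (φ.f n).hom (⟨f ^ k, hpowS k⟩ : S) h
  have hφd : ∀ (i j : ℤ) (y : K.X i),
      (((locCx S).obj K).d i j).hom ((φ.f i).hom y) = (φ.f j).hom ((K.d i j).hom y) := by
    intro i j y
    have := congrArg (fun m => m.hom y) (φ.comm i j)
    simp only [ModuleCat.hom_comp, LinearMap.comp_apply] at this
    exact this
  have hsurj : ∀ (n : ℤ) (t : ((locCx S).obj K).X n), ∃ (y : K.X n) (k : ℕ),
      f ^ k • t = (φ.f n).hom y := by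
    intro n t
    obtain ⟨⟨y, s⟩, hys⟩ := (hloc n).surj t
    obtain ⟨k, hk⟩ := hSpow s
    refine ⟨y, k, ?_⟩
    rw [hk]
    exact hys
  have hzero : ∀ (n : ℤ) (y : K.X n), (φ.f n).hom y = 0 → ∃ k : ℕ, f ^ k • y = 0 := by
    intro n y hy
    haveI := hloc n
    obtain ⟨s, hs⟩ := (IsLocalizedModule.eq_zero_iff S (φ.f n).hom).1 hy
    obtain ⟨k, hk⟩ := hSpow s
    exact ⟨k, by rw [hk]; exact hs⟩
  -- the comparison in the bottom degree
  haveI := hG.loc
  haveI hloc₁ : IsLocalizedModule S ρ₁ := hG.loc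
  haveI : IsLocalizedModule S (ρ₁ ∘ₗ (Z.α : K.X (c + -1 + -1) →ₗ[R] M)) :=
    IsLocalizedModule.of_linearEquiv_right S ρ₁ Z.α
  haveI := hloc (c + -1 + -1)
  let β : ((locCx S).obj K).X (c + -1 + -1) ≃ₗ[R] G₁ :=
    IsLocalizedModule.linearEquiv S (φ.f (c + -1 + -1)).hom
      (ρ₁ ∘ₗ (Z.α : K.X (c + -1 + -1) →ₗ[R] M))
  have hβ : ∀ y : K.X (c + -1 + -1), β ((φ.f (c + -1 + -1)).hom y) = ρ₁ (Z.α y) := fun y =>
    IsLocalizedModule.linearEquiv_apply S (φ.f (c + -1 + -1)).hom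
      (ρ₁ ∘ₗ (Z.α : K.X (c + -1 + -1) →ₗ[R] M)) y
  have hβs : ∀ y : K.X (c + -1 + -1), β.symm (ρ₁ (Z.α y)) = (φ.f (c + -1 + -1)).hom y := fun y => by
    rw [← hβ, LinearEquiv.symm_apply_apply]
  have hcomm' : ∀ y : K.X (c + -1 + -1), Z.θ.symm (ρ (Z.α y)) =
      ⟨(K.d (c + -1 + -1) (c + -1)).hom y, by
        rw [← Z.comm y]; exact (Z.θ.symm (ρ (Z.α y))).2⟩ := fun y => Subtype.ext (Z.comm y)
  -- the inverse of the identification of cocycles
  let Ψ : G' →ₗ[R] (mappingCocone φ).X (c + -1) :=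
    (cEquiv φ (c + -1)).symm.toLinearMap ∘ₗ
      LinearMap.prod ((Submodule.subtype _) ∘ₗ Z.θ.symm.toLinearMap ∘ₗ p)
        (-(β.symm.toLinearMap ∘ₗ p₁))
  have hΨ : ∀ g', cEquiv φ (c + -1) (Ψ g') =
      (((Z.θ.symm (p g') : LinearMap.ker (K.d (c + -1) c).hom) : K.X (c + -1)),
        -(β.symm (p₁ g'))) := fun g' => by
    simp [Ψ]
  have hker : ∀ g', Ψ g' ∈ LinearMap.ker ((mappingCocone φ).d (c + -1) c).hom := by
    intro g'
    rw [LinearMap.mem_ker]
    apply (cEquiv φ c).injective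
    rw [cEquiv_d, map_zero, hΨ]
    refine Prod.ext ?_ ?_
    · exact LinearMap.mem_ker.1 (Z.θ.symm (p g')).2
    · show -((φ.f (c + -1)).hom ((Z.θ.symm (p g') : LinearMap.ker (K.d (c + -1) c).hom) :
          K.X (c + -1))) - (((locCx S).obj K).d (c + -1 + -1) (c + -1)).hom
          (-(β.symm (p₁ g'))) = 0
      rw [map_neg, sub_neg_eq_add, neg_add_eq_zero]
      obtain ⟨y, n, hyn⟩ := hsurj (c + -1 + -1) (β.symm (p₁ g'))
      apply hLinj (c + -1) n
      rw [← map_smul, ← map_smul, hyn, hφd, ← sub_eq_zero, ← map_sub]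
      -- the cocycle `z`
      have hρ₁ : ρ₁ (Z.α y) = f ^ n • p₁ g' := by
        rw [← hβ, ← hyn, map_smul, LinearEquiv.apply_symm_apply]
      have hrz : r (f ^ n • p g' - ρ (Z.α y)) = 0 := by
        rw [map_sub, map_smul, hG.sq, hrρ, hρ₁, map_smul, sub_self]
      obtain ⟨m, hm⟩ := hG.ker _ hrz
      have hz : f ^ m • (f ^ n • Z.θ.symm (p g') - Z.θ.symm (ρ (Z.α y))) = 0 := by
        apply Z.θ.injective
        rw [map_smul, map_sub, map_smul, LinearEquiv.apply_symm_apply,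
          LinearEquiv.apply_symm_apply, hm, map_zero]
      have hz' := congrArg (Subtype.val) hz
      simp only [Submodule.coe_smul, Submodule.coe_sub, Submodule.coe_zero, Z.comm] at hz'
      haveI := hloc (c + -1)
      rw [IsLocalizedModule.eq_zero_iff S (φ.f (c + -1)).hom]
      exact ⟨⟨f ^ m, hpowS m⟩, hz'⟩
  have hinj : Function.Injective (Ψ.codRestrict _ hker) := by
    intro g₁' g₂' h
    have h1 : Ψ g₁' = Ψ g₂' := congrArg Subtype.val h
    have h2 : Ψ (g₁' - g₂') = 0 := by rw [map_sub, h1, sub_self]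
    have h3 := congrArg (cEquiv φ (c + -1)) h2
    rw [hΨ, map_zero] at h3
    have h4 : (Z.θ.symm (p (g₁' - g₂')) : LinearMap.ker (K.d (c + -1) c).hom) = 0 :=
      Subtype.ext (congrArg Prod.fst h3)
    have h5 : p (g₁' - g₂') = 0 := by
      have := congrArg Z.θ h4
      rwa [LinearEquiv.apply_symm_apply, map_zero] at this
    have h6 : p₁ (g₁' - g₂') = 0 := by
      have h7 : -(β.symm (p₁ (g₁' - g₂'))) = 0 := congrArg Prod.snd h3
      rw [neg_eq_zero] at h7
      have := congrArg β h7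
      rwa [LinearEquiv.apply_symm_apply, map_zero] at this
    exact sub_eq_zero.1 (hG.inj _ h5 h6)
  have hsurjΨ : Function.Surjective (Ψ.codRestrict _ hker) := by
    rintro ⟨x, hx⟩
    rw [LinearMap.mem_ker] at hx
    have hx' := congrArg (cEquiv φ c) hx
    rw [cEquiv_d, map_zero] at hx'
    have hk : (K.d (c + -1) c).hom (cEquiv φ (c + -1) x).1 = 0 := congrArg Prod.fst hx'
    have hl : -((φ.f (c + -1)).hom (cEquiv φ (c + -1) x).1) -
        (((locCx S).obj K).d (c + -1 + -1) (c + -1)).hom (cEquiv φ (c + -1) x).2 = 0 :=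
      congrArg Prod.snd hx'
    obtain ⟨k, hkdef⟩ : ∃ k : K.X (c + -1), k = (cEquiv φ (c + -1) x).1 := ⟨_, rfl⟩
    obtain ⟨l, hldef⟩ : ∃ l : ((locCx S).obj K).X (c + -1 + -1), l = (cEquiv φ (c + -1) x).2 :=
      ⟨_, rfl⟩
    rw [← hkdef] at hk hl
    rw [← hldef] at hl
    have hkm : k ∈ LinearMap.ker (K.d (c + -1) c).hom := LinearMap.mem_ker.2 hk
    have hgl : r (Z.θ ⟨k, hkm⟩) = r₁ (-(β l)) := by
      obtain ⟨y, n, hyn⟩ := hsurj (c + -1 + -1) l
      have h1 : (φ.f (c + -1)).hom (f ^ n • k + (K.d (c + -1 + -1) (c + -1)).hom y) = 0 := by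
        rw [map_add, map_smul, ← hφd, ← hyn, map_smul, ← smul_add]
        have : (φ.f (c + -1)).hom k +
            (((locCx S).obj K).d (c + -1 + -1) (c + -1)).hom l = 0 := by
          have e : (φ.f (c + -1)).hom k +
              (((locCx S).obj K).d (c + -1 + -1) (c + -1)).hom l =
              -(-((φ.f (c + -1)).hom k) -
                (((locCx S).obj K).d (c + -1 + -1) (c + -1)).hom l) := by abel
          rw [e, hl, neg_zero]
        rw [this, smul_zero]
      obtain ⟨m, hm⟩ := hzero _ _ h1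
      have hz : f ^ m • (f ^ n • (⟨k, hkm⟩ : LinearMap.ker (K.d (c + -1) c).hom) +
          Z.θ.symm (ρ (Z.α y))) = 0 := by
        apply Subtype.ext
        simp only [Submodule.coe_smul, Submodule.coe_add, Submodule.coe_zero, Z.comm]
        exact hm
      have hz2 := congrArg Z.θ hz
      rw [map_smul, map_add, map_smul, LinearEquiv.apply_symm_apply, map_zero] at hz2
      have hz3 := congrArg r hz2
      rw [map_smul, map_add, map_smul, map_zero, hrρ, ← hβ, ← hyn, map_smul, map_smul] at hz3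
      have hz4 : f ^ m • f ^ n • (r (Z.θ ⟨k, hkm⟩) - r₁ (-(β l))) = 0 := by
        rw [map_neg, sub_neg_eq_add, smul_add (f ^ n)]
        exact hz3
      exact sub_eq_zero.1 (hregpow n _ (hregpow m _ hz4))
    obtain ⟨g', hp, hp₁⟩ := hG.glue _ _ hgl
    refine ⟨g', Subtype.ext ?_⟩
    show Ψ g' = x
    apply (cEquiv φ (c + -1)).injective
    rw [hΨ, hp, hp₁, LinearEquiv.symm_apply_apply, map_neg, neg_neg,
      LinearEquiv.symm_apply_apply]
    exact Prod.ext hkdef hldef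
  -- the bottom degree
  haveI hsubK : Subsingleton (K.X (c + -1 + -1 + -1)) := Z.sub _ (by omega)
  haveI hsubL : Subsingleton (((locCx S).obj K).X (c + -1 + -1 + -1)) :=
    inferInstanceAs (Subsingleton (LocalizedModule S (K.X (c + -1 + -1 + -1))))
  letI : Unique (((locCx S).obj K).X (c + -1 + -1 + -1)) := uniqueOfSubsingleton 0
  refine ⟨{ sub := ?_, α := ?_, θ := ?_, comm := ?_ }⟩
  · intro n hn
    haveI : Subsingleton (K.X n) := Z.sub n hn
    haveI : Subsingleton (K.X (n + -1)) := Z.sub _ (by omega)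
    haveI : Subsingleton (((locCx S).obj K).X (n + -1)) :=
      inferInstanceAs (Subsingleton (LocalizedModule S (K.X (n + -1))))
    exact (cEquiv φ n).toEquiv.subsingleton
  · exact (cEquiv φ (c + -1 + -1)).trans ((LinearEquiv.prodUnique).trans Z.α)
  · exact (LinearEquiv.ofBijective (Ψ.codRestrict _ hker) ⟨hinj, hsurjΨ⟩).symm
  · intro x
    show Ψ (ρ' (Z.α (cEquiv φ (c + -1 + -1) x).1)) = _
    apply (cEquiv φ (c + -1)).injective
    rw [hΨ, hG.pρ, hG.p₁ρ, cEquiv_d, Z.comm, hβs]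
    refine Prod.ext rfl ?_
    show -((φ.f (c + -1 + -1)).hom (cEquiv φ (c + -1 + -1) x).1) = _
    have h0 : (cEquiv φ (c + -1 + -1) x).2 = 0 := Subsingleton.elim _ _
    rw [h0, map_zero, sub_zero]

theorem step' (f : R) (K : DRing.Cx R) (Z : ZData K 0 1 2 ρ)
    (hG : Glue f ρ ρ₁ ρ' r r₁ p p₁) :
    Nonempty (ZData (mappingCocone (locCxUnit (Submonoid.powers f) K)) 0 1 2 ρ') := by
  obtain ⟨Z'⟩ := step f K 2 (Z.cast (by norm_num) (by norm_num)) hG
  exact ⟨Z'.cast (by norm_num) (by norm_num)⟩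

/-- The base case: a module in degree zero and the sections over the empty open. -/
noncomputable def baseZData (M₀ : ModuleCat.{u} R) [Subsingleton G] (ρ₀ : M₀ →ₗ[R] G) :
    ZData ((HomologicalComplex.single (ModuleCat.{u} R) (ComplexShape.up ℤ) 0).obj M₀) 0 1 2 ρ₀ where
  sub n hn := ModuleCat.subsingleton_of_isZero
    (HomologicalComplex.isZero_single_obj_X (ComplexShape.up ℤ) 0 M₀ n (by omega))
  α := (HomologicalComplex.singleObjXSelf (ComplexShape.up ℤ) 0 M₀).toLinearEquiv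
  θ :=
    haveI : Subsingleton (((HomologicalComplex.single (ModuleCat.{u} R)
        (ComplexShape.up ℤ) 0).obj M₀).X 1) := ModuleCat.subsingleton_of_isZero
      (HomologicalComplex.isZero_single_obj_X (ComplexShape.up ℤ) 0 M₀ 1 (by omega))
    haveI : Subsingleton (LinearMap.ker (((HomologicalComplex.single (ModuleCat.{u} R)
        (ComplexShape.up ℤ) 0).obj M₀).d 1 2).hom) :=
      ⟨fun a b => Subtype.ext (Subsingleton.elim _ _)⟩
    LinearEquiv.ofSubsingleton _ _
  comm x :=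
    haveI : Subsingleton (((HomologicalComplex.single (ModuleCat.{u} R)
        (ComplexShape.up ℤ) 0).obj M₀).X 1) := ModuleCat.subsingleton_of_isZero
      (HomologicalComplex.isZero_single_obj_X (ComplexShape.up ℤ) 0 M₀ 1 (by omega))
    Subsingleton.elim _ _

theorem ZData.key {K : DRing.Cx R} (Z : ZData K 0 1 2 ρ) (x : K.X 0) :
    Z.θ ((K.sc' 0 1 2).moduleCatToCycles x) = ρ (Z.α x) := by
  have h : Z.θ.symm (ρ (Z.α x)) = (K.sc' 0 1 2).moduleCatToCycles x := Subtype.ext (Z.comm x)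
  rw [← h, LinearEquiv.apply_symm_apply]

theorem nonempty_H1 (K : DRing.Cx R) (Z : ZData K 0 1 2 ρ) :
    Nonempty (K.homology 1 ≃ₗ[R] (G ⧸ LinearMap.range ρ)) := by
  let e1 : K.homology 1 ≅ (K.sc' 0 1 2).homology :=
    ShortComplex.homologyMapIso (K.isoSc' 0 1 2 (by simp) (by simp))
  let e2 := (K.sc' 0 1 2).moduleCatHomologyIso
  have hmap : Submodule.map Z.θ.toLinearMap (LinearMap.range (K.sc' 0 1 2).moduleCatToCycles) =
      LinearMap.range ρ := by
    ext g
    simp only [Submodule.mem_map, LinearMap.mem_range]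
    constructor
    · rintro ⟨_, ⟨x, rfl⟩, rfl⟩
      exact ⟨Z.α x, (Z.key x).symm⟩
    · rintro ⟨m, rfl⟩
      refine ⟨(K.sc' 0 1 2).moduleCatToCycles (Z.α.symm m), ⟨_, rfl⟩, ?_⟩
      have := Z.key (Z.α.symm m)
      rw [LinearEquiv.apply_symm_apply] at this
      exact this
  let e3 : (LinearMap.ker (K.sc' 0 1 2).g.hom ⧸ LinearMap.range (K.sc' 0 1 2).moduleCatToCycles)
      ≃ₗ[R] G ⧸ LinearMap.range ρ := Submodule.Quotient.equiv _ _ Z.θ hmap
  exact ⟨(e1 ≪≫ e2).toLinearEquiv.trans e3⟩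

theorem nonempty_H0 (K : DRing.Cx R) (Z : ZData K 0 1 2 ρ) :
    Nonempty (K.homology 0 ≃ₗ[R] LinearMap.ker ρ) := by
  let e1 : K.homology 0 ≅ (K.sc' (-1) 0 1).homology :=
    ShortComplex.homologyMapIso (K.isoSc' (-1) 0 1 (by simp) (by simp))
  let e2 := (K.sc' (-1) 0 1).moduleCatHomologyIso
  haveI : Subsingleton (K.X (-1)) := Z.sub (-1) (by norm_num)
  have hbot : LinearMap.range (K.sc' (-1) 0 1).moduleCatToCycles = ⊥ := by
    rw [eq_bot_iff]
    rintro _ ⟨x, rfl⟩
    have hx : x = 0 := Subsingleton.elim (α := K.X (-1)) x 0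
    rw [hx, map_zero]
    exact Submodule.zero_mem _
  let e3 : (LinearMap.ker (K.sc' (-1) 0 1).g.hom ⧸
      LinearMap.range (K.sc' (-1) 0 1).moduleCatToCycles) ≃ₗ[R]
      LinearMap.ker (K.sc' (-1) 0 1).g.hom := Submodule.quotEquivOfEqBot _ hbot
  have hmap : Submodule.map Z.α.toLinearMap (LinearMap.ker (K.d 0 1).hom) = LinearMap.ker ρ := by
    ext m
    simp only [Submodule.mem_map, LinearMap.mem_ker]
    constructor
    · rintro ⟨x, hx, rfl⟩
      have h1 : Z.θ.symm (ρ (Z.α x)) = 0 := Subtype.ext ((Z.comm x).trans hx)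
      have := congrArg Z.θ h1
      rwa [LinearEquiv.apply_symm_apply, map_zero] at this
    · intro hm
      refine ⟨Z.α.symm m, ?_, LinearEquiv.apply_symm_apply _ _⟩
      have := Z.comm (Z.α.symm m)
      rw [LinearEquiv.apply_symm_apply, hm, map_zero] at this
      exact this.symm
  let e4 : LinearMap.ker (K.d 0 1).hom ≃ₗ[R] LinearMap.ker ρ :=
    LinearEquiv.ofSubmodules Z.α _ _ hmap
  exact ⟨((e1 ≪≫ e2).toLinearEquiv.trans e3).trans e4⟩

end Step

end Groth.Agent.H82.CechGeo
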