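import Mathlib

/-!
# Homology commutes with direct limits of complexes of modules (elementwise form)
-/

set_option autoImplicit false
set_option linter.unusedSectionVars false
set_option linter.unusedVariables false
set_option backward.isDefEq.respectTransparency false

universe u

open CategoryTheory Limits

namespace Groth.Agent.H82.KC

variable {R : Type u} [CommRing R] {ι : Type} {c : ComplexShape ι}

section elem

variable (K : HomologicalComplex (ModuleCat.{u} R) c) (j : ι)

theorem exists_cycle (x : K.X j) (hx : (K.d j (c.next j)).hom x = 0) :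
    ∃ z : K.cycles j, (K.iCycles j).hom z = x := by
  refine ⟨(K.sc j).moduleCatCyclesIso.inv.hom ⟨x, hx⟩, ?_⟩
  exact congrArg (fun m => m.hom (⟨x, hx⟩ : LinearMap.ker (K.sc j).g.hom))
    (K.sc j).moduleCatCyclesIso_inv_iCycles

theorem iCycles_injective : Function.Injective (K.iCycles j).hom :=
  (ModuleCat.mono_iff_injective _).1 inferInstance

theorem homologyπ_surjective : Function.Surjective (K.homologyπ j).hom :=
  (ModuleCat.epi_iff_surjective _).1 inferInstance

theorem iCycles_d_apply (k : ι) (z : K.cycles j) : (K.d j k).hom ((K.iCycles j).hom z) = 0 := by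
  have := congrArg (fun m => m.hom z) (K.iCycles_d j k)
  simp only [ModuleCat.hom_comp, LinearMap.comp_apply, ModuleCat.hom_zero, LinearMap.zero_apply] at this
  exact this

theorem toCycles_i_apply (i : ι) (w : K.X i) :
    (K.iCycles j).hom ((K.toCycles i j).hom w) = (K.d i j).hom w := by
  have := congrArg (fun m => m.hom w) (K.toCycles_i i j)
  simp only [ModuleCat.hom_comp, LinearMap.comp_apply] at this
  exact this

theorem homologyπ_eq_zero_iff (z : K.cycles j) :
    (K.homologyπ j).hom z = 0 ↔ ∃ w : K.X (c.prev j), (K.toCycles (c.prev j) j).hom w = z := by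
  have hex : (ShortComplex.mk (K.toCycles (c.prev j) j) (K.homologyπ j)
      (K.toCycles_comp_homologyπ _ _)).Exact :=
    ShortComplex.exact_of_g_is_cokernel _ (K.homologyIsCokernel (c.prev j) j rfl)
  rw [ShortComplex.moduleCat_exact_iff] at hex
  constructor
  · intro h
    obtain ⟨w, hw⟩ := hex z h
    exact ⟨w, hw⟩
  · rintro ⟨w, rfl⟩
    have := congrArg (fun m => m.hom w) (K.toCycles_comp_homologyπ (c.prev j) j)
    simp only [ModuleCat.hom_comp, LinearMap.comp_apply, ModuleCat.hom_zero,
      LinearMap.zero_apply] at this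
    exact this

variable {K} {L : HomologicalComplex (ModuleCat.{u} R) c} (φ : K ⟶ L)

theorem cyclesMap_i_apply (z : K.cycles j) :
    (L.iCycles j).hom ((HomologicalComplex.cyclesMap φ j).hom z) =
      (φ.f j).hom ((K.iCycles j).hom z) := by
  have := congrArg (fun m => m.hom z) (HomologicalComplex.cyclesMap_i φ j)
  simp only [ModuleCat.hom_comp, LinearMap.comp_apply] at this
  exact this

theorem homologyπ_naturality_apply (z : K.cycles j) :
    (HomologicalComplex.homologyMap φ j).hom ((K.homologyπ j).hom z) =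
      (L.homologyπ j).hom ((HomologicalComplex.cyclesMap φ j).hom z) := by
  have := congrArg (fun m => m.hom z) (HomologicalComplex.homologyπ_naturality φ j)
  simp only [ModuleCat.hom_comp, LinearMap.comp_apply] at this
  exact this

theorem comm_apply (i k : ι) (x : K.X i) :
    (φ.f k).hom ((K.d i k).hom x) = (L.d i k).hom ((φ.f i).hom x) := by
  have := congrArg (fun m => m.hom x) (φ.comm i k)
  simp only [ModuleCat.hom_comp, LinearMap.comp_apply] at this
  exact this.symm

end elem

section DirLim

variable (X : ℕ → HomologicalComplex (ModuleCat.{u} R) c)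
  (t : ∀ n m, n ≤ m → (X n ⟶ X m))
  (Y : HomologicalComplex (ModuleCat.{u} R) c) (θ : ∀ n, X n ⟶ Y)
  (ht_refl : ∀ n, t n n le_rfl = 𝟙 _)
  (ht_comp : ∀ n m k (h1 : n ≤ m) (h2 : m ≤ k), t n m h1 ≫ t m k h2 = t n k (h1.trans h2))
  (hθ : ∀ n m (h : n ≤ m), t n m h ≫ θ m = θ n)
  (hsurj : ∀ i (y : Y.X i), ∃ n, ∃ x : (X n).X i, ((θ n).f i).hom x = y)
  (hinj : ∀ n i (x : (X n).X i), ((θ n).f i).hom x = 0 →
    ∃ m, ∃ h : n ≤ m, ((t n m h).f i).hom x = 0)

include ht_refl ht_comp in
theorem directedSystem_homology (j : ι) :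
    DirectedSystem (fun n => ((X n).homology j : Type u))
      (fun n m h => (HomologicalComplex.homologyMap (t n m h) j).hom) where
  map_self n x := by
    show (HomologicalComplex.homologyMap (t n n le_rfl) j).hom x = x
    rw [ht_refl, HomologicalComplex.homologyMap_id]
    rfl
  map_map := by
    intro k₃ k₂ k₁ h1 h2 x
    show (HomologicalComplex.homologyMap (t k₂ k₃ h2) j).hom
      ((HomologicalComplex.homologyMap (t k₁ k₂ h1) j).hom x) =
      (HomologicalComplex.homologyMap (t k₁ k₃ (h1.trans h2)) j).hom x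
    rw [← ht_comp k₁ k₂ k₃ h1 h2, HomologicalComplex.homologyMap_comp]
    rfl

theorem t_f_apply_comp (ht_comp : ∀ n m k (h1 : n ≤ m) (h2 : m ≤ k),
      t n m h1 ≫ t m k h2 = t n k (h1.trans h2)) (n m k : ℕ) (h1 : n ≤ m) (h2 : m ≤ k) (i : ι)
    (x : (X n).X i) :
    ((t m k h2).f i).hom (((t n m h1).f i).hom x) = ((t n k (h1.trans h2)).f i).hom x := by
  rw [← ht_comp n m k h1 h2]
  rfl

theorem θ_t_apply (hθ : ∀ n m (h : n ≤ m), t n m h ≫ θ m = θ n) (n m : ℕ) (h : n ≤ m) (i : ι)
    (x : (X n).X i) :
    ((θ m).f i).hom (((t n m h).f i).hom x) = ((θ n).f i).hom x := by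
  rw [← hθ n m h]
  rfl

include ht_refl ht_comp hθ hsurj hinj in
theorem nonempty_directLimit_equiv (j : ι) :
    Nonempty (Module.DirectLimit (fun n => ((X n).homology j : Type u))
      (fun n m h => (HomologicalComplex.homologyMap (t n m h) j).hom) ≃ₗ[R] Y.homology j) := by
  classical
  have := directedSystem_homology X t ht_refl ht_comp j
  let L : Module.DirectLimit (fun n => ((X n).homology j : Type u))
      (fun n m h => (HomologicalComplex.homologyMap (t n m h) j).hom) →ₗ[R] Y.homology j :=
    Module.DirectLimit.lift R ℕ _ _ (fun n => (HomologicalComplex.homologyMap (θ n) j).hom)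
      (by
        intro n m h x
        show (HomologicalComplex.homologyMap (θ m) j).hom
          ((HomologicalComplex.homologyMap (t n m h) j).hom x) = _
        rw [← hθ n m h, HomologicalComplex.homologyMap_comp]
        rfl)
  refine ⟨LinearEquiv.ofBijective L ⟨?_, ?_⟩⟩
  · -- injectivity
    rw [← LinearMap.ker_eq_bot, LinearMap.ker_eq_bot']
    intro ξ hξ
    obtain ⟨m, η', rfl⟩ := Module.DirectLimit.exists_of ξ
    obtain ⟨z', rfl⟩ := homologyπ_surjective (X m) j η'
    rw [Module.DirectLimit.lift_of, homologyπ_naturality_apply, homologyπ_eq_zero_iff] at hξ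
    obtain ⟨w, hw⟩ := hξ
    have hw' : (Y.d (c.prev j) j).hom w = ((θ m).f j).hom (((X m).iCycles j).hom z') := by
      rw [← toCycles_i_apply, hw, cyclesMap_i_apply]
    obtain ⟨n, v, hv⟩ := hsurj (c.prev j) w
    let k := max m n
    have hmk : m ≤ k := le_max_left _ _
    have hnk : n ≤ k := le_max_right _ _
    let u : (X k).X j := ((t m k hmk).f j).hom (((X m).iCycles j).hom z') -
      ((X k).d (c.prev j) j).hom (((t n k hnk).f (c.prev j)).hom v)
    have hu : ((θ k).f j).hom u = 0 := by
      show ((θ k).f j).hom (_ - _) = 0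
      rw [map_sub, θ_t_apply X t Y θ hθ, ← comm_apply, θ_t_apply X t Y θ hθ, comm_apply, hv, hw',
        sub_self]
    obtain ⟨k', hkk', hk'⟩ := hinj k j u hu
    have hk'' : ((t m k' (hmk.trans hkk')).f j).hom (((X m).iCycles j).hom z') =
        ((X k').d (c.prev j) j).hom (((t n k' (hnk.trans hkk')).f (c.prev j)).hom v) := by
      have : ((t k k' hkk').f j).hom u = _ - _ := map_sub _ _ _
      rw [hk', t_f_apply_comp X t ht_comp, ← comm_apply, t_f_apply_comp X t ht_comp,
        comm_apply] at this
      exact (sub_eq_zero.1 this.symm)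
    have hz : (HomologicalComplex.cyclesMap (t m k' (hmk.trans hkk')) j).hom z' =
        ((X k').toCycles (c.prev j) j).hom (((t n k' (hnk.trans hkk')).f (c.prev j)).hom v) := by
      apply iCycles_injective
      rw [cyclesMap_i_apply, toCycles_i_apply, hk'']
    have h0 : (HomologicalComplex.homologyMap (t m k' (hmk.trans hkk')) j).hom
        (((X m).homologyπ j).hom z') = 0 := by
      rw [homologyπ_naturality_apply, homologyπ_eq_zero_iff]
      exact ⟨_, hz.symm⟩
    have key := Module.DirectLimit.of_f (R := R) (ι := ℕ)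
      (G := fun n => ((X n).homology j : Type u))
      (f := fun n m h => (HomologicalComplex.homologyMap (t n m h) j).hom)
      (hij := hmk.trans hkk') (x := ((X m).homologyπ j).hom z')
    refine key.symm.trans ?_
    simp only [h0, map_zero]
  · -- surjectivity
    intro η
    obtain ⟨z, rfl⟩ := homologyπ_surjective Y j η
    obtain ⟨n, x, hx⟩ := hsurj j ((Y.iCycles j).hom z)
    have h1 : ((θ n).f (c.next j)).hom (((X n).d j (c.next j)).hom x) = 0 := by
      rw [comm_apply, hx, iCycles_d_apply]
    obtain ⟨m, hnm, hm⟩ := hinj n (c.next j) _ h1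
    have hx' : ((X m).d j (c.next j)).hom (((t n m hnm).f j).hom x) = 0 := by
      rw [← comm_apply, hm]
    obtain ⟨z', hz'⟩ := exists_cycle (X m) j _ hx'
    refine ⟨Module.DirectLimit.of R ℕ _ _ m (((X m).homologyπ j).hom z'), ?_⟩
    show L _ = _
    rw [Module.DirectLimit.lift_of, homologyπ_naturality_apply]
    congr 1
    apply iCycles_injective
    rw [cyclesMap_i_apply, hz', θ_t_apply X t Y θ hθ, hx]

end DirLim

end Groth.Agent.H82.KC
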