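import Mathlib
import Groth.Prelude.Def_DerCA
import Groth.Prelude.Def_ega3
import Groth.Agent.H82.CechFun
import Groth.Agent.H82.KCGL

/-!
# Comparison of the direct limit of Koszul complexes of powers with a cone-model Čech complex
-/

set_option autoImplicit false
set_option linter.unusedSectionVars false
set_option linter.unusedVariables false
set_option linter.style.haveILetI false
set_option backward.isDefEq.respectTransparency false

universe u

open CategoryTheory Limits DerCA CochainComplex HomComplex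

namespace Groth.Agent.H82.KC

open Groth.Agent.H82.Cech

variable {R : Type u} [CommRing R]

/-- cone-iterated Čech complex (a shift of `extCech`) -/
noncomputable def cc (M : ModuleCat.{u} R) : List R → DRing.Cx R
  | [] => (HomologicalComplex.single (ModuleCat.{u} R) (ComplexShape.up ℤ) 0).obj M
  | f :: fs => mappingCone (locCxUnit (Submonoid.powers f) (cc M fs))

theorem map_congr' {K₁ L₁ K₂ L₂ : DRing.Cx R} (φ₁ : K₁ ⟶ L₁) (φ₂ : K₂ ⟶ L₂) {a a' : K₁ ⟶ K₂}
    {b b' : L₁ ⟶ L₂} (comm : φ₁ ≫ b = a ≫ φ₂) (comm' : φ₁ ≫ b' = a' ≫ φ₂) (ha : a = a')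
    (hb : b = b') : mappingCone.map φ₁ φ₂ a b comm = mappingCone.map φ₁ φ₂ a' b' comm' := by
  subst ha hb
  rfl

section div

variable (f : R) (n : ℕ)

/-- `f ^ n` as an element of `powers f`. -/
def powElt : Submonoid.powers f := ⟨f ^ n, n, rfl⟩

variable {N N' : Type u} [AddCommGroup N] [Module R N] [AddCommGroup N'] [Module R N']

theorem divBy_smul (x : LocalizedModule (Submonoid.powers f) N) :
    LocalizedModule.divBy (powElt f n) (f ^ n • x) = x :=
  LocalizedModule.divBy_mul_by (powElt f n) x

theorem smul_divBy (x : LocalizedModule (Submonoid.powers f) N) :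
    f ^ n • LocalizedModule.divBy (powElt f n) x = x :=
  LocalizedModule.mul_by_divBy (powElt f n) x

theorem smul_pow_injective (x y : LocalizedModule (Submonoid.powers f) N)
    (h : f ^ n • x = f ^ n • y) : x = y := by
  rw [← divBy_smul f n x, h, divBy_smul]

theorem map_divBy
    (g : LocalizedModule (Submonoid.powers f) N →ₗ[R] LocalizedModule (Submonoid.powers f) N')
    (x : LocalizedModule (Submonoid.powers f) N) :
    g (LocalizedModule.divBy (powElt f n) x) = LocalizedModule.divBy (powElt f n) (g x) := by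
  apply smul_pow_injective f n
  rw [smul_divBy, ← map_smul, smul_divBy]

theorem smul_sub_divBy (m : ℕ) (h : n ≤ m) (x : LocalizedModule (Submonoid.powers f) N) :
    f ^ (m - n) • LocalizedModule.divBy (powElt f m) x = LocalizedModule.divBy (powElt f n) x := by
  apply smul_pow_injective f n
  rw [smul_divBy, smul_smul, ← pow_add, Nat.add_sub_cancel' h, smul_divBy]

/-- Division by `f ^ n` on the termwise localisation of a complex. -/
noncomputable def divPow (K : DRing.Cx R) :
    (locCx (Submonoid.powers f)).obj K ⟶ (locCx (Submonoid.powers f)).obj K where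
  f i := ModuleCat.ofHom (LocalizedModule.divBy (powElt f n))
  comm' i j _ := by
    ext x
    show ((locFunctor (Submonoid.powers f)).map (K.d i j)).hom
        (LocalizedModule.divBy (powElt f n) x) =
      LocalizedModule.divBy (powElt f n) (((locFunctor (Submonoid.powers f)).map (K.d i j)).hom x)
    exact map_divBy f n ((locFunctor (Submonoid.powers f)).map (K.d i j)).hom x

theorem divPow_f_apply (K : DRing.Cx R) (i : ℤ)
    (x : LocalizedModule (Submonoid.powers f) (K.X i)) :
    ((divPow f n K).f i).hom x = LocalizedModule.divBy (powElt f n) x := rfl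

theorem smul_divPow (K : DRing.Cx R) : f ^ n • divPow f n K = 𝟙 _ := by
  refine HomologicalComplex.hom_ext _ _ (fun i => ?_)
  ext x
  exact smul_divBy f n x

theorem smul_sub_divPow (K : DRing.Cx R) (m : ℕ) (h : n ≤ m) :
    f ^ (m - n) • divPow f m K = divPow f n K := by
  refine HomologicalComplex.hom_ext _ _ (fun i => ?_)
  ext x
  exact smul_sub_divBy f n m h x

end div

section theta

variable (M : ModuleCat.{u} R)

theorem θ_comm (f : R) (n : ℕ) {K : DRing.Cx R} (C : DRing.Cx R) (a : K ⟶ C) :
    (f ^ n • 𝟙 K) ≫ (a ≫ locCxUnit (Submonoid.powers f) C ≫ divPow f n C) =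
      a ≫ locCxUnit (Submonoid.powers f) C := by
  rw [Linear.smul_comp, Category.id_comp, ← Linear.comp_smul, ← Linear.comp_smul, smul_divPow,
    Category.comp_id]

/-- The comparison map from the Koszul complex of the `n`-th powers to the cone-model Čech
complex. -/
noncomputable def θ (n : ℕ) : ∀ fs : List R, CohIII.koszulCx M (fs.map (· ^ n)) ⟶ cc M fs
  | [] => 𝟙 _
  | f :: fs => mappingCone.map (f ^ n • 𝟙 (CohIII.koszulCx M (fs.map (· ^ n))))
      (locCxUnit (Submonoid.powers f) (cc M fs)) (θ n fs)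
      (θ n fs ≫ locCxUnit (Submonoid.powers f) (cc M fs) ≫ divPow f n (cc M fs))
      (θ_comm f n (cc M fs) (θ n fs))

theorem trans_refl (n : ℕ) : ∀ fs : List R, CohIII.koszulTrans M n n le_rfl fs = 𝟙 _
  | [] => rfl
  | f :: fs => by
      show mappingCone.map _ _ (CohIII.koszulTrans M n n le_rfl fs)
        (f ^ (n - n) • CohIII.koszulTrans M n n le_rfl fs) _ = 𝟙 _
      rw [← mappingCone.map_id]
      apply map_congr'
      · exact trans_refl n fs
      · rw [trans_refl n fs, Nat.sub_self, pow_zero, one_smul]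

theorem trans_comp (n m k : ℕ) (h1 : n ≤ m) (h2 : m ≤ k) : ∀ fs : List R,
    CohIII.koszulTrans M n m h1 fs ≫ CohIII.koszulTrans M m k h2 fs =
      CohIII.koszulTrans M n k (h1.trans h2) fs
  | [] => Category.comp_id _
  | f :: fs => by
      show mappingCone.map _ _ (CohIII.koszulTrans M n m h1 fs)
          (f ^ (m - n) • CohIII.koszulTrans M n m h1 fs) _ ≫
        mappingCone.map _ _ (CohIII.koszulTrans M m k h2 fs)
          (f ^ (k - m) • CohIII.koszulTrans M m k h2 fs) _ =
        mappingCone.map _ _ (CohIII.koszulTrans M n k (h1.trans h2) fs)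
          (f ^ (k - n) • CohIII.koszulTrans M n k (h1.trans h2) fs) _
      rw [← mappingCone.map_comp]
      apply map_congr'
      · exact trans_comp n m k h1 h2 fs
      · rw [Linear.smul_comp, Linear.comp_smul, smul_smul, ← pow_add, trans_comp n m k h1 h2 fs]
        congr 2
        omega

theorem trans_θ (n m : ℕ) (h : n ≤ m) : ∀ fs : List R,
    CohIII.koszulTrans M n m h fs ≫ θ M m fs = θ M n fs
  | [] => Category.comp_id _
  | f :: fs => by
      show mappingCone.map _ _ (CohIII.koszulTrans M n m h fs)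
          (f ^ (m - n) • CohIII.koszulTrans M n m h fs) _ ≫
        mappingCone.map _ _ (θ M m fs) (θ M m fs ≫ locCxUnit (Submonoid.powers f) (cc M fs) ≫
          divPow f m (cc M fs)) _ =
        mappingCone.map _ _ (θ M n fs) (θ M n fs ≫ locCxUnit (Submonoid.powers f) (cc M fs) ≫
          divPow f n (cc M fs)) _
      rw [← mappingCone.map_comp]
      apply map_congr'
      · exact trans_θ n m h fs
      · rw [Linear.smul_comp, ← Category.assoc, trans_θ n m h fs,
          ← Linear.comp_smul, ← Linear.comp_smul, smul_sub_divPow f n (cc M fs) m h]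

theorem trans_apply_comp (n m k : ℕ) (h1 : n ≤ m) (h2 : m ≤ k) (fs : List R) (i : ℤ)
    (x : (CohIII.koszulCx M (fs.map (· ^ n))).X i) :
    ((CohIII.koszulTrans M m k h2 fs).f i).hom (((CohIII.koszulTrans M n m h1 fs).f i).hom x) =
      ((CohIII.koszulTrans M n k (h1.trans h2) fs).f i).hom x := by
  rw [← trans_comp M n m k h1 h2 fs]
  rfl

theorem trans_θ_apply (n m : ℕ) (h : n ≤ m) (fs : List R) (i : ℤ)
    (x : (CohIII.koszulCx M (fs.map (· ^ n))).X i) :
    ((θ M m fs).f i).hom (((CohIII.koszulTrans M n m h fs).f i).hom x) =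
      ((θ M n fs).f i).hom x := by
  rw [← trans_θ M n m h fs]
  rfl

theorem θ_surj : ∀ (fs : List R) (i : ℤ) (y : (cc M fs).X i),
    ∃ n, ∃ x : (CohIII.koszulCx M (fs.map (· ^ n))).X i, ((θ M n fs).f i).hom x = y
  | [], i, y => ⟨0, y, rfl⟩
  | f :: fs, i, y => by
      let e₂ := coneEquiv (locCxUnit (Submonoid.powers f) (cc M fs)) i (i + 1) rfl
      obtain ⟨n₁, x₁, hx₁⟩ := θ_surj fs (i + 1) (e₂ y).1
      obtain ⟨⟨z, s⟩, hz⟩ := IsLocalizedModule.surj (Submonoid.powers f)
        (LocalizedModule.mkLinearMap (Submonoid.powers f) ((cc M fs).X i)) (e₂ y).2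
      obtain ⟨k, hk⟩ := s.2
      obtain ⟨n₂, x₂, hx₂⟩ := θ_surj fs i z
      let n := max n₁ (max n₂ k)
      have hn₁ : n₁ ≤ n := le_max_left _ _
      have hn₂ : n₂ ≤ n := (le_max_left _ _).trans (le_max_right _ _)
      have hk' : k ≤ n := (le_max_right _ _).trans (le_max_right _ _)
      let e₁ := coneEquiv (f ^ n • 𝟙 (CohIII.koszulCx M (fs.map (· ^ n)))) i (i + 1) rfl
      refine ⟨n, e₁.symm (((CohIII.koszulTrans M n₁ n hn₁ fs).f (i + 1)).hom x₁,
        f ^ (n - k) • ((CohIII.koszulTrans M n₂ n hn₂ fs).f i).hom x₂), ?_⟩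
      apply e₂.injective
      show e₂ (((mappingCone.map _ _ (θ M n fs) (θ M n fs ≫
        locCxUnit (Submonoid.powers f) (cc M fs) ≫ divPow f n (cc M fs)) _).f i).hom _) = _
      rw [coneEquiv_map, LinearEquiv.apply_symm_apply]
      refine Prod.ext ?_ ?_
      · show ((θ M n fs).f (i + 1)).hom _ = _
        rw [trans_θ_apply, hx₁]
      · show LocalizedModule.divBy (powElt f n)
          (LocalizedModule.mkLinearMap (Submonoid.powers f) ((cc M fs).X i)
            (((θ M n fs).f i).hom (f ^ (n - k) • ((CohIII.koszulTrans M n₂ n hn₂ fs).f i).hom x₂)))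
          = (e₂ y).2
        have hz' : LocalizedModule.mkLinearMap (Submonoid.powers f) ((cc M fs).X i) z =
            f ^ k • (e₂ y).2 := by
          have hk2 : f ^ k = (s : R) := hk
          rw [hk2]
          exact hz.symm
        rw [map_smul, trans_θ_apply, hx₂, map_smul, hz', smul_smul, ← pow_add,
          Nat.sub_add_cancel hk', divBy_smul]

theorem θ_inj : ∀ (fs : List R) (n : ℕ) (i : ℤ) (x : (CohIII.koszulCx M (fs.map (· ^ n))).X i),
    ((θ M n fs).f i).hom x = 0 →
      ∃ m, ∃ h : n ≤ m, ((CohIII.koszulTrans M n m h fs).f i).hom x = 0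
  | [], n, i, x, hx => ⟨n, le_rfl, hx⟩
  | f :: fs, n, i, x, hx => by
      let e₂ := coneEquiv (locCxUnit (Submonoid.powers f) (cc M fs)) i (i + 1) rfl
      let e₁ := coneEquiv (f ^ n • 𝟙 (CohIII.koszulCx M (fs.map (· ^ n)))) i (i + 1) rfl
      have h0 := congrArg e₂ hx
      rw [map_zero] at h0
      change e₂ (((mappingCone.map _ _ (θ M n fs) (θ M n fs ≫
        locCxUnit (Submonoid.powers f) (cc M fs) ≫ divPow f n (cc M fs)) _).f i).hom x) = 0 at h0
      rw [coneEquiv_map] at h0
      have h01 : ((θ M n fs).f (i + 1)).hom (e₁ x).1 = 0 := congrArg Prod.fst h0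
      have h02 : LocalizedModule.divBy (powElt f n)
          (LocalizedModule.mkLinearMap (Submonoid.powers f) ((cc M fs).X i)
            (((θ M n fs).f i).hom (e₁ x).2)) = 0 := congrArg Prod.snd h0
      have h03 : LocalizedModule.mkLinearMap (Submonoid.powers f) ((cc M fs).X i)
            (((θ M n fs).f i).hom (e₁ x).2) = 0 := by
        rw [← smul_divBy f n (LocalizedModule.mkLinearMap (Submonoid.powers f) ((cc M fs).X i)
            (((θ M n fs).f i).hom (e₁ x).2)), h02, smul_zero]
      obtain ⟨s, hs⟩ := (IsLocalizedModule.eq_zero_iff (Submonoid.powers f)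
        (LocalizedModule.mkLinearMap (Submonoid.powers f) ((cc M fs).X i))).1 h03
      obtain ⟨k, hk⟩ := s.2
      have hk2 : f ^ k = (s : R) := hk
      rw [Submonoid.smul_def, ← hk2, ← map_smul] at hs
      obtain ⟨m₁, hm₁, h1⟩ := θ_inj fs n (i + 1) _ h01
      obtain ⟨m₂, hm₂, h2⟩ := θ_inj fs n i _ hs
      let m := max m₁ (max m₂ (n + k))
      have hmm₁ : m₁ ≤ m := le_max_left _ _
      have hmm₂ : m₂ ≤ m := (le_max_left _ _).trans (le_max_right _ _)
      have hnk : n + k ≤ m := (le_max_right _ _).trans (le_max_right _ _)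
      have hnm : n ≤ m := hm₁.trans hmm₁
      refine ⟨m, hnm, ?_⟩
      let e₃ := coneEquiv (f ^ m • 𝟙 (CohIII.koszulCx M (fs.map (· ^ m)))) i (i + 1) rfl
      apply e₃.injective
      rw [map_zero]
      show e₃ (((mappingCone.map _ _ (CohIII.koszulTrans M n m hnm fs)
          (f ^ (m - n) • CohIII.koszulTrans M n m hnm fs) _).f i).hom x) = 0
      rw [coneEquiv_map]
      refine Prod.ext ?_ ?_
      · show ((CohIII.koszulTrans M n m hnm fs).f (i + 1)).hom (e₁ x).1 = 0
        rw [← trans_apply_comp M n m₁ m hm₁ hmm₁, h1, map_zero]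
      · show f ^ (m - n) • ((CohIII.koszulTrans M n m hnm fs).f i).hom (e₁ x).2 = 0
        have : m - n = (m - n - k) + k := by omega
        rw [this, pow_add, mul_smul, ← map_smul, ← trans_apply_comp M n m₂ m hm₂ hmm₂, h2,
          map_zero, smul_zero]

end theta

/-- The direct limit of Koszul cohomology of powers is the cohomology of the cone-model
Čech complex. -/
theorem nonempty_koszulHLim_equiv_cc (fs : List R) (M : ModuleCat.{u} R) (p : ℕ) :
    Nonempty (CohIII.koszulHLim fs M p ≃ₗ[R] (cc M fs).homology ((p : ℤ) - fs.length)) :=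
  nonempty_directLimit_equiv (fun n => CohIII.koszulCx M (fs.map (· ^ n)))
    (fun n m h => CohIII.koszulTrans M n m h fs) (cc M fs) (fun n => θ M n fs)
    (fun n => trans_refl M n fs) (fun n m k h1 h2 => trans_comp M n m k h1 h2 fs)
    (fun n m h => trans_θ M n m h fs) (θ_surj M fs) (fun n i x hx => θ_inj M fs n i x hx)
    ((p : ℤ) - fs.length)

end Groth.Agent.H82.KC
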