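import Mathlib
import Groth.Prelude.Def_DerCA
import Groth.Prelude.Def_ega3
import Groth.Agent.H82.CechFun
import Groth.Agent.H82.KCTheta

/-!
# The cone-model Čech complex is a shift of `DerCA.extCech`; the Koszul–Čech comparison
-/

set_option autoImplicit false
set_option linter.unusedSectionVars false
set_option linter.unusedVariables false
set_option linter.style.haveILetI false
set_option backward.isDefEq.respectTransparency false

universe u

open CategoryTheory Limits DerCA CochainComplex HomComplex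

namespace Groth.Agent.H82.KC

open Groth.Agent.H82.Cech

variable {R : Type u} [CommRing R]

/-- isomorphism of mapping cones induced by an isomorphism of arrows -/
noncomputable def coneIso {K₁ L₁ K₂ L₂ : DRing.Cx R} (φ₁ : K₁ ⟶ L₁) (φ₂ : K₂ ⟶ L₂)
    (a : K₁ ≅ K₂) (b : L₁ ≅ L₂) (comm : φ₁ ≫ b.hom = a.hom ≫ φ₂) :
    mappingCone φ₁ ≅ mappingCone φ₂ where
  hom := mappingCone.map φ₁ φ₂ a.hom b.hom comm
  inv := mappingCone.map φ₂ φ₁ a.inv b.inv (by
    rw [Iso.comp_inv_eq, Category.assoc, comm, Iso.inv_hom_id_assoc])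
  hom_inv_id := by
    rw [← mappingCone.map_comp, ← mappingCone.map_id]
    exact map_congr' _ _ _ _ a.hom_inv_id b.hom_inv_id
  inv_hom_id := by
    rw [← mappingCone.map_comp, ← mappingCone.map_id]
    exact map_congr' _ _ _ _ a.inv_hom_id b.inv_hom_id

theorem locCxUnit_shift (S : Submonoid R) (E : DRing.Cx R) (r : ℤ) :
    locCxUnit S (E⟦r⟧) ≫ ((locFunctor S).mapCochainComplexShiftIso r).hom.app E =
      (locCxUnit S E)⟦r⟧' := by
  refine HomologicalComplex.hom_ext _ _ (fun i => ?_)
  simp only [locCxUnit, HomologicalComplex.comp_f, Functor.mapCochainComplexShiftIso_hom_app_f]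
  exact Category.comp_id _

theorem nonempty_cc_iso (M : ModuleCat.{u} R) : ∀ (fs : List R) (r : ℤ), r = fs.length →
    Nonempty (cc M fs ≅ (extCech M fs)⟦r⟧)
  | [], r, hr => by
      have hr0 : r = 0 := by rw [hr]; rfl
      subst hr0
      exact ⟨((CategoryTheory.shiftFunctorZero (DRing.Cx R) ℤ).app _).symm⟩
  | f :: fs, r', hr' => by
      obtain ⟨e⟩ := nonempty_cc_iso M fs (fs.length : ℤ) rfl
      have hr : 1 + (fs.length : ℤ) = r' := by
        rw [hr', List.length_cons]; push_cast; ring
      let b : (locCx (Submonoid.powers f)).obj (cc M fs) ≅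
          ((locCx (Submonoid.powers f)).obj (extCech M fs))⟦(fs.length : ℤ)⟧ :=
        (locCx (Submonoid.powers f)).mapIso e ≪≫
          ((locFunctor (Submonoid.powers f)).mapCochainComplexShiftIso (fs.length : ℤ)).app
            (extCech M fs)
      have comm : locCxUnit (Submonoid.powers f) (cc M fs) ≫ b.hom =
          e.hom ≫ (locCxUnit (Submonoid.powers f) (extCech M fs))⟦(fs.length : ℤ)⟧' := by
        show _ ≫ ((locCx (Submonoid.powers f)).map e.hom ≫ _) = _
        rw [← Category.assoc, locCxUnit_naturality, Category.assoc]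
        exact congrArg (fun t => e.hom ≫ t) (locCxUnit_shift _ _ _)
      let i1 : cc M (f :: fs) ≅
          mappingCone ((locCxUnit (Submonoid.powers f) (extCech M fs))⟦(fs.length : ℤ)⟧') :=
        coneIso _ _ e b comm
      let i2 := (mappingCone.shiftIso (locCxUnit (Submonoid.powers f) (extCech M fs))
        (fs.length : ℤ)).symm
      let i3 : (mappingCocone (locCxUnit (Submonoid.powers f) (extCech M fs)))⟦(1 : ℤ)⟧ ≅
          mappingCone (locCxUnit (Submonoid.powers f) (extCech M fs)) :=
        (CategoryTheory.shiftFunctorCompIsoId (DRing.Cx R) (-1 : ℤ) 1 (by simp)).app _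
      let i4 : ((mappingCocone (locCxUnit (Submonoid.powers f) (extCech M fs)))⟦(1 : ℤ)⟧)⟦(fs.length : ℤ)⟧
          ≅ (mappingCocone (locCxUnit (Submonoid.powers f) (extCech M fs)))⟦r'⟧ :=
        ((CategoryTheory.shiftFunctorAdd' (DRing.Cx R) 1 (fs.length : ℤ) r' hr).app _).symm
      exact ⟨i1 ≪≫ i2 ≪≫ (CategoryTheory.shiftFunctor (DRing.Cx R) (fs.length : ℤ)).mapIso i3.symm
        ≪≫ i4⟩

theorem nonempty_cc_homology_iso (M : ModuleCat.{u} R) (fs : List R) (j j' : ℤ)
    (h : (fs.length : ℤ) + j = j') :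
    Nonempty ((cc M fs).homology j ≅ (extCech M fs).homology j') := by
  obtain ⟨e⟩ := nonempty_cc_iso M fs _ rfl
  exact ⟨(HomologicalComplex.homologyFunctor _ _ j).mapIso e ≪≫
    (CochainComplex.ShiftSequence.shiftIso (ModuleCat.{u} R) (fs.length : ℤ) j j' h).app
      (extCech M fs)⟩

/-- **Koszul–Čech comparison**: the direct limit of the Koszul cohomology of the powers is the
cohomology of the extended Čech complex. -/
theorem nonempty_koszulHLim_equiv_extCechH (fs : List R) (M : ModuleCat.{u} R) (p : ℕ) :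
    Nonempty (CohIII.koszulHLim fs M p ≃ₗ[R] DerCA.extCechH fs M (p : ℤ)) := by
  obtain ⟨e₁⟩ := nonempty_koszulHLim_equiv_cc fs M p
  obtain ⟨e₂⟩ := nonempty_cc_homology_iso M fs ((p : ℤ) - fs.length) p (by ring)
  exact ⟨e₁.trans e₂.toLinearEquiv⟩

end Groth.Agent.H82.KC
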