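import Mathlib
import Groth.Agent.H82.CechGeoAlg
import Groth.Agent.H8.QCohQcqs
import Groth.Agent.H82.KCShift

/-!
# Sections over a union of basic opens and the extended Čech complex
-/

set_option autoImplicit false
set_option linter.unusedSectionVars false
set_option linter.unusedVariables false
set_option linter.style.haveILetI false
set_option backward.isDefEq.respectTransparency false

universe u

open CategoryTheory CategoryTheory.Limits AlgebraicGeometry TopologicalSpace Opposite DerCA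

namespace Groth.Agent.H82.CechGeo

variable {X : Scheme.{u}} (F : X.Modules)

/-- Sections of `F` over `U`, as a module over the ring of global functions. -/
def NU (U : X.Opens) : Type u := Γ(F, U)

noncomputable instance (U : X.Opens) : AddCommGroup (NU F U) :=
  inferInstanceAs (AddCommGroup Γ(F, U))

/-- Restriction of global functions. -/
noncomputable def ρR (U : X.Opens) : Γ(X, ⊤) →+* Γ(X, U) :=
  (X.presheaf.map (homOfLE (le_top : U ≤ ⊤)).op).hom

noncomputable instance (U : X.Opens) : Module Γ(X, ⊤) (NU F U) :=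
  Module.compHom Γ(F, U) (ρR U)

theorem smul_def (U : X.Opens) (r : Γ(X, ⊤)) (s : NU F U) :
    r • s = (ρR U r • (show Γ(F, U) from s) : Γ(F, U)) := rfl

theorem ρR_res {U V : X.Opens} (h : V ≤ U) (r : Γ(X, ⊤)) :
    X.presheaf.map (homOfLE h).op (ρR U r) = ρR V r :=
  H8.ringRes_res h le_top r

/-- Restriction maps, linear over global functions. -/
noncomputable def resN {U V : X.Opens} (h : V ≤ U) : NU F U →ₗ[Γ(X, ⊤)] NU F V where
  toFun s := F.presheaf.map (homOfLE h).op (show Γ(F, U) from s)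
  map_add' a b := map_add _ _ _
  map_smul' r s := by
    show F.presheaf.map (homOfLE h).op (ρR U r • (show Γ(F, U) from s)) =
      ρR V r • F.presheaf.map (homOfLE h).op (show Γ(F, U) from s)
    rw [H8.res_smul, ρR_res]

theorem resN_apply {U V : X.Opens} (h : V ≤ U) (s : NU F U) :
    resN F h s = F.presheaf.map (homOfLE h).op (show Γ(F, U) from s) := rfl

theorem resN_resN {A B C : X.Opens} (h₁ : A ≤ B) (h₂ : B ≤ C) (s : NU F C) :
    resN F h₁ (resN F h₂ s) = resN F (h₁.trans h₂) s :=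
  H8.res_res F h₁ h₂ s

theorem isUnit_ρR {V : X.Opens} (f : Γ(X, ⊤)) (hV : V ≤ X.basicOpen f) : IsUnit (ρR V f) := by
  have h := X.toRingedSpace.isUnit_res_basicOpen f
  have e : ρR V f = X.presheaf.map (homOfLE hV).op
      (X.presheaf.map (homOfLE (X.basicOpen_le f)).op f) := (H8.ringRes_res hV _ f).symm
  rw [e]
  exact h.map _

theorem smul_pow_injective {V : X.Opens} (f : Γ(X, ⊤)) (hV : V ≤ X.basicOpen f) (n : ℕ)
    (s : NU F V) (hs : f ^ n • s = 0) : s = 0 := by
  obtain ⟨u, hu⟩ := (isUnit_ρR f hV).pow n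
  have hs' : (↑u : Γ(X, V)) • (show Γ(F, V) from s) = 0 := by
    rw [hu, ← map_pow]
    exact hs
  have h2 : (↑u⁻¹ : Γ(X, V)) • ((↑u : Γ(X, V)) • (show Γ(F, V) from s)) = 0 := by
    rw [hs', smul_zero]
  rw [← mul_smul, Units.inv_mul, one_smul] at h2
  exact h2

theorem glue_two {U V : X.Opens} (g : Γ(F, U)) (g₁ : Γ(F, V))
    (h : F.presheaf.map (homOfLE (inf_le_left : U ⊓ V ≤ U)).op g =
      F.presheaf.map (homOfLE (inf_le_right : U ⊓ V ≤ V)).op g₁) :
    ∃ g' : Γ(F, U ⊔ V), F.presheaf.map (homOfLE (le_sup_left : U ≤ U ⊔ V)).op g' = g ∧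
      F.presheaf.map (homOfLE (le_sup_right : V ≤ U ⊔ V)).op g' = g₁ := by
  let Us : Bool → X.Opens := fun b => bif b then U else V
  let sf : ∀ b : Bool, Γ(F, Us b) := fun b => match b with
    | true => g
    | false => g₁
  have hcompat : TopCat.Presheaf.IsCompatible F.presheaf Us sf := by
    intro i j
    cases i <;> cases j
    · rfl
    · change F.presheaf.map (homOfLE (inf_le_left : V ⊓ U ≤ V)).op g₁ =
        F.presheaf.map (homOfLE (inf_le_right : V ⊓ U ≤ U)).op g
      have hle : V ⊓ U ≤ U ⊓ V := le_of_eq (inf_comm _ _)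
      rw [← H8.res_res F hle (inf_le_right : U ⊓ V ≤ V), ← h, H8.res_res]
    · change F.presheaf.map (homOfLE (inf_le_left : U ⊓ V ≤ U)).op g =
        F.presheaf.map (homOfLE (inf_le_right : U ⊓ V ≤ V)).op g₁
      exact h
    · rfl
  have hcover : U ⊔ V ≤ iSup Us := by
    rw [iSup_bool_eq]
    exact le_rfl
  obtain ⟨s, hs, -⟩ := TopCat.Sheaf.existsUnique_gluing' (F := ⟨F.presheaf, F.isSheaf⟩) Us (U ⊔ V)
    (fun b => homOfLE (by cases b; exact le_sup_right; exact le_sup_left)) hcover sf hcompat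
  exact ⟨s, hs true, hs false⟩

theorem ρR_top (r : Γ(X, ⊤)) : ρR (⊤ : X.Opens) r = r := by
  have h : (homOfLE (le_top : (⊤ : X.Opens) ≤ ⊤)).op = 𝟙 (op (⊤ : X.Opens)) := rfl
  show (X.presheaf.map (homOfLE (le_top : (⊤ : X.Opens) ≤ ⊤)).op).hom r = r
  rw [h, X.presheaf.map_id]
  rfl

theorem isCompact_top [CompactSpace X] : IsCompact (((⊤ : X.Opens) : X.Opens) : Set X) := by
  rw [TopologicalSpace.Opens.coe_top]
  exact isCompact_univ

theorem isQuasiSeparated_opens [QuasiSeparatedSpace X] (U : X.Opens) :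
    IsQuasiSeparated (U : Set X) :=
  isQuasiSeparated_univ.of_subset (Set.subset_univ _)

variable [F.IsQuasicoherent]

theorem glue_data [QuasiSeparatedSpace X] [CompactSpace X] (f : Γ(X, ⊤)) (U : X.Opens)
    (hU : IsCompact (U : Set X)) :
    Glue f (resN F (le_top : U ≤ ⊤)) (resN F (le_top : X.basicOpen f ≤ ⊤))
      (resN F (le_top : U ⊔ X.basicOpen f ≤ ⊤))
      (resN F (inf_le_left : U ⊓ X.basicOpen f ≤ U))
      (resN F (inf_le_right : U ⊓ X.basicOpen f ≤ X.basicOpen f))
      (resN F (le_sup_left : U ≤ U ⊔ X.basicOpen f))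
      (resN F (le_sup_right : X.basicOpen f ≤ U ⊔ X.basicOpen f)) where
  pρ m := resN_resN F _ _ m
  p₁ρ m := resN_resN F _ _ m
  sq g' := by rw [resN_resN, resN_resN]
  inj g' h1 h2 := by
    refine H8.section_eq_of_cover F (W := U ⊔ X.basicOpen f) g' 0 (fun x hx => ?_)
    rcases (TopologicalSpace.Opens.mem_sup.1 hx) with hx | hx
    · exact ⟨U, le_sup_left, hx, by rw [map_zero]; exact h1⟩
    · exact ⟨_, le_sup_right, hx, by rw [map_zero]; exact h2⟩
  glue g g₁ h := glue_two F g g₁ h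
  loc :=
    { map_units := fun s => by
        obtain ⟨n, hn⟩ := s.2
        rw [Module.End.isUnit_iff]
        constructor
        · intro a b hab
          have hab' : (s : Γ(X, ⊤)) • a = (s : Γ(X, ⊤)) • b := hab
          have h0 : f ^ n • (a - b) = 0 := by
            have hn' : f ^ n = (s : Γ(X, ⊤)) := hn
            rw [hn', smul_sub, hab', sub_self]
          exact sub_eq_zero.1 (smul_pow_injective F f le_rfl n _ h0)
        · intro b
          obtain ⟨u, hu⟩ := (isUnit_ρR f (le_refl (X.basicOpen f))).pow n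
          refine ⟨(show NU F (X.basicOpen f) from
            (↑u⁻¹ : Γ(X, X.basicOpen f)) • (show Γ(F, X.basicOpen f) from b)), ?_⟩
          show (s : Γ(X, ⊤)) • (show NU F (X.basicOpen f) from
            (↑u⁻¹ : Γ(X, X.basicOpen f)) • (show Γ(F, X.basicOpen f) from b)) = b
          have hn' : (s : Γ(X, ⊤)) = f ^ n := hn.symm
          rw [hn', smul_def, map_pow, ← hu, ← mul_smul, Units.mul_inv, one_smul]
      surj := fun y => by
        obtain ⟨n, s, hs⟩ := H8.exists_smul_eq_res_of_qcqs F (W := ⊤) isCompact_top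
          (isQuasiSeparated_opens ⊤) f (show Γ(F, X.basicOpen f) from y)
        refine ⟨((show NU F ⊤ from s), ⟨f ^ n, n, rfl⟩), ?_⟩
        show f ^ n • y = resN F _ (show NU F ⊤ from s)
        rw [smul_def, map_pow]
        exact hs.symm
      exists_of_eq := fun {x₁ x₂} h => by
        have h0 : F.presheaf.map (homOfLE (X.basicOpen_le f)).op
            ((show Γ(F, ⊤) from x₁) - (show Γ(F, ⊤) from x₂)) = 0 := by
          rw [map_sub, sub_eq_zero]
          exact h
        obtain ⟨n, hn⟩ := H8.exists_pow_smul_eq_zero_of_isCompact F (W := ⊤) isCompact_top f _ h0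
        refine ⟨⟨f ^ n, n, rfl⟩, ?_⟩
        show f ^ n • x₁ = f ^ n • x₂
        rw [← sub_eq_zero, ← smul_sub, smul_def, map_pow, ρR_top]
        exact hn }
  ker g hg := by
    have hle : X.basicOpen (ρR U f) ≤ U ⊓ X.basicOpen f := le_of_eq (X.basicOpen_res f _)
    have h0 : F.presheaf.map (homOfLE (X.basicOpen_le (ρR U f))).op (show Γ(F, U) from g) = 0 := by
      have h1 := resN_resN F hle inf_le_left g
      rw [hg, map_zero] at h1
      exact h1.symm
    obtain ⟨n, hn⟩ := H8.exists_pow_smul_eq_zero_of_isCompact F hU (ρR U f) _ h0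
    refine ⟨n, ?_⟩
    rw [smul_def, map_pow]
    exact hn
  reg g h := smul_pow_injective F f inf_le_right 1 g (by rw [pow_one]; exact h)

/-- The union of the basic opens of a list of global functions. -/
noncomputable def Ufs : List Γ(X, ⊤) → X.Opens
  | [] => ⊥
  | f :: fs => Ufs fs ⊔ X.basicOpen f

theorem isCompact_Ufs [CompactSpace X] : ∀ fs : List Γ(X, ⊤), IsCompact (Ufs fs : Set X)
  | [] => by
    show IsCompact (((⊥ : X.Opens) : X.Opens) : Set X)
    rw [TopologicalSpace.Opens.coe_bot]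
    exact isCompact_empty
  | f :: fs => by
    show IsCompact ((Ufs fs ⊔ X.basicOpen f : X.Opens) : Set X)
    rw [TopologicalSpace.Opens.coe_sup]
    exact (isCompact_Ufs fs).union (AlgebraicGeometry.isCompact_basicOpen X isCompact_top f)

theorem Ufs_eq : ∀ fs : List Γ(X, ⊤),
    Ufs fs = ⨆ i : Fin fs.length, X.basicOpen (fs.get i)
  | [] => by
    show (⊥ : X.Opens) = _
    refine le_antisymm bot_le (iSup_le fun i => i.elim0)
  | f :: fs => by
    show Ufs fs ⊔ X.basicOpen f = _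
    rw [Ufs_eq fs]
    refine le_antisymm (sup_le (iSup_le fun i => ?_) ?_) (iSup_le fun i => ?_)
    · exact le_iSup (fun i : Fin (f :: fs).length => X.basicOpen ((f :: fs).get i)) i.succ
    · exact le_iSup (fun i : Fin (f :: fs).length => X.basicOpen ((f :: fs).get i))
        (⟨0, Nat.succ_pos _⟩ : Fin (f :: fs).length)
    · refine Fin.cases ?_ (fun j => ?_) i
      · exact le_sup_right
      · exact le_sup_of_le_left (le_iSup (fun i : Fin fs.length => X.basicOpen (fs.get i)) j)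

theorem nonempty_zdata [X.IsSeparated] [CompactSpace X] : ∀ fs : List Γ(X, ⊤),
    Nonempty (ZData (extCech (ModuleCat.of Γ(X, ⊤) (NU F ⊤)) fs) 0 1 2
      (resN F (le_top : Ufs fs ≤ ⊤)))
  | [] => by
    haveI : Subsingleton (NU F (Ufs ([] : List Γ(X, ⊤)))) :=
      ⟨fun a b => H8.section_eq_of_cover F (W := ⊥) a b (fun x hx => absurd hx (by simp))⟩
    exact ⟨baseZData (ModuleCat.of Γ(X, ⊤) (NU F ⊤)) _⟩
  | f :: fs => by
    obtain ⟨Z⟩ := nonempty_zdata fs
    exact step' f _ Z (glue_data F f (Ufs fs) (isCompact_Ufs fs))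

/-- Kernel and cokernel of restriction to the union of the basic opens, in terms of the
extended Čech complex. -/
theorem nonempty_extCechH_equiv [X.IsSeparated] [CompactSpace X] (fs : List Γ(X, ⊤)) :
    Nonempty (extCechH fs (ModuleCat.of Γ(X, ⊤) (NU F ⊤)) 0 ≃ₗ[Γ(X, ⊤)]
      LinearMap.ker (resN F (le_top : Ufs fs ≤ ⊤))) ∧
    Nonempty (extCechH fs (ModuleCat.of Γ(X, ⊤) (NU F ⊤)) 1 ≃ₗ[Γ(X, ⊤)]
      (NU F (Ufs fs) ⧸ LinearMap.range (resN F (le_top : Ufs fs ≤ ⊤)))) := by
  obtain ⟨Z⟩ := nonempty_zdata F fs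
  exact ⟨nonempty_H0 _ Z, nonempty_H1 _ Z⟩

/-- The module of global sections with its native structure is the module `NU F ⊤`. -/
noncomputable def topIso :
    ModuleCat.of Γ(X, ⊤) (F.val.obj (op ⊤)) ≅ ModuleCat.of Γ(X, ⊤) (NU F ⊤) :=
  LinearEquiv.toModuleIso
    { toFun := fun x => (show NU F ⊤ from x)
      invFun := fun x => x
      map_add' := fun _ _ => rfl
      map_smul' := fun r x => by
        show (show Γ(F, ⊤) from (r • x)) = ρR (⊤ : X.Opens) r • (show Γ(F, ⊤) from x)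
        rw [ρR_top]
      left_inv := fun _ => rfl
      right_inv := fun _ => rfl }

theorem main [X.IsSeparated] [CompactSpace X] (fs : List Γ(X, ⊤)) (U : X.Opens)
    (hU : U = Ufs fs) :
    Nonempty (((Coh.toAb F).obj.map (homOfLE (le_top : U ≤ ⊤)).op).hom.ker ≃+
      CohIII.koszulHLim fs (ModuleCat.of Γ(X, ⊤) (F.val.obj (op ⊤))) 0) ∧
    Nonempty (↑((Coh.toAb F).obj.obj (op U)) ⧸
      ((Coh.toAb F).obj.map (homOfLE (le_top : U ≤ ⊤)).op).hom.range ≃+
      CohIII.koszulHLim fs (ModuleCat.of Γ(X, ⊤) (F.val.obj (op ⊤))) 1) := by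
  subst hU
  obtain ⟨⟨e0⟩, ⟨e1⟩⟩ := nonempty_extCechH_equiv F fs
  obtain ⟨k0⟩ := KC.nonempty_koszulHLim_equiv_extCechH fs
    (ModuleCat.of Γ(X, ⊤) (F.val.obj (op ⊤))) 0
  obtain ⟨k1⟩ := KC.nonempty_koszulHLim_equiv_extCechH fs
    (ModuleCat.of Γ(X, ⊤) (F.val.obj (op ⊤))) 1
  have c : ∀ q : ℤ, extCechH fs (ModuleCat.of Γ(X, ⊤) (F.val.obj (op ⊤))) q ≅
      extCechH fs (ModuleCat.of Γ(X, ⊤) (NU F ⊤)) q := fun q =>
    (HomologicalComplex.homologyFunctor _ _ q).mapIso ((Cech.cechF fs).mapIso (topIso F))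
  let a0 : CohIII.koszulHLim fs (ModuleCat.of Γ(X, ⊤) (F.val.obj (op ⊤))) 0 ≃+
      LinearMap.ker (resN F (le_top : Ufs fs ≤ ⊤)) :=
    (k0.trans ((c ((0 : ℕ) : ℤ)).toLinearEquiv.trans e0)).toAddEquiv
  let a1 : CohIII.koszulHLim fs (ModuleCat.of Γ(X, ⊤) (F.val.obj (op ⊤))) 1 ≃+
      (NU F (Ufs fs) ⧸ LinearMap.range (resN F (le_top : Ufs fs ≤ ⊤))) :=
    (k1.trans ((c ((1 : ℕ) : ℤ)).toLinearEquiv.trans e1)).toAddEquiv
  constructor
  · let b0 : ((Coh.toAb F).obj.map (homOfLE (le_top : Ufs fs ≤ ⊤)).op).hom.ker ≃+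
        LinearMap.ker (resN F (le_top : Ufs fs ≤ ⊤)) :=
      { toFun := fun x => ⟨x.1, x.2⟩
        invFun := fun x => ⟨x.1, x.2⟩
        left_inv := fun _ => rfl
        right_inv := fun _ => rfl
        map_add' := fun _ _ => rfl }
    exact ⟨b0.trans a0.symm⟩
  · let idE : ↑((Coh.toAb F).obj.obj (op (Ufs fs))) ≃+ NU F (Ufs fs) :=
      { toFun := fun x => x
        invFun := fun x => x
        left_inv := fun _ => rfl
        right_inv := fun _ => rfl
        map_add' := fun _ _ => rfl }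
    have he : AddSubgroup.map idE.toAddMonoidHom
        ((Coh.toAb F).obj.map (homOfLE (le_top : Ufs fs ≤ ⊤)).op).hom.range =
        (LinearMap.range (resN F (le_top : Ufs fs ≤ ⊤))).toAddSubgroup := by
      ext x
      simp only [AddSubgroup.mem_map, AddMonoidHom.mem_range, Submodule.mem_toAddSubgroup,
        LinearMap.mem_range]
      constructor
      · rintro ⟨_, ⟨y, rfl⟩, rfl⟩
        exact ⟨y, rfl⟩
      · rintro ⟨y, rfl⟩
        exact ⟨_, ⟨y, rfl⟩, rfl⟩
    let b1 : (↑((Coh.toAb F).obj.obj (op (Ufs fs))) ⧸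
        ((Coh.toAb F).obj.map (homOfLE (le_top : Ufs fs ≤ ⊤)).op).hom.range) ≃+
        (NU F (Ufs fs) ⧸ (LinearMap.range (resN F (le_top : Ufs fs ≤ ⊤))).toAddSubgroup) :=
      QuotientAddGroup.congr _ _ idE he
    let b2 : (NU F (Ufs fs) ⧸ (LinearMap.range (resN F (le_top : Ufs fs ≤ ⊤))).toAddSubgroup) ≃+
        (NU F (Ufs fs) ⧸ LinearMap.range (resN F (le_top : Ufs fs ≤ ⊤))) := AddEquiv.refl _
    exact ⟨(b1.trans b2).trans a1.symm⟩

end Groth.Agent.H82.CechGeo
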