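import Mathlib

/-!
# Cohomological dimension shifting
-/

set_option autoImplicit false
set_option linter.unusedSectionVars false
set_option linter.unusedVariables false
set_option linter.style.haveILetI false
set_option backward.isDefEq.respectTransparency false

universe v u v' u'

open CategoryTheory CategoryTheory.Limits

namespace Groth.Agent.H82.CDelta

variable {C : Type u} [Category.{v} C] [Abelian C] {D : Type u'} [Category.{v'} D] [Abelian D]

/-- A sequence of functors has long exact sequences (cohomological indexing). -/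
def HasCLES (T : ℕ → C ⥤ D) : Prop :=
  ∀ (S : ShortComplex C) (_ : S.ShortExact) (n : ℕ),
    (T n).map S.f ≫ (T n).map S.g = 0 ∧
    (∀ z, (ShortComplex.mk ((T n).map S.f) ((T n).map S.g) z).Exact) ∧
    ∃ (δ : (T n).obj S.X₃ ⟶ (T (n+1)).obj S.X₁) (w₁ : (T n).map S.g ≫ δ = 0)
      (w₂ : δ ≫ (T (n+1)).map S.f = 0),
      (ShortComplex.mk ((T n).map S.g) δ w₁).Exact ∧
        (ShortComplex.mk δ ((T (n+1)).map S.f) w₂).Exact

/-- The functors of positive degree vanish on injective objects. -/
def VanishOnInj (T : ℕ → C ⥤ D) : Prop :=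
  ∀ (n : ℕ) (I : C), Injective I → IsZero ((T (n+1)).obj I)

variable [EnoughInjectives C] {T T' : ℕ → C ⥤ D}

/-- Dimension shifting: two sequences of functors with long exact sequences, vanishing on
injectives in positive degrees, which agree in degree zero, agree objectwise in all degrees. -/
theorem nonempty_iso_of_hasCLES (h : HasCLES T) (h' : HasCLES T') (v : VanishOnInj T)
    (v' : VanishOnInj T') (e : T 0 ≅ T' 0) (n : ℕ) :
    ∀ N : C, Nonempty ((T n).obj N ≅ (T' n).obj N) := by
  induction n with
  | zero => exact fun N => ⟨e.app N⟩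
  | succ n ih =>
    intro N
    let i : N ⟶ Injective.under N := Injective.ι N
    let S : ShortComplex C := ShortComplex.mk i (cokernel.π i) (cokernel.condition i)
    have hS : S.ShortExact := ShortComplex.ShortExact.mk' (ShortComplex.exact_cokernel i)
      (inferInstanceAs (Mono (Injective.ι N))) (inferInstanceAs (Epi (cokernel.π i)))
    have hI : Injective S.X₂ := inferInstanceAs (Injective (Injective.under N))
    obtain ⟨-, -, δ, w₁, w₂, e1, e2⟩ := h S hS n
    obtain ⟨-, -, δ', w₁', w₂', e1', e2'⟩ := h' S hS n
    have he : Epi δ := e2.epi_f ((v n _ hI).eq_of_tgt _ _)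
    have he' : Epi δ' := e2'.epi_f ((v' n _ hI).eq_of_tgt _ _)
    cases n with
    | zero =>
      let k : (T 1).obj N ≅ cokernel ((T 0).map S.g) :=
        IsColimit.coconePointUniqueUpToIso e1.gIsCokernel (colimit.isColimit _)
      let k' : (T' 1).obj N ≅ cokernel ((T' 0).map S.g) :=
        IsColimit.coconePointUniqueUpToIso e1'.gIsCokernel (colimit.isColimit _)
      exact ⟨k ≪≫ cokernel.mapIso _ _ (e.app _) (e.app _) (e.hom.naturality S.g) ≪≫ k'.symm⟩
    | succ m =>
      have hm : Mono δ := e1.mono_g ((v m _ hI).eq_of_src _ _)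
      have hm' : Mono δ' := e1'.mono_g ((v' m _ hI).eq_of_src _ _)
      have : IsIso δ := isIso_of_mono_of_epi δ
      have : IsIso δ' := isIso_of_mono_of_epi δ'
      obtain ⟨j⟩ := ih S.X₃
      exact ⟨(asIso δ).symm ≪≫ j ≪≫ asIso δ'⟩

end Groth.Agent.H82.CDelta
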