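import Mathlib
import Groth.Prelude.Def_DerCA
import Groth.Prelude.Def_DRing3
import Groth.Agent.H82.CechFun
import Groth.Agent.H82.CDelta
import Groth.Agent.S9264

/-!
# Long exact sequences for the extended Čech complex and its degree-zero cohomology
-/

set_option autoImplicit false
set_option linter.unusedSectionVars false
set_option linter.unusedVariables false
set_option linter.style.haveILetI false
set_option backward.isDefEq.respectTransparency false

universe u

open CategoryTheory Limits DerCA CochainComplex HomologicalComplex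

namespace Groth.Agent.H82.Cech

attribute [local instance] HasDerivedCategory.standard

variable {R : Type u} [CommRing R]

/-- The Čech cohomology functors. -/
noncomputable def cechH (fs : List R) (n : ℕ) : ModuleCat.{u} R ⥤ ModuleCat.{u} R :=
  cechF fs ⋙ HomologicalComplex.homologyFunctor (ModuleCat.{u} R) (ComplexShape.up ℤ) (n : ℤ)

instance (fs : List R) (n : ℕ) : (cechH fs n).PreservesZeroMorphisms := by
  unfold cechH
  infer_instance

theorem hasCLES_cechH (fs : List R) : CDelta.HasCLES (cechH fs) := by
  intro S hS n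
  have hSC := cechF_shortExact hS fs
  have hrel : (ComplexShape.up ℤ).Rel (n : ℤ) ((n + 1 : ℕ) : ℤ) := by
    show (n : ℤ) + 1 = ((n + 1 : ℕ) : ℤ)
    push_cast
    rfl
  have z : (cechH fs n).map S.f ≫ (cechH fs n).map S.g = 0 := by
    rw [← CategoryTheory.Functor.map_comp, S.zero, CategoryTheory.Functor.map_zero]
  exact ⟨z, fun _ => hSC.homology_exact₂ (n : ℤ), hSC.δ (n : ℤ) ((n + 1 : ℕ) : ℤ) hrel,
    hSC.comp_δ _ _ hrel, hSC.δ_comp _ _ hrel, hSC.homology_exact₃ _ _ hrel,
    hSC.homology_exact₁ _ _ hrel⟩

section loc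

variable (S : Submonoid R) (K : DRing.Cx R) (q : ℤ)

theorem homologyMap_locCxUnit :
    ∃ (α : K.homology q ≅ K.homology q),
      HomologicalComplex.homologyMap (locCxUnit S K) q =
        α.hom ≫ (locUnit S).app (K.homology q) ≫ (H46.homologyLocIso S K q).inv :=
  ⟨(K.sc q).mapHomologyIso (𝟭 (ModuleCat.{u} R)),
    ShortComplex.homologyMap_mapNatTrans (K.sc q) (locUnit S)⟩

theorem homologyMap_locCxUnit_eq_zero_iff (x : K.homology q) :
    (HomologicalComplex.homologyMap (locCxUnit S K) q).hom x = 0 ↔ ∃ s : S, s • x = 0 := by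
  obtain ⟨α, hα⟩ := homologyMap_locCxUnit S K q
  rw [hα]
  have hβ : Function.Injective (H46.homologyLocIso S K q).inv.hom :=
    (H46.homologyLocIso S K q).symm.toLinearEquiv.injective
  have hαi : Function.Injective α.hom.hom := α.toLinearEquiv.injective
  show (H46.homologyLocIso S K q).inv.hom
    (LocalizedModule.mkLinearMap S (K.homology q) (α.hom.hom x)) = 0 ↔ _
  rw [← map_zero (H46.homologyLocIso S K q).inv.hom, hβ.eq_iff,
    IsLocalizedModule.eq_zero_iff S (LocalizedModule.mkLinearMap S (K.homology q))]
  constructor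
  · rintro ⟨s, hs⟩
    refine ⟨s, hαi ?_⟩
    rw [map_zero]
    rw [Submonoid.smul_def] at hs ⊢
    rw [map_smul]
    exact hs
  · rintro ⟨s, hs⟩
    refine ⟨s, ?_⟩
    rw [Submonoid.smul_def] at hs ⊢
    rw [← map_smul, hs, map_zero]

theorem homologyMap_locCxUnit_surjective
    (h : Function.Surjective (LocalizedModule.mkLinearMap S (K.homology q))) :
    Function.Surjective (HomologicalComplex.homologyMap (locCxUnit S K) q).hom := by
  obtain ⟨α, hα⟩ := homologyMap_locCxUnit S K q
  rw [hα]
  have hβ : Function.Surjective (H46.homologyLocIso S K q).inv.hom :=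
    (H46.homologyLocIso S K q).symm.toLinearEquiv.surjective
  have hαs : Function.Surjective α.hom.hom := α.toLinearEquiv.surjective
  exact hβ.comp (h.comp hαs)

theorem isZero_homology_locCx (h : IsZero (K.homology q)) :
    IsZero (((locCx S).obj K).homology q) :=
  IsZero.of_iso (Functor.map_isZero (locFunctor S) h) (H46.homologyLocIso S K q)

end loc

section LES

variable {K L : DRing.Cx R} (φ : K ⟶ L)

theorem fst_homologyMap_mono (n : ℤ) (hL : IsZero (L.homology (n - 1))) :
    Mono (HomologicalComplex.homologyMap (mappingCocone.fst φ) n) := by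
  have hT := DerivedCategory.mappingCocone_triangle_distinguished φ
  have h := CochainComplex.homologyMap_exact₁_of_distTriang _ hT (n - 1) n (by omega)
  exact h.mono_g (hL.eq_of_src _ _)

theorem homologyMap_fst_comp (n : ℤ) (y : (mappingCocone φ).homology n) :
    (HomologicalComplex.homologyMap φ n).hom
      ((HomologicalComplex.homologyMap (mappingCocone.fst φ) n).hom y) = 0 := by
  have hT := DerivedCategory.mappingCocone_triangle_distinguished φ
  have h := CochainComplex.homologyMap_comp_eq_zero_of_distTriang _ hT n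
  exact congrArg (fun m => m.hom y) h

theorem exists_of_homologyMap_eq_zero (n : ℤ) (x : K.homology n)
    (hx : (HomologicalComplex.homologyMap φ n).hom x = 0) :
    ∃ y : (mappingCocone φ).homology n,
      (HomologicalComplex.homologyMap (mappingCocone.fst φ) n).hom y = x := by
  have hT := DerivedCategory.mappingCocone_triangle_distinguished φ
  have h := CochainComplex.homologyMap_exact₂_of_distTriang _ hT n
  rw [ShortComplex.moduleCat_exact_iff] at h
  exact h x hx

theorem isZero_cocone_homology (n : ℤ) (hL : IsZero (L.homology (n - 1)))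
    (hK : IsZero (K.homology n)) : IsZero ((mappingCocone φ).homology n) := by
  have hT := DerivedCategory.mappingCocone_triangle_distinguished φ
  have h := CochainComplex.homologyMap_exact₁_of_distTriang _ hT (n - 1) n (by omega)
  exact h.isZero_of_both_zeros (hL.eq_of_src _ _) (hK.eq_of_tgt _ _)

theorem isZero_cocone_homology_of_epi (n m : ℤ) (hnm : n + 1 = m)
    (hepi : Epi (HomologicalComplex.homologyMap φ n)) (hK : IsZero (K.homology m)) :
    IsZero ((mappingCocone φ).homology m) := by
  have hT := DerivedCategory.mappingCocone_triangle_distinguished φ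
  have h1 := CochainComplex.homologyMap_exact₁_of_distTriang _ hT n m hnm
  have hδ : Epi (CochainComplex.homologyδOfTriangle (mappingCocone.triangle φ) n m hnm) :=
    h1.epi_f (hK.eq_of_tgt _ _)
  have h0 : CochainComplex.homologyδOfTriangle (mappingCocone.triangle φ) n m hnm = 0 := by
    have h2 := CochainComplex.homologyMap_homologyδOfTriangle _ hT n m hnm
    exact (cancel_epi (HomologicalComplex.homologyMap φ n)).1 (h2.trans comp_zero.symm)
  exact IsZero.of_epi_eq_zero _ h0

end LES

section H0

/-- membership in `Γ_{a + Rb}` -/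
theorem mem_torsionSub_sup_span_iff (a : Ideal R) (b : R) (N : Type u) [AddCommGroup N]
    [Module R N] (x : N) :
    x ∈ DRing.torsionSub (a ⊔ Ideal.span {b}) N ↔
      x ∈ DRing.torsionSub a N ∧ ∃ t : ℕ, b ^ t • x = 0 := by
  constructor
  · rintro ⟨n, hn⟩
    refine ⟨⟨n, fun r hr => hn r (Ideal.pow_right_mono le_sup_left n hr)⟩, n, hn _ ?_⟩
    exact Ideal.pow_mem_pow (Ideal.mem_sup_right (Ideal.mem_span_singleton_self b)) n
  · rintro ⟨⟨m, hm⟩, t, ht⟩
    refine ⟨m + t, fun r hr => ?_⟩
    have hr' : r ∈ a ^ m ⊔ Ideal.span {b} ^ t := Ideal.sup_pow_add_le_pow_sup_pow hr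
    obtain ⟨u, hu, v, hv, rfl⟩ := Submodule.mem_sup.1 hr'
    rw [Ideal.span_singleton_pow, Ideal.mem_span_singleton'] at hv
    obtain ⟨w, rfl⟩ := hv
    rw [add_smul, hm u hu, mul_smul, ht, smul_zero, add_zero]

theorem span_cons (f : R) (fs : List R) :
    Ideal.span {x | x ∈ f :: fs} = Ideal.span {x | x ∈ fs} ⊔ Ideal.span {f} := by
  have : {x | x ∈ f :: fs} = insert f {x | x ∈ fs} := by
    ext x
    simp [List.mem_cons]
  rw [this, Ideal.span_insert, sup_comm]

/-- The canonical map from degree-zero Čech cohomology to the module. -/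
noncomputable def η (M : ModuleCat.{u} R) (fs : List R) : extCechH fs M 0 ⟶ M :=
  HomologicalComplex.homologyMap (ε M fs) 0 ≫
    (HomologicalComplex.singleObjHomologySelfIso (ComplexShape.up ℤ) 0 M).hom

theorem η_naturality {M N : ModuleCat.{u} R} (g : M ⟶ N) (fs : List R) :
    HomologicalComplex.homologyMap (cechMap g fs) 0 ≫ η N fs = η M fs ≫ g := by
  unfold η
  rw [← Category.assoc, ← HomologicalComplex.homologyMap_comp, ε_naturality,
    HomologicalComplex.homologyMap_comp, Category.assoc,
    HomologicalComplex.singleObjHomologySelfIso_hom_naturality, Category.assoc]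

theorem η_cons (M : ModuleCat.{u} R) (f : R) (fs : List R) :
    η M (f :: fs) = HomologicalComplex.homologyMap
      (mappingCocone.fst (locCxUnit (Submonoid.powers f) (extCech M fs))) 0 ≫ η M fs := by
  show HomologicalComplex.homologyMap
      (mappingCocone.fst (locCxUnit (Submonoid.powers f) (extCech M fs)) ≫ ε M fs) 0 ≫ _ =
    HomologicalComplex.homologyMap _ 0 ≫ (HomologicalComplex.homologyMap (ε M fs) 0 ≫ _)
  rw [HomologicalComplex.homologyMap_comp, Category.assoc]

theorem η_injective_and_range (M : ModuleCat.{u} R) : ∀ fs : List R,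
    Function.Injective (η M fs).hom ∧
      LinearMap.range (η M fs).hom = DRing.torsionSub (Ideal.span {x | x ∈ fs}) M
  | [] => by
    have h : η M [] = (HomologicalComplex.singleObjHomologySelfIso (ComplexShape.up ℤ) 0 M).hom := by
      show HomologicalComplex.homologyMap (𝟙 _) 0 ≫ _ = _
      rw [HomologicalComplex.homologyMap_id, Category.id_comp]
    rw [h]
    refine ⟨(HomologicalComplex.singleObjHomologySelfIso
      (ComplexShape.up ℤ) 0 M).toLinearEquiv.injective, ?_⟩
    have hs : LinearMap.range
        (HomologicalComplex.singleObjHomologySelfIso (ComplexShape.up ℤ) 0 M).hom.hom = ⊤ :=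
      LinearMap.range_eq_top.2 (HomologicalComplex.singleObjHomologySelfIso
        (ComplexShape.up ℤ) 0 M).toLinearEquiv.surjective
    rw [hs]
    symm
    rw [eq_top_iff]
    intro m _
    refine ⟨1, fun a ha => ?_⟩
    have h0 : ({x | x ∈ ([] : List R)} : Set R) = ∅ := by
      ext x
      simp
    rw [h0, Ideal.span_empty, pow_one] at ha
    rw [(Submodule.mem_bot R).1 ha, zero_smul]
  | f :: fs => by
    obtain ⟨hinj, hrange⟩ := η_injective_and_range M fs
    have hLzero : IsZero (((locCx (Submonoid.powers f)).obj (extCech M fs)).homology (0 - 1)) :=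
      isZero_homology_locCx _ _ _ (Groth.Agent.S9264.result R fs M (0 - 1) (Or.inl (by norm_num)))
    have hmono := fst_homologyMap_mono (locCxUnit (Submonoid.powers f) (extCech M fs)) 0 hLzero
    have hinj1 := (ModuleCat.mono_iff_injective _).1 hmono
    rw [η_cons]
    constructor
    · exact hinj.comp hinj1
    · ext m
      rw [span_cons, mem_torsionSub_sup_span_iff]
      constructor
      · rintro ⟨y, rfl⟩
        have hx0 := homologyMap_fst_comp (locCxUnit (Submonoid.powers f) (extCech M fs)) 0 y
        obtain ⟨⟨s, t, rfl⟩, hs⟩ := (homologyMap_locCxUnit_eq_zero_iff _ _ 0 _).1 hx0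
        refine ⟨?_, t, ?_⟩
        · rw [← hrange]
          exact ⟨_, rfl⟩
        · rw [Submonoid.smul_def] at hs
          show f ^ t • (η M fs).hom _ = 0
          rw [← map_smul]
          erw [hs]
          rw [map_zero]
      · rintro ⟨hm, t, ht⟩
        rw [← hrange] at hm
        obtain ⟨x, rfl⟩ := hm
        have hx : f ^ t • x = 0 := hinj (by rw [map_smul, ht, map_zero])
        have hx0 : (HomologicalComplex.homologyMap
            (locCxUnit (Submonoid.powers f) (extCech M fs)) 0).hom x = 0 :=
          (homologyMap_locCxUnit_eq_zero_iff _ _ 0 x).2 ⟨⟨f ^ t, t, rfl⟩, hx⟩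
        obtain ⟨y, hy⟩ := exists_of_homologyMap_eq_zero _ 0 x hx0
        exact ⟨y, by rw [← hy]; rfl⟩

/-- Degree-zero Čech cohomology as a linear equivalence with the torsion submodule. -/
noncomputable def e0 (M : ModuleCat.{u} R) (fs : List R) :
    extCechH fs M 0 ≃ₗ[R] DRing.torsionSub (Ideal.span {x | x ∈ fs}) M :=
  (LinearEquiv.ofInjective (η M fs).hom (η_injective_and_range M fs).1).trans
    (LinearEquiv.ofEq _ _ (η_injective_and_range M fs).2)

theorem e0_coe (M : ModuleCat.{u} R) (fs : List R) (x : extCechH fs M 0) :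
    ((e0 M fs x : DRing.torsionSub (Ideal.span {x | x ∈ fs}) M) : M) = (η M fs).hom x := rfl

/-- Degree-zero Čech cohomology is the torsion functor. -/
noncomputable def cechH0Iso (fs : List R) :
    cechH fs 0 ≅ DRing.gammaI (Ideal.span {x | x ∈ fs}) :=
  NatIso.ofComponents (fun M => (e0 M fs).toModuleIso) (by
    intro M N g
    refine ModuleCat.hom_ext (LinearMap.ext fun x => Subtype.ext ?_)
    have h := congrArg (fun m => m.hom x) (η_naturality g fs)
    exact h)

end H0

end Groth.Agent.H82.Cech
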