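import Mathlib

set_option linter.unusedSectionVars false
set_option linter.unusedVariables false
set_option linter.style.haveILetI false
set_option backward.isDefEq.respectTransparency false

universe v u v' u'

open CategoryTheory CategoryTheory.Limits

namespace Groth.Agent.H82.LDer

variable {C : Type u} [Category.{v} C] [Abelian C] {D : Type u'} [Category.{v'} D] [Abelian D]

/-- A projective resolution of a short complex: projective resolutions of the three objects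
with chain maps over the two morphisms forming a short exact sequence of complexes. -/
structure PSESRes (S : ShortComplex C) where
  P₁ : ProjectiveResolution S.X₁
  P₂ : ProjectiveResolution S.X₂
  P₃ : ProjectiveResolution S.X₃
  f : P₁.complex ⟶ P₂.complex
  g : P₂.complex ⟶ P₃.complex
  zero : f ≫ g = 0
  f_π : f ≫ P₂.π = P₁.π ≫ (ChainComplex.single₀ C).map S.f
  g_π : g ≫ P₃.π = P₂.π ≫ (ChainComplex.single₀ C).map S.g
  shortExact : (ShortComplex.mk f g zero).ShortExact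

namespace PSESRes

variable {S : ShortComplex C}

abbrev cx (T : PSESRes S) : ShortComplex (ChainComplex C ℕ) := ShortComplex.mk T.f T.g T.zero

noncomputable def splitting (T : PSESRes S) (n : ℕ) :
    (T.cx.map (HomologicalComplex.eval C _ n)).Splitting :=
  have h : (T.cx.map (HomologicalComplex.eval C _ n)).ShortExact :=
    T.shortExact.map_of_exact (HomologicalComplex.eval C _ n)
  have : Mono (T.cx.map (HomologicalComplex.eval C _ n)).f := h.mono_f
  have : Epi (T.cx.map (HomologicalComplex.eval C _ n)).g := h.epi_g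
  have : Projective (T.cx.map (HomologicalComplex.eval C _ n)).X₃ := T.P₃.projective n
  ShortComplex.Splitting.ofExactOfSection _ h.exact
    (Projective.factorThru (𝟙 _) (T.cx.map (HomologicalComplex.eval C _ n)).g) (by simp)
    inferInstance

theorem map_shortExact (T : PSESRes S) (F : C ⥤ D) [F.Additive] :
    (T.cx.map (F.mapHomologicalComplex (ComplexShape.down ℕ))).ShortExact := by
  apply HomologicalComplex.shortExact_of_degreewise_shortExact
  intro n
  exact ((T.splitting n).map F).shortExact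

end PSESRes

section Lift

theorem exists_lift {Z : C} (P : ProjectiveResolution Z) (Q : ChainComplex C ℕ)
    [∀ n, Projective (Q.X n)] (t : Q.X 0 ⟶ Z) (ht : Q.d 1 0 ≫ t = 0) :
    ∃ θ : Q ⟶ P.complex, θ.f 0 ≫ P.π.f 0 = t := by
  obtain ⟨π, hπ, hm⟩ : ∃ π : P.complex.X 0 ⟶ Z, π = P.π.f 0 ∧ Epi π :=
    ⟨P.π.f 0, rfl, (inferInstance : Epi (P.π.f 0))⟩
  haveI := hm
  let z : Q.X 0 ⟶ P.complex.X 0 := Projective.factorThru t π
  have hz : z ≫ π = t := Projective.factorThru_comp _ _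
  let o : Q.X 1 ⟶ P.complex.X 1 := P.exact₀.liftFromProjective (Q.d 1 0 ≫ z) (by
    show (Q.d 1 0 ≫ z) ≫ P.π.f 0 = 0
    rw [← hπ, Category.assoc, hz, ht])
  have ho : o ≫ P.complex.d 1 0 = Q.d 1 0 ≫ z := P.exact₀.liftFromProjective_comp _ _
  refine ⟨ChainComplex.mkHom _ _ z o ho (fun n p =>
    ⟨(P.exact_succ n).liftFromProjective (Q.d (n+2) (n+1) ≫ p.2.1) (by
        show (Q.d (n+2) (n+1) ≫ p.2.1) ≫ P.complex.d (n+1) n = 0
        rw [Category.assoc, p.2.2, ← Category.assoc, Q.d_comp_d, zero_comp]),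
      (P.exact_succ n).liftFromProjective_comp _ _⟩), ?_⟩
  rw [ChainComplex.mkHom_f_0, ← hπ]
  exact hz

theorem exists_family {Z : C} (P : ProjectiveResolution Z) (K : ChainComplex C ℕ)
    [∀ n, Projective (K.X n)] (t : K.X 1 ⟶ Z) (ht : K.d 2 1 ≫ t = 0) :
    ∃ θ : ∀ n, K.X (n+1) ⟶ P.complex.X n, θ 0 ≫ P.π.f 0 = t ∧
      ∀ n, θ (n+1) ≫ P.complex.d (n+1) n + K.d (n+1+1) (n+1) ≫ θ n = 0 := by
  let Q : ChainComplex C ℕ := ChainComplex.of (fun n => K.X (n+1))
    (fun n => -K.d (n+1+1) (n+1)) (fun n => by simp)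
  haveI : ∀ n, Projective (Q.X n) := fun n => (inferInstance : Projective (K.X (n+1)))
  have hQd : ∀ n, Q.d (n+1) n = -K.d (n+1+1) (n+1) := fun n =>
    ChainComplex.of_d (fun n => K.X (n+1)) (fun n => -K.d (n+1+1) (n+1)) n
  have ht' : Q.d 1 0 ≫ t = 0 := by
    have h0 := hQd 0
    rw [h0, Preadditive.neg_comp]
    exact neg_eq_zero.mpr ht
  obtain ⟨θ, hθ⟩ := exists_lift P Q t ht'
  refine ⟨fun n => θ.f n, hθ, fun n => ?_⟩
  have := θ.comm (n+1) n
  rw [hQd, Preadditive.neg_comp] at this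
  rw [this]
  exact neg_add_cancel _

end Lift

section Mid

variable (K₁ K₃ : ChainComplex C ℕ) (θ : ∀ n, K₃.X (n+1) ⟶ K₁.X n)
  (hθ : ∀ n, θ (n+1) ≫ K₁.d (n+1) n + K₃.d (n+1+1) (n+1) ≫ θ n = 0)

noncomputable def midD (n : ℕ) : (K₁.X (n+1) ⊞ K₃.X (n+1)) ⟶ (K₁.X n ⊞ K₃.X n) :=
  biprod.desc (K₁.d (n+1) n ≫ biprod.inl) (θ n ≫ biprod.inl + K₃.d (n+1) n ≫ biprod.inr)

theorem midD_fst (n : ℕ) :
    midD K₁ K₃ θ n ≫ biprod.fst = biprod.fst ≫ K₁.d (n+1) n + biprod.snd ≫ θ n := by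
  apply biprod.hom_ext' <;> simp [midD]

theorem midD_snd (n : ℕ) :
    midD K₁ K₃ θ n ≫ biprod.snd = biprod.snd ≫ K₃.d (n+1) n := by
  apply biprod.hom_ext' <;> simp [midD]

theorem inl_midD (n : ℕ) :
    biprod.inl ≫ midD K₁ K₃ θ n = K₁.d (n+1) n ≫ biprod.inl := by
  simp [midD]

theorem inr_midD (n : ℕ) :
    biprod.inr ≫ midD K₁ K₃ θ n = θ n ≫ biprod.inl + K₃.d (n+1) n ≫ biprod.inr := by
  simp [midD]

include hθ in
theorem midD_sq (n : ℕ) : midD K₁ K₃ θ (n+1) ≫ midD K₁ K₃ θ n = 0 := by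
  apply biprod.hom_ext
  · rw [Category.assoc, midD_fst, Preadditive.comp_add, ← Category.assoc, midD_fst,
      ← Category.assoc, midD_snd, zero_comp]
    apply biprod.hom_ext'
    · simp
    · have := hθ n
      simp only [Preadditive.add_comp, Category.assoc, Preadditive.comp_add, biprod.inr_fst_assoc,
        zero_comp, biprod.inr_snd_assoc, zero_add, comp_zero]
      exact this
  · rw [Category.assoc, midD_snd, ← Category.assoc, midD_snd, Category.assoc,
      HomologicalComplex.d_comp_d, comp_zero, zero_comp]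

noncomputable def midCx : ChainComplex C ℕ :=
  ChainComplex.of (fun n => K₁.X n ⊞ K₃.X n) (midD K₁ K₃ θ) (midD_sq K₁ K₃ θ hθ)

theorem midCx_d (n : ℕ) : (midCx K₁ K₃ θ hθ).d (n+1) n = midD K₁ K₃ θ n :=
  ChainComplex.of_d (fun n => K₁.X n ⊞ K₃.X n) (midD K₁ K₃ θ) n

noncomputable def midF : K₁ ⟶ midCx K₁ K₃ θ hθ where
  f n := (biprod.inl : K₁.X n ⟶ K₁.X n ⊞ K₃.X n)
  comm' i j hij := by
    obtain rfl : j + 1 = i := hij
    show (biprod.inl : K₁.X (j+1) ⟶ K₁.X (j+1) ⊞ K₃.X (j+1)) ≫ (midCx K₁ K₃ θ hθ).d (j+1) j =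
      K₁.d (j+1) j ≫ (biprod.inl : K₁.X j ⟶ K₁.X j ⊞ K₃.X j)
    rw [midCx_d]
    exact inl_midD K₁ K₃ θ j

noncomputable def midG : midCx K₁ K₃ θ hθ ⟶ K₃ where
  f n := (biprod.snd : K₁.X n ⊞ K₃.X n ⟶ K₃.X n)
  comm' i j hij := by
    obtain rfl : j + 1 = i := hij
    show (biprod.snd : K₁.X (j+1) ⊞ K₃.X (j+1) ⟶ K₃.X (j+1)) ≫ K₃.d (j+1) j =
      (midCx K₁ K₃ θ hθ).d (j+1) j ≫ (biprod.snd : K₁.X j ⊞ K₃.X j ⟶ K₃.X j)
    rw [midCx_d]
    exact (midD_snd K₁ K₃ θ j).symm

theorem mid_zero : midF K₁ K₃ θ hθ ≫ midG K₁ K₃ θ hθ = 0 := by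
  ext n
  show (biprod.inl : K₁.X n ⟶ K₁.X n ⊞ K₃.X n) ≫ (biprod.snd : K₁.X n ⊞ K₃.X n ⟶ K₃.X n) = 0
  simp

theorem mid_shortExact :
    (ShortComplex.mk (midF K₁ K₃ θ hθ) (midG K₁ K₃ θ hθ) (mid_zero K₁ K₃ θ hθ)).ShortExact := by
  apply HomologicalComplex.shortExact_of_degreewise_shortExact
  intro n
  exact (ShortComplex.Splitting.ofHasBinaryBiproduct (K₁.X n) (K₃.X n)).shortExact

end Mid

section Horseshoe

variable {S : ShortComplex C} (hS : S.ShortExact) (P₁ : ProjectiveResolution S.X₁)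
  (P₃ : ProjectiveResolution S.X₃)

include hS P₁ P₃ in
/-- The horseshoe lemma for projective resolutions. -/
theorem nonempty_psesRes_of : Nonempty (PSESRes S) := by
  haveI := hS.mono_f
  haveI := hS.epi_g
  obtain ⟨π₁, hπ₁, hm₁⟩ : ∃ π : P₁.complex.X 0 ⟶ S.X₁, π = P₁.π.f 0 ∧ Epi π :=
    ⟨P₁.π.f 0, rfl, (inferInstance : Epi (P₁.π.f 0))⟩
  obtain ⟨π₃, hπ₃, hm₃⟩ : ∃ π : P₃.complex.X 0 ⟶ S.X₃, π = P₃.π.f 0 ∧ Epi π :=
    ⟨P₃.π.f 0, rfl, (inferInstance : Epi (P₃.π.f 0))⟩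
  haveI := hm₁
  haveI := hm₃
  have hd₁ : P₁.complex.d 1 0 ≫ π₁ = 0 := by rw [hπ₁]; exact P₁.complex_d_comp_π_f_zero
  have hd₃ : P₃.complex.d 1 0 ≫ π₃ = 0 := by rw [hπ₃]; exact P₃.complex_d_comp_π_f_zero
  have ex₁ : (ShortComplex.mk (P₁.complex.d 1 0) π₁ hd₁).Exact := by
    subst hπ₁; exact P₁.exact₀
  have ex₃ : (ShortComplex.mk (P₃.complex.d 1 0) π₃ hd₃).Exact := by
    subst hπ₃; exact P₃.exact₀
  let v : P₃.complex.X 0 ⟶ S.X₂ := Projective.factorThru π₃ S.g
  have hv : v ≫ S.g = π₃ := Projective.factorThru_comp _ _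
  let t : P₃.complex.X 1 ⟶ S.X₁ := hS.exact.lift (P₃.complex.d 1 0 ≫ v) (by
    rw [Category.assoc, hv, hd₃])
  have ht : t ≫ S.f = P₃.complex.d 1 0 ≫ v := hS.exact.lift_f _ _
  have htd : P₃.complex.d 2 1 ≫ (-t) = 0 := by
    rw [← cancel_mono S.f, Category.assoc, Preadditive.neg_comp, ht, Preadditive.comp_neg,
      ← Category.assoc, P₃.complex.d_comp_d, zero_comp, neg_zero, zero_comp]
  obtain ⟨θ, hθ0, hθ⟩ := exists_family P₁ P₃.complex (-t) htd
  have hθ0' : θ 0 ≫ π₁ = -t := by rw [hπ₁]; exact hθ0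
  let M : ChainComplex C ℕ := midCx P₁.complex P₃.complex θ hθ
  let j : P₁.complex.X 0 ⊞ P₃.complex.X 0 ⟶ S.X₂ := biprod.desc (π₁ ≫ S.f) v
  have hj : midD P₁.complex P₃.complex θ 0 ≫ j = 0 := by
    apply biprod.hom_ext'
    · rw [← Category.assoc, inl_midD, Category.assoc, biprod.inl_desc, ← Category.assoc, hd₁,
        zero_comp, comp_zero]
    · rw [← Category.assoc, inr_midD, Preadditive.add_comp, Category.assoc, Category.assoc,
        biprod.inl_desc, biprod.inr_desc, ← Category.assoc, hθ0', Preadditive.neg_comp, ht,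
        comp_zero]
      exact neg_add_cancel _
  have hepi : Epi j := by
    apply Preadditive.epi_of_cancel_zero
    intro Pz z hz
    have hz1 : (π₁ ≫ S.f) ≫ z = 0 := by
      have := biprod.inl ≫= hz
      simpa [j] using this
    have hz3 : v ≫ z = 0 := by
      have := biprod.inr ≫= hz
      simpa [j] using this
    have hz1' : S.f ≫ z = 0 := by rw [← cancel_epi π₁, ← Category.assoc, hz1, comp_zero]
    have hz' : S.g ≫ hS.exact.desc z hz1' = z := hS.exact.g_desc _ _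
    have h1 : π₃ ≫ hS.exact.desc z hz1' = 0 := by rw [← hv, Category.assoc, hz', hz3]
    have h2 : hS.exact.desc z hz1' = 0 := by rw [← cancel_epi π₃, h1, comp_zero]
    rw [← hz', h2, comp_zero]
  have hex : (ShortComplex.mk (midD P₁.complex P₃.complex θ 0) j hj).Exact := by
    rw [ShortComplex.exact_iff_exact_up_to_refinements]
    intro A y hy
    change A ⟶ P₁.complex.X 0 ⊞ P₃.complex.X 0 at y
    change y ≫ j = 0 at hy
    have hjdesc : j = biprod.fst ≫ π₁ ≫ S.f + biprod.snd ≫ v := by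
      apply biprod.hom_ext' <;> simp [j]
    have hy0 : y ≫ biprod.fst ≫ π₁ ≫ S.f + y ≫ biprod.snd ≫ v = 0 := by
      rw [← hy, hjdesc, Preadditive.comp_add]
    have hy3 : (y ≫ biprod.snd) ≫ π₃ = 0 := by
      have h1 : (y ≫ biprod.fst ≫ π₁ ≫ S.f + y ≫ biprod.snd ≫ v) ≫ S.g = 0 := by
        rw [hy0, zero_comp]
      rw [Preadditive.add_comp] at h1
      simp only [Category.assoc, S.zero, comp_zero, zero_add, hv] at h1
      simpa only [Category.assoc] using h1
    obtain ⟨A₁, πa, hπa, w₃, hw₃⟩ := ex₃.exact_up_to_refinements (y ≫ biprod.snd) hy3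
    have hw₃' : πa ≫ y ≫ biprod.snd = w₃ ≫ P₃.complex.d 1 0 := hw₃
    have hu : (πa ≫ y ≫ biprod.fst - w₃ ≫ θ 0) ≫ π₁ = 0 := by
      rw [← cancel_mono S.f, zero_comp, Category.assoc, Preadditive.sub_comp]
      have e1 : (w₃ ≫ θ 0) ≫ π₁ ≫ S.f = -(πa ≫ y ≫ biprod.snd ≫ v) := by
        rw [Category.assoc, ← Category.assoc (θ 0), hθ0', Preadditive.neg_comp, ht,
          Preadditive.comp_neg, ← Category.assoc w₃, ← hw₃']
        simp only [Category.assoc]
      rw [e1, sub_neg_eq_add]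
      simp only [Category.assoc]
      rw [← Preadditive.comp_add, hy0, comp_zero]
    obtain ⟨A₂, πb, hπb, w₁, hw₁⟩ := ex₁.exact_up_to_refinements _ hu
    have hw₁' : πb ≫ (πa ≫ y ≫ biprod.fst - w₃ ≫ θ 0) = w₁ ≫ P₁.complex.d 1 0 := hw₁
    refine ⟨A₂, πb ≫ πa, epi_comp _ _, w₁ ≫ biprod.inl + πb ≫ w₃ ≫ biprod.inr, ?_⟩
    show (πb ≫ πa) ≫ y = (w₁ ≫ biprod.inl + πb ≫ w₃ ≫ biprod.inr) ≫
      midD P₁.complex P₃.complex θ 0
    apply biprod.hom_ext
    · have e1 : ((w₁ ≫ biprod.inl + πb ≫ w₃ ≫ biprod.inr) ≫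
          midD P₁.complex P₃.complex θ 0) ≫ biprod.fst =
          w₁ ≫ P₁.complex.d 1 0 + πb ≫ w₃ ≫ θ 0 := by
        rw [Category.assoc, midD_fst]
        simp
      rw [e1, ← hw₁', Preadditive.comp_sub]
      simp only [Category.assoc]
      abel
    · have e2 : ((w₁ ≫ biprod.inl + πb ≫ w₃ ≫ biprod.inr) ≫
          midD P₁.complex P₃.complex θ 0) ≫ biprod.snd = πb ≫ w₃ ≫ P₃.complex.d 1 0 := by
        rw [Category.assoc, midD_snd]
        simp
      rw [e2, ← hw₃']
      simp only [Category.assoc]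
  have hMd : M.d 1 0 = midD P₁.complex P₃.complex θ 0 := midCx_d _ _ _ _ 0
  have hjM : M.d 1 0 ≫ j = 0 := by rw [hMd]; exact hj
  let π₂ : M ⟶ (ChainComplex.single₀ C).obj S.X₂ :=
    (ChainComplex.toSingle₀Equiv M S.X₂).symm ⟨j, hjM⟩
  have hπ₂0 : π₂.f 0 = j :=
    ChainComplex.toSingle₀Equiv_symm_apply_f_zero (C := M) (X := S.X₂) j hjM
  have hSE := mid_shortExact P₁.complex P₃.complex θ hθ
  have hq : QuasiIso π₂ := ⟨fun n => by
    cases n with
    | zero =>
      rw [ChainComplex.quasiIsoAt₀_iff, ShortComplex.quasiIso_iff_of_zeros']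
      · refine (ShortComplex.exact_and_epi_g_iff_of_iso ?_).2 ⟨hex, hepi⟩
        exact ShortComplex.isoMk (Iso.refl _) (Iso.refl _) (Iso.refl _) (by simp [hMd])
          (by simp [hπ₂0])
      all_goals rfl
    | succ n =>
      rw [quasiIsoAt_iff_exactAt']
      · exact hSE.exactAt_X₂ (n+1) (P₁.complex_exactAt_succ n) (P₃.complex_exactAt_succ n)
      · apply ChainComplex.exactAt_succ_single_obj⟩
  let P₂ : ProjectiveResolution S.X₂ :=
    { complex := M
      projective := fun n => (inferInstance : Projective (P₁.complex.X n ⊞ P₃.complex.X n))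
      π := π₂
      quasiIso := hq }
  refine ⟨{ P₁ := P₁, P₂ := P₂, P₃ := P₃, f := midF _ _ θ hθ, g := midG _ _ θ hθ,
            zero := mid_zero _ _ θ hθ, f_π := ?_, g_π := ?_, shortExact := hSE }⟩
  · apply HomologicalComplex.to_single_hom_ext
    show biprod.inl ≫ π₂.f 0 = P₁.π.f 0 ≫ ((ChainComplex.single₀ C).map S.f).f 0
    rw [ChainComplex.single₀_map_f_zero, hπ₂0, ← hπ₁]
    simp [j]
  · apply HomologicalComplex.to_single_hom_ext
    show biprod.snd ≫ P₃.π.f 0 = π₂.f 0 ≫ ((ChainComplex.single₀ C).map S.g).f 0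
    rw [ChainComplex.single₀_map_f_zero, hπ₂0, ← hπ₃]
    apply biprod.hom_ext'
    · simp [j]
    · simp [j, hv]

end Horseshoe

section LES

variable [HasProjectiveResolutions C] (F : C ⥤ D) [F.Additive] {S : ShortComplex C}
  (T : PSESRes S)

theorem f_π_zero : T.f.f 0 ≫ T.P₂.π.f 0 = T.P₁.π.f 0 ≫ S.f := by
  have := HomologicalComplex.congr_hom T.f_π 0
  simpa using this

theorem g_π_zero : T.g.f 0 ≫ T.P₃.π.f 0 = T.P₂.π.f 0 ≫ S.g := by
  have := HomologicalComplex.congr_hom T.g_π 0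
  simpa using this

theorem map_f_iso (n : ℕ) :
    (F.leftDerived n).map S.f ≫ (T.P₂.isoLeftDerivedObj F n).hom =
      (T.P₁.isoLeftDerivedObj F n).hom ≫ (HomologicalComplex.homologyFunctor D _ n).map
        ((F.mapHomologicalComplex (ComplexShape.down ℕ)).map T.f) :=
  ProjectiveResolution.isoLeftDerivedObj_hom_naturality S.f T.P₁ T.P₂ T.f (f_π_zero T) F n

theorem map_g_iso (n : ℕ) :
    (F.leftDerived n).map S.g ≫ (T.P₃.isoLeftDerivedObj F n).hom =
      (T.P₂.isoLeftDerivedObj F n).hom ≫ (HomologicalComplex.homologyFunctor D _ n).map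
        ((F.mapHomologicalComplex (ComplexShape.down ℕ)).map T.g) :=
  ProjectiveResolution.isoLeftDerivedObj_hom_naturality S.g T.P₂ T.P₃ T.g (g_π_zero T) F n

theorem exists_delta (n : ℕ) :
    ∃ δ : (HomologicalComplex.homologyFunctor D _ (n+1)).obj
        ((F.mapHomologicalComplex (ComplexShape.down ℕ)).obj T.P₃.complex) ⟶
      (HomologicalComplex.homologyFunctor D _ n).obj
        ((F.mapHomologicalComplex (ComplexShape.down ℕ)).obj T.P₁.complex),
      (HomologicalComplex.homologyFunctor D _ (n+1)).map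
        ((F.mapHomologicalComplex (ComplexShape.down ℕ)).map T.g) ≫ δ = 0 ∧
      δ ≫ (HomologicalComplex.homologyFunctor D _ n).map
        ((F.mapHomologicalComplex (ComplexShape.down ℕ)).map T.f) = 0 ∧
      (∀ (z₁ : (HomologicalComplex.homologyFunctor D _ (n+1)).map
        ((F.mapHomologicalComplex (ComplexShape.down ℕ)).map T.g) ≫ δ = 0),
        (ShortComplex.mk _ _ z₁).Exact) ∧
      (∀ (z₂ : δ ≫ (HomologicalComplex.homologyFunctor D _ n).map
        ((F.mapHomologicalComplex (ComplexShape.down ℕ)).map T.f) = 0),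
        (ShortComplex.mk _ _ z₂).Exact) :=
  ⟨(T.map_shortExact F).δ (n+1) n rfl,
    (T.map_shortExact F).comp_δ (n+1) n rfl, (T.map_shortExact F).δ_comp (n+1) n rfl,
    fun _ => (T.map_shortExact F).homology_exact₃ (n+1) n rfl,
    fun _ => (T.map_shortExact F).homology_exact₁ (n+1) n rfl⟩

include T in
theorem exact₂ (n : ℕ) (z : (F.leftDerived n).map S.f ≫ (F.leftDerived n).map S.g = 0) :
    (ShortComplex.mk ((F.leftDerived n).map S.f) ((F.leftDerived n).map S.g) z).Exact := by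
  have hT := (T.map_shortExact F).homology_exact₂ n
  refine ShortComplex.exact_of_iso ?_ hT
  refine (ShortComplex.isoMk (T.P₁.isoLeftDerivedObj F n) (T.P₂.isoLeftDerivedObj F n)
    (T.P₃.isoLeftDerivedObj F n) ?_ ?_).symm
  · exact (map_f_iso F T n).symm
  · exact (map_g_iso F T n).symm

include T in
theorem map_f_map_g (n : ℕ) : (F.leftDerived n).map S.f ≫ (F.leftDerived n).map S.g = 0 := by
  rw [← cancel_mono (T.P₃.isoLeftDerivedObj F n).hom, Category.assoc, map_g_iso F T n,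
    reassoc_of% (map_f_iso F T n), ← Functor.map_comp, ← Functor.map_comp, T.zero, zero_comp]
  simp

include T in
theorem epi_zero : Epi ((F.leftDerived 0).map S.g) := by
  have hm0 : Epi (((F.mapHomologicalComplex (ComplexShape.down ℕ)).map T.g).f 0) :=
    ((T.splitting 0).map F).shortExact.epi_g
  have hm : Epi ((HomologicalComplex.homologyFunctor D _ 0).map
      ((F.mapHomologicalComplex (ComplexShape.down ℕ)).map T.g)) :=
    HomologicalComplex.epi_homologyMap_of_epi_of_not_rel _ 0 (by intro i; simp)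
  have e : (F.leftDerived 0).map S.g = ((T.P₂.isoLeftDerivedObj F 0).hom ≫
      (HomologicalComplex.homologyFunctor D _ 0).map
        ((F.mapHomologicalComplex (ComplexShape.down ℕ)).map T.g)) ≫
      (T.P₃.isoLeftDerivedObj F 0).inv := by
    rw [← map_g_iso F T 0, Category.assoc, Iso.hom_inv_id, Category.comp_id]
  rw [e]
  infer_instance

include T in
theorem exists_delta_leftDerived (n : ℕ) :
    ∃ (δ : (F.leftDerived (n+1)).obj S.X₃ ⟶ (F.leftDerived n).obj S.X₁)
      (w₁ : (F.leftDerived (n+1)).map S.g ≫ δ = 0)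
      (w₂ : δ ≫ (F.leftDerived n).map S.f = 0),
      (ShortComplex.mk ((F.leftDerived (n+1)).map S.g) δ w₁).Exact ∧
        (ShortComplex.mk δ ((F.leftDerived n).map S.f) w₂).Exact := by
  obtain ⟨δ, h1, h2, e3, e1⟩ := exists_delta F T n
  have hd : ((T.P₃.isoLeftDerivedObj F (n+1)).hom ≫ δ ≫ (T.P₁.isoLeftDerivedObj F n).inv) ≫
      (T.P₁.isoLeftDerivedObj F n).hom = (T.P₃.isoLeftDerivedObj F (n+1)).hom ≫ δ := by
    simp only [Category.assoc, Iso.inv_hom_id, Category.comp_id]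
  have w₁ : (F.leftDerived (n+1)).map S.g ≫
      ((T.P₃.isoLeftDerivedObj F (n+1)).hom ≫ δ ≫ (T.P₁.isoLeftDerivedObj F n).inv) = 0 := by
    rw [reassoc_of% (map_g_iso F T (n+1)), reassoc_of% h1, zero_comp, comp_zero]
  have w₂ : ((T.P₃.isoLeftDerivedObj F (n+1)).hom ≫ δ ≫ (T.P₁.isoLeftDerivedObj F n).inv) ≫
      (F.leftDerived n).map S.f = 0 := by
    rw [← cancel_mono (T.P₂.isoLeftDerivedObj F n).hom, Category.assoc, map_f_iso F T n]
    simp only [Category.assoc, Iso.inv_hom_id_assoc, h2, comp_zero, zero_comp]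
  refine ⟨(T.P₃.isoLeftDerivedObj F (n+1)).hom ≫ δ ≫ (T.P₁.isoLeftDerivedObj F n).inv,
    w₁, w₂, ?_, ?_⟩
  · refine ShortComplex.exact_of_iso ?_ (e3 h1)
    refine (ShortComplex.isoMk (T.P₂.isoLeftDerivedObj F (n+1)) (T.P₃.isoLeftDerivedObj F (n+1))
      (T.P₁.isoLeftDerivedObj F n) ?_ ?_).symm
    · exact (map_g_iso F T (n+1)).symm
    · exact hd.symm
  · refine ShortComplex.exact_of_iso ?_ (e1 h2)
    refine (ShortComplex.isoMk (T.P₃.isoLeftDerivedObj F (n+1)) (T.P₁.isoLeftDerivedObj F n)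
      (T.P₂.isoLeftDerivedObj F n) ?_ ?_).symm
    · exact hd.symm
    · exact (map_f_iso F T n).symm

end LES

section Main

variable [EnoughProjectives C] (F : C ⥤ D) [F.Additive]

theorem nonempty_psesRes {S : ShortComplex C} (hS : S.ShortExact) : Nonempty (PSESRes S) :=
  nonempty_psesRes_of hS (projectiveResolution S.X₁) (projectiveResolution S.X₃)

/-- The long exact sequence of left derived functors. -/
theorem leftDerived_les {S : ShortComplex C} (hS : S.ShortExact) (n : ℕ) :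
    (F.leftDerived n).map S.f ≫ (F.leftDerived n).map S.g = 0 ∧
    (∀ z, (ShortComplex.mk ((F.leftDerived n).map S.f) ((F.leftDerived n).map S.g) z).Exact) ∧
    Epi ((F.leftDerived 0).map S.g) ∧
    ∃ (δ : (F.leftDerived (n+1)).obj S.X₃ ⟶ (F.leftDerived n).obj S.X₁)
      (w₁ : (F.leftDerived (n+1)).map S.g ≫ δ = 0)
      (w₂ : δ ≫ (F.leftDerived n).map S.f = 0),
      (ShortComplex.mk ((F.leftDerived (n+1)).map S.g) δ w₁).Exact ∧
        (ShortComplex.mk δ ((F.leftDerived n).map S.f) w₂).Exact := by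
  obtain ⟨T⟩ := nonempty_psesRes hS
  exact ⟨map_f_map_g F T n, fun z => exact₂ F T n z, epi_zero F T,
    exists_delta_leftDerived F T n⟩

end Main

end Groth.Agent.H82.LDer
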