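import Mathlib
import Groth.Agent.H82.LDerHorseshoe

set_option linter.unusedSectionVars false
set_option linter.unusedVariables false
set_option linter.style.haveILetI false
set_option backward.isDefEq.respectTransparency false

universe v u v' u' v'' u''

open CategoryTheory CategoryTheory.Limits

namespace Groth.Agent.H82.LDer

variable {C : Type u} [Category.{v} C] [Abelian C] {D : Type u'} [Category.{v'} D] [Abelian D]

/-- A sequence of functors has long exact sequences (homological indexing). -/
def HasLES (T : ℕ → C ⥤ D) : Prop :=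
  ∀ (S : ShortComplex C) (_ : S.ShortExact) (n : ℕ),
    (T n).map S.f ≫ (T n).map S.g = 0 ∧
    (∀ z, (ShortComplex.mk ((T n).map S.f) ((T n).map S.g) z).Exact) ∧
    ∃ (δ : (T (n+1)).obj S.X₃ ⟶ (T n).obj S.X₁) (w₁ : (T (n+1)).map S.g ≫ δ = 0)
      (w₂ : δ ≫ (T n).map S.f = 0),
      (ShortComplex.mk ((T (n+1)).map S.g) δ w₁).Exact ∧
        (ShortComplex.mk δ ((T n).map S.f) w₂).Exact

/-- The functors of positive degree vanish on projective objects. -/
def VanishOnProj (T : ℕ → C ⥤ D) : Prop :=
  ∀ (n : ℕ) (P : C), Projective P → IsZero ((T (n+1)).obj P)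

theorem hasLES_leftDerived [EnoughProjectives C] (F : C ⥤ D) [F.Additive] :
    HasLES (fun n => F.leftDerived n) := by
  intro S hS n
  obtain ⟨h0, h1, -, h3⟩ := leftDerived_les F hS n
  exact ⟨h0, h1, h3⟩

theorem vanishOnProj_leftDerived [HasProjectiveResolutions C] (F : C ⥤ D) [F.Additive] :
    VanishOnProj (fun n => F.leftDerived n) := by
  intro n P hP
  exact Functor.isZero_leftDerived_obj_projective_succ F n P

theorem HasLES.of_iso {T T' : ℕ → C ⥤ D} (h : HasLES T) (e : ∀ n, T n ≅ T' n) : HasLES T' := by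
  intro S hS n
  obtain ⟨h0, h1, δ, w₁, w₂, e1, e2⟩ := h S hS n
  have nat : ∀ (m : ℕ) {X Y : C} (f : X ⟶ Y),
      (T' m).map f = (e m).inv.app X ≫ (T m).map f ≫ (e m).hom.app Y := by
    intro m X Y f
    rw [(e m).hom.naturality f, Iso.inv_hom_id_app_assoc]
  have h0' : (T' n).map S.f ≫ (T' n).map S.g = 0 := by
    rw [nat n S.f, nat n S.g]
    simp only [Category.assoc, Iso.hom_inv_id_app_assoc]
    rw [reassoc_of% h0]
    simp
  refine ⟨h0', fun z => ?_, (e (n+1)).inv.app S.X₃ ≫ δ ≫ (e n).hom.app S.X₁, ?_, ?_, ?_, ?_⟩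
  · refine ShortComplex.exact_of_iso ?_ (h1 h0)
    refine ShortComplex.isoMk ((e n).app S.X₁) ((e n).app S.X₂) ((e n).app S.X₃) ?_ ?_
    · exact ((e n).hom.naturality S.f).symm
    · exact ((e n).hom.naturality S.g).symm
  · rw [nat (n+1) S.g]
    simp only [Category.assoc, Iso.hom_inv_id_app_assoc]
    rw [reassoc_of% w₁]
    simp
  · rw [nat n S.f]
    simp only [Category.assoc, Iso.hom_inv_id_app_assoc]
    rw [reassoc_of% w₂]
    simp
  · refine ShortComplex.exact_of_iso ?_ e1
    refine ShortComplex.isoMk ((e (n+1)).app S.X₂) ((e (n+1)).app S.X₃) ((e n).app S.X₁) ?_ ?_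
    · exact ((e (n+1)).hom.naturality S.g).symm
    · simp
  · refine ShortComplex.exact_of_iso ?_ e2
    refine ShortComplex.isoMk ((e (n+1)).app S.X₃) ((e n).app S.X₁) ((e n).app S.X₂) ?_ ?_
    · simp
    · exact ((e n).hom.naturality S.f).symm

theorem VanishOnProj.of_iso {T T' : ℕ → C ⥤ D} (h : VanishOnProj T) (e : ∀ n, T n ≅ T' n) :
    VanishOnProj T' := fun n P hP => (h n P hP).of_iso ((e (n+1)).app P).symm

section DimShift

variable [EnoughProjectives C] {T T' : ℕ → C ⥤ D}

/-- Dimension shifting: two sequences of functors with long exact sequences, vanishing on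
projectives in positive degrees, which agree in degree zero, agree objectwise in all degrees. -/
theorem nonempty_iso_of_hasLES (h : HasLES T) (h' : HasLES T') (v : VanishOnProj T)
    (v' : VanishOnProj T') (e : T 0 ≅ T' 0) (n : ℕ) :
    ∀ N : C, Nonempty ((T n).obj N ≅ (T' n).obj N) := by
  induction n with
  | zero => exact fun N => ⟨e.app N⟩
  | succ n ih =>
    intro N
    let p : Projective.over N ⟶ N := Projective.π N
    let S : ShortComplex C := ShortComplex.mk (kernel.ι p) p (kernel.condition p)
    have hS : S.ShortExact := ShortComplex.ShortExact.mk' (ShortComplex.exact_kernel p)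
      (inferInstanceAs (Mono (kernel.ι p))) (inferInstanceAs (Epi (Projective.π N)))
    have hP : Projective S.X₂ := inferInstanceAs (Projective (Projective.over N))
    obtain ⟨-, -, δ, w₁, w₂, e1, e2⟩ := h S hS n
    obtain ⟨-, -, δ', w₁', w₂', e1', e2'⟩ := h' S hS n
    have hm : Mono δ := e1.mono_g ((v n _ hP).eq_of_src _ _)
    have hm' : Mono δ' := e1'.mono_g ((v' n _ hP).eq_of_src _ _)
    cases n with
    | zero =>
      let k : (T 1).obj N ≅ kernel ((T 0).map S.f) :=
        IsLimit.conePointUniqueUpToIso e2.fIsKernel (limit.isLimit _)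
      let k' : (T' 1).obj N ≅ kernel ((T' 0).map S.f) :=
        IsLimit.conePointUniqueUpToIso e2'.fIsKernel (limit.isLimit _)
      exact ⟨k ≪≫ kernel.mapIso _ _ (e.app _) (e.app _) (e.hom.naturality S.f) ≪≫ k'.symm⟩
    | succ m =>
      have he : Epi δ := e2.epi_f ((v m _ hP).eq_of_tgt _ _)
      have he' : Epi δ' := e2'.epi_f ((v' m _ hP).eq_of_tgt _ _)
      have : IsIso δ := isIso_of_mono_of_epi δ
      have : IsIso δ' := isIso_of_mono_of_epi δ'
      obtain ⟨i⟩ := ih S.X₁
      exact ⟨asIso δ ≪≫ i ≪≫ (asIso δ').symm⟩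

end DimShift

section CxFunctor

variable {E : Type u''} [Category.{v''} E] [Abelian E]
variable (G : E ⥤ C ⥤ D) [∀ e, (G.obj e).Additive] [G.PreservesZeroMorphisms]
  (K : ChainComplex C ℕ)

/-- Apply a family of additive functors to a fixed complex. -/
@[simps]
noncomputable def cxFunctor : E ⥤ ChainComplex D ℕ where
  obj e := ((G.obj e).mapHomologicalComplex _).obj K
  map φ := (NatTrans.mapHomologicalComplex (G.map φ) _).app K
  map_id e := by ext i; simp
  map_comp φ ψ := by ext i; simp

instance : (cxFunctor G K).PreservesZeroMorphisms where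
  map_zero X Y := by
    ext i
    simp [G.map_zero]

variable (hK : ∀ (i : ℕ) (S : ShortComplex E), S.ShortExact →
  ∀ z, (ShortComplex.mk ((G.map S.f).app (K.X i)) ((G.map S.g).app (K.X i)) z).ShortExact)

include hK in
theorem cxFunctor_shortExact (S : ShortComplex E) (hS : S.ShortExact) :
    (S.map (cxFunctor G K)).ShortExact := by
  apply HomologicalComplex.shortExact_of_degreewise_shortExact
  intro i
  exact hK i S hS _

include hK in
theorem hasLES_cxFunctor :
    HasLES (fun n => cxFunctor G K ⋙ HomologicalComplex.homologyFunctor D _ n) := by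
  intro S hS n
  have hS' := cxFunctor_shortExact G K hK S hS
  refine ⟨?_, fun z => hS'.homology_exact₂ n, hS'.δ (n+1) n rfl, hS'.comp_δ (n+1) n rfl,
    hS'.δ_comp (n+1) n rfl, hS'.homology_exact₃ (n+1) n rfl, hS'.homology_exact₁ (n+1) n rfl⟩
  show HomologicalComplex.homologyMap ((cxFunctor G K).map S.f) n ≫
    HomologicalComplex.homologyMap ((cxFunctor G K).map S.g) n = 0
  rw [← HomologicalComplex.homologyMap_comp, ← Functor.map_comp, S.zero, Functor.map_zero,
    HomologicalComplex.homologyMap_zero]

end CxFunctor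

end Groth.Agent.H82.LDer
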