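import Mathlib
import Groth.Agent.H82.HDelta

set_option linter.unusedSectionVars false
set_option linter.unusedVariables false
set_option linter.style.haveILetI false
set_option backward.isDefEq.respectTransparency false

universe u

open CategoryTheory CategoryTheory.Limits MonoidalCategory

namespace Groth.Agent.H82.TorLib

open Groth.Agent.H82.LDer

section General

variable {C : Type*} [Category C] [Abelian C] {D : Type*} [Category D] [Abelian D]

theorem fromLeftDerivedZero'_natTrans {X : C} (P : ProjectiveResolution X) {F G : C ⥤ D}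
    [F.Additive] [G.Additive] (α : F ⟶ G) :
    HomologicalComplex.opcyclesMap ((NatTrans.mapHomologicalComplex α _).app P.complex) 0 ≫
      P.fromLeftDerivedZero' G = P.fromLeftDerivedZero' F ≫ α.app X := by
  simp only [← cancel_epi (HomologicalComplex.pOpcycles _ _),
    HomologicalComplex.p_opcyclesMap_assoc, NatTrans.mapHomologicalComplex_app_f,
    ProjectiveResolution.pOpcycles_comp_fromLeftDerivedZero',
    ProjectiveResolution.pOpcycles_comp_fromLeftDerivedZero'_assoc]
  exact (α.naturality (P.π.f 0)).symm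

theorem isoHomologyι₀_square {K K' : ChainComplex D ℕ} (f : K ⟶ K') {Z Z' : D}
    (a : K.opcycles 0 ⟶ Z) (a' : K'.opcycles 0 ⟶ Z') (z : Z ⟶ Z')
    (h : HomologicalComplex.opcyclesMap f 0 ≫ a' = a ≫ z) :
    HomologicalComplex.homologyMap f 0 ≫ K'.isoHomologyι₀.hom ≫ a' =
      (K.isoHomologyι₀.hom ≫ a) ≫ z := by
  have h1 := ChainComplex.isoHomologyι₀_inv_naturality f
  rw [← cancel_epi K.isoHomologyι₀.inv, reassoc_of% h1]
  simp only [Category.assoc, Iso.inv_hom_id_assoc]
  exact h

end General

variable (A : Type u) [CommRing A]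

instance : (tensoringLeft (ModuleCat.{u} A)).PreservesZeroMorphisms where
  map_zero X Y := by
    ext Z : 2
    simp

instance : (tensoringRight (ModuleCat.{u} A)).PreservesZeroMorphisms where
  map_zero X Y := by
    ext Z : 2
    simp

variable {A}

theorem shortExact_whiskerRight (X : ModuleCat.{u} A) [Module.Flat A X]
    (S : ShortComplex (ModuleCat.{u} A)) (hS : S.ShortExact) (z : S.f ▷ X ≫ S.g ▷ X = 0) :
    (ShortComplex.mk (S.f ▷ X) (S.g ▷ X) z).ShortExact :=
  hS.map_of_exact (tensorRight X)

theorem shortExact_whiskerLeft (X : ModuleCat.{u} A) [Module.Flat A X]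
    (S : ShortComplex (ModuleCat.{u} A)) (hS : S.ShortExact) (z : X ◁ S.f ≫ X ◁ S.g = 0) :
    (ShortComplex.mk (X ◁ S.f) (X ◁ S.g) z).ShortExact :=
  hS.map_of_exact (tensorLeft X)

/-- LES of Tor in the second variable. -/
theorem hasLES_tor (M : ModuleCat.{u} A) : HasLES (fun n => (Tor (ModuleCat.{u} A) n).obj M) :=
  hasLES_leftDerived (tensorLeft M)

theorem vanish_tor (M : ModuleCat.{u} A) :
    VanishOnProj (fun n => (Tor (ModuleCat.{u} A) n).obj M) :=
  vanishOnProj_leftDerived (tensorLeft M)

/-- LES of Tor in the first variable. -/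
theorem hasLES_tor_flip (N : ModuleCat.{u} A) :
    HasLES (fun n => (Tor (ModuleCat.{u} A) n).flip.obj N) := by
  let Q := projectiveResolution N
  have h := hasLES_cxFunctor (tensoringLeft (ModuleCat.{u} A)) Q.complex
    (fun i S hS z => shortExact_whiskerRight (Q.complex.X i) S hS z)
  refine h.of_iso (fun n => (NatIso.ofComponents
    (fun M => Q.isoLeftDerivedObj (tensorLeft M) n) ?_).symm)
  intro M M' f
  have e : ((Tor (ModuleCat.{u} A) n).flip.obj N).map f =
      (NatTrans.leftDerived ((tensoringLeft (ModuleCat.{u} A)).map f) n).app N := rfl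
  rw [e, Q.leftDerived_app_eq]
  simp only [Category.assoc, Iso.inv_hom_id, Category.comp_id]
  rfl

section U

variable {M : ModuleCat.{u} A} (P : ProjectiveResolution M)

/-- `N ↦ H_n(P ⊗ N)`. -/
noncomputable def U (n : ℕ) : ModuleCat.{u} A ⥤ ModuleCat.{u} A :=
  cxFunctor (tensoringRight (ModuleCat.{u} A)) P.complex ⋙
    HomologicalComplex.homologyFunctor _ _ n

theorem hasLES_U : HasLES (U P) :=
  hasLES_cxFunctor (tensoringRight (ModuleCat.{u} A)) P.complex
    (fun i S hS z => shortExact_whiskerLeft (P.complex.X i) S hS z)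

theorem vanish_U : VanishOnProj (U P) := by
  intro n F hF
  haveI := hF
  show IsZero ((((tensorRight F).mapHomologicalComplex (ComplexShape.down ℕ)).obj
    P.complex).homology (n+1))
  rw [← HomologicalComplex.exactAt_iff_isZero_homology,
    HomologicalComplex.exactAt_iff' _ (n+2) (n+1) n (by simp) (by simp)]
  exact (P.exact_succ n).map (tensorRight F)

/-- `H_0(P ⊗ N) ≅ M ⊗ N`, naturally in `N`. -/
noncomputable def U0iso : U P 0 ≅ tensorLeft M :=
  NatIso.ofComponents
    (fun N => ChainComplex.isoHomologyι₀ _ ≪≫ asIso (P.fromLeftDerivedZero' (tensorRight N)))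
    (by
      intro N N' φ
      have h1 := ChainComplex.isoHomologyι₀_inv_naturality
        ((cxFunctor (tensoringRight (ModuleCat.{u} A)) P.complex).map φ)
      have h2 := fromLeftDerivedZero'_natTrans P ((tensoringRight (ModuleCat.{u} A)).map φ)
      show HomologicalComplex.homologyMap
          ((cxFunctor (tensoringRight (ModuleCat.{u} A)) P.complex).map φ) 0 ≫
          (ChainComplex.isoHomologyι₀ _).hom ≫ P.fromLeftDerivedZero' (tensorRight N') =
        ((ChainComplex.isoHomologyι₀ _).hom ≫ P.fromLeftDerivedZero' (tensorRight N)) ≫ M ◁ φ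
      exact isoHomologyι₀_square _ _ _ _ h2)

/-- Balancing of Tor: `Tor_n(M, N) ≅ H_n(P ⊗ N)` for any projective resolution `P` of `M`. -/
theorem nonempty_tor_iso_U (n : ℕ) (N : ModuleCat.{u} A) :
    Nonempty (((Tor (ModuleCat.{u} A) n).obj M).obj N ≅ (U P n).obj N) :=
  nonempty_iso_of_hasLES (hasLES_tor M) (hasLES_U P) (vanish_tor M) (vanish_U P)
    ((tensorLeft M).leftDerivedZeroIsoSelf ≪≫ (U0iso P).symm) n N

end U

end Groth.Agent.H82.TorLib
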