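import Mathlib
import Groth.Agent.H82.TorLib
import Groth.Agent.S6314

set_option linter.unusedSectionVars false
set_option linter.unusedVariables false
set_option linter.style.haveILetI false
set_option backward.isDefEq.respectTransparency false

universe u

open CategoryTheory CategoryTheory.Limits MonoidalCategory

namespace Groth.Agent.H82.TorFlat

open Groth.Agent.H82.LDer Groth.Agent.H82.TorLib

/-- A sequence of functors with long exact sequences sends zero objects to zero objects. -/
theorem isZero_of_hasLES {C : Type*} [Category C] [Abelian C] {D : Type*} [Category D] [Abelian D]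
    {T : ℕ → C ⥤ D} (h : HasLES T) (n : ℕ) {Z : C} (hZ : IsZero Z) : IsZero ((T n).obj Z) := by
  let S : ShortComplex C := ShortComplex.mk (𝟙 Z) (𝟙 Z) (hZ.eq_of_src _ _)
  have hS : S.ShortExact :=
    { exact := ShortComplex.exact_of_isZero_X₂ _ hZ
      mono_f := inferInstanceAs (Mono (𝟙 Z))
      epi_g := inferInstanceAs (Epi (𝟙 Z)) }
  obtain ⟨h0, -⟩ := h S hS n
  rw [IsZero.iff_id_eq_zero]
  have h1 : (T n).map (𝟙 Z) ≫ (T n).map (𝟙 Z) = 0 := h0
  rw [(T n).map_id Z, Category.comp_id] at h1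
  exact h1

variable {A : Type u} [CommRing A]

/-- The short exact sequence in `ModuleCat` attached to an exact pair of linear maps. -/
theorem shortExact_of {N₁ N₂ N₃ : Type u} [AddCommGroup N₁] [Module A N₁] [AddCommGroup N₂]
    [Module A N₂] [AddCommGroup N₃] [Module A N₃] (f : N₁ →ₗ[A] N₂) (g : N₂ →ₗ[A] N₃)
    (hf : Function.Injective f) (hg : Function.Surjective g) (hfg : Function.Exact f g) :
    (ModuleCat.shortComplexOfCompEqZero f g hfg.linearMap_comp_eq_zero).ShortExact :=
  ModuleCat.shortComplex_shortExact _ hfg hf hg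

/-- If `Tor₁(M, S.X₃) = 0` for a short exact sequence `S`, then `M ⊗ S.f` is a monomorphism. -/
theorem mono_whiskerLeft_of_isZero_tor_one (M : ModuleCat.{u} A)
    (S : ShortComplex (ModuleCat.{u} A)) (hS : S.ShortExact)
    (h : IsZero (((Tor (ModuleCat.{u} A) 1).obj M).obj S.X₃)) : Mono (M ◁ S.f) := by
  obtain ⟨-, -, δ, w₁, w₂, e1, e2⟩ := hasLES_tor M S hS 0
  have hm : Mono (((Tor (ModuleCat.{u} A) 0).obj M).map S.f) := e2.mono_g (h.eq_of_src _ _)
  let e : (Tor (ModuleCat.{u} A) 0).obj M ≅ tensorLeft M := (tensorLeft M).leftDerivedZeroIsoSelf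
  have hn : ((Tor (ModuleCat.{u} A) 0).obj M).map S.f ≫ e.hom.app S.X₂ =
      e.hom.app S.X₁ ≫ M ◁ S.f := e.hom.naturality S.f
  have : M ◁ S.f = e.inv.app S.X₁ ≫ ((Tor (ModuleCat.{u} A) 0).obj M).map S.f ≫
      e.hom.app S.X₂ := by
    rw [hn, Iso.inv_hom_id_app_assoc]
  rw [this]
  haveI h1 : Mono (e.hom.app S.X₂) := IsIso.mono_of_iso _
  haveI h2 : Mono (e.inv.app S.X₁) := IsIso.mono_of_iso _
  haveI h3 : Mono (((Tor (ModuleCat.{u} A) 0).obj M).map S.f ≫ e.hom.app S.X₂) :=
    mono_comp _ _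
  exact mono_comp _ _

/-- Half exactness of `Tor_{n+1}(M, -)`. -/
theorem isZero_tor_of_shortExact (M : ModuleCat.{u} A) (n : ℕ)
    (S : ShortComplex (ModuleCat.{u} A)) (hS : S.ShortExact)
    (h₁ : IsZero (((Tor (ModuleCat.{u} A) n).obj M).obj S.X₁))
    (h₃ : IsZero (((Tor (ModuleCat.{u} A) n).obj M).obj S.X₃)) :
    IsZero (((Tor (ModuleCat.{u} A) n).obj M).obj S.X₂) := by
  obtain ⟨h0, h1, -⟩ := hasLES_tor M S hS n
  exact (h1 h0).isZero_of_both_isZero h₁ h₃

/-- Flatness from vanishing of `Tor₁(M, A/I)` for finitely generated ideals. -/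
theorem flat_of_tor_one_quotient (M : Type u) [AddCommGroup M] [Module A M]
    (h : ∀ I : Ideal A, I.FG → IsZero (((Tor (ModuleCat.{u} A) 1).obj (ModuleCat.of A M)).obj
      (ModuleCat.of A (A ⧸ I)))) : Module.Flat A M := by
  rw [Module.Flat.iff_lTensor_injective]
  intro I hI
  have hS := shortExact_of (A := A) I.subtype I.mkQ I.injective_subtype I.mkQ_surjective
    (LinearMap.exact_subtype_mkQ I)
  have := mono_whiskerLeft_of_isZero_tor_one (ModuleCat.of A M) _ hS (h I hI)
  rw [ModuleCat.mono_iff_injective] at this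
  exact this

/-- Over a Noetherian ring, vanishing of `Tor₁(M, A/p)` for primes gives vanishing of
`Tor₁(M, N)` for all finite `N`. -/
theorem isZero_tor_of_prime [IsNoetherianRing A] (M : ModuleCat.{u} A) (n : ℕ)
    (h : ∀ p : Ideal A, p.IsPrime →
      IsZero (((Tor (ModuleCat.{u} A) n).obj M).obj (ModuleCat.of A (A ⧸ p))))
    (N : Type u) [AddCommGroup N] [Module A N] [hN : Module.Finite A N] :
    IsZero (((Tor (ModuleCat.{u} A) n).obj M).obj (ModuleCat.of A N)) := by
  induction hN using IsNoetherianRing.induction_on_isQuotientEquivQuotientPrime A with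
  | subsingleton N =>
    exact isZero_of_hasLES (hasLES_tor M) n (ModuleCat.isZero_of_subsingleton _)
  | quotient N p f =>
    exact (h p.1 p.2).of_iso (((Tor (ModuleCat.{u} A) n).obj M).mapIso f.toModuleIso)
  | exact N₁ N₂ N₃ f g hf hg hfg h₁ h₃ =>
    exact isZero_tor_of_shortExact M n _ (shortExact_of f g hf hg hfg) h₁ h₃

theorem flat_of_tor_one_prime [IsNoetherianRing A] (M : Type u) [AddCommGroup M] [Module A M]
    (h : ∀ p : Ideal A, p.IsPrime →
      IsZero (((Tor (ModuleCat.{u} A) 1).obj (ModuleCat.of A M)).obj (ModuleCat.of A (A ⧸ p)))) :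
    Module.Flat A M :=
  flat_of_tor_one_quotient M (fun I _ => isZero_tor_of_prime (ModuleCat.of A M) 1 h (A ⧸ I))

end Groth.Agent.H82.TorFlat
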