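import Mathlib
import Groth.Agent.H82.CechLES
import Groth.Agent.H82.CechGeoAlg
import Groth.Agent.H82.TorFlat

/-!
# Uniqueness of cohomological functors effaced by torsion modules and localizations

Two sequences of functors on `R`-modules with long exact sequences, which vanish in positive
degrees on `(f₁, …, f_r)`-power-torsion modules, vanish in all degrees on modules on which some
`f_i` is invertible, and agree (objectwise) in degree zero, agree objectwise in all degrees.
The extended alternating Čech cohomology functors satisfy these conditions.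
-/

set_option autoImplicit false
set_option linter.unusedSectionVars false
set_option linter.unusedVariables false
set_option linter.style.haveILetI false
set_option backward.isDefEq.respectTransparency false

universe v' u' v'' u'' u

open CategoryTheory CategoryTheory.Limits DerCA CochainComplex HomologicalComplex

namespace Groth.Agent.H82.CechU

variable {R : Type u} [CommRing R]

section basics

theorem isUnit_end_iff (f : R) (A : Type u) [AddCommGroup A] [Module R A] :
    IsUnit (algebraMap R (Module.End R A) f) ↔ Function.Bijective (fun x : A => f • x) := by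
  rw [Module.End.isUnit_iff]
  rfl

theorem isUnit_smul_localizedModule (g : R) (M : Type u) [AddCommGroup M] [Module R M] :
    IsUnit (algebraMap R (Module.End R (LocalizedModule (Submonoid.powers g) M)) g) :=
  IsLocalizedModule.map_units (LocalizedModule.mkLinearMap (Submonoid.powers g) M)
    (⟨g, Submonoid.mem_powers g⟩ : Submonoid.powers g)

theorem smulBij_of_linearEquiv (f : R) {A B : Type u} [AddCommGroup A] [Module R A]
    [AddCommGroup B] [Module R B] (e : A ≃ₗ[R] B)
    (h : Function.Bijective (fun x : A => f • x)) : Function.Bijective (fun x : B => f • x) := by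
  have : (fun x : B => f • x) = e ∘ (fun x : A => f • x) ∘ e.symm := by
    funext x
    simp
  rw [this]
  exact e.bijective.comp (h.comp e.symm.bijective)

theorem smulBij_localizedModule (f : R) (S : Submonoid R) (A : Type u) [AddCommGroup A]
    [Module R A] (h : Function.Bijective (fun x : A => f • x)) :
    Function.Bijective (fun x : LocalizedModule S A => f • x) := by
  constructor
  · intro x y
    induction x using LocalizedModule.induction_on with
    | h a s =>
      induction y using LocalizedModule.induction_on with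
      | h b t =>
        intro hxy
        have hxy' : LocalizedModule.mk (f • a) s = LocalizedModule.mk (f • b) t := by
          rw [← LocalizedModule.smul'_mk, ← LocalizedModule.smul'_mk]
          exact hxy
        rw [LocalizedModule.mk_eq] at hxy' ⊢
        obtain ⟨u, hu⟩ := hxy'
        refine ⟨u, h.1 ?_⟩
        show f • (u • t • a) = f • (u • s • b)
        have e1 : ∀ (x y : R) (c : A), f • (x • y • c) = x • y • f • c := fun x y c => by
          rw [smul_comm f x, smul_comm f y]
        rw [Submonoid.smul_def, Submonoid.smul_def, Submonoid.smul_def, Submonoid.smul_def] at hu ⊢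
        rw [e1, e1]
        exact hu
  · intro y
    induction y using LocalizedModule.induction_on with
    | h a s =>
      obtain ⟨a', ha'⟩ := h.2 a
      refine ⟨LocalizedModule.mk a' s, ?_⟩
      show f • LocalizedModule.mk a' s = _
      rw [LocalizedModule.smul'_mk]
      exact congrArg (fun z => LocalizedModule.mk z s) ha'

theorem smulBij_pow (f : R) (A : Type u) [AddCommGroup A] [Module R A]
    (h : Function.Bijective (fun x : A => f • x)) (t : ℕ) :
    Function.Bijective (fun x : A => f ^ t • x) := by
  have : (fun x : A => f ^ t • x) = (fun x : A => f • x)^[t] := (smul_iterate f t).symm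
  rw [this]
  exact h.iterate t

theorem mkLinearMap_bijective_of_smulBij (f : R) (A : Type u) [AddCommGroup A] [Module R A]
    (h : Function.Bijective (fun x : A => f • x)) :
    Function.Bijective (LocalizedModule.mkLinearMap (Submonoid.powers f) A) := by
  constructor
  · intro a b hab
    rw [IsLocalizedModule.eq_iff_exists (Submonoid.powers f)] at hab
    obtain ⟨⟨_, t, rfl⟩, hc⟩ := hab
    exact (smulBij_pow f A h t).1 hc
  · intro y
    induction y using LocalizedModule.induction_on with
    | h a s =>
      obtain ⟨t, ht⟩ := s.2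
      obtain ⟨a', ha'⟩ := (smulBij_pow f A h t).2 a
      refine ⟨a', ?_⟩
      rw [LocalizedModule.mkLinearMap_apply, LocalizedModule.mk_eq]
      refine ⟨1, ?_⟩
      rw [one_smul, one_smul, one_smul, Submonoid.smul_def, ← ht]
      exact ha'

theorem subsingleton_localizedModule_of_torsion (g : R) (A : Type u) [AddCommGroup A]
    [Module R A] (h : ∀ a : A, ∃ t : ℕ, g ^ t • a = 0) :
    Subsingleton (LocalizedModule (Submonoid.powers g) A) := by
  refine ⟨fun x y => ?_⟩
  have h0 : ∀ z : LocalizedModule (Submonoid.powers g) A, z = 0 := by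
    intro z
    induction z using LocalizedModule.induction_on with
    | h a s =>
      obtain ⟨t, ht⟩ := h a
      rw [← LocalizedModule.zero_mk (1 : Submonoid.powers g), LocalizedModule.mk_eq]
      refine ⟨⟨g ^ t, t, rfl⟩, ?_⟩
      rw [smul_zero, smul_zero, one_smul, Submonoid.smul_def]
      exact ht
  rw [h0 x, h0 y]

end basics

section effacing

/-- The effacing module. -/
noncomputable def E (M : ModuleCat.{u} R) : List R → ModuleCat.{u} R
  | [] => ModuleCat.of R PUnit.{u + 1}
  | g :: gs => ModuleCat.of R (LocalizedModule (Submonoid.powers g) M × E M gs)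

/-- The canonical map to the effacing module. -/
noncomputable def ι (M : ModuleCat.{u} R) : (gs : List R) → (M →ₗ[R] E M gs)
  | [] => 0
  | g :: gs => LinearMap.prod (LocalizedModule.mkLinearMap (Submonoid.powers g) M) (ι M gs)

theorem ker_ι (M : ModuleCat.{u} R) : ∀ gs : List R,
    LinearMap.ker (ι M gs) = DRing.torsionSub (Ideal.span {x | x ∈ gs}) M
  | [] => by
    ext m
    constructor
    · intro _
      refine ⟨1, fun a ha => ?_⟩
      have h0 : ({x | x ∈ ([] : List R)} : Set R) = ∅ := by
        ext x
        simp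
      rw [h0, Ideal.span_empty, pow_one] at ha
      rw [(Submodule.mem_bot R).1 ha, zero_smul]
    · intro _
      rfl
  | g :: gs => by
    ext m
    rw [Cech.span_cons, Cech.mem_torsionSub_sup_span_iff, ← ker_ι M gs, LinearMap.mem_ker,
      LinearMap.mem_ker]
    constructor
    · intro h
      have h1 : LocalizedModule.mkLinearMap (Submonoid.powers g) M m = 0 := congrArg Prod.fst h
      have h2 : ι M gs m = 0 := congrArg Prod.snd h
      rw [IsLocalizedModule.eq_zero_iff (Submonoid.powers g)] at h1
      obtain ⟨⟨_, t, rfl⟩, ht⟩ := h1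
      exact ⟨h2, t, ht⟩
    · rintro ⟨h2, t, ht⟩
      have h1 : LocalizedModule.mkLinearMap (Submonoid.powers g) M m = 0 := by
        rw [IsLocalizedModule.eq_zero_iff (Submonoid.powers g)]
        exact ⟨⟨g ^ t, t, rfl⟩, ht⟩
      exact Prod.ext h1 h2

variable {D : Type u'} [Category.{v'} D] [Abelian D]

theorem isZero_of_hasCLES {T : ℕ → ModuleCat.{u} R ⥤ D} (h : CDelta.HasCLES T) (n : ℕ)
    {Z : ModuleCat.{u} R} (hZ : IsZero Z) : IsZero ((T n).obj Z) := by
  let S : ShortComplex (ModuleCat.{u} R) := ShortComplex.mk (𝟙 Z) (𝟙 Z) (hZ.eq_of_src _ _)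
  have hS : S.ShortExact :=
    { exact := ShortComplex.exact_of_isZero_X₂ _ hZ
      mono_f := inferInstanceAs (Mono (𝟙 Z))
      epi_g := inferInstanceAs (Epi (𝟙 Z)) }
  obtain ⟨h0, -⟩ := h S hS n
  rw [IsZero.iff_id_eq_zero]
  have h1 : (T n).map (𝟙 Z) ≫ (T n).map (𝟙 Z) = 0 := h0
  rw [(T n).map_id Z, Category.comp_id] at h1
  exact h1

theorem isZero_E {T : ℕ → ModuleCat.{u} R ⥤ D} (h : CDelta.HasCLES T) (fs : List R)
    (hloc : ∀ (p : ℕ) (f : R), f ∈ fs → ∀ N : ModuleCat.{u} R,
      IsUnit (algebraMap R (Module.End R N) f) → IsZero ((T p).obj N))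
    (M : ModuleCat.{u} R) (p : ℕ) :
    ∀ gs : List R, (∀ g ∈ gs, g ∈ fs) → IsZero ((T p).obj (E M gs))
  | [], _ => by
    haveI : Subsingleton (E M []) := inferInstanceAs (Subsingleton PUnit.{u + 1})
    exact isZero_of_hasCLES h p (ModuleCat.isZero_of_subsingleton _)
  | g :: gs, hg => by
    have h1 : IsZero ((T p).obj (ModuleCat.of R (LocalizedModule (Submonoid.powers g) M))) :=
      hloc p g (hg g List.mem_cons_self) _ (isUnit_smul_localizedModule g M)
    have h2 : IsZero ((T p).obj (E M gs)) :=
      isZero_E h fs hloc M p gs (fun x hx => hg x (List.mem_cons_of_mem _ hx))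
    have hex : Function.Exact (LinearMap.inl R (LocalizedModule (Submonoid.powers g) M) (E M gs))
        (LinearMap.snd R (LocalizedModule (Submonoid.powers g) M) (E M gs)) := by
      intro x
      constructor
      · intro hx
        exact ⟨x.1, Prod.ext rfl hx.symm⟩
      · rintro ⟨a, rfl⟩
        rfl
    have hS := TorFlat.shortExact_of (A := R)
      (LinearMap.inl R (LocalizedModule (Submonoid.powers g) M) (E M gs))
      (LinearMap.snd R (LocalizedModule (Submonoid.powers g) M) (E M gs))
      LinearMap.inl_injective LinearMap.snd_surjective hex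
    obtain ⟨h0, hex', -⟩ := h _ hS p
    exact (hex' h0).isZero_of_both_isZero h1 h2

end effacing

section uniq

variable {D : Type u'} [Category.{v'} D] [Abelian D]

/-- Cohomological functors effaced by torsion modules and localizations. -/
structure Eff (fs : List R) (T : ℕ → ModuleCat.{u} R ⥤ D) : Prop where
  les : CDelta.HasCLES T
  tors : ∀ (p : ℕ) (K : ModuleCat.{u} R),
    DRing.torsionSub (Ideal.span {x | x ∈ fs}) K = ⊤ → IsZero ((T (p + 1)).obj K)
  loc : ∀ (p : ℕ) (f : R), f ∈ fs → ∀ N : ModuleCat.{u} R,
    IsUnit (algebraMap R (Module.End R N) f) → IsZero ((T p).obj N)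

theorem Eff.comp {D' : Type u''} [Category.{v''} D'] [Abelian D'] {fs : List R}
    {T : ℕ → ModuleCat.{u} R ⥤ D} (hT : Eff fs T) (G : D ⥤ D') [G.Additive]
    [PreservesFiniteLimits G] [PreservesFiniteColimits G] : Eff fs (fun n => T n ⋙ G) where
  les := by
    intro S hS n
    obtain ⟨h0, hex, δ, w₁, w₂, e1, e2⟩ := hT.les S hS n
    have z0 : G.map ((T n).map S.f) ≫ G.map ((T n).map S.g) = 0 := by
      rw [← G.map_comp, h0, G.map_zero]
    have z1 : G.map ((T n).map S.g) ≫ G.map δ = 0 := by
      rw [← G.map_comp, w₁, G.map_zero]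
    have z2 : G.map δ ≫ G.map ((T (n + 1)).map S.f) = 0 := by
      rw [← G.map_comp, w₂, G.map_zero]
    exact ⟨z0, fun _ => (hex h0).map G, G.map δ, z1, z2, e1.map G, e2.map G⟩
  tors p K hK := G.map_isZero (hT.tors p K hK)
  loc p f hf N hN := G.map_isZero (hT.loc p f hf N hN)

variable (fs : List R) (M : ModuleCat.{u} R)

/-- The torsion submodule. -/
abbrev tor : Submodule R M := DRing.torsionSub (Ideal.span {x | x ∈ fs}) M

theorem torsionSub_tor : DRing.torsionSub (Ideal.span {x | x ∈ fs}) (tor fs M) = ⊤ := by
  rw [eq_top_iff]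
  rintro ⟨x, n, hn⟩ _
  exact ⟨n, fun r hr => Subtype.ext (hn r hr)⟩

/-- The sequence `0 → Γ(M) → M → M/Γ(M) → 0`. -/
noncomputable def S1 : ShortComplex (ModuleCat.{u} R) :=
  ModuleCat.shortComplexOfCompEqZero (tor fs M).subtype (tor fs M).mkQ
    (LinearMap.exact_subtype_mkQ _).linearMap_comp_eq_zero

theorem S1_shortExact : (S1 fs M).ShortExact :=
  TorFlat.shortExact_of _ _ (Submodule.injective_subtype _) (Submodule.mkQ_surjective _)
    (LinearMap.exact_subtype_mkQ _)

/-- The embedding of `M/Γ(M)` in the effacing module. -/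
noncomputable def j : (M ⧸ tor fs M) →ₗ[R] E M fs :=
  (tor fs M).liftQ (ι M fs) (le_of_eq (ker_ι M fs).symm)

theorem j_injective : Function.Injective (j fs M) := by
  rw [← LinearMap.ker_eq_bot]
  unfold j
  rw [Submodule.ker_liftQ, ker_ι, Submodule.mkQ_map_self]

/-- The sequence `0 → M/Γ(M) → E → Q → 0`. -/
noncomputable def S2 : ShortComplex (ModuleCat.{u} R) :=
  ModuleCat.shortComplexOfCompEqZero (j fs M) (LinearMap.range (j fs M)).mkQ
    (LinearMap.exact_map_mkQ_range _).linearMap_comp_eq_zero

theorem S2_shortExact : (S2 fs M).ShortExact :=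
  TorFlat.shortExact_of _ _ (j_injective fs M) (Submodule.mkQ_surjective _)
    (LinearMap.exact_map_mkQ_range _)

theorem step1 {T : ℕ → ModuleCat.{u} R ⥤ D} (hT : Eff fs T) (p : ℕ) :
    Nonempty ((T (p + 1)).obj M ≅ (T (p + 1)).obj (ModuleCat.of R (M ⧸ tor fs M))) := by
  obtain ⟨h0, hex, δ, w₁, w₂, e1, e2⟩ := hT.les (S1 fs M) (S1_shortExact fs M) (p + 1)
  have hK : ∀ q, IsZero ((T (q + 1)).obj (S1 fs M).X₁) := fun q =>
    hT.tors q _ (torsionSub_tor fs M)
  haveI : Mono ((T (p + 1)).map (S1 fs M).g) := (hex h0).mono_g ((hK p).eq_of_src _ _)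
  haveI : Epi ((T (p + 1)).map (S1 fs M).g) := e1.epi_f ((hK (p + 1)).eq_of_tgt _ _)
  haveI := isIso_of_mono_of_epi ((T (p + 1)).map (S1 fs M).g)
  exact ⟨asIso ((T (p + 1)).map (S1 fs M).g)⟩

theorem step2 {T : ℕ → ModuleCat.{u} R ⥤ D} (hT : Eff fs T) (p : ℕ) :
    Nonempty ((T p).obj (S2 fs M).X₃ ≅ (T (p + 1)).obj (ModuleCat.of R (M ⧸ tor fs M))) := by
  obtain ⟨h0, hex, δ, w₁, w₂, e1, e2⟩ := hT.les (S2 fs M) (S2_shortExact fs M) p
  have hE : ∀ q, IsZero ((T q).obj (S2 fs M).X₂) := fun q =>
    isZero_E hT.les fs hT.loc M q fs (fun g hg => hg)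
  haveI : Mono δ := e1.mono_g ((hE p).eq_of_src _ _)
  haveI : Epi δ := e2.epi_f ((hE (p + 1)).eq_of_tgt _ _)
  haveI := isIso_of_mono_of_epi δ
  exact ⟨asIso δ⟩

variable {fs}

/-- Uniqueness of effaced cohomological functors. -/
theorem uniq {T T' : ℕ → ModuleCat.{u} R ⥤ D} (hT : Eff fs T) (hT' : Eff fs T')
    (e0 : ∀ M : ModuleCat.{u} R, Nonempty ((T 0).obj M ≅ (T' 0).obj M)) :
    ∀ (p : ℕ) (M : ModuleCat.{u} R), Nonempty ((T p).obj M ≅ (T' p).obj M)
  | 0, M => e0 M
  | p + 1, M => by
    obtain ⟨a⟩ := step1 fs M hT p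
    obtain ⟨a'⟩ := step1 fs M hT' p
    obtain ⟨b⟩ := step2 fs M hT p
    obtain ⟨b'⟩ := step2 fs M hT' p
    obtain ⟨c⟩ := uniq hT hT' e0 p (S2 fs M).X₃
    exact ⟨a ≪≫ b.symm ≪≫ c ≪≫ b' ≪≫ a'.symm⟩

end uniq

section alt

attribute [local instance] HasDerivedCategory.standard

/-- Induction principle on the terms of the extended Čech complex. -/
theorem extCech_X_induction (P : ModuleCat.{u} R → Prop)
    (hiso : ∀ {A B : ModuleCat.{u} R}, (A ≅ B) → P A → P B)
    (hzero : ∀ A : ModuleCat.{u} R, IsZero A → P A)
    (hprod : ∀ A B : ModuleCat.{u} R, P A → P B → P (ModuleCat.of R (A × B)))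
    (hloc : ∀ (g : R) (A : ModuleCat.{u} R), P A →
      P ((locFunctor (Submonoid.powers g)).obj A))
    (N : ModuleCat.{u} R) (hN : P N) : ∀ (gs : List R) (i : ℤ), P ((extCech N gs).X i)
  | [], i => by
    by_cases hi : i = 0
    · subst hi
      exact hiso (HomologicalComplex.singleObjXSelf (ComplexShape.up ℤ) 0 N).symm hN
    · exact hzero _ (HomologicalComplex.isZero_single_obj_X (ComplexShape.up ℤ) 0 N i hi)
  | g :: gs, i => by
    have e := CechGeo.cEquiv (locCxUnit (Submonoid.powers g) (extCech N gs)) i
    have h1 := extCech_X_induction P hiso hzero hprod hloc N hN gs i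
    have h2 := extCech_X_induction P hiso hzero hprod hloc N hN gs (i + -1)
    exact hiso e.symm.toModuleIso (hprod _ _ h1 (hloc g _ h2))

theorem isZero_cocone_homology_of_isIso {K L : DRing.Cx R} (φ : K ⟶ L) [IsIso φ] (n : ℤ) :
    IsZero ((mappingCocone φ).homology n) := by
  have hT := DerivedCategory.mappingCocone_triangle_distinguished φ
  have h1 := CochainComplex.homologyMap_exact₁_of_distTriang _ hT (n - 1) n (by omega)
  haveI i1 : IsIso (HomologicalComplex.homologyMap φ (n - 1)) :=
    (inferInstance : IsIso ((HomologicalComplex.homologyFunctor _ _ (n - 1)).map φ))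
  haveI i2 : IsIso (HomologicalComplex.homologyMap φ n) :=
    (inferInstance : IsIso ((HomologicalComplex.homologyFunctor _ _ n).map φ))
  have hδ0 : CochainComplex.homologyδOfTriangle (mappingCocone.triangle φ) (n - 1) n
      (by omega) = 0 := by
    have h2 := CochainComplex.homologyMap_homologyδOfTriangle _ hT (n - 1) n (by omega)
    exact (cancel_epi (HomologicalComplex.homologyMap φ (n - 1))).1 (h2.trans comp_zero.symm)
  have hfst0 : HomologicalComplex.homologyMap (mappingCocone.fst φ) n = 0 := by
    have h3 := CochainComplex.homologyMap_comp_eq_zero_of_distTriang _ hT n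
    exact (cancel_mono (HomologicalComplex.homologyMap φ n)).1 (h3.trans zero_comp.symm)
  exact h1.isZero_of_both_zeros hδ0 hfst0

/-- `f` acts bijectively on all the terms of the extended Čech complex of `N` if it does on
`N`. -/
theorem smulBij_extCech_X (f : R) (N : ModuleCat.{u} R)
    (hN : Function.Bijective (fun x : N => f • x)) (gs : List R) (i : ℤ) :
    Function.Bijective (fun x : (extCech N gs).X i => f • x) := by
  refine extCech_X_induction (fun A => Function.Bijective (fun x : A => f • x))
    (fun {A B} e h => smulBij_of_linearEquiv f e.toLinearEquiv h) ?_ ?_ ?_ N hN gs i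
  · intro A hA
    haveI := ModuleCat.subsingleton_of_isZero hA
    exact ⟨fun a b _ => Subsingleton.elim _ _, fun b => ⟨b, Subsingleton.elim _ _⟩⟩
  · intro A B hA hB
    have : (fun x : A × B => f • x) = Prod.map (fun a : A => f • a) (fun b : B => f • b) := by
      funext x
      rfl
    show Function.Bijective (fun x : A × B => f • x)
    rw [this]
    exact hA.prodMap hB
  · intro g A hA
    exact smulBij_localizedModule f (Submonoid.powers g) A hA

theorem isZero_extCechH_of_isUnit (f : R) (N : ModuleCat.{u} R)
    (hN : IsUnit (algebraMap R (Module.End R N) f)) :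
    ∀ gs : List R, f ∈ gs → ∀ n : ℤ, IsZero ((extCech N gs).homology n)
  | [], h, _ => absurd h List.not_mem_nil
  | g :: gs, h, n => by
    by_cases hg : f ∈ gs
    · have ih := isZero_extCechH_of_isUnit f N hN gs hg
      exact Cech.isZero_cocone_homology _ n (Cech.isZero_homology_locCx _ _ _ (ih (n - 1))) (ih n)
    · have hfg : f = g := by
        rcases List.mem_cons.1 h with h | h
        · exact h
        · exact absurd h hg
      subst hfg
      have hN' := (isUnit_end_iff f N).1 hN
      haveI : ∀ i : ℤ, IsIso ((locCxUnit (Submonoid.powers f) (extCech N gs)).f i) := by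
        intro i
        have hb := mkLinearMap_bijective_of_smulBij f ((extCech N gs).X i)
          (smulBij_extCech_X f N hN' gs i)
        exact (ConcreteCategory.isIso_iff_bijective
          ((locCxUnit (Submonoid.powers f) (extCech N gs)).f i)).2 hb
      haveI : IsIso (locCxUnit (Submonoid.powers f) (extCech N gs)) :=
        HomologicalComplex.Hom.isIso_of_components _
      exact isZero_cocone_homology_of_isIso _ n

theorem isZero_extCechH_of_torsion (fs : List R) (K : ModuleCat.{u} R)
    (hK : DRing.torsionSub (Ideal.span {x | x ∈ fs}) K = ⊤) :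
    ∀ gs : List R, (∀ g ∈ gs, g ∈ fs) → ∀ n : ℤ, n ≠ 0 → IsZero ((extCech K gs).homology n)
  | [], _, n, hn => by
    have hz : IsZero ((extCech K []).X n) :=
      HomologicalComplex.isZero_single_obj_X (ComplexShape.up ℤ) 0 K n hn
    exact (ShortComplex.exact_iff_isZero_homology _).1
      (ShortComplex.exact_of_isZero_X₂ _ hz)
  | g :: gs, hg, n, hn => by
    have ih := isZero_extCechH_of_torsion fs K hK gs
      (fun x hx => hg x (List.mem_cons_of_mem _ hx))
    have hL : IsZero (((locCx (Submonoid.powers g)).obj (extCech K gs)).homology (n - 1)) := by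
      by_cases h1 : n - 1 = 0
      · rw [h1]
        refine IsZero.of_iso ?_ (H46.homologyLocIso (Submonoid.powers g) (extCech K gs) 0)
        haveI : Subsingleton ((locFunctor (Submonoid.powers g)).obj
            ((extCech K gs).homology 0)) := by
          show Subsingleton (LocalizedModule (Submonoid.powers g)
            ((extCech K gs).homology 0))
          apply subsingleton_localizedModule_of_torsion
          intro x
          have hm : (Cech.η K gs).hom x ∈ DRing.torsionSub (Ideal.span {x | x ∈ fs}) K := by
            rw [hK]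
            trivial
          obtain ⟨t, ht⟩ := hm
          refine ⟨t, (Cech.η_injective_and_range K gs).1 ?_⟩
          rw [map_smul, map_zero]
          refine ht _ (Ideal.pow_mem_pow (Ideal.subset_span ?_) t)
          exact hg g List.mem_cons_self
        exact ModuleCat.isZero_of_subsingleton _
      · exact Cech.isZero_homology_locCx _ _ _ (ih (n - 1) h1)
    exact Cech.isZero_cocone_homology _ n hL (ih n hn)

/-- The extended alternating Čech cohomology functors are effaced. -/
theorem eff_cechH (fs : List R) : Eff fs (Cech.cechH fs) where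
  les := Cech.hasCLES_cechH fs
  tors p K hK := isZero_extCechH_of_torsion fs K hK fs (fun _ h => h) ((p + 1 : ℕ) : ℤ)
    (by
      have : (0 : ℤ) < ((p + 1 : ℕ) : ℤ) := by exact_mod_cast Nat.succ_pos p
      omega)
  loc p f hf N hN := isZero_extCechH_of_isUnit f N hN fs hf (p : ℤ)

end alt

end Groth.Agent.H82.CechU
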