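import Mathlib
import Groth.Agent.H82.CechUniq

/-!
# The presheaf of localizations `S ↦ M_{f_S}` on the lattice of finite subsets
-/

set_option autoImplicit false
set_option linter.unusedSectionVars false
set_option linter.unusedVariables false
set_option linter.style.haveILetI false
set_option backward.isDefEq.respectTransparency false

universe u

open CategoryTheory CategoryTheory.Limits DerCA Opposite

namespace Groth.Agent.H82.FullCech

variable {R : Type u} [CommRing R]

section algebra

theorem smulBij_of_dvd {A : Type u} [AddCommGroup A] [Module R A] {s t : R} (h : s ∣ t)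
    (ht : Function.Bijective (fun x : A => t • x)) : Function.Bijective (fun x : A => s • x) := by
  obtain ⟨c, rfl⟩ := h
  constructor
  · intro x y hxy
    apply ht.1
    show (s * c) • x = (s * c) • y
    rw [mul_comm, mul_smul, mul_smul]
    exact congrArg (fun z => c • z) hxy
  · intro y
    obtain ⟨x, hx⟩ := ht.2 y
    refine ⟨c • x, ?_⟩
    show s • c • x = y
    rw [← mul_smul]
    exact hx

theorem smulBij_mul {A : Type u} [AddCommGroup A] [Module R A] {s t : R}
    (hs : Function.Bijective (fun x : A => s • x)) (ht : Function.Bijective (fun x : A => t • x)) :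
    Function.Bijective (fun x : A => (s * t) • x) := by
  have : (fun x : A => (s * t) • x) = (fun x : A => s • x) ∘ (fun x : A => t • x) := by
    funext x
    exact mul_smul s t x
  rw [this]
  exact hs.comp ht

theorem smulBij_of_isLocalizedModule {M B : Type u} [AddCommGroup M] [Module R M]
    [AddCommGroup B] [Module R B] (s : R) (mk : M →ₗ[R] B)
    [IsLocalizedModule (Submonoid.powers s) mk] : Function.Bijective (fun x : B => s • x) := by
  rw [← CechU.isUnit_end_iff]
  exact IsLocalizedModule.map_units mk (⟨s, Submonoid.mem_powers s⟩ : Submonoid.powers s)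

theorem isUnit_powers_of_smulBij {B : Type u} [AddCommGroup B] [Module R B] (s : R)
    (h : Function.Bijective (fun x : B => s • x)) :
    ∀ x : Submonoid.powers s, IsUnit (algebraMap R (Module.End R B) x) := by
  rintro ⟨_, n, rfl⟩
  rw [CechU.isUnit_end_iff]
  exact CechU.smulBij_pow s B h n

theorem isUnit_powers_of_dvd {s t : R} (h : s ∣ t) (M : Type u) [AddCommGroup M] [Module R M] :
    ∀ x : Submonoid.powers s,
      IsUnit (algebraMap R (Module.End R (LocalizedModule (Submonoid.powers t) M)) x) :=
  isUnit_powers_of_smulBij s (smulBij_of_dvd h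
    (smulBij_of_isLocalizedModule t (LocalizedModule.mkLinearMap (Submonoid.powers t) M)))

/-- The transition map between localizations. -/
noncomputable def locTransLin {s t : R} (h : s ∣ t) (M : Type u) [AddCommGroup M] [Module R M] :
    LocalizedModule (Submonoid.powers s) M →ₗ[R] LocalizedModule (Submonoid.powers t) M :=
  IsLocalizedModule.lift (Submonoid.powers s)
    (LocalizedModule.mkLinearMap (Submonoid.powers s) M)
    (LocalizedModule.mkLinearMap (Submonoid.powers t) M) (isUnit_powers_of_dvd h M)

theorem locTransLin_mk {s t : R} (h : s ∣ t) (M : Type u) [AddCommGroup M] [Module R M] (x : M) :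
    locTransLin h M (LocalizedModule.mkLinearMap (Submonoid.powers s) M x) =
      LocalizedModule.mkLinearMap (Submonoid.powers t) M x :=
  IsLocalizedModule.lift_apply _ _ _ _ x

theorem loc_lin_ext {s : R} {M B : Type u} [AddCommGroup M] [Module R M] [AddCommGroup B]
    [Module R B] (hB : ∀ x : Submonoid.powers s, IsUnit (algebraMap R (Module.End R B) x))
    {a b : LocalizedModule (Submonoid.powers s) M →ₗ[R] B}
    (h : ∀ x : M, a (LocalizedModule.mkLinearMap (Submonoid.powers s) M x) =
      b (LocalizedModule.mkLinearMap (Submonoid.powers s) M x)) : a = b :=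
  IsLocalizedModule.ext (Submonoid.powers s)
    (LocalizedModule.mkLinearMap (Submonoid.powers s) M) hB (LinearMap.ext h)

/-- A map between localizations compatible with the localization maps is bijective as soon as
the second element already acts bijectively on the first localization. -/
theorem bijective_of_loc {N B C : Type u} [AddCommGroup N] [Module R N] [AddCommGroup B]
    [Module R B] [AddCommGroup C] [Module R C] {s t : R} (mkB : N →ₗ[R] B) (mkC : N →ₗ[R] C)
    [IsLocalizedModule (Submonoid.powers s) mkB] [IsLocalizedModule (Submonoid.powers t) mkC]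
    (τ : B →ₗ[R] C) (hτ : ∀ x, τ (mkB x) = mkC x)
    (ht : Function.Bijective (fun b : B => t • b)) : Function.Bijective τ := by
  have hsB := smulBij_of_isLocalizedModule s mkB
  have htC := smulBij_of_isLocalizedModule t mkC
  constructor
  · rw [injective_iff_map_eq_zero]
    intro b hb
    obtain ⟨⟨x, ⟨_, n, rfl⟩⟩, hx⟩ := IsLocalizedModule.surj (Submonoid.powers s) mkB b
    have hx' : s ^ n • b = mkB x := hx
    have h1 : mkC x = 0 := by
      rw [← hτ, ← hx', map_smul, hb, smul_zero]
    rw [IsLocalizedModule.eq_zero_iff (Submonoid.powers t)] at h1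
    obtain ⟨⟨_, k, rfl⟩, hk⟩ := h1
    have hk' : t ^ k • x = 0 := hk
    have h2 : mkB x = 0 := by
      apply (CechU.smulBij_pow t B ht k).1
      show t ^ k • mkB x = t ^ k • 0
      rw [← map_smul, hk', map_zero, smul_zero]
    apply (CechU.smulBij_pow s B hsB n).1
    show s ^ n • b = s ^ n • 0
    rw [hx', h2, smul_zero]
  · intro c
    obtain ⟨⟨x, ⟨_, n, rfl⟩⟩, hx⟩ := IsLocalizedModule.surj (Submonoid.powers t) mkC c
    have hx' : t ^ n • c = mkC x := hx
    obtain ⟨b, hb⟩ := (CechU.smulBij_pow t B ht n).2 (mkB x)
    have hb' : t ^ n • b = mkB x := hb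
    refine ⟨b, (CechU.smulBij_pow t C htC n).1 ?_⟩
    show t ^ n • τ b = t ^ n • c
    rw [← map_smul, hb', hτ, hx']

theorem mem_torsionSub_span_iff (M : Type u) [AddCommGroup M] [Module R M] (m : M) :
    ∀ fs : List R, m ∈ DRing.torsionSub (Ideal.span {x | x ∈ fs}) M ↔
      ∀ g ∈ fs, ∃ t : ℕ, g ^ t • m = 0
  | [] => by
    constructor
    · intro _ g hg
      exact absurd hg List.not_mem_nil
    · intro _
      refine ⟨1, fun a ha => ?_⟩
      have h0 : ({x | x ∈ ([] : List R)} : Set R) = ∅ := by
        ext x
        simp
      rw [h0, Ideal.span_empty, pow_one] at ha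
      rw [(Submodule.mem_bot R).1 ha, zero_smul]
  | g :: gs => by
    rw [Cech.span_cons, Cech.mem_torsionSub_sup_span_iff, mem_torsionSub_span_iff M m gs]
    constructor
    · rintro ⟨h1, h2⟩ x hx
      rcases List.mem_cons.1 hx with rfl | hx
      · exact h2
      · exact h1 x hx
    · intro h
      exact ⟨fun x hx => h x (List.mem_cons_of_mem _ hx), h g List.mem_cons_self⟩

end algebra

section functor

/-- Transition between localization functors. -/
noncomputable def locTrans {s t : R} (h : s ∣ t) :
    locFunctor (R := R) (Submonoid.powers s) ⟶ locFunctor (Submonoid.powers t) where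
  app M := ModuleCat.ofHom (locTransLin h M)
  naturality M N g := by
    apply ModuleCat.hom_ext
    refine loc_lin_ext (isUnit_powers_of_dvd h N) (fun x => ?_)
    show locTransLin h N ((IsLocalizedModule.map (Submonoid.powers s)
        (LocalizedModule.mkLinearMap (Submonoid.powers s) M)
        (LocalizedModule.mkLinearMap (Submonoid.powers s) N)) g.hom
        (LocalizedModule.mkLinearMap (Submonoid.powers s) M x)) =
      (IsLocalizedModule.map (Submonoid.powers t)
        (LocalizedModule.mkLinearMap (Submonoid.powers t) M)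
        (LocalizedModule.mkLinearMap (Submonoid.powers t) N)) g.hom
        (locTransLin h M (LocalizedModule.mkLinearMap (Submonoid.powers s) M x))
    rw [IsLocalizedModule.map_apply, locTransLin_mk, locTransLin_mk, IsLocalizedModule.map_apply]

theorem locTrans_refl (s : R) (M : ModuleCat.{u} R) : (locTrans (dvd_refl s)).app M = 𝟙 _ := by
  apply ModuleCat.hom_ext
  refine loc_lin_ext (isUnit_powers_of_dvd (dvd_refl s) M) (fun x => ?_)
  show locTransLin (dvd_refl s) M _ = _
  rw [locTransLin_mk]
  rfl

theorem locTrans_comp {s t r : R} (h₁ : s ∣ t) (h₂ : t ∣ r) (M : ModuleCat.{u} R) :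
    (locTrans h₁).app M ≫ (locTrans h₂).app M = (locTrans (h₁.trans h₂)).app M := by
  apply ModuleCat.hom_ext
  refine loc_lin_ext (isUnit_powers_of_dvd (h₁.trans h₂) M) (fun x => ?_)
  show locTransLin h₂ M (locTransLin h₁ M _) = locTransLin (h₁.trans h₂) M _
  rw [locTransLin_mk, locTransLin_mk, locTransLin_mk]

variable {ι : Type u} [DecidableEq ι] (f : ι → R)

/-- The product of the `f i` over a finite set. -/
def fS (S : Finset ι) : R := ∏ i ∈ S, f i

theorem fS_dvd {S T : Finset ι} (h : S ⊆ T) : fS f S ∣ fS f T :=
  Finset.prod_dvd_prod_of_subset _ _ _ h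

theorem fS_empty : fS f (∅ : Finset ι) = 1 := Finset.prod_empty

theorem fS_singleton (i : ι) : fS f {i} = f i := Finset.prod_singleton _ _

theorem fS_union_dvd (S T : Finset ι) : fS f (S ∪ T) ∣ fS f S * fS f T := by
  unfold fS
  rw [← Finset.prod_union_inter]
  exact Dvd.intro _ rfl

/-- The lattice of finite subsets, ordered by reverse inclusion. -/
abbrev L (ι : Type u) : Type u := (Finset ι)ᵒᵈ

theorem sub_of_hom {W V : L ι} (h : W ⟶ V) : OrderDual.ofDual V ⊆ OrderDual.ofDual W :=
  OrderDual.ofDual_le_ofDual.2 (leOfHom h)

/-- The presheaf of localizations of a module. -/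
noncomputable def PObj (M : ModuleCat.{u} R) : (L ι)ᵒᵖ ⥤ ModuleCat.{u} R where
  obj W := (locFunctor (Submonoid.powers (fS f (OrderDual.ofDual W.unop)))).obj M
  map {W V} h := (locTrans (fS_dvd f (sub_of_hom h.unop))).app M
  map_id W := locTrans_refl _ M
  map_comp h₁ h₂ := (locTrans_comp _ _ M).symm

/-- The presheaf of localizations, as a functor of the module. -/
noncomputable def P : ModuleCat.{u} R ⥤ ((L ι)ᵒᵖ ⥤ ModuleCat.{u} R) where
  obj M := PObj f M
  map g :=
    { app := fun W => (locFunctor (Submonoid.powers (fS f (OrderDual.ofDual W.unop)))).map g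
      naturality := fun W V h => ((locTrans (fS_dvd f (sub_of_hom h.unop))).naturality g).symm }
  map_id M := by
    ext W : 2
    exact (locFunctor _).map_id M
  map_comp g h := by
    ext W : 2
    exact (locFunctor _).map_comp g h

/-- The presheaf of localizations, with values in abelian groups. -/
noncomputable def PAb : ModuleCat.{u} R ⥤ ((L ι)ᵒᵖ ⥤ AddCommGrpCat.{u}) :=
  P f ⋙ (Functor.whiskeringRight _ _ _).obj (forget₂ (ModuleCat.{u} R) AddCommGrpCat.{u})

instance : (P (R := R) f).PreservesZeroMorphisms where
  map_zero M N := by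
    ext W : 2
    exact (locFunctor _).map_zero M N

instance : (PAb (R := R) f).PreservesZeroMorphisms := by
  unfold PAb
  infer_instance

/-- The localization map into the value of the presheaf. -/
noncomputable def mkP (M : ModuleCat.{u} R) (W : L ι) :
    M →ₗ[R] ((P f).obj M).obj (op W) :=
  LocalizedModule.mkLinearMap (Submonoid.powers (fS f (OrderDual.ofDual W))) M

instance (M : ModuleCat.{u} R) (W : L ι) :
    IsLocalizedModule (Submonoid.powers (fS f (OrderDual.ofDual W))) (mkP f M W) :=
  inferInstanceAs (IsLocalizedModule (Submonoid.powers (fS f (OrderDual.ofDual W)))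
    (LocalizedModule.mkLinearMap (Submonoid.powers (fS f (OrderDual.ofDual W))) M))

theorem P_map_mkP (M : ModuleCat.{u} R) {W V : L ι} (h : V ⟶ W) (x : M) :
    (((P f).obj M).map h.op).hom (mkP f M W x) = mkP f M V x :=
  locTransLin_mk (fS_dvd f (sub_of_hom h)) M x

theorem P_map_app_mkP {M N : ModuleCat.{u} R} (g : M ⟶ N) (W : L ι) (x : M) :
    (((P f).map g).app (op W)).hom (mkP f M W x) = mkP f N W (g.hom x) := by
  show (IsLocalizedModule.map (Submonoid.powers (fS f (OrderDual.ofDual W)))
    (LocalizedModule.mkLinearMap (Submonoid.powers (fS f (OrderDual.ofDual W))) M)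
    (LocalizedModule.mkLinearMap (Submonoid.powers (fS f (OrderDual.ofDual W))) N)) g.hom
    (LocalizedModule.mkLinearMap (Submonoid.powers (fS f (OrderDual.ofDual W))) M x) = _
  rw [IsLocalizedModule.map_apply]
  rfl

end functor

end Groth.Agent.H82.FullCech
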