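import Mathlib
import Groth.Agent.H82.LocSys
import Groth.Agent.H67.CechQ
import Groth.Agent.H67.CechF

/-!
# The (augmented) full Čech complex of the presheaf of localizations, as effaced cohomological
functors of the module
-/

set_option autoImplicit false
set_option linter.unusedSectionVars false
set_option linter.unusedVariables false
set_option linter.style.haveILetI false
set_option backward.isDefEq.respectTransparency false

universe u

open CategoryTheory CategoryTheory.Limits DerCA Opposite Simplicial Groth.Agent.H67.Cech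

namespace Groth.Agent.H82.FullCech

variable {R : Type u} [CommRing R] {ι : Type u} [DecidableEq ι]

section lattice

/-- The family of singletons. -/
def Y : ι → L ι := fun i => OrderDual.toDual {i}

/-- A morphism from an inclusion of finite sets. -/
def homOfSub {W V : L ι} (h : OrderDual.ofDual V ⊆ OrderDual.ofDual W) : W ⟶ V :=
  homOfLE (OrderDual.ofDual_le_ofDual.1 h)

/-- The morphism to the terminal object. -/
def toTop (W : L ι) : W ⟶ (⊤ : L ι) := homOfLE le_top

theorem ofDual_top : OrderDual.ofDual (⊤ : L ι) = (∅ : Finset ι) := rfl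

theorem hom_eq {W V : L ι} (a b : W ⟶ V) : a = b := Subsingleton.elim _ _

theorem singleton_sub_pi {n : ℕ} (a : Fin (n + 1) → ι) (k : Fin (n + 1)) :
    ({a k} : Finset ι) ⊆ OrderDual.ofDual (∏ᶜ (Y ∘ a)) :=
  sub_of_hom (Limits.Pi.π (Y ∘ a) k)

theorem pi_sub_of_hom {n : ℕ} (a : Fin (n + 1) → ι) (V : L ι) (h : ∀ k, V ⟶ Y (a k)) :
    OrderDual.ofDual (∏ᶜ (Y ∘ a)) ⊆ OrderDual.ofDual V :=
  sub_of_hom (Limits.Pi.lift (f := Y ∘ a) h)

theorem pi_const_sub (i : ι) :
    OrderDual.ofDual (∏ᶜ (Y ∘ (fun _ : Fin 1 => i))) ⊆ ({i} : Finset ι) :=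
  pi_sub_of_hom (fun _ : Fin 1 => i) (Y i) (fun _ => 𝟙 _)

theorem prod_sub (W : L ι) (i : ι) :
    OrderDual.ofDual (W ⨯ Y i) ⊆ OrderDual.ofDual W ∪ {i} := by
  have h1 : (OrderDual.toDual (OrderDual.ofDual W ∪ {i}) : L ι) ⟶ W :=
    homOfSub (W := OrderDual.toDual (OrderDual.ofDual W ∪ {i})) Finset.subset_union_left
  have h2 : (OrderDual.toDual (OrderDual.ofDual W ∪ {i}) : L ι) ⟶ Y i :=
    homOfSub (W := OrderDual.toDual (OrderDual.ofDual W ∪ {i})) (V := Y i)
      Finset.subset_union_right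
  exact sub_of_hom (prod.lift h1 h2)

end lattice

section aug

variable (G : (L ι)ᵒᵖ ⥤ AddCommGrpCat.{u})

/-- The augmentation of the Čech complex. -/
noncomputable def εG : G.obj (op (⊤ : L ι)) ⟶ (cx (Y (ι := ι)) G).X 0 :=
  Limits.Pi.lift (f := term Y G 0) (fun a => G.map (toTop (∏ᶜ (Y ∘ a))).op)

theorem εG_π (a : Fin 1 → ι) :
    εG G ≫ Limits.Pi.π (term Y G 0) a = G.map (toTop (∏ᶜ (Y ∘ a))).op :=
  Limits.Pi.lift_π _ _

theorem εG_cmap (k : Fin (0 + 2)) :
    εG G ≫ cmap G (SimplexCategory.δ k) =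
      Limits.Pi.lift (f := term Y G (0 + 1)) (fun a => G.map (toTop (∏ᶜ (Y ∘ a))).op) := by
  apply Limits.Pi.hom_ext
  intro a
  simp only [εG, cmap, Category.assoc, Limits.Pi.lift_π, Limits.Pi.lift_π_assoc]
  rw [← G.map_comp, ← op_comp]
  exact congrArg (fun h => G.map (Quiver.Hom.op h)) (hom_eq _ _)

theorem εG_d : εG G ≫ (cx (Y (ι := ι)) G).d 0 1 = 0 := by
  rw [cx_d]
  unfold dd
  rw [Preadditive.comp_sum, Fin.sum_univ_two]
  simp only [Fin.val_zero, Fin.val_one, pow_zero, pow_one, one_smul, neg_smul]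
  have h0 := (εG_cmap G 0).trans (εG_cmap G 1).symm
  rw [Preadditive.comp_neg, add_neg_eq_zero]
  exact h0

/-- The augmented Čech complex. -/
noncomputable def aug : CochainComplex AddCommGrpCat.{u} ℕ :=
  (cx (Y (ι := ι)) G).augment (εG G) (εG_d G)

theorem εG_naturality {G G' : (L ι)ᵒᵖ ⥤ AddCommGrpCat.{u}} (α : G ⟶ G') :
    εG G ≫ ((cechComplexFunctor (A := AddCommGrpCat.{u}) (Y (ι := ι))).map α).f 0 =
      α.app (op ⊤) ≫ εG G' := by
  have h : ((cechComplexFunctor (A := AddCommGrpCat.{u}) (Y (ι := ι))).map α).f 0 =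
      Limits.Pi.map (fun a : Fin 1 → ι => α.app (op (∏ᶜ (Y ∘ a)))) := rfl
  rw [h]
  refine Limits.Pi.hom_ext (f := term Y G' 0) _ _ (fun a => ?_)
  rw [Category.assoc, Limits.Pi.map_π, ← Category.assoc, εG_π, Category.assoc, εG_π]
  exact α.naturality _

/-- Components of the map of augmented complexes. -/
noncomputable def augMapF {G G' : (L ι)ᵒᵖ ⥤ AddCommGrpCat.{u}} (α : G ⟶ G') (n : ℕ) :
    (aug G).X n ⟶ (aug G').X n :=
  match n with
  | 0 => α.app (op ⊤)
  | (n + 1) => ((cechComplexFunctor (A := AddCommGrpCat.{u}) (Y (ι := ι))).map α).f n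

/-- The map of augmented complexes. -/
noncomputable def augMap {G G' : (L ι)ᵒᵖ ⥤ AddCommGrpCat.{u}} (α : G ⟶ G') : aug G ⟶ aug G' where
  f := augMapF α
  comm' := by
    rintro i j (rfl : i + 1 = j)
    cases i with
    | zero => exact (εG_naturality α).symm
    | succ n =>
      exact ((cechComplexFunctor (A := AddCommGrpCat.{u}) (Y (ι := ι))).map α).comm n (n + 1)

/-- The augmented Čech complex functor. -/
noncomputable def augF : ((L ι)ᵒᵖ ⥤ AddCommGrpCat.{u}) ⥤ CochainComplex AddCommGrpCat.{u} ℕ where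
  obj G := aug G
  map α := augMap α
  map_id G := by
    apply HomologicalComplex.hom_ext
    intro n
    cases n with
    | zero => rfl
    | succ n =>
      show ((cechComplexFunctor (A := AddCommGrpCat.{u}) (Y (ι := ι))).map (𝟙 G)).f n = 𝟙 _
      rw [CategoryTheory.Functor.map_id]
      rfl
  map_comp α β := by
    apply HomologicalComplex.hom_ext
    intro n
    cases n with
    | zero => rfl
    | succ n =>
      show ((cechComplexFunctor (A := AddCommGrpCat.{u}) (Y (ι := ι))).map (α ≫ β)).f n =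
        ((cechComplexFunctor (A := AddCommGrpCat.{u}) (Y (ι := ι))).map α).f n ≫
          ((cechComplexFunctor (A := AddCommGrpCat.{u}) (Y (ι := ι))).map β).f n
      rw [CategoryTheory.Functor.map_comp]
      rfl

instance : (augF (ι := ι)).PreservesZeroMorphisms where
  map_zero G G' := by
    apply HomologicalComplex.hom_ext
    intro n
    cases n with
    | zero => rfl
    | succ n =>
      show ((cechComplexFunctor (A := AddCommGrpCat.{u}) (Y (ι := ι))).map (0 : G ⟶ G')).f n = 0
      rw [CategoryTheory.Functor.map_zero]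
      rfl

end aug

section homology

/-- Degree zero homology of a cochain complex of abelian groups. -/
theorem nonempty_H0_equiv (K : CochainComplex AddCommGrpCat.{u} ℕ) :
    Nonempty (K.homology 0 ≅ AddCommGrpCat.of (K.d 0 1).hom.ker) := by
  have e1 : K.cycles 0 ≅ K.homology 0 :=
    K.isoHomologyπ 0 0 (by simp) (K.shape _ _ (by simp))
  have e2 : K.cycles 0 ≅ kernel (K.d 0 1) :=
    IsLimit.conePointUniqueUpToIso (K.cyclesIsKernel 0 1 (by simp)) (limit.isLimit _)
  exact ⟨e1.symm ≪≫ e2 ≪≫ AddCommGrpCat.kernelIsoKer (K.d 0 1)⟩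

theorem isZero_homology_of_isZero_X (K : CochainComplex AddCommGrpCat.{u} ℕ) (n : ℕ)
    (h : IsZero (K.X n)) : IsZero (K.homology n) :=
  (ShortComplex.exact_iff_isZero_homology _).1 (ShortComplex.exact_of_isZero_X₂ _ h)

variable (G : (L ι)ᵒᵖ ⥤ AddCommGrpCat.{u})

/-- Higher homology of the augmented complex. -/
noncomputable def augHomologyIso (n : ℕ) :
    (aug G).homology (n + 2) ≅ (cx (Y (ι := ι)) G).homology (n + 1) :=
  (aug G).homologyIsoSc' (n + 1) (n + 2) (n + 3) (by simp) (by simp) ≪≫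
    ((cx (Y (ι := ι)) G).homologyIsoSc' n (n + 1) (n + 2) (by simp) (by simp)).symm

end homology

end Groth.Agent.H82.FullCech
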