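import Mathlib
import Groth.Agent.H82.FullCech

/-!
# The full Čech cohomology functors of the presheaf of localizations are effaced
-/

set_option autoImplicit false
set_option linter.unusedSectionVars false
set_option linter.unusedVariables false
set_option linter.style.haveILetI false
set_option backward.isDefEq.respectTransparency false

universe u

open CategoryTheory CategoryTheory.Limits DerCA Opposite Simplicial Groth.Agent.H67.Cech

namespace Groth.Agent.H82.FullCech

variable {R : Type u} [CommRing R] {ι : Type u} [DecidableEq ι] (f : ι → R)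

section les

/-- The full (augmented) Čech cohomology functors. -/
noncomputable def Tfull (n : ℕ) : ModuleCat.{u} R ⥤ AddCommGrpCat.{u} :=
  PAb f ⋙ augF ⋙ HomologicalComplex.homologyFunctor AddCommGrpCat.{u} (ComplexShape.up ℕ) n

theorem PAb_eval_shortExact {S : ShortComplex (ModuleCat.{u} R)} (hS : S.ShortExact) (W : L ι) :
    ((S.map (PAb f)).map ((evaluation (L ι)ᵒᵖ AddCommGrpCat.{u}).obj (op W))).ShortExact := by
  haveI := Cech.locFunctor_preservesFiniteLimits (R := R)
    (Submonoid.powers (fS f (OrderDual.ofDual W)))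
  haveI := Cech.locFunctor_preservesFiniteColimits (R := R)
    (Submonoid.powers (fS f (OrderDual.ofDual W)))
  exact hS.map_of_exact (locFunctor (Submonoid.powers (fS f (OrderDual.ofDual W))) ⋙
    forget₂ (ModuleCat.{u} R) AddCommGrpCat.{u})

theorem augF_shortExact {S : ShortComplex (ModuleCat.{u} R)} (hS : S.ShortExact) :
    (S.map (PAb f ⋙ augF)).ShortExact := by
  have hT := cx_shortExact (Y (ι := ι)) (S.map (PAb f))
    (fun n a => PAb_eval_shortExact f hS _)
  refine HomologicalComplex.shortExact_of_degreewise_shortExact _ (fun n => ?_)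
  cases n with
  | zero => exact PAb_eval_shortExact f hS ⊤
  | succ n => exact hT.map_of_exact (HomologicalComplex.eval _ _ n)

theorem hasCLES_Tfull : CDelta.HasCLES (Tfull f) := by
  intro S hS n
  have hSC := augF_shortExact f hS
  have z : (Tfull f n).map S.f ≫ (Tfull f n).map S.g = 0 := by
    rw [← CategoryTheory.Functor.map_comp, S.zero]
    show HomologicalComplex.homologyMap ((PAb f ⋙ augF).map (0 : S.X₁ ⟶ S.X₃)) n = 0
    rw [CategoryTheory.Functor.map_zero, HomologicalComplex.homologyMap_zero]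
  exact ⟨z, fun _ => hSC.homology_exact₂ n, hSC.δ n (n + 1) rfl,
    hSC.comp_δ _ _ rfl, hSC.δ_comp _ _ rfl, hSC.homology_exact₃ _ _ rfl,
    hSC.homology_exact₁ _ _ rfl⟩

end les

section elements

variable (M : ModuleCat.{u} R)

/-- The value of the abelian presheaf of localizations: restriction maps on elements. -/
theorem PAb_map_mkP {W V : L ι} (h : V ⟶ W) (x : M) :
    (((PAb f).obj M).map h.op).hom (mkP f M W x) = mkP f M V x :=
  P_map_mkP f M h x

theorem εG_apply_eq_zero_iff (G : (L ι)ᵒᵖ ⥤ AddCommGrpCat.{u}) (x : G.obj (op (⊤ : L ι))) :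
    (εG G).hom x = 0 ↔ ∀ a : Fin 1 → ι, (G.map (toTop (∏ᶜ (Y ∘ a))).op).hom x = 0 := by
  have key : ∀ a : Fin 1 → ι, (Limits.Pi.π (term Y G 0) a).hom ((εG G).hom x) =
      (G.map (toTop (∏ᶜ (Y ∘ a))).op).hom x := fun a =>
    congrArg (fun φ => φ.hom x) (εG_π G a)
  constructor
  · intro h a
    rw [← key a, h, map_zero]
  · intro h
    have h0 : ((εG G).hom x : (∏ᶜ (term Y G 0) : AddCommGrpCat.{u})) = 0 :=
      pi_ext (F := term Y G 0) (fun a => by rw [map_zero, key a]; exact h a)
    exact h0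

theorem pow_smul_eq_zero_of_dvd {A : Type u} [AddCommGroup A] [Module R A] {s t : R}
    (h : s ∣ t) (m : A) (n : ℕ) (hm : s ^ n • m = 0) : t ^ n • m = 0 := by
  obtain ⟨c, rfl⟩ := h
  rw [mul_pow, mul_comm, mul_smul, hm, smul_zero]

theorem mkP_eq_zero_iff (W : L ι) (m : M) :
    mkP f M W m = 0 ↔ ∃ t : ℕ, (fS f (OrderDual.ofDual W)) ^ t • m = 0 := by
  rw [IsLocalizedModule.eq_zero_iff (Submonoid.powers (fS f (OrderDual.ofDual W)))]
  constructor
  · rintro ⟨⟨_, t, rfl⟩, ht⟩
    exact ⟨t, ht⟩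
  · rintro ⟨t, ht⟩
    exact ⟨⟨_, t, rfl⟩, ht⟩

theorem mkP_top_bijective : Function.Bijective (mkP f M (⊤ : L ι)) := by
  have h1 : fS f (OrderDual.ofDual (⊤ : L ι)) = 1 := fS_empty f
  have hb : Function.Bijective
      (fun x : M => fS f (OrderDual.ofDual (⊤ : L ι)) • x) := by
    rw [h1]
    simp only [one_smul]
    exact Function.bijective_id
  exact CechU.mkLinearMap_bijective_of_smulBij _ M hb

variable (fs : List R) (hf : ∀ g : R, g ∈ fs ↔ ∃ i, f i = g)
include hf

/-- Degree zero: the torsion submodule. -/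
theorem nonempty_Tfull_zero :
    Nonempty ((Tfull f 0).obj M ≅
      AddCommGrpCat.of (DRing.torsionSub (Ideal.span {x | x ∈ fs}) M)) := by
  obtain ⟨e⟩ := nonempty_H0_equiv (aug ((PAb f).obj M))
  refine ⟨e ≪≫ ?_⟩
  have hd : (aug ((PAb f).obj M)).d 0 1 = εG ((PAb f).obj M) := rfl
  rw [hd]
  have hmem : ∀ m : DRing.torsionSub (Ideal.span {x | x ∈ fs}) M,
      (εG ((PAb f).obj M)).hom (mkP f M ⊤ m.1) = 0 := by
    intro m
    rw [εG_apply_eq_zero_iff]
    intro a
    rw [PAb_map_mkP, mkP_eq_zero_iff]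
    obtain ⟨t, ht⟩ := (mem_torsionSub_span_iff M m.1 fs).1 m.2 (f (a 0))
      ((hf _).2 ⟨a 0, rfl⟩)
    refine ⟨t, pow_smul_eq_zero_of_dvd ?_ _ t ht⟩
    rw [← fS_singleton f (a 0)]
    exact fS_dvd f (singleton_sub_pi a 0)
  let φ : DRing.torsionSub (Ideal.span {x | x ∈ fs}) M →+
      (εG ((PAb f).obj M)).hom.ker :=
    { toFun := fun m => ⟨mkP f M ⊤ m.1, hmem m⟩
      map_zero' := Subtype.ext (map_zero _)
      map_add' := fun a b => Subtype.ext (map_add _ _ _) }
  have hφ : Function.Bijective φ := by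
    constructor
    · intro a b hab
      exact Subtype.ext ((mkP_top_bijective f M).1 (congrArg Subtype.val hab))
    · rintro ⟨y, hy⟩
      obtain ⟨m, rfl⟩ := (mkP_top_bijective f M).2 y
      have hm : m ∈ DRing.torsionSub (Ideal.span {x | x ∈ fs}) M := by
        rw [mem_torsionSub_span_iff]
        intro g hg
        obtain ⟨i, rfl⟩ := (hf g).1 hg
        have h1 := (εG_apply_eq_zero_iff _ _).1 hy (fun _ => i)
        rw [PAb_map_mkP, mkP_eq_zero_iff] at h1
        obtain ⟨t, ht⟩ := h1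
        refine ⟨t, pow_smul_eq_zero_of_dvd ?_ _ t ht⟩
        rw [← fS_singleton f i]
        exact fS_dvd f (pi_const_sub i)
      exact ⟨⟨m, hm⟩, rfl⟩
  exact (AddEquiv.ofBijective φ hφ).symm.toAddCommGrpIso

omit hf in
theorem isZero_pi {α : Type u} (F : α → AddCommGrpCat.{u}) (h : ∀ a, IsZero (F a)) :
    IsZero (∏ᶜ F) := by
  rw [IsZero.iff_id_eq_zero]
  apply Limits.Pi.hom_ext
  intro a
  exact (h a).eq_of_tgt _ _

/-- Vanishing on torsion modules. -/
theorem isZero_Tfull_of_torsion (K : ModuleCat.{u} R)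
    (hK : DRing.torsionSub (Ideal.span {x | x ∈ fs}) K = ⊤) (p : ℕ) :
    IsZero ((Tfull f (p + 1)).obj K) := by
  apply isZero_homology_of_isZero_X
  show IsZero (∏ᶜ (term Y ((PAb f).obj K) p))
  apply isZero_pi
  intro a
  haveI : Subsingleton (LocalizedModule
      (Submonoid.powers (fS f (OrderDual.ofDual (∏ᶜ (Y ∘ a))))) K) := by
    apply CechU.subsingleton_localizedModule_of_torsion
    intro m
    have hm : m ∈ DRing.torsionSub (Ideal.span {x | x ∈ fs}) K := by
      rw [hK]
      trivial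
    obtain ⟨t, ht⟩ := (mem_torsionSub_span_iff K m fs).1 hm (f (a 0)) ((hf _).2 ⟨a 0, rfl⟩)
    refine ⟨t, pow_smul_eq_zero_of_dvd ?_ _ t ht⟩
    rw [← fS_singleton f (a 0)]
    exact fS_dvd f (singleton_sub_pi a 0)
  exact AddCommGrpCat.isZero_of_subsingleton
    (AddCommGrpCat.of (LocalizedModule
      (Submonoid.powers (fS f (OrderDual.ofDual (∏ᶜ (Y ∘ a))))) K))

end elements

end Groth.Agent.H82.FullCech
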