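import Mathlib
import Groth.Agent.H82.FullCech2

/-!
# Vanishing of the full Čech cohomology of localized modules, and comparison with the
extended alternating Čech cohomology
-/

set_option autoImplicit false
set_option linter.unusedSectionVars false
set_option linter.unusedVariables false
set_option linter.style.haveILetI false
set_option backward.isDefEq.respectTransparency false

universe u

open CategoryTheory CategoryTheory.Limits DerCA Opposite Simplicial Groth.Agent.H67.Cech

namespace Groth.Agent.H82.FullCech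

variable {R : Type u} [CommRing R] {ι : Type u} [DecidableEq ι] (f : ι → R)

section loc

theorem map_map_apply (G : (L ι)ᵒᵖ ⥤ AddCommGrpCat.{u}) {A B C : L ι} (p : A ⟶ B) (q : B ⟶ C)
    (r : A ⟶ C) (y : G.obj (op C)) :
    (G.map p.op).hom ((G.map q.op).hom y) = (G.map r.op).hom y := by
  have h : r = p ≫ q := hom_eq _ _
  rw [h, op_comp, G.map_comp]
  rfl

theorem comp0_εG (G : (L ι)ᵒᵖ ⥤ AddCommGrpCat.{u}) (y : G.obj (op (⊤ : L ι))) (j : ι) :
    comp0 G ((εG G).hom y) j = (G.map (toTop (Y j)).op).hom y := by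
  have h : εG G ≫ ev G (fun _ => ⟨j, 𝟙 (Y j)⟩ : Simplex Y (Y j) 0) = G.map (toTop (Y j)).op := by
    unfold ev
    rw [← Category.assoc, εG_π, ← G.map_comp, ← op_comp]
    exact congrArg (fun h => G.map (Quiver.Hom.op h)) (hom_eq _ _)
  exact congrArg (fun φ => φ.hom y) h

variable (i : ι) (N : ModuleCat.{u} R) (hN : Function.Bijective (fun x : N => f i • x))
include hN

theorem PAb_map_bijective {W V : L ι} (h : V ⟶ W)
    (hV : OrderDual.ofDual V ⊆ OrderDual.ofDual W ∪ {i}) :
    Function.Bijective (((PAb f).obj N).map h.op).hom := by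
  have hb : Function.Bijective (((P f).obj N).map h.op).hom := by
    refine bijective_of_loc (s := fS f (OrderDual.ofDual W)) (t := fS f (OrderDual.ofDual V))
      (mkP f N W) (mkP f N V) _ (fun x => P_map_mkP f N h x) ?_
    have h1 : fS f (OrderDual.ofDual V) ∣ fS f (OrderDual.ofDual W) * f i := by
      refine (fS_dvd f hV).trans ?_
      rw [← fS_singleton f i]
      exact fS_union_dvd f _ _
    refine smulBij_of_dvd h1 (smulBij_mul ?_ ?_)
    · exact smulBij_of_isLocalizedModule _ (mkP f N W)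
    · exact CechU.smulBij_localizedModule (f i) _ N hN
  exact hb

theorem εG_injective_of_loc : Function.Injective (εG ((PAb f).obj N)).hom := by
  rw [injective_iff_map_eq_zero]
  intro x hx
  have h1 := (εG_apply_eq_zero_iff _ x).1 hx (fun _ => i)
  have hb := PAb_map_bijective f i N hN (toTop (∏ᶜ (Y ∘ (fun _ : Fin 1 => i))))
    ((pi_const_sub i).trans Finset.subset_union_right)
  exact hb.1 (h1.trans (map_zero _).symm)

theorem exists_εG_eq_of_loc (x : (∏ᶜ (term Y ((PAb f).obj N) 0) : AddCommGrpCat.{u}))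
    (hx : (dd ((PAb f).obj N) 0).hom x = 0) :
    ∃ y, (εG ((PAb f).obj N)).hom y = x := by
  have hτ := PAb_map_bijective f i N hN (toTop (Y i))
    (show ({i} : Finset ι) ⊆ _ from Finset.subset_union_right)
  obtain ⟨y, hy⟩ := hτ.2 (comp0 ((PAb f).obj N) x i)
  refine ⟨y, ?_⟩
  apply cochain_ext
  intro j
  rw [comp0_εG]
  have hfst := PAb_map_bijective f i N hN (prod.fst : Y j ⨯ Y i ⟶ Y j) (prod_sub (Y j) i)
  apply hfst.1
  have hc := (cocycle_iff ((PAb f).obj N) x).1 hx (Y j ⨯ Y i) ⟨j, prod.fst⟩ ⟨i, prod.snd⟩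
  have hc' : (((PAb f).obj N).map (prod.fst : Y j ⨯ Y i ⟶ Y j).op).hom
      (comp0 ((PAb f).obj N) x j) =
      (((PAb f).obj N).map (prod.snd : Y j ⨯ Y i ⟶ Y i).op).hom
        (comp0 ((PAb f).obj N) x i) := hc
  rw [hc', ← hy, map_map_apply ((PAb f).obj N) prod.fst (toTop (Y j)) (toTop _) y,
    map_map_apply ((PAb f).obj N) prod.snd (toTop (Y i)) (toTop _) y]

theorem exists_retraction :
    ∃ r : RY (Y (ι := ι)) ((PAb f).obj N) ⟶ (PAb f).obj N,
      η (Y (ι := ι)) ((PAb f).obj N) ≫ r = 𝟙 _ := by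
  haveI hiso : ∀ W : L ι, IsIso (((PAb f).obj N).map (prod.fst : W ⨯ Y i ⟶ W).op) := fun W =>
    (ConcreteCategory.isIso_iff_bijective _).2 (PAb_map_bijective f i N hN _ (prod_sub W i))
  refine ⟨{ app := fun W => Limits.Pi.π
              (fun j => ((PAb f).obj N).obj (op (W.unop ⨯ Y j))) i ≫
              inv (((PAb f).obj N).map (prod.fst : W.unop ⨯ Y i ⟶ W.unop).op)
            naturality := ?_ }, ?_⟩
  · intro W W' h
    show Limits.Pi.map (fun j => ((PAb f).obj N).map (prod.map h.unop (𝟙 (Y j))).op) ≫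
        Limits.Pi.π (fun j => ((PAb f).obj N).obj (op (W'.unop ⨯ Y j))) i ≫
          inv (((PAb f).obj N).map (prod.fst : W'.unop ⨯ Y i ⟶ W'.unop).op) =
      (Limits.Pi.π (fun j => ((PAb f).obj N).obj (op (W.unop ⨯ Y j))) i ≫
          inv (((PAb f).obj N).map (prod.fst : W.unop ⨯ Y i ⟶ W.unop).op)) ≫
        ((PAb f).obj N).map h
    rw [Limits.Pi.map_π_assoc, Category.assoc]
    congr 1
    rw [IsIso.comp_inv_eq, Category.assoc, IsIso.eq_inv_comp, ← Functor.map_comp,
      ← Functor.map_comp]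
    congr 1
  · ext W : 2
    show Limits.Pi.lift (fun j => ((PAb f).obj N).map (prod.fst : W.unop ⨯ Y j ⟶ W.unop).op) ≫
        Limits.Pi.π (fun j => ((PAb f).obj N).obj (op (W.unop ⨯ Y j))) i ≫
          inv (((PAb f).obj N).map (prod.fst : W.unop ⨯ Y i ⟶ W.unop).op) = 𝟙 _
    rw [Limits.Pi.lift_π_assoc, IsIso.hom_inv_id]

/-- Vanishing on modules on which some `f i` acts bijectively. -/
theorem isZero_Tfull_of_loc (p : ℕ) : IsZero ((Tfull f p).obj N) := by
  match p with
  | 0 =>
    show IsZero ((aug ((PAb f).obj N)).homology 0)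
    rw [← HomologicalComplex.exactAt_iff_isZero_homology,
      HomologicalComplex.exactAt_iff' _ 0 0 1 (by simp) (by simp), ShortComplex.ab_exact_iff]
    intro x hx
    have hx' : (εG ((PAb f).obj N)).hom x = 0 := hx
    have h0 : x = 0 := εG_injective_of_loc f i N hN (hx'.trans (map_zero _).symm)
    exact ⟨0, by rw [map_zero]; exact h0.symm⟩
  | 1 =>
    show IsZero ((aug ((PAb f).obj N)).homology 1)
    rw [← HomologicalComplex.exactAt_iff_isZero_homology,
      HomologicalComplex.exactAt_iff' _ 0 1 2 (by simp) (by simp), ShortComplex.ab_exact_iff]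
    intro x hx
    have hx' : (dd ((PAb f).obj N) 0).hom x = 0 := by
      rw [← cx_d]
      exact hx
    exact exists_εG_eq_of_loc f i N hN x hx'
  | (p + 2) =>
    obtain ⟨r, hr⟩ := exists_retraction f i N hN
    exact IsZero.of_iso (isZero_homology_succ_of_retraction ((PAb f).obj N) r hr p)
      (augHomologyIso ((PAb f).obj N) p)

end loc

section main

variable (fs : List R) (hf : ∀ g : R, g ∈ fs ↔ ∃ i, f i = g)
include hf

/-- The full Čech cohomology functors are effaced. -/
theorem eff_Tfull : CechU.Eff fs (Tfull f) where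
  les := hasCLES_Tfull f
  tors p K hK := isZero_Tfull_of_torsion f fs hf K hK p
  loc p g hg N hN := by
    obtain ⟨i, rfl⟩ := (hf g).1 hg
    exact isZero_Tfull_of_loc f i N ((CechU.isUnit_end_iff _ _).1 hN) p

/-- The full (augmented) Čech cohomology of the presheaf of localizations is the extended
alternating Čech cohomology. -/
theorem nonempty_Tfull_iso_extCechH (M : ModuleCat.{u} R) (p : ℕ) :
    Nonempty ((Tfull f p).obj M ≅
      (forget₂ (ModuleCat.{u} R) AddCommGrpCat.{u}).obj (extCechH fs M (p : ℤ))) := by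
  have h1 := eff_Tfull f fs hf
  have h2 := (CechU.eff_cechH fs).comp (forget₂ (ModuleCat.{u} R) AddCommGrpCat.{u})
  refine CechU.uniq h1 h2 (fun M => ?_) p M
  obtain ⟨a⟩ := nonempty_Tfull_zero f M fs hf
  exact ⟨a ≪≫ ((forget₂ (ModuleCat.{u} R) AddCommGrpCat.{u}).mapIso
    (Cech.e0 M fs).toModuleIso).symm⟩

/-- Higher full Čech cohomology of the presheaf of localizations. -/
theorem nonempty_cx_homology_iso_extCechH (M : ModuleCat.{u} R) (p : ℕ) :
    Nonempty ((cx (Y (ι := ι)) ((PAb f).obj M)).homology (p + 1) ≅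
      (forget₂ (ModuleCat.{u} R) AddCommGrpCat.{u}).obj
        (extCechH fs M (((p + 2 : ℕ) : ℤ)))) := by
  obtain ⟨a⟩ := nonempty_Tfull_iso_extCechH f fs hf M (p + 2)
  exact ⟨(augHomologyIso ((PAb f).obj M) p).symm ≪≫ a⟩

end main

end Groth.Agent.H82.FullCech
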