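import Mathlib
import Groth.Agent.H82.FullCech3
import Groth.Agent.H82.CechGeo
import Groth.Agent.H67.CechTop2
import Groth.Agent.H45.AffineOpenVanishing

/-!
# Full Čech cohomology of a quasi-coherent module with respect to basic opens
-/

set_option autoImplicit false
set_option linter.unusedSectionVars false
set_option linter.unusedVariables false
set_option linter.style.haveILetI false
set_option backward.isDefEq.respectTransparency false

universe u

open CategoryTheory CategoryTheory.Limits AlgebraicGeometry TopologicalSpace Opposite DerCA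
  Groth.Agent.H67.Cech

namespace Groth.Agent.H82.FullCech

section abstract

variable {R : Type u} [CommRing R] {ι : Type u} [DecidableEq ι] (f : ι → R)

/-- A system of localizations is the presheaf of localizations. -/
theorem nonempty_P_iso (M : ModuleCat.{u} R) (Q : (L ι)ᵒᵖ ⥤ ModuleCat.{u} R)
    (η : ∀ W : L ι, M →ₗ[R] Q.obj (op W))
    (hη : ∀ {W V : L ι} (h : V ⟶ W) (x : M), (Q.map h.op).hom (η W x) = η V x)
    (hloc : ∀ W : L ι, IsLocalizedModule (Submonoid.powers (fS f (OrderDual.ofDual W))) (η W)) :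
    Nonempty ((P f).obj M ≅ Q) := by
  haveI := hloc
  refine ⟨NatIso.ofComponents (fun W => (IsLocalizedModule.linearEquiv
    (Submonoid.powers (fS f (OrderDual.ofDual W.unop))) (mkP f M W.unop)
      (η W.unop)).toModuleIso) ?_⟩
  intro W V h
  apply ModuleCat.hom_ext
  refine loc_lin_ext (s := fS f (OrderDual.ofDual W.unop)) ?_ (fun x => ?_)
  · exact isUnit_powers_of_smulBij _ (smulBij_of_dvd (fS_dvd f (sub_of_hom h.unop))
      (smulBij_of_isLocalizedModule _ (η V.unop)))
  · show (IsLocalizedModule.linearEquiv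
        (Submonoid.powers (fS f (OrderDual.ofDual V.unop))) (mkP f M V.unop) (η V.unop))
        ((((P f).obj M).map h.unop.op).hom (mkP f M W.unop x)) =
      (Q.map h.unop.op).hom ((IsLocalizedModule.linearEquiv
        (Submonoid.powers (fS f (OrderDual.ofDual W.unop))) (mkP f M W.unop) (η W.unop))
        (mkP f M W.unop x))
    rw [P_map_mkP f M h.unop x, IsLocalizedModule.linearEquiv_apply,
      IsLocalizedModule.linearEquiv_apply]
    exact (hη h.unop x).symm

end abstract

section geo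

variable {X : Scheme.{u}}

theorem le_basicOpen_prod {κ : Type*} (g : κ → Γ(X, ⊤)) (V : X.Opens) (S : Finset κ)
    (h : ∀ k ∈ S, V ≤ X.basicOpen (g k)) : V ≤ X.basicOpen (∏ k ∈ S, g k) := by
  classical
  induction S using Finset.induction_on with
  | empty =>
    rw [Finset.prod_empty, Scheme.basicOpen_one]
    exact le_top
  | insert a s ha ih =>
    rw [Finset.prod_insert ha, Scheme.basicOpen_mul]
    exact le_inf (h a (Finset.mem_insert_self a s))
      (ih fun k hk => h k (Finset.mem_insert_of_mem hk))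

theorem basicOpen_le_of_dvd {a b : Γ(X, ⊤)} (h : a ∣ b) : X.basicOpen b ≤ X.basicOpen a := by
  obtain ⟨c, rfl⟩ := h
  rw [Scheme.basicOpen_mul]
  exact inf_le_left

variable {ι : Type u} [DecidableEq ι] (f : ι → Γ(X, ⊤))

/-- The basic opens attached to finite subsets. -/
noncomputable def Φ : L ι ⥤ X.Opens :=
  Monotone.functor (f := fun W : L ι => X.basicOpen (fS f (OrderDual.ofDual W)))
    (fun W V h => basicOpen_le_of_dvd (fS_dvd f (OrderDual.ofDual_le_ofDual.2 h)))

theorem Φ_obj (W : L ι) : (Φ f).obj W = X.basicOpen (fS f (OrderDual.ofDual W)) := rfl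

theorem imgFam_Φ : imgFam (Φ f) (Y (ι := ι)) = fun i => X.basicOpen (f i) := by
  funext i
  show X.basicOpen (fS f {i}) = _
  rw [fS_singleton]

theorem isIso_cmp_Φ {n : ℕ} (a : Fin (n + 1) → ι) : IsIso (cmp (Φ f) (Y (ι := ι)) a) := by
  have hV : ∀ k, (∏ᶜ (imgFam (Φ f) Y ∘ a) : X.Opens) ≤ X.basicOpen (f (a k)) := fun k => by
    have h1 := leOfHom (Limits.Pi.π (imgFam (Φ f) Y ∘ a) k)
    have e : (imgFam (Φ f) Y ∘ a) k = X.basicOpen (f (a k)) := by
      show X.basicOpen (fS f {a k}) = _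
      rw [fS_singleton]
    exact h1.trans (le_of_eq e)
  have hle : (∏ᶜ (imgFam (Φ f) Y ∘ a) : X.Opens) ≤ (Φ f).obj (∏ᶜ (Y ∘ a)) := by
    show _ ≤ X.basicOpen (fS f (OrderDual.ofDual (∏ᶜ (Y ∘ a))))
    refine (le_basicOpen_prod f _ (Finset.univ.image a) ?_).trans
      (basicOpen_le_of_dvd (fS_dvd f ?_))
    · intro i hi
      obtain ⟨k, -, rfl⟩ := Finset.mem_image.1 hi
      exact hV k
    · refine pi_sub_of_hom a (OrderDual.toDual (Finset.univ.image a)) (fun k => homOfSub ?_)
      show ({a k} : Finset ι) ⊆ Finset.univ.image a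
      rw [Finset.singleton_subset_iff]
      exact Finset.mem_image_of_mem a (Finset.mem_univ k)
  exact ⟨⟨homOfLE hle, Subsingleton.elim _ _, Subsingleton.elim _ _⟩⟩

variable (F : X.Modules)

/-- The system of sections over the basic opens, as modules over the global functions. -/
noncomputable def QF : (L ι)ᵒᵖ ⥤ ModuleCat.{u} Γ(X, ⊤) where
  obj W := ModuleCat.of Γ(X, ⊤) (CechGeo.NU F ((Φ f).obj W.unop))
  map {W V} h := ModuleCat.ofHom (CechGeo.resN F (leOfHom ((Φ f).map h.unop)))
  map_id W := by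
    apply ModuleCat.hom_ext
    refine LinearMap.ext (fun s => ?_)
    have h : (homOfLE (le_refl ((Φ f).obj W.unop))).op = 𝟙 (op ((Φ f).obj W.unop)) := rfl
    show F.presheaf.map (homOfLE (le_refl ((Φ f).obj W.unop))).op _ = _
    rw [h, F.presheaf.map_id]
    rfl
  map_comp h₁ h₂ := by
    apply ModuleCat.hom_ext
    refine LinearMap.ext (fun s => ?_)
    exact (CechGeo.resN_resN F _ _ s).symm

/-- The underlying presheaf of abelian groups of the system of sections. -/
noncomputable def QFIso :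
    QF f F ⋙ forget₂ (ModuleCat.{u} Γ(X, ⊤)) AddCommGrpCat.{u} ≅ (Φ f).op ⋙ F.presheaf :=
  NatIso.ofComponents (fun W => Iso.refl _) (by
    intro W V h
    rw [Iso.refl_hom, Iso.refl_hom, Category.comp_id, Category.id_comp]
    rfl)

variable [F.IsQuasicoherent] [CompactSpace X] [X.IsSeparated]

theorem isLocalizedModule_resN (g : Γ(X, ⊤)) :
    IsLocalizedModule (Submonoid.powers g)
      (CechGeo.resN F (le_top : X.basicOpen g ≤ ⊤)) :=
  (CechGeo.glue_data F g ⊥ (by
    show IsCompact (((⊥ : X.Opens) : X.Opens) : Set X)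
    rw [TopologicalSpace.Opens.coe_bot]
    exact isCompact_empty)).loc

/-- Sections over the basic opens are the localizations of the global sections. -/
theorem nonempty_PAb_iso :
    Nonempty ((PAb f).obj (ModuleCat.of Γ(X, ⊤) (CechGeo.NU F ⊤)) ≅ (Φ f).op ⋙ F.presheaf) := by
  obtain ⟨e⟩ := nonempty_P_iso f (ModuleCat.of Γ(X, ⊤) (CechGeo.NU F ⊤)) (QF f F)
    (fun W => CechGeo.resN F (le_top : (Φ f).obj W ≤ ⊤))
    (fun {W V} h x => CechGeo.resN_resN F _ _ x)
    (fun W => isLocalizedModule_resN F (fS f (OrderDual.ofDual W)))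
  exact ⟨Functor.isoWhiskerRight e (forget₂ (ModuleCat.{u} Γ(X, ⊤)) AddCommGrpCat.{u}) ≪≫
    QFIso f F⟩

/-- Full Čech cohomology with respect to basic opens of a quasi-coherent module on a
quasi-compact separated scheme, in terms of the extended alternating Čech complex. -/
theorem nonempty_cechH_iso (fs : List Γ(X, ⊤)) (p : ℕ) :
    Nonempty ((CohB1.cechH (fun i : ULift.{u} (Fin fs.length) => X.basicOpen (fs.get i.down))
      F (p + 1)) ≅ (forget₂ (ModuleCat.{u} Γ(X, ⊤)) AddCommGrpCat.{u}).obj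
        (extCechH fs (ModuleCat.of Γ(X, ⊤) (CechGeo.NU F ⊤)) (((p + 2 : ℕ) : ℤ)))) := by
  classical
  let f : ULift.{u} (Fin fs.length) → Γ(X, ⊤) := fun i => fs.get i.down
  have hf : ∀ g : Γ(X, ⊤), g ∈ fs ↔ ∃ i, f i = g := by
    intro g
    rw [List.mem_iff_get]
    constructor
    · rintro ⟨n, hn⟩
      exact ⟨⟨n⟩, hn⟩
    · rintro ⟨i, hi⟩
      exact ⟨i.down, hi⟩
  obtain ⟨a⟩ := nonempty_cx_homology_iso_extCechH f fs hf
    (ModuleCat.of Γ(X, ⊤) (CechGeo.NU F ⊤)) p
  obtain ⟨b⟩ := nonempty_PAb_iso f F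
  have c : cx (imgFam (Φ f) (Y (ι := ULift.{u} (Fin fs.length)))) F.presheaf ≅
      cx (Y (ι := ULift.{u} (Fin fs.length))) ((Φ f).op ⋙ F.presheaf) :=
    cxIso (Φ f) Y F.presheaf (fun n a => isIso_cmp_Φ f a)
  rw [imgFam_Φ] at c
  have d : cx (Y (ι := ULift.{u} (Fin fs.length))) ((Φ f).op ⋙ F.presheaf) ≅
      cx (Y (ι := ULift.{u} (Fin fs.length)))
        ((PAb f).obj (ModuleCat.of Γ(X, ⊤) (CechGeo.NU F ⊤))) :=
    (cechComplexFunctor (A := AddCommGrpCat.{u}) (Y (ι := ULift.{u} (Fin fs.length)))).mapIso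
      b.symm
  exact ⟨(HomologicalComplex.homologyFunctor _ _ (p + 1)).mapIso (c ≪≫ d) ≪≫ a⟩

end geo

end Groth.Agent.H82.FullCech
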