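import Mathlib
import Groth.Agent.H82.FullCechGeo

/-!
# Cohomology of a union of affine basic opens via the full Čech complex
-/

set_option autoImplicit false
set_option linter.unusedSectionVars false
set_option linter.unusedVariables false
set_option linter.style.haveILetI false
set_option backward.isDefEq.respectTransparency false

universe u

open CategoryTheory CategoryTheory.Limits AlgebraicGeometry TopologicalSpace Opposite DerCA

namespace Groth.Agent.H82.FullCech

variable {X : Scheme.{u}}

theorem iInf_basicOpen_eq {κ : Type*} [Fintype κ] (g : κ → Γ(X, ⊤)) :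
    (⨅ k, X.basicOpen (g k)) = X.basicOpen (∏ k, g k) :=
  le_antisymm (le_basicOpen_prod g _ Finset.univ (fun k _ => iInf_le _ k))
    (le_iInf fun k => basicOpen_le_of_dvd (Finset.dvd_prod_of_mem g (Finset.mem_univ k)))

theorem isAffineOpen_basicOpen_of_le {U : X.Opens} (hU : IsAffineOpen U) (g : Γ(X, ⊤))
    (h : X.basicOpen g ≤ U) : IsAffineOpen (X.basicOpen g) := by
  have h1 := hU.basicOpen (X.presheaf.map (homOfLE (le_top : U ≤ ⊤)).op g)
  rw [Scheme.basicOpen_res, inf_eq_right.2 h] at h1
  exact h1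

theorem isAffineOpen_iInf {κ : Type*} [Fintype κ] [Nonempty κ] (g : κ → Γ(X, ⊤))
    (haff : ∀ k, IsAffineOpen (X.basicOpen (g k))) : IsAffineOpen (⨅ k, X.basicOpen (g k)) := by
  obtain ⟨k₀⟩ := ‹Nonempty κ›
  rw [iInf_basicOpen_eq]
  exact isAffineOpen_basicOpen_of_le (haff k₀) _
    (basicOpen_le_of_dvd (Finset.dvd_prod_of_mem g (Finset.mem_univ k₀)))

variable (F : X.Modules) [F.IsQuasicoherent]

/-- Cohomology of a union of affine basic opens is the full Čech cohomology. -/
theorem nonempty_HU_equiv_cechH (fs : List Γ(X, ⊤))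
    (haff : ∀ i : Fin fs.length, IsAffineOpen (X.basicOpen (fs.get i))) (q : ℕ) :
    Nonempty (CohB1.cechH (fun i : ULift.{u} (Fin fs.length) => X.basicOpen (fs.get i.down)) F q ≃+
      CohTop.HU (X := X.carrier) (Coh.toAb F) q (⨆ i : Fin fs.length, X.basicOpen (fs.get i))) := by
  have hsup : iSup (fun i : ULift.{u} (Fin fs.length) => X.basicOpen (fs.get i.down)) =
      ⨆ i : Fin fs.length, X.basicOpen (fs.get i) :=
    le_antisymm (iSup_le fun i => le_iSup (fun i : Fin fs.length => X.basicOpen (fs.get i)) i.down)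
      (iSup_le fun i => le_iSup
        (fun i : ULift.{u} (Fin fs.length) => X.basicOpen (fs.get i.down)) ⟨i⟩)
  obtain ⟨e⟩ := Groth.Agent.H67.CechTop.cech_eq_cohomology_top (X := X.carrier) (Coh.toAb F)
    (fun i : ULift.{u} (Fin fs.length) => X.basicOpen (fs.get i.down))
    (fun p a n => Groth.Agent.H45.AffineVanishing.subsingleton_HU_of_isAffineOpen F
      (isAffineOpen_iInf (fun k => fs.get (a k).down) (fun k => haff (a k).down)) n) q
  rw [hsup] at e
  exact ⟨e⟩

/-- Cohomology of the restriction to an open. -/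
theorem nonempty_HHon_equiv_HU (U : X.Opens) (q : ℕ) :
    Nonempty (Coh.HHon X F U q ≃+ CohTop.HU (X := X.carrier) (Coh.toAb F) q U) := by
  obtain ⟨e⟩ := Groth.Agent.H45.CohTopRestr.nonempty_HU_addEquiv_H_restr (X := X.carrier) U
    (Coh.toAb F) q
  exact ⟨e.symm⟩

end Groth.Agent.H82.FullCech
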