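import Mathlib
import Groth.Agent.H82.FullCechGeo2

/-!
# Full Čech cohomology of the sheaf associated with a module on an affine scheme
-/

set_option autoImplicit false
set_option linter.unusedSectionVars false
set_option linter.unusedVariables false
set_option linter.style.haveILetI false
set_option backward.isDefEq.respectTransparency false

universe u

open CategoryTheory CategoryTheory.Limits AlgebraicGeometry TopologicalSpace Opposite DerCA
  Groth.Agent.H67.Cech

namespace Groth.Agent.H82.FullCech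

section leray

variable {X : Scheme.{u}} (F : X.Modules) [F.IsQuasicoherent]

/-- Leray's theorem for a family of opens with affine finite intersections. -/
theorem nonempty_HU_equiv_cechH' {ι : Type u} (𝔘 : ι → X.Opens)
    (h : ∀ (p : ℕ) (a : Fin (p + 1) → ι), IsAffineOpen (⨅ k, 𝔘 (a k))) (q : ℕ) :
    Nonempty (CohB1.cechH 𝔘 F q ≃+ CohTop.HU (X := X.carrier) (Coh.toAb F) q (iSup 𝔘)) :=
  Groth.Agent.H67.CechTop.cech_eq_cohomology_top (X := X.carrier) (Coh.toAb F) 𝔘
    (fun p a n => Groth.Agent.H45.AffineVanishing.subsingleton_HU_of_isAffineOpen F (h p a) n) q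

end leray

section spec

variable {A : Type u} [CommRing A]

/-- The affine scheme. -/
noncomputable abbrev XA (A : Type u) [CommRing A] : Scheme.{u} := Spec (CommRingCat.of A)

/-- Basic opens of the affine scheme. -/
def bo (a : A) : (XA A).Opens := PrimeSpectrum.basicOpen a

theorem bo_mul (a b : A) : bo (a * b) = bo a ⊓ bo b := PrimeSpectrum.basicOpen_mul a b

theorem bo_one : bo (1 : A) = ⊤ := PrimeSpectrum.basicOpen_one

theorem le_bo_prod {κ : Type*} (g : κ → A) (V : (XA A).Opens) (S : Finset κ)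
    (h : ∀ k ∈ S, V ≤ bo (g k)) : V ≤ bo (∏ k ∈ S, g k) := by
  classical
  induction S using Finset.induction_on with
  | empty =>
    rw [Finset.prod_empty, bo_one]
    exact le_top
  | insert a s ha ih =>
    rw [Finset.prod_insert ha, bo_mul]
    exact le_inf (h a (Finset.mem_insert_self a s))
      (ih fun k hk => h k (Finset.mem_insert_of_mem hk))

theorem bo_le_of_dvd {a b : A} (h : a ∣ b) : bo b ≤ bo a := by
  obtain ⟨c, rfl⟩ := h
  rw [bo_mul]
  exact inf_le_left

theorem iInf_bo_eq {κ : Type*} [Fintype κ] (g : κ → A) : (⨅ k, bo (g k)) = bo (∏ k, g k) :=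
  le_antisymm (le_bo_prod g _ Finset.univ (fun k _ => iInf_le _ k))
    (le_iInf fun k => bo_le_of_dvd (Finset.dvd_prod_of_mem g (Finset.mem_univ k)))

theorem isAffineOpen_bo (a : A) : IsAffineOpen (X := XA A) (bo a) :=
  IsAffineOpen.Spec_basicOpen (R := CommRingCat.of A) a

theorem iSup_bo_eq_puncturedOpen (fs : List A) :
    (⨆ i : ULift.{u} (Fin fs.length), bo (fs.get i.down)) =
      LocCoh.puncturedOpen A (Ideal.span {a | a ∈ fs}) := by
  ext x
  simp only [TopologicalSpace.Opens.coe_iSup, Set.mem_iUnion, SetLike.mem_coe]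
  show (∃ i : ULift.{u} (Fin fs.length), x ∈ PrimeSpectrum.basicOpen (fs.get i.down)) ↔
    x ∈ (PrimeSpectrum.zeroLocus (R := A) ((Ideal.span {a | a ∈ fs} : Ideal A) : Set A))ᶜ
  rw [PrimeSpectrum.zeroLocus_span, Set.mem_compl_iff, PrimeSpectrum.mem_zeroLocus,
    Set.not_subset]
  constructor
  · rintro ⟨i, hi⟩
    exact ⟨fs.get i.down, List.get_mem fs i.down, hi⟩
  · rintro ⟨a, ha, hax⟩
    obtain ⟨n, rfl⟩ := List.mem_iff_get.1 ha
    exact ⟨⟨n⟩, hax⟩

variable {ι : Type u} [DecidableEq ι] (f : ι → A)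

/-- The basic opens attached to finite subsets. -/
noncomputable def ΦA : L ι ⥤ (XA A).Opens :=
  Monotone.functor (f := fun W : L ι => bo (fS f (OrderDual.ofDual W)))
    (fun W V h => bo_le_of_dvd (fS_dvd f (OrderDual.ofDual_le_ofDual.2 h)))

theorem imgFam_ΦA : imgFam (ΦA f) (Y (ι := ι)) = fun i => bo (f i) := by
  funext i
  show bo (fS f {i}) = _
  rw [fS_singleton]

theorem isIso_cmp_ΦA {n : ℕ} (a : Fin (n + 1) → ι) : IsIso (cmp (ΦA f) (Y (ι := ι)) a) := by
  have hV : ∀ k, (∏ᶜ (imgFam (ΦA f) Y ∘ a) : (XA A).Opens) ≤ bo (f (a k)) := fun k => by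
    have h1 := leOfHom (Limits.Pi.π (imgFam (ΦA f) Y ∘ a) k)
    have e : (imgFam (ΦA f) Y ∘ a) k = bo (f (a k)) := by
      show bo (fS f {a k}) = _
      rw [fS_singleton]
    exact h1.trans (le_of_eq e)
  have hle : (∏ᶜ (imgFam (ΦA f) Y ∘ a) : (XA A).Opens) ≤ (ΦA f).obj (∏ᶜ (Y ∘ a)) := by
    show _ ≤ bo (fS f (OrderDual.ofDual (∏ᶜ (Y ∘ a))))
    refine (le_bo_prod f _ (Finset.univ.image a) ?_).trans (bo_le_of_dvd (fS_dvd f ?_))
    · intro i hi
      obtain ⟨k, -, rfl⟩ := Finset.mem_image.1 hi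
      exact hV k
    · refine pi_sub_of_hom a (OrderDual.toDual (Finset.univ.image a)) (fun k => homOfSub ?_)
      show ({a k} : Finset ι) ⊆ Finset.univ.image a
      rw [Finset.singleton_subset_iff]
      exact Finset.mem_image_of_mem a (Finset.mem_univ k)
  exact ⟨⟨homOfLE hle, Subsingleton.elim _ _, Subsingleton.elim _ _⟩⟩

/-- The underlying presheaf of abelian groups of the sheaf of modules over the base ring. -/
noncomputable def specPresheafIso (N : (XA A).Modules) :
    (modulesSpecToSheaf.obj N).presheaf ⋙ forget₂ (ModuleCat.{u} A) AddCommGrpCat.{u} ≅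
      N.presheaf :=
  NatIso.ofComponents (fun U => Iso.refl _) (by
    intro U V h
    rw [Iso.refl_hom, Iso.refl_hom, Category.comp_id, Category.id_comp]
    rfl)

variable (M : ModuleCat.{u} A)

/-- The associated sheaf. -/
noncomputable abbrev til : (XA A).Modules := tilde (R := CommRingCat.of A) M

/-- Sections of the associated sheaf over the basic opens are the localizations. -/
theorem nonempty_PAb_iso_spec :
    Nonempty ((PAb f).obj M ≅ (ΦA f).op ⋙ (til M).presheaf) := by
  obtain ⟨e⟩ := nonempty_P_iso f M ((ΦA f).op ⋙ (modulesSpecToSheaf.obj (til M)).presheaf)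
    (fun W => (tilde.toOpen (R := CommRingCat.of A) M ((ΦA f).obj W)).hom)
    (fun {W V} h x => by
      have h1 := tilde.toOpen_res (R := CommRingCat.of A) M ((ΦA f).obj W) ((ΦA f).obj V)
        ((ΦA f).map h)
      exact congrArg (fun φ => φ.hom x) h1)
    (fun W => AlgebraicGeometry.tilde.instAwayCarrierCarrierObjOppositeOpensCarrierCarrierCommRingCatSpecModuleCatPresheafModulesSheafModulesSpecToSheafOpBasicOpenHomToOpen
      (R := CommRingCat.of A) M (fS f (OrderDual.ofDual W)))
  exact ⟨Functor.isoWhiskerRight e (forget₂ (ModuleCat.{u} A) AddCommGrpCat.{u}) ≪≫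
    Functor.isoWhiskerLeft (ΦA f).op (specPresheafIso (til M))⟩

variable (fs : List A)

/-- The family of basic opens of a list. -/
abbrev boFam : ULift.{u} (Fin fs.length) → (XA A).Opens := fun i => bo (fs.get i.down)

theorem mem_iff_get_ulift (g : A) :
    g ∈ fs ↔ ∃ i : ULift.{u} (Fin fs.length), fs.get i.down = g := by
  rw [List.mem_iff_get]
  constructor
  · rintro ⟨n, hn⟩
    exact ⟨⟨n⟩, hn⟩
  · rintro ⟨i, hi⟩
    exact ⟨i.down, hi⟩

/-- The augmented full Čech complex of the associated sheaf computes the extended alternating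
Čech cohomology, in all degrees. -/
theorem nonempty_aug_homology_iso_spec (n : ℕ) :
    Nonempty ((aug ((ΦA (fun i : ULift.{u} (Fin fs.length) => fs.get i.down)).op ⋙
      (til M).presheaf)).homology n ≅
      (forget₂ (ModuleCat.{u} A) AddCommGrpCat.{u}).obj (extCechH fs M (n : ℤ))) := by
  classical
  obtain ⟨a⟩ := nonempty_Tfull_iso_extCechH (fun i : ULift.{u} (Fin fs.length) => fs.get i.down)
    fs (mem_iff_get_ulift fs) M n
  obtain ⟨b⟩ := nonempty_PAb_iso_spec (fun i : ULift.{u} (Fin fs.length) => fs.get i.down) M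
  exact ⟨(HomologicalComplex.homologyFunctor _ _ n).mapIso (augF.mapIso b.symm) ≪≫ a⟩

/-- Full Čech cohomology of the associated sheaf with respect to basic opens. -/
theorem nonempty_cechH_iso_spec (p : ℕ) :
    Nonempty (CohB1.cechH (boFam fs) (til M) (p + 1) ≅
      (forget₂ (ModuleCat.{u} A) AddCommGrpCat.{u}).obj
        (extCechH fs M (((p + 2 : ℕ) : ℤ)))) := by
  classical
  let f : ULift.{u} (Fin fs.length) → A := fun i => fs.get i.down
  obtain ⟨a⟩ := nonempty_aug_homology_iso_spec M fs (p + 2)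
  have c : cx (imgFam (ΦA f) (Y (ι := ULift.{u} (Fin fs.length)))) (til M).presheaf ≅
      cx (Y (ι := ULift.{u} (Fin fs.length))) ((ΦA f).op ⋙ (til M).presheaf) :=
    cxIso (ΦA f) Y (til M).presheaf (fun n a => isIso_cmp_ΦA f a)
  rw [imgFam_ΦA] at c
  exact ⟨(HomologicalComplex.homologyFunctor _ _ (p + 1)).mapIso c ≪≫
    (augHomologyIso ((ΦA f).op ⋙ (til M).presheaf) p).symm ≪≫ a⟩

/-- Cohomology of the punctured spectrum in terms of Koszul cohomology. -/
theorem nonempty_HU_equiv_koszul_spec (p : ℕ) :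
    Nonempty (CohTop.HU (X := (XA A).carrier) (Coh.toAb (til M)) (p + 1)
      (LocCoh.puncturedOpen A (Ideal.span {a | a ∈ fs})) ≃+
        CohIII.koszulHLim fs M (p + 2)) := by
  obtain ⟨e⟩ := nonempty_HU_equiv_cechH' (til M) (boFam fs)
    (fun q a => by
      rw [iInf_bo_eq (fun k => fs.get (a k).down)]
      exact isAffineOpen_bo _) (p + 1)
  rw [iSup_bo_eq_puncturedOpen] at e
  obtain ⟨c⟩ := nonempty_cechH_iso_spec M fs p
  obtain ⟨k⟩ := Groth.Agent.H82.KC.nonempty_koszulHLim_equiv_extCechH fs M (p + 2)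
  exact ⟨e.symm.trans (c.addCommGroupIsoToAddEquiv.trans k.symm.toAddEquiv)⟩

end spec

end Groth.Agent.H82.FullCech
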