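import Mathlib
import Groth.Agent.S16019
import Groth.Agent.S16022
import Groth.Agent.H82.FullCechSpec

/-!
# A natural Leray comparison map (Čech cohomology to sheaf cohomology)

Built from helper67's edge maps (`CechEdge.IsEdge`): natural in the abelian sheaf, bijective for
sheaves that are acyclic on the finite intersections of the covering.
-/

set_option autoImplicit false
set_option linter.unusedSectionVars false
set_option linter.unusedVariables false
set_option linter.style.haveILetI false

universe u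

open CategoryTheory CategoryTheory.Limits Opposite TopologicalSpace AlgebraicGeometry

namespace Groth.Agent.H82.LerayNat

section site

variable {C : Type u} [SmallCategory C] [HasPullbacks C] (J : GrothendieckTopology C)

lemma HUmap_comp {F G H : Sheaf J AddCommGrpCat.{u}} (a : F ⟶ G) (b : G ⟶ H) (p : ℕ) (U : C)
    (x : CohSite.HU F p U) :
    CechEdge.HUmap (a ≫ b) p U x = CechEdge.HUmap b p U (CechEdge.HUmap a p U x) := by
  show ((((Sheaf.cohomologyPresheafFunctor J p).map (a ≫ b)).app (op U)).hom x) = _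
  rw [Functor.map_comp]
  rfl

theorem edgeSh_natural {U : C} {ι : Type u} {Y : ι → Over U}
    (e : ∀ (P : Cᵒᵖ ⥤ AddCommGrpCat.{u}) (p : ℕ),
      CohCx.cechH P Y p →+ CohSite.HU (CechEdge.shf J P) p U)
    (he : CechEdge.IsEdge J Y e) {F G : Sheaf J AddCommGrpCat.{u}} (ψ : F ⟶ G) (p : ℕ)
    (x : CohCx.cechH F.obj Y p) :
    CechEdge.edgeSh e G p (CechEdge.cechHMap Y ψ.hom p x) =
      CechEdge.HUmap ψ p U (CechEdge.edgeSh e F p x) := by
  unfold CechEdge.edgeSh
  simp only [AddMonoidHom.comp_apply]
  rw [he.natural F.obj G.obj ψ.hom p x, ← HUmap_comp, ← HUmap_comp]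
  congr 2
  exact (sheafificationAdjunction J AddCommGrpCat.{u}).counit.naturality ψ

end site

section top

variable {X : TopCat.{u}}

open Groth.Agent.H67 Groth.Agent.H67.CechTop

/-- The map induced on Čech cohomology by a morphism of presheaves. -/
noncomputable abbrev cechMap {ι : Type u} (U : ι → Opens X)
    {P Q : (Opens X)ᵒᵖ ⥤ AddCommGrpCat.{u}} (φ : P ⟶ Q) (p : ℕ) :
    CohTop.cechH P U p →+ CohTop.cechH Q U p :=
  (HomologicalComplex.homologyMap ((cechComplexFunctor U).map φ) p).hom

lemma cxIso_natural {W : Opens X} {ι : Type u} (Y : ι → Over W)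
    {P Q : (Opens X)ᵒᵖ ⥤ AddCommGrpCat.{u}} (φ : P ⟶ Q) :
    (cechComplexFunctor (fun i => (Y i).left)).map φ ≫
        (Cech.cxIso (Over.forget W) Y Q (fun _ a => isIso_cmp Y a)).hom =
      (Cech.cxIso (Over.forget W) Y P (fun _ a => isIso_cmp Y a)).hom ≫
        (CechEdge.cxFunctor Y).map φ := by
  apply HomologicalComplex.hom_ext
  intro n
  show Limits.Pi.map (fun a => φ.app _) ≫ Cech.ψ (Over.forget W) Y Q n =
    Cech.ψ (Over.forget W) Y P n ≫ Limits.Pi.map (fun a => φ.app _)
  unfold Cech.ψ
  rw [Limits.Pi.map_comp_map, Limits.Pi.map_comp_map]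
  congr 1
  funext a
  exact (φ.naturality _).symm

lemma cechHIso_natural {W : Opens X} {ι : Type u} (Y : ι → Over W)
    {P Q : (Opens X)ᵒᵖ ⥤ AddCommGrpCat.{u}} (φ : P ⟶ Q) (p : ℕ)
    (x : CohTop.cechH P (fun i => (Y i).left) p) :
    (cechHIso Q Y p).hom.hom (cechMap (fun i => (Y i).left) φ p x) =
      CechEdge.cechHMap Y φ p ((cechHIso P Y p).hom.hom x) := by
  have h := ((HomologicalComplex.homologyMap_comp
      ((cechComplexFunctor (fun i => (Y i).left)).map φ)
      (Cech.cxIso (Over.forget W) Y Q (fun _ a => isIso_cmp Y a)).hom p).symm.trans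
    (congrArg (fun f => HomologicalComplex.homologyMap f p) (cxIso_natural Y φ))).trans
    (HomologicalComplex.homologyMap_comp
      (Cech.cxIso (Over.forget W) Y P (fun _ a => isIso_cmp Y a)).hom
      ((CechEdge.cxFunctor Y).map φ) p)
  exact congrArg (fun f => f.hom x) h

/-- The natural comparison map from Čech cohomology to cohomology over the union. -/
theorem exists_natural_cech_to_HU {ι : Type u} (U : ι → Opens X) (W : Opens X) (hW : iSup U = W)
    (p : ℕ) :
    ∃ e : ∀ F : CohTop.Ab X, CohTop.cechH F.obj U p →+ CohTop.HU F p W,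
      (∀ (F G : CohTop.Ab X) (ψ : F ⟶ G) (x : CohTop.cechH F.obj U p),
        e G (cechMap U ψ.hom p x) = CohTop.HUmap ψ p W (e F x)) ∧
      ∀ F : CohTop.Ab X, (∀ (n : ℕ) (a : Fin (n + 1) → ι) (q : ℕ),
        Subsingleton (CohTop.HU F (q + 1) (iInf fun k => U (a k)))) →
        Function.Bijective (e F) := by
  subst hW
  have hcov := covering_of_iSup_eq (famOver (iSup U) U (le_iSup U)) rfl
  obtain ⟨e₀, he₀⟩ := Groth.Agent.S16019.result (Opens.grothendieckTopology X)
    (famOver (iSup U) U (le_iSup U)) hcov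
  refine ⟨fun F => (CechEdge.edgeSh e₀ F p).comp
    (cechHIso F.obj (famOver (iSup U) U (le_iSup U)) p).hom.hom, ?_, ?_⟩
  · intro F G ψ x
    simp only [AddMonoidHom.comp_apply]
    have h1 := cechHIso_natural (famOver (iSup U) U (le_iSup U)) ψ.hom p x
    have h2 := edgeSh_natural (Opens.grothendieckTopology X) e₀ he₀ ψ p
      ((cechHIso F.obj (famOver (iSup U) U (le_iSup U)) p).hom.hom x)
    exact (congrArg (CechEdge.edgeSh e₀ G p) h1).trans h2
  · intro F hF
    have hb := Groth.Agent.S16022.result (Opens.grothendieckTopology X)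
      (famOver (iSup U) U (le_iSup U)) e₀ he₀ F (fun n a q => by
        rw [prod_left_eq_iInf]
        exact hF n a q) p
    have hi : Function.Bijective (cechHIso F.obj (famOver (iSup U) U (le_iSup U)) p).hom.hom :=
      (cechHIso F.obj (famOver (iSup U) U (le_iSup U)) p).addCommGroupIsoToAddEquiv.bijective
    exact hb.comp hi

end top

section scheme

variable {X : Scheme.{u}}

open Groth.Agent.H45.AffineVanishing

lemma HTerminal_natural {F G : CohTop.Ab X.carrier} (ψ : F ⟶ G) (n : ℕ)
    (x : CohTop.HU F n (⊤ : Opens X.carrier)) :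
    HTerminalAddEquiv (Opens.grothendieckTopology X.carrier)
        (isTerminalTop : IsTerminal (⊤ : Opens X.carrier)) G n (CohTop.HUmap ψ n ⊤ x) =
      Sheaf.H.map ψ n (HTerminalAddEquiv (Opens.grothendieckTopology X.carrier)
        (isTerminalTop : IsTerminal (⊤ : Opens X.carrier)) F n x) := by
  show (Abelian.Ext.mk₀ _).comp (Abelian.Ext.comp x (Abelian.Ext.mk₀ ψ) (add_zero n)) (zero_add n) =
    Abelian.Ext.comp ((Abelian.Ext.mk₀ _).comp x (zero_add n)) (Abelian.Ext.mk₀ ψ) (add_zero n)
  rw [Abelian.Ext.comp_assoc_of_third_deg_zero]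

/-- The natural Leray comparison map on a scheme, for a family of opens covering the scheme:
natural in the abelian sheaf, bijective for quasi-coherent modules when the finite intersections
of the family are affine. -/
theorem exists_leray {ι : Type u} (𝔘 : ι → X.Opens) (htop : iSup 𝔘 = ⊤) (p : ℕ) :
    ∃ e : ∀ F : CohTop.Ab X.carrier, CohTop.cechH F.obj 𝔘 p →+ Sheaf.H F p,
      (∀ (F G : CohTop.Ab X.carrier) (ψ : F ⟶ G) (x : CohTop.cechH F.obj 𝔘 p),
        e G (cechMap 𝔘 ψ.hom p x) = Sheaf.H.map ψ p (e F x)) ∧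
      ∀ (M : X.Modules) [M.IsQuasicoherent],
        (∀ (n : ℕ) (a : Fin (n + 1) → ι), IsAffineOpen (⨅ k, 𝔘 (a k))) →
        Function.Bijective (e (Coh.toAb M)) := by
  obtain ⟨e, hnat, hbij⟩ := exists_natural_cech_to_HU (X := X.carrier) 𝔘 ⊤ htop p
  refine ⟨fun F => (HTerminalAddEquiv (Opens.grothendieckTopology X.carrier)
    (isTerminalTop : IsTerminal (⊤ : Opens X.carrier)) F p).toAddMonoidHom.comp (e F), ?_, ?_⟩
  · intro F G ψ x
    simp only [AddMonoidHom.comp_apply, AddEquiv.coe_toAddMonoidHom]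
    rw [hnat F G ψ x]
    exact HTerminal_natural ψ p _
  · intro M _ haff
    have h1 := hbij (Coh.toAb M) (fun n a q =>
      subsingleton_HU_of_isAffineOpen M (haff n a) q)
    exact (HTerminalAddEquiv (Opens.grothendieckTopology X.carrier)
      (isTerminalTop : IsTerminal (⊤ : Opens X.carrier)) (Coh.toAb M) p).bijective.comp h1

end scheme

end Groth.Agent.H82.LerayNat
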