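import Mathlib

/-!
# Computing the homology of a cochain complex of abelian groups from elementwise data
-/

set_option autoImplicit false
set_option linter.unusedSectionVars false
set_option linter.unusedVariables false
set_option linter.style.haveILetI false

universe u

open CategoryTheory CategoryTheory.Limits

namespace Groth.Agent.H82.HomologyData

variable (K : CochainComplex AddCommGrpCat.{u} ℕ)

lemma exists_cycle (j : ℕ) (c : K.X j) (hc : (K.d j (j + 1)).hom c = 0) :
    ∃ z : K.cycles j, (K.iCycles j).hom z = c := by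
  have hex : (ShortComplex.mk (K.iCycles j) (K.d j (j + 1)) (K.iCycles_d j (j + 1))).Exact :=
    ShortComplex.exact_of_f_is_kernel _ (K.cyclesIsKernel j (j + 1) (by simp))
  exact (ShortComplex.ab_exact_iff _).1 hex c hc

lemma iCycles_injective (j : ℕ) : Function.Injective (K.iCycles j).hom :=
  (AddCommGrpCat.mono_iff_injective _).1 inferInstance

lemma homologyπ_surjective (j : ℕ) : Function.Surjective (K.homologyπ j).hom :=
  (AddCommGrpCat.epi_iff_surjective _).1 inferInstance

lemma d_iCycles (j : ℕ) (z : K.cycles j) : (K.d j (j + 1)).hom ((K.iCycles j).hom z) = 0 := by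
  have h := congrArg (fun f => f.hom z) (K.iCycles_d j (j + 1))
  exact h

lemma iCycles_toCycles (i : ℕ) (y : K.X i) :
    (K.iCycles (i + 1)).hom ((K.toCycles i (i + 1)).hom y) = (K.d i (i + 1)).hom y := by
  have h := congrArg (fun f => f.hom y) (K.toCycles_i i (i + 1))
  exact h

/-- Homology in positive degree from elementwise data. -/
theorem exists_homology_equiv (i : ℕ) {W : Type u} [AddCommGroup W] (ρ : K.X (i + 1) →+ W)
    (h1 : ∀ y : K.X i, ρ ((K.d i (i + 1)).hom y) = 0)
    (h2 : ∀ x : K.X (i + 1), (K.d (i + 1) (i + 2)).hom x = 0 → ρ x = 0 →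
      ∃ y, (K.d i (i + 1)).hom y = x)
    (h3 : ∀ w : W, ∃ x : K.X (i + 1), (K.d (i + 1) (i + 2)).hom x = 0 ∧ ρ x = w) :
    ∃ e : K.homology (i + 1) ≃+ W, ∀ z : K.cycles (i + 1),
      e ((K.homologyπ (i + 1)).hom z) = ρ ((K.iCycles (i + 1)).hom z) := by
  have hi : (ComplexShape.up ℕ).prev (i + 1) = i := by simp
  let ρ' : K.cycles (i + 1) ⟶ AddCommGrpCat.of W := K.iCycles (i + 1) ≫ AddCommGrpCat.ofHom ρ
  have hρ' : K.toCycles i (i + 1) ≫ ρ' = 0 := by
    ext y
    show ρ ((K.iCycles (i + 1)).hom ((K.toCycles i (i + 1)).hom y)) = 0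
    rw [iCycles_toCycles, h1]
  let e₀ : K.homology (i + 1) ⟶ AddCommGrpCat.of W :=
    (K.homologyIsCokernel i (i + 1) hi).desc (CokernelCofork.ofπ ρ' hρ')
  have he₀ : K.homologyπ (i + 1) ≫ e₀ = ρ' :=
    (K.homologyIsCokernel i (i + 1) hi).fac (CokernelCofork.ofπ ρ' hρ') WalkingParallelPair.one
  have he₀' : ∀ z : K.cycles (i + 1),
      e₀.hom ((K.homologyπ (i + 1)).hom z) = ρ ((K.iCycles (i + 1)).hom z) := by
    intro z
    exact congrArg (fun f => f.hom z) he₀
  have hinj : Function.Injective e₀.hom := by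
    rw [injective_iff_map_eq_zero]
    intro h hh
    obtain ⟨z, rfl⟩ := homologyπ_surjective K (i + 1) h
    rw [he₀'] at hh
    obtain ⟨y, hy⟩ := h2 _ (d_iCycles K (i + 1) z) hh
    have hz : z = (K.toCycles i (i + 1)).hom y := by
      apply iCycles_injective K (i + 1)
      rw [iCycles_toCycles, hy]
    rw [hz]
    have := congrArg (fun f => f.hom y) (K.toCycles_comp_homologyπ i (i + 1))
    exact this
  have hsurj : Function.Surjective e₀.hom := by
    intro w
    obtain ⟨x, hx, hw⟩ := h3 w
    obtain ⟨z, hz⟩ := exists_cycle K (i + 1) x hx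
    exact ⟨(K.homologyπ (i + 1)).hom z, by rw [he₀', hz, hw]⟩
  exact ⟨AddEquiv.ofBijective e₀.hom ⟨hinj, hsurj⟩, he₀'⟩

/-- Homology in degree zero from elementwise data. -/
theorem exists_homology_zero_equiv {W : Type u} [AddCommGroup W] (ρ : K.X 0 →+ W)
    (h2 : ∀ x : K.X 0, (K.d 0 1).hom x = 0 → ρ x = 0 → x = 0)
    (h3 : ∀ w : W, ∃ x : K.X 0, (K.d 0 1).hom x = 0 ∧ ρ x = w) :
    ∃ e : K.homology 0 ≃+ W, ∀ z : K.cycles 0,
      e ((K.homologyπ 0).hom z) = ρ ((K.iCycles 0).hom z) := by
  have hi : (ComplexShape.up ℕ).prev 0 = 0 := by simp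
  let E : K.cycles 0 ≅ K.homology 0 := K.isoHomologyπ 0 0 hi (K.shape _ _ (by simp))
  have hE : E.hom = K.homologyπ 0 := rfl
  let f : K.homology 0 →+ W := ρ.comp ((K.iCycles 0).hom.comp E.inv.hom)
  have hf : ∀ z : K.cycles 0, f ((K.homologyπ 0).hom z) = ρ ((K.iCycles 0).hom z) := by
    intro z
    show ρ ((K.iCycles 0).hom (E.inv.hom ((K.homologyπ 0).hom z))) = _
    have : E.inv.hom ((K.homologyπ 0).hom z) = z := by
      have := congrArg (fun g => g.hom z) E.hom_inv_id
      rw [hE] at this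
      exact this
    rw [this]
  have hinj : Function.Injective f := by
    rw [injective_iff_map_eq_zero]
    intro h hh
    obtain ⟨z, rfl⟩ := homologyπ_surjective K 0 h
    rw [hf] at hh
    have h0 := h2 _ (d_iCycles K 0 z) hh
    have hz : z = 0 := by
      apply iCycles_injective K 0
      rw [h0, map_zero]
    rw [hz, map_zero]
  have hsurj : Function.Surjective f := by
    intro w
    obtain ⟨x, hx, hw⟩ := h3 w
    obtain ⟨z, hz⟩ := exists_cycle K 0 x hx
    exact ⟨(K.homologyπ 0).hom z, by rw [hf, hz, hw]⟩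
  exact ⟨AddEquiv.ofBijective f ⟨hinj, hsurj⟩, hf⟩

/-- Compatibility of such an identification with an endomorphism of the complex. -/
theorem homologyMap_compat (a : K ⟶ K) (j : ℕ) {W : Type u} [AddCommGroup W]
    (e : K.homology j ≃+ W) (ρ : K.X j →+ W)
    (he : ∀ z : K.cycles j, e ((K.homologyπ j).hom z) = ρ ((K.iCycles j).hom z))
    (b : W →+ W) (hb : ∀ x, ρ ((a.f j).hom x) = b (ρ x)) (h : K.homology j) :
    e ((HomologicalComplex.homologyMap a j).hom h) = b (e h) := by
  obtain ⟨z, rfl⟩ := homologyπ_surjective K j h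
  have h1 : (HomologicalComplex.homologyMap a j).hom ((K.homologyπ j).hom z) =
      (K.homologyπ j).hom ((HomologicalComplex.cyclesMap a j).hom z) := by
    have := congrArg (fun g => g.hom z) (HomologicalComplex.homologyπ_naturality a j)
    exact this
  have h2 : (K.iCycles j).hom ((HomologicalComplex.cyclesMap a j).hom z) =
      (a.f j).hom ((K.iCycles j).hom z) := by
    have := congrArg (fun g => g.hom z) (HomologicalComplex.cyclesMap_i a j)
    exact this
  rw [h1, he, h2, hb, he]

/-- Exactness from elementwise data. -/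
theorem subsingleton_homology (i : ℕ)
    (h2 : ∀ x : K.X (i + 1), (K.d (i + 1) (i + 2)).hom x = 0 → ∃ y, (K.d i (i + 1)).hom y = x) :
    Subsingleton (K.homology (i + 1)) := by
  obtain ⟨e, -⟩ := exists_homology_equiv K i (W := PUnit.{u + 1}) 0 (fun _ => rfl)
    (fun x hx _ => h2 x hx) (fun w => ⟨0, by simp, rfl⟩)
  exact e.toEquiv.subsingleton

end Groth.Agent.H82.HomologyData
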