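import Mathlib

/-!
# Ordered cochains on a finite set supported on surjective tuples

The complex of functions on all ordered tuples `Fin (q+1) → ι` with the alternating differential,
and its subcomplex of functions supported on surjective tuples.  The latter has cohomology only in
degree `card ι - 1`, where it is the coefficient group.
-/

set_option autoImplicit false
set_option linter.unusedSectionVars false
set_option linter.unusedVariables false
set_option linter.style.haveILetI false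

universe u

open CategoryTheory Finset

namespace Groth.Agent.H82.OrdCech

variable {ι M : Type u} [Fintype ι] [DecidableEq ι] [AddCommGroup M]

/-- ordered tuples -/
abbrev T (ι : Type u) (q : ℕ) : Type u := Fin (q + 1) → ι

/-- the alternating differential -/
def dF {q : ℕ} (f : T ι q → M) : T ι (q + 1) → M :=
  fun γ => ∑ k : Fin (q + 2), ((-1 : ℤ) ^ (k : ℕ)) • f (γ ∘ k.succAbove)

lemma dF_apply {q : ℕ} (f : T ι q → M) (γ : T ι (q + 1)) :
    dF f γ = ∑ k : Fin (q + 2), ((-1 : ℤ) ^ (k : ℕ)) • f (γ ∘ k.succAbove) := rfl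

lemma dF_zero {q : ℕ} : dF (0 : T ι q → M) = 0 := by
  funext γ
  simp [dF_apply]

lemma dF_add {q : ℕ} (f g : T ι q → M) : dF (f + g) = dF f + dF g := by
  funext γ
  simp [dF_apply, smul_add, Finset.sum_add_distrib]

lemma dF_neg {q : ℕ} (f : T ι q → M) : dF (-f) = -dF f := by
  funext γ
  simp [dF_apply]

lemma dF_sub {q : ℕ} (f g : T ι q → M) : dF (f - g) = dF f - dF g := by
  rw [sub_eq_add_neg, dF_add, dF_neg, ← sub_eq_add_neg]

/-- naturality of the differential in the coefficients -/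
lemma dF_comp {N : Type u} [AddCommGroup N] (a : M →+ N) {q : ℕ} (f : T ι q → M) :
    dF (fun γ => a (f γ)) = fun γ => a (dF f γ) := by
  funext γ
  simp [dF_apply, map_sum, map_zsmul]

section dsq

/-- the cosimplicial abelian group of functions on tuples -/
noncomputable def cosimp (ι M : Type u) [AddCommGroup M] : CosimplicialObject AddCommGrpCat.{u} where
  obj n := AddCommGrpCat.of ((Fin (n.len + 1) → ι) → M)
  map f := AddCommGrpCat.ofHom
    { toFun := fun φ γ => φ (γ ∘ f.toOrderHom)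
      map_zero' := rfl
      map_add' := fun _ _ => rfl }
  map_id _ := rfl
  map_comp _ _ := rfl

lemma objD_apply (q : ℕ) (f : T ι q → M) :
    (AlgebraicTopology.AlternatingCofaceMapComplex.objD (cosimp ι M) q).hom f = dF f := by
  unfold AlgebraicTopology.AlternatingCofaceMapComplex.objD
  have h : ∀ (s : Finset (Fin (q + 2))) (γ : T ι (q + 1)),
      (((∑ i ∈ s, (-1 : ℤ) ^ (i : ℕ) • (cosimp ι M).δ i).hom f : T ι (q + 1) → M)) γ =
        ∑ i ∈ s, ((-1 : ℤ) ^ (i : ℕ)) • f (γ ∘ i.succAbove) := by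
    intro s γ
    induction s using Finset.induction_on with
    | empty =>
      rw [Finset.sum_empty, Finset.sum_empty]
      rfl
    | insert a s ha ih =>
      rw [Finset.sum_insert ha, Finset.sum_insert ha, AddCommGrpCat.hom_add,
        AddMonoidHom.add_apply]
      show ((((-1 : ℤ) ^ (a : ℕ) • (cosimp ι M).δ a).hom f : T ι (q + 1) → M)) γ +
        (((∑ i ∈ s, (-1 : ℤ) ^ (i : ℕ) • (cosimp ι M).δ i).hom f : T ι (q + 1) → M)) γ = _
      rw [ih]
      rfl
  funext γ
  exact h Finset.univ γ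

theorem dF_dF {q : ℕ} (f : T ι q → M) : dF (dF f) = 0 := by
  have h := AlgebraicTopology.AlternatingCofaceMapComplex.d_squared (cosimp ι M) q
  have h2 := congrArg (fun φ => φ.hom f) h
  simp only [AddCommGrpCat.hom_comp, AddMonoidHom.comp_apply] at h2
  rw [objD_apply, objD_apply] at h2
  exact h2

end dsq

/-- supported on surjective tuples -/
def SS {q : ℕ} (f : T ι q → M) : Prop := ∀ γ, f γ ≠ 0 → Function.Surjective γ

lemma SS_zero {q : ℕ} : SS (0 : T ι q → M) := fun γ h => absurd rfl h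

lemma SS_add {q : ℕ} {f g : T ι q → M} (hf : SS f) (hg : SS g) : SS (f + g) := by
  intro γ h
  by_contra hs
  apply h
  have h1 : f γ = 0 := by_contra fun h1 => hs (hf γ h1)
  have h2 : g γ = 0 := by_contra fun h2 => hs (hg γ h2)
  simp [h1, h2]

lemma SS_dF {q : ℕ} {f : T ι q → M} (hf : SS f) : SS (dF f) := by
  intro γ h
  rw [dF_apply] at h
  obtain ⟨k, -, hk⟩ := Finset.exists_ne_zero_of_sum_ne_zero h
  have hk' : f (γ ∘ k.succAbove) ≠ 0 := fun h0 => hk (by rw [h0, smul_zero])
  exact Function.Surjective.of_comp (hf _ hk')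

/-- the number of occurrences of an index -/
def cnt (i : ι) {q : ℕ} (γ : T ι q) : ℕ := (Finset.univ.filter (fun k => γ k = i)).card

lemma cnt_eq_add (i : ι) {q : ℕ} (γ : T ι (q + 1)) (k : Fin (q + 2)) :
    cnt i γ = (if γ k = i then 1 else 0) + cnt i (γ ∘ k.succAbove) := by
  unfold cnt
  rw [Finset.card_filter, Finset.card_filter, Fin.sum_univ_succAbove _ k]
  rfl

lemma cnt_cons (i j : ι) {q : ℕ} (β : T ι q) :
    cnt i (Fin.cons j β : T ι (q + 1)) = (if j = i then 1 else 0) + cnt i β := by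
  rw [cnt_eq_add i _ 0]
  rfl

lemma surjective_iff_cnt {q : ℕ} (γ : T ι q) : Function.Surjective γ ↔ ∀ i, 1 ≤ cnt i γ := by
  constructor
  · intro h i
    obtain ⟨k, hk⟩ := h i
    exact Finset.card_pos.mpr ⟨k, by simp [hk]⟩
  · intro h i
    obtain ⟨k, hk⟩ := Finset.card_pos.mp (h i)
    exact ⟨k, (Finset.mem_filter.mp hk).2⟩

lemma sum_cnt {q : ℕ} (γ : T ι q) : ∑ i, cnt i γ = q + 1 := by
  have := Finset.card_eq_sum_card_fiberwise (s := (Finset.univ : Finset (Fin (q + 1))))
    (t := (Finset.univ : Finset ι)) (f := γ) (fun _ _ => Finset.mem_univ _)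
  simp only [Finset.card_univ, Fintype.card_fin] at this
  exact this.symm

open Classical in
/-- the homotopy operator inserting `j` in front -/
noncomputable def Hj (j : ι) {q : ℕ} (f : T ι (q + 1) → M) : T ι q → M :=
  fun β => if Function.Surjective β then f (Fin.cons j β) else 0

lemma SS_Hj (j : ι) {q : ℕ} (f : T ι (q + 1) → M) : SS (Hj j f) := by
  intro β h
  by_contra hs
  exact h (by simp [Hj, hs])

lemma Hj_zero (j : ι) {q : ℕ} : Hj j (0 : T ι (q + 1) → M) = 0 := by
  funext β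
  simp [Hj]

/-- the correction operator -/
noncomputable def Pj (j : ι) {q : ℕ} (f : T ι (q + 1) → M) : T ι (q + 1) → M :=
  f - dF (Hj j f) - Hj j (dF f)

lemma cons_comp_succAbove_succ (j : ι) {q : ℕ} (γ : T ι (q + 1)) (k : Fin (q + 2)) :
    (Fin.cons j γ : T ι (q + 2)) ∘ k.succ.succAbove = Fin.cons j (γ ∘ k.succAbove) := by
  funext i
  refine Fin.cases ?_ (fun i => ?_) i
  · simp
  · simp [Fin.succ_succAbove_succ]

lemma dF_cons (j : ι) {q : ℕ} (f : T ι (q + 1) → M) (γ : T ι (q + 1)) :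
    dF f (Fin.cons j γ : T ι (q + 2)) = f γ - ∑ k : Fin (q + 2), ((-1 : ℤ) ^ (k : ℕ)) •
      f (Fin.cons j (γ ∘ k.succAbove)) := by
  simp only [dF_apply]
  rw [Fin.sum_univ_succ]
  simp only [Fin.val_zero, pow_zero, one_smul, Fin.succAbove_zero, Fin.val_succ, pow_succ,
    mul_neg, mul_one, neg_smul, Finset.sum_neg_distrib, cons_comp_succAbove_succ]
  rw [sub_eq_add_neg]
  rfl

/-- in degree zero the cocycles are the constant functions -/
lemma dF_eq_zero_iff_const (f : T ι 0 → M) : dF f = 0 ↔ ∀ γ γ', f γ = f γ' := by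
  have key : ∀ γ'' : T ι 1, dF f γ'' = f (fun _ => γ'' 1) - f (fun _ => γ'' 0) := by
    intro γ''
    rw [dF_apply, Fin.sum_univ_two]
    have e0 : γ'' ∘ (0 : Fin 2).succAbove = fun _ => γ'' 1 := by
      funext i
      have : i = 0 := Fin.fin_one_eq_zero i
      subst this
      rfl
    have e1 : γ'' ∘ (1 : Fin 2).succAbove = fun _ => γ'' 0 := by
      funext i
      have : i = 0 := Fin.fin_one_eq_zero i
      subst this
      rfl
    rw [e0, e1]
    simp [sub_eq_add_neg]
  constructor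
  · intro h γ γ'
    have h1 := key ![γ' 0, γ 0]
    rw [h] at h1
    have e0 : γ = fun _ => γ 0 := by
      funext i
      have : i = 0 := Fin.fin_one_eq_zero i
      subst this
      rfl
    have e1 : γ' = fun _ => γ' 0 := by
      funext i
      have : i = 0 := Fin.fin_one_eq_zero i
      subst this
      rfl
    have h2 : f (fun _ => γ 0) - f (fun _ => γ' 0) = 0 := by
      simpa using h1.symm
    rw [e0, e1]
    exact sub_eq_zero.mp h2
  · intro h
    funext γ''
    rw [key, h (fun _ => γ'' 1) (fun _ => γ'' 0), sub_self]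
    rfl

open Classical in
lemma Pj_apply_of_surjective (j : ι) {q : ℕ} (f : T ι (q + 1) → M) (γ : T ι (q + 1))
    (hγ : Function.Surjective γ) :
    Pj j f γ = ∑ k : Fin (q + 2), ((-1 : ℤ) ^ (k : ℕ)) •
      (if Function.Surjective (γ ∘ k.succAbove) then 0 else
        f (Fin.cons j (γ ∘ k.succAbove))) := by
  have h1 : Hj j (dF f) γ = f γ - ∑ k : Fin (q + 2), ((-1 : ℤ) ^ (k : ℕ)) •
      f (Fin.cons j (γ ∘ k.succAbove)) := by
    simp only [Hj, if_pos hγ, dF_apply]
    rw [Fin.sum_univ_succ]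
    simp only [Fin.val_zero, pow_zero, one_smul, Fin.succAbove_zero, Fin.val_succ, pow_succ,
      mul_neg, mul_one, neg_smul, Finset.sum_neg_distrib, cons_comp_succAbove_succ]
    rw [sub_eq_add_neg]
    rfl
  have h2 : dF (Hj j f) γ = ∑ k : Fin (q + 2), ((-1 : ℤ) ^ (k : ℕ)) •
      (if Function.Surjective (γ ∘ k.succAbove) then f (Fin.cons j (γ ∘ k.succAbove)) else 0) := by
    simp only [dF_apply, Hj]
  simp only [Pj, Pi.sub_apply, h1, h2]
  rw [sub_sub_sub_cancel_left] 
  rw [← Finset.sum_sub_distrib]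
  refine Finset.sum_congr rfl (fun k _ => ?_)
  rw [← smul_sub]
  congr 1
  split_ifs <;> simp

lemma Pj_apply_of_not_surjective (j : ι) {q : ℕ} {f : T ι (q + 1) → M} (hf : SS f)
    (γ : T ι (q + 1)) (hγ : ¬ Function.Surjective γ) : Pj j f γ = 0 := by
  have h0 : f γ = 0 := by_contra fun h => hγ (hf γ h)
  have h1 : Hj j (dF f) γ = 0 := by simp [Hj, hγ]
  have h2 : dF (Hj j f) γ = 0 := by
    by_contra h
    exact hγ (SS_dF (SS_Hj j f) γ h)
  simp [Pj, h0, h1, h2]

/-- the key property of the correction operator -/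
lemma Pj_key (j : ι) {q : ℕ} {f : T ι (q + 1) → M} (hf : SS f) (γ : T ι (q + 1))
    (h : Pj j f γ ≠ 0) :
    Function.Surjective γ ∧ ∃ k : Fin (q + 2), γ k = j ∧ cnt j (γ ∘ k.succAbove) = 0 ∧
      f (Fin.cons j (γ ∘ k.succAbove)) ≠ 0 := by
  classical
  have hγ : Function.Surjective γ := by
    by_contra hγ
    exact h (Pj_apply_of_not_surjective j hf γ hγ)
  refine ⟨hγ, ?_⟩
  rw [Pj_apply_of_surjective j f γ hγ] at h
  obtain ⟨k, -, hk⟩ := Finset.exists_ne_zero_of_sum_ne_zero h
  have hk1 : ¬ Function.Surjective (γ ∘ k.succAbove) := by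
    intro hs
    exact hk (by rw [if_pos hs, smul_zero])
  have hk2 : f (Fin.cons j (γ ∘ k.succAbove)) ≠ 0 := by
    intro h0
    exact hk (by rw [if_neg hk1, h0, smul_zero])
  have hk3 := hf _ hk2
  rw [surjective_iff_cnt] at hk1 hk3 hγ
  push Not at hk1
  obtain ⟨i₁, hi₁⟩ := hk1
  have hi₁' : cnt i₁ (γ ∘ k.succAbove) = 0 := by omega
  have e1 := cnt_eq_add i₁ γ k
  have e2 := cnt_cons i₁ j (γ ∘ k.succAbove)
  have g1 := hγ i₁
  have g2 := hk3 i₁
  have hγk : γ k = i₁ := by
    by_contra hne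
    rw [if_neg hne] at e1
    omega
  have hj : j = i₁ := by
    by_contra hne
    rw [if_neg hne] at e2
    omega
  refine ⟨k, hγk.trans hj.symm, ?_, hk2⟩
  rw [hj]
  exact hi₁'

lemma SS_Pj (j : ι) {q : ℕ} {f : T ι (q + 1) → M} (hf : SS f) : SS (Pj j f) :=
  fun γ h => (Pj_key j hf γ h).1

lemma Pj_cnt_self (j : ι) {q : ℕ} {f : T ι (q + 1) → M} (hf : SS f) (γ : T ι (q + 1))
    (h : Pj j f γ ≠ 0) : cnt j γ = 1 := by
  obtain ⟨-, k, hk, hk0, -⟩ := Pj_key j hf γ h
  rw [cnt_eq_add j γ k, if_pos hk, hk0]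

lemma Pj_cnt_other (i j : ι) (hij : i ≠ j) {q : ℕ} {f : T ι (q + 1) → M} (hf : SS f)
    (hi : ∀ γ, f γ ≠ 0 → cnt i γ = 1) (γ : T ι (q + 1)) (h : Pj j f γ ≠ 0) : cnt i γ = 1 := by
  obtain ⟨-, k, hk, -, hk2⟩ := Pj_key j hf γ h
  have e1 := hi _ hk2
  rw [cnt_cons, if_neg (Ne.symm hij), zero_add] at e1
  rw [cnt_eq_add i γ k, e1, hk, if_neg (Ne.symm hij)]

lemma dF_Pj (j : ι) {q : ℕ} {f : T ι (q + 1) → M} (hd : dF f = 0) : dF (Pj j f) = 0 := by
  unfold Pj
  rw [dF_sub, dF_sub, dF_dF, hd, Hj_zero, dF_zero, sub_zero, sub_zero]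

lemma sub_Pj (j : ι) {q : ℕ} {f : T ι (q + 1) → M} (hd : dF f = 0) :
    f - Pj j f = dF (Hj j f) := by
  unfold Pj
  rw [hd, Hj_zero]
  abel

/-- iterate the correction operators over a list of indices -/
noncomputable def Pl {q : ℕ} : List ι → (T ι (q + 1) → M) → (T ι (q + 1) → M)
  | [], f => f
  | j :: l, f => Pj j (Pl l f)

lemma Pl_spec {q : ℕ} {f : T ι (q + 1) → M} (hf : SS f) (hd : dF f = 0) :
    ∀ l : List ι, l.Nodup →
      SS (Pl l f) ∧ dF (Pl l f) = 0 ∧ (∀ i ∈ l, ∀ γ, Pl l f γ ≠ 0 → cnt i γ = 1) ∧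
        ∃ g : T ι q → M, SS g ∧ f - Pl l f = dF g := by
  intro l
  induction l with
  | nil =>
    intro _
    exact ⟨hf, hd, fun i hi => absurd hi (List.not_mem_nil), 0, SS_zero, by
      simp [Pl, dF_zero]⟩
  | cons j l ih =>
    intro hnd
    obtain ⟨h1, h2, h3, g, hg, hfg⟩ := ih (List.nodup_cons.mp hnd).2
    refine ⟨SS_Pj j h1, dF_Pj j h2, ?_, g + Hj j (Pl l f), SS_add hg (SS_Hj j _), ?_⟩
    · intro i hi γ hne
      rcases List.mem_cons.mp hi with rfl | hi'
      · exact Pj_cnt_self i h1 γ hne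
      · have hij : i ≠ j := fun e => (List.nodup_cons.mp hnd).1 (e ▸ hi')
        exact Pj_cnt_other i j hij h1 (h3 i hi') γ hne
    · show f - Pj j (Pl l f) = _
      rw [dF_add, ← hfg, ← sub_Pj j h2]
      abel

/-- cocycles supported on surjective tuples are coboundaries outside the top degree -/
theorem exists_primitive {q : ℕ} {f : T ι (q + 1) → M} (hf : SS f) (hd : dF f = 0)
    (hq : q + 2 ≠ Fintype.card ι) : ∃ g : T ι q → M, SS g ∧ dF g = f := by
  obtain ⟨h1, h2, h3, g, hg, hfg⟩ := Pl_spec hf hd (Finset.univ : Finset ι).toList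
    (Finset.nodup_toList _)
  refine ⟨g, hg, ?_⟩
  have hz : Pl (Finset.univ : Finset ι).toList f = 0 := by
    funext γ
    by_contra hne
    apply hq
    have hc : ∀ i, cnt i γ = 1 := fun i => h3 i (by simp) γ hne
    have := sum_cnt γ
    simp only [hc, Finset.sum_const, Finset.card_univ, smul_eq_mul, mul_one] at this
    omega
  rw [hz, sub_zero] at hfg
  exact hfg.symm

lemma eq_zero_of_card_lt {q : ℕ} {g : T ι q → M} (hg : SS g) (hq : q + 1 < Fintype.card ι) :
    g = 0 := by
  funext β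
  by_contra h
  have hs := hg β h
  have := Fintype.card_le_of_surjective β hs
  simp only [Fintype.card_fin] at this
  omega

section top

variable {n : ℕ} (γ₀ : Fin (n + 1) ≃ ι)

include γ₀ in
lemma surjective_iff_injective (σ : T ι n) : Function.Surjective σ ↔ Function.Injective σ :=
  (Finite.injective_iff_surjective_of_equiv γ₀).symm

lemma val_succAbove {m : ℕ} (l : Fin (m + 1)) (i : Fin m) :
    ((l.succAbove i : Fin (m + 1)) : ℕ) = if (i : ℕ) < (l : ℕ) then (i : ℕ) else (i : ℕ) + 1 := by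
  unfold Fin.succAbove
  split_ifs with h h' h'
  · rfl
  · exact absurd (by simpa [Fin.lt_def] using h) h'
  · exact absurd (by simpa [Fin.lt_def] using h') h
  · rfl

/-- the reindexing used in the antisymmetry argument -/
def idx (k : Fin n) (j : Fin (n + 2)) : Fin (n + 1) :=
  if h : (j : ℕ) ≤ (k : ℕ) + 1 then ⟨j, by omega⟩
  else if (j : ℕ) = (k : ℕ) + 2 then k.castSucc else ⟨(j : ℕ) - 1, by omega⟩

lemma idx_top (k : Fin n) (i : Fin (n + 1)) : idx k ((k.succ.succ).succAbove i) = i := by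
  apply Fin.ext
  have hv := val_succAbove (k.succ.succ) i
  simp only [Fin.val_succ] at hv
  unfold idx
  split_ifs at hv ⊢ with h1 h2 h3 <;> simp only [Fin.val_mk, Fin.val_castSucc] <;> omega

lemma idx_bot (k : Fin n) (i : Fin (n + 1)) :
    idx k ((k.castSucc.castSucc).succAbove i) = Equiv.swap k.castSucc k.succ i := by
  apply Fin.ext
  have hv := val_succAbove (k.castSucc.castSucc) i
  simp only [Fin.val_castSucc] at hv
  rw [Equiv.swap_apply_def]
  unfold idx
  have e1 : (i = k.castSucc) ↔ (i : ℕ) = k := by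
    rw [Fin.ext_iff]; rfl
  have e2 : (i = k.succ) ↔ (i : ℕ) = k + 1 := by
    rw [Fin.ext_iff]; rfl
  split_ifs at hv ⊢ <;> simp only [Fin.val_mk, Fin.val_castSucc, Fin.val_succ] <;>
    simp only [e1, e2] at * <;> omega

lemma idx_other (k : Fin n) (l : Fin (n + 2)) (h1 : l ≠ k.castSucc.castSucc)
    (h2 : l ≠ k.succ.succ) : ¬ Function.Injective (fun i => idx k (l.succAbove i)) := by
  intro hinj
  obtain ⟨i₁, hi₁⟩ := Fin.exists_succAbove_eq (Ne.symm h1)
  obtain ⟨i₂, hi₂⟩ := Fin.exists_succAbove_eq (Ne.symm h2)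
  have e : idx k (l.succAbove i₁) = idx k (l.succAbove i₂) := by
    rw [hi₁, hi₂]
    apply Fin.ext
    unfold idx
    simp only [Fin.val_castSucc, Fin.val_succ]
    split_ifs <;> simp only [Fin.val_mk, Fin.val_castSucc] <;> omega
  have := hinj e
  rw [this, hi₂] at hi₁
  have hv := congrArg Fin.val hi₁
  simp only [Fin.val_castSucc, Fin.val_succ] at hv
  omega

include γ₀ in
lemma swap_antisymm {ψ : T ι n → M} (hψ : SS ψ) (hd : dF ψ = 0) (σ : T ι n) (k : Fin n) :
    ψ (σ ∘ Equiv.swap k.castSucc k.succ) = - ψ σ := by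
  have h0 : dF ψ (σ ∘ idx k) = 0 := by rw [hd]; rfl
  rw [dF_apply] at h0
  have hne : (k.castSucc.castSucc : Fin (n + 2)) ≠ k.succ.succ := by
    intro e
    have := congrArg Fin.val e
    simp only [Fin.val_castSucc, Fin.val_succ] at this
    omega
  rw [Finset.sum_eq_add (k.castSucc.castSucc) (k.succ.succ) hne ?_ (by simp) (by simp)] at h0
  · have e1 : (σ ∘ idx k) ∘ (k.castSucc.castSucc).succAbove = σ ∘ Equiv.swap k.castSucc k.succ := by
      funext i
      simp only [Function.comp_apply, idx_bot]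
    have e2 : (σ ∘ idx k) ∘ (k.succ.succ).succAbove = σ := by
      funext i
      simp only [Function.comp_apply, idx_top]
    rw [e1, e2] at h0
    simp only [Fin.val_castSucc, Fin.val_succ] at h0
    have e3 : ((-1 : ℤ) ^ ((k : ℕ) + 1 + 1)) = (-1 : ℤ) ^ (k : ℕ) := by
      rw [pow_succ, pow_succ]; ring
    rw [e3, ← smul_add] at h0
    rcases neg_one_pow_eq_or ℤ (k : ℕ) with hk | hk
    · rw [hk, one_smul] at h0
      exact eq_neg_of_add_eq_zero_left h0
    · rw [hk, neg_smul, one_smul, neg_eq_zero] at h0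
      exact eq_neg_of_add_eq_zero_left h0
  · intro l _ hl
    have hni := idx_other k l hl.1 hl.2
    have hns : ¬ Function.Surjective ((σ ∘ idx k) ∘ l.succAbove) := by
      rw [surjective_iff_injective γ₀]
      intro hi
      exact hni (Function.Injective.of_comp (f := σ) hi)
    have : ψ ((σ ∘ idx k) ∘ l.succAbove) = 0 := by_contra fun h => hns (hψ _ h)
    rw [this, smul_zero]

include γ₀ in
lemma perm_smul {ψ : T ι n → M} (hψ : SS ψ) (hd : dF ψ = 0) (π : Equiv.Perm (Fin (n + 1))) :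
    ∀ σ : T ι n, ψ (σ ∘ π) = ((Equiv.Perm.sign π : ℤˣ) : ℤ) • ψ σ := by
  have hmem : π ∈ Submonoid.closure
      (Set.range fun i : Fin n => Equiv.swap i.castSucc i.succ) := by
    rw [Equiv.Perm.mclosure_swap_castSucc_succ]
    trivial
  induction hmem using Submonoid.closure_induction with
  | mem x hx =>
    obtain ⟨k, rfl⟩ := hx
    intro σ
    have hne : k.castSucc ≠ k.succ := by
      intro e
      have := congrArg Fin.val e
      simp only [Fin.val_castSucc, Fin.val_succ] at this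
      omega
    rw [Equiv.Perm.sign_swap hne]
    simp only [Units.val_neg, Units.val_one, neg_smul, one_smul]
    exact swap_antisymm γ₀ hψ hd σ k
  | one =>
    intro σ
    simp
  | mul x y _ _ hx hy =>
    intro σ
    have e : σ ∘ ⇑(x * y) = (σ ∘ ⇑x) ∘ ⇑y := by
      funext i
      simp [Equiv.Perm.mul_apply]
    rw [e, hy, hx, Equiv.Perm.sign_mul, smul_smul]
    simp only [Units.val_mul]
    rw [mul_comm]

include γ₀ in
/-- a cocycle in top degree supported on surjective tuples is determined by one value -/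
theorem top_injective {ψ : T ι n → M} (hψ : SS ψ) (hd : dF ψ = 0) (h0 : ψ γ₀ = 0) : ψ = 0 := by
  funext σ
  by_contra hne
  have hs := hψ σ hne
  have hi := (surjective_iff_injective γ₀ σ).mp hs
  let π : Equiv.Perm (Fin (n + 1)) := (Equiv.ofBijective σ ⟨hi, hs⟩).trans γ₀.symm
  have e : σ = ⇑γ₀ ∘ ⇑π := by
    funext i
    simp [π]
  apply hne
  rw [e, perm_smul γ₀ hψ hd π γ₀, h0, smul_zero]
  rfl

/-- the determinant cochain -/
noncomputable def detZ (σ : T ι n) : ℤ :=
  Matrix.det (Matrix.of fun (k l : Fin (n + 1)) => if σ k = γ₀ l then (1 : ℤ) else 0)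

lemma detZ_self : detZ γ₀ γ₀ = 1 := by
  unfold detZ
  have : (Matrix.of fun (k l : Fin (n + 1)) => if γ₀ k = γ₀ l then (1 : ℤ) else 0) = 1 := by
    ext k l
    simp [Matrix.one_apply, γ₀.injective.eq_iff]
  rw [this, Matrix.det_one]

lemma detZ_eq_zero (σ : T ι n) (h : ¬ Function.Surjective σ) : detZ γ₀ σ = 0 := by
  rw [surjective_iff_injective γ₀] at h
  unfold Function.Injective at h
  push Not at h
  obtain ⟨a, b, hab, hne⟩ := h
  unfold detZ
  refine Matrix.det_zero_of_row_eq hne ?_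
  funext l
  simp [hab]

lemma detZ_cocycle (γ' : T ι (n + 1)) :
    ∑ k : Fin (n + 2), (-1 : ℤ) ^ (k : ℕ) * detZ γ₀ (γ' ∘ k.succAbove) = 0 := by
  let A : Matrix (Fin (n + 2)) (Fin (n + 2)) ℤ := Matrix.of fun k l =>
    Fin.cases (1 : ℤ) (fun l' => if γ' k = γ₀ l' then (1 : ℤ) else 0) l
  have h1 := Matrix.det_succ_column_zero A
  have h2 : A.det = 0 := by
    rw [← Matrix.exists_mulVec_eq_zero_iff]
    refine ⟨Fin.cases (1 : ℤ) (fun _ => -1), ?_, ?_⟩
    · intro e
      have := congrFun e 0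
      simp at this
    · funext k
      simp only [Matrix.mulVec, dotProduct, Pi.zero_apply]
      rw [Fin.sum_univ_succ]
      simp only [A, Matrix.of_apply, Fin.cases_zero, Fin.cases_succ, mul_one, mul_neg,
        Finset.sum_neg_distrib]
      have : ∑ l' : Fin (n + 1), (if γ' k = γ₀ l' then (1 : ℤ) else 0) = 1 := by
        have e : ∀ l' : Fin (n + 1), (γ' k = γ₀ l') ↔ (l' = γ₀.symm (γ' k)) := by
          intro l'
          constructor
          · intro h; rw [h]; simp
          · intro h; rw [h]; simp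
        simp only [e]
        simp
      rw [this]
      ring
  rw [h2] at h1
  rw [h1]
  refine Finset.sum_congr rfl (fun k _ => ?_)
  have e1 : A k 0 = 1 := rfl
  have e2 : A.submatrix k.succAbove Fin.succ =
      Matrix.of fun (a l : Fin (n + 1)) => if (γ' ∘ k.succAbove) a = γ₀ l then (1 : ℤ) else 0 := by
    ext a l
    rfl
  rw [e1, e2, mul_one]
  rfl

/-- every element is the value of a top-degree cocycle supported on surjective tuples -/
theorem top_surjective (x : M) : ∃ ψ : T ι n → M, SS ψ ∧ dF ψ = 0 ∧ ψ γ₀ = x := by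
  refine ⟨fun σ => detZ γ₀ σ • x, ?_, ?_, ?_⟩
  · intro σ h
    by_contra hs
    exact h (show detZ γ₀ σ • x = 0 by rw [detZ_eq_zero γ₀ σ hs, zero_smul])
  · funext γ'
    rw [dF_apply]
    simp only [smul_smul]
    rw [← Finset.sum_smul, detZ_cocycle, zero_smul]
    rfl
  · show detZ γ₀ γ₀ • x = x
    rw [detZ_self, one_smul]

end top

end Groth.Agent.H82.OrdCech
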