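import Mathlib
import Groth.Agent.H82.OrdCech

/-!
# Ordered cochains with values in finitely supported functions, with a support condition
-/

set_option autoImplicit false
set_option linter.unusedSectionVars false
set_option linter.unusedVariables false
set_option linter.style.haveILetI false

universe u

open Finset

namespace Groth.Agent.H82.OrdCech

variable {ι : Type u} [Fintype ι] [DecidableEq ι] {I : Type u} (N : I → Finset ι)
  {A : Type u} [AddCommGroup A]

/-- the support condition: the coefficient at `m` of the value at `γ` vanishes unless `N m` is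
contained in the image of `γ` -/
def IsE {q : ℕ} (φ : T ι q → (I →₀ A)) : Prop :=
  ∀ γ m, φ γ m ≠ 0 → N m ⊆ Finset.univ.image γ

lemma IsE_add {q : ℕ} {φ ψ : T ι q → (I →₀ A)} (h1 : IsE N φ) (h2 : IsE N ψ) :
    IsE N (φ + ψ) := by
  intro γ m h
  by_contra hs
  apply h
  have e1 : φ γ m = 0 := by_contra fun e => hs (h1 γ m e)
  have e2 : ψ γ m = 0 := by_contra fun e => hs (h2 γ m e)
  simp [e1, e2]

lemma IsE_of_SS {q : ℕ} {g : T ι q → (I →₀ A)} (hg : SS g) : IsE N g := by
  intro γ m h
  have hne : g γ ≠ 0 := fun e => h (by rw [e]; rfl)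
  have hs := hg γ hne
  intro i _
  obtain ⟨k, hk⟩ := hs i
  exact Finset.mem_image.mpr ⟨k, Finset.mem_univ _, hk⟩

open Classical in
/-- the part with `N m = univ` -/
noncomputable def topP {q : ℕ} (φ : T ι q → (I →₀ A)) : T ι q → (I →₀ A) :=
  fun γ => (φ γ).filter (fun m => N m = Finset.univ)

open Classical in
/-- the part with `N m ≠ univ` -/
noncomputable def lowP {q : ℕ} (φ : T ι q → (I →₀ A)) : T ι q → (I →₀ A) :=
  fun γ => (φ γ).filter (fun m => ¬ N m = Finset.univ)

lemma topP_add_lowP {q : ℕ} (φ : T ι q → (I →₀ A)) : topP N φ + lowP N φ = φ := by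
  classical
  funext γ
  exact Finsupp.filter_pos_add_filter_neg (φ γ) _

lemma dF_topP {q : ℕ} (φ : T ι q → (I →₀ A)) : dF (topP N φ) = topP N (dF φ) := by
  classical
  exact dF_comp (Finsupp.filterAddHom (fun m => N m = Finset.univ)) φ

lemma SS_topP {q : ℕ} {φ : T ι q → (I →₀ A)} (hφ : IsE N φ) : SS (topP N φ) := by
  classical
  intro γ h
  obtain ⟨m, hm⟩ := Finsupp.ne_iff.mp h
  simp only [topP, Finsupp.filter_apply, Finsupp.coe_zero, Pi.zero_apply] at hm
  split_ifs at hm with hN
  · have := hφ γ m hm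
    rw [hN] at this
    intro i
    obtain ⟨k, -, hk⟩ := Finset.mem_image.mp (this (Finset.mem_univ i))
    exact ⟨k, hk⟩
  · exact absurd rfl hm

variable [Nonempty ι]

open Classical in
/-- an index outside `N m` when there is one -/
noncomputable def pick (m : I) : ι :=
  if h : ∃ j, j ∉ N m then h.choose else Classical.arbitrary ι

lemma pick_not_mem (m : I) (h : ¬ N m = Finset.univ) : pick N m ∉ N m := by
  have h' : ∃ j, j ∉ N m := by
    by_contra hc
    push Not at hc
    exact h (Finset.eq_univ_iff_forall.mpr hc)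
  unfold pick
  rw [dif_pos h']
  exact h'.choose_spec

open Classical in
/-- the contracting homotopy for the part with `N m ≠ univ` -/
noncomputable def hC {q : ℕ} (φ : T ι (q + 1) → (I →₀ A)) : T ι q → (I →₀ A) :=
  fun β => ∑ j : ι, (φ (Fin.cons j β)).filter (fun m => ¬ N m = Finset.univ ∧ pick N m = j)

lemma hC_zero {q : ℕ} : hC N (0 : T ι (q + 1) → (I →₀ A)) = 0 := by
  classical
  funext β
  simp [hC, Finsupp.filter_zero]

open Classical in
lemma sum_filter_pick (p : I →₀ A) :
    ∑ j : ι, p.filter (fun m => ¬ N m = Finset.univ ∧ pick N m = j) =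
      p.filter (fun m => ¬ N m = Finset.univ) := by
  ext m
  rw [Finsupp.finsetSum_apply]
  simp only [Finsupp.filter_apply]
  by_cases h : N m = Finset.univ
  · simp [h]
  · simp [h]

lemma IsE_hC {q : ℕ} {φ : T ι (q + 1) → (I →₀ A)} (hφ : IsE N φ) : IsE N (hC N φ) := by
  classical
  intro β m h
  unfold hC at h
  rw [Finsupp.finsetSum_apply] at h
  obtain ⟨j, -, hj⟩ := Finset.exists_ne_zero_of_sum_ne_zero h
  rw [Finsupp.filter_apply] at hj
  split_ifs at hj with hc
  · have h1 := hφ _ m hj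
    intro i hi
    obtain ⟨k, -, hk⟩ := Finset.mem_image.mp (h1 hi)
    refine Fin.cases ?_ (fun k' => ?_) k hk
    · intro e
      rw [Fin.cons_zero] at e
      exfalso
      apply pick_not_mem N m hc.1
      rw [hc.2, e]
      exact hi
    · intro e
      rw [Fin.cons_succ] at e
      exact Finset.mem_image.mpr ⟨k', Finset.mem_univ _, e⟩
  · exact absurd rfl hj

lemma homotopy_hC {q : ℕ} (φ : T ι (q + 1) → (I →₀ A)) :
    dF (hC N φ) + hC N (dF φ) = lowP N φ := by
  classical
  funext γ
  have e : ∀ j : ι, ∀ (x y : I →₀ A),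
      (x - y).filter (fun m => ¬ N m = Finset.univ ∧ pick N m = j) =
        x.filter (fun m => ¬ N m = Finset.univ ∧ pick N m = j) -
        y.filter (fun m => ¬ N m = Finset.univ ∧ pick N m = j) := fun j x y =>
    map_sub (Finsupp.filterAddHom (fun m => ¬ N m = Finset.univ ∧ pick N m = j)) x y
  have e2 : ∀ j : ι, ∀ (s : Fin (q + 2) → (I →₀ A)),
      (∑ k, s k).filter (fun m => ¬ N m = Finset.univ ∧ pick N m = j) =
        ∑ k, (s k).filter (fun m => ¬ N m = Finset.univ ∧ pick N m = j) := fun j s =>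
    map_sum (Finsupp.filterAddHom (fun m => ¬ N m = Finset.univ ∧ pick N m = j)) s _
  have e3 : ∀ j : ι, ∀ (c : ℤ) (x : I →₀ A),
      (c • x).filter (fun m => ¬ N m = Finset.univ ∧ pick N m = j) =
        c • x.filter (fun m => ¬ N m = Finset.univ ∧ pick N m = j) := fun j c x =>
    map_zsmul (Finsupp.filterAddHom (fun m => ¬ N m = Finset.univ ∧ pick N m = j)) c x
  have hA : hC N (dF φ) γ = ∑ j : ι, ((φ γ).filter (fun m => ¬ N m = Finset.univ ∧ pick N m = j) -
      ∑ k : Fin (q + 2), ((-1 : ℤ) ^ (k : ℕ)) •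
        (φ (Fin.cons j (γ ∘ k.succAbove))).filter
          (fun m => ¬ N m = Finset.univ ∧ pick N m = j)) := by
    show ∑ j : ι, (dF φ (Fin.cons j γ)).filter _ = _
    refine Finset.sum_congr rfl (fun j _ => ?_)
    rw [dF_cons, e, e2]
    simp only [e3]
  have hB : dF (hC N φ) γ = ∑ k : Fin (q + 2), ((-1 : ℤ) ^ (k : ℕ)) •
      ∑ j : ι, (φ (Fin.cons j (γ ∘ k.succAbove))).filter
        (fun m => ¬ N m = Finset.univ ∧ pick N m = j) := rfl
  show dF (hC N φ) γ + hC N (dF φ) γ = lowP N φ γ
  rw [hA, hB, Finset.sum_sub_distrib, sum_filter_pick, Finset.sum_comm]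
  simp only [Finset.smul_sum]
  show _ + (lowP N φ γ - _) = _
  abel

/-- cocycles satisfying the support condition are coboundaries, outside the top degree or when no
`N m` is everything -/
theorem exists_primitive_E {q : ℕ} {φ : T ι (q + 1) → (I →₀ A)} (hφ : IsE N φ) (hd : dF φ = 0)
    (h : q + 2 ≠ Fintype.card ι ∨ ∀ m, ¬ N m = Finset.univ) :
    ∃ g : T ι q → (I →₀ A), IsE N g ∧ dF g = φ := by
  classical
  have hlow : lowP N φ = dF (hC N φ) := by
    have := homotopy_hC N φ
    rw [hd, hC_zero, add_zero] at this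
    exact this.symm
  have htop : ∃ g₁ : T ι q → (I →₀ A), IsE N g₁ ∧ dF g₁ = topP N φ := by
    rcases h with h | h
    · have hd' : dF (topP N φ) = 0 := by
        rw [dF_topP, hd]
        funext γ
        simp [topP, Finsupp.filter_zero]
      obtain ⟨g₁, hg₁, hdg₁⟩ := exists_primitive (SS_topP N hφ) hd' h
      exact ⟨g₁, IsE_of_SS N hg₁, hdg₁⟩
    · refine ⟨0, fun γ m hm => absurd rfl hm, ?_⟩
      rw [dF_zero]
      funext γ
      ext m
      simp [topP, h m]
  obtain ⟨g₁, hg₁, hdg₁⟩ := htop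
  refine ⟨g₁ + hC N φ, IsE_add N hg₁ (IsE_hC N hφ), ?_⟩
  rw [dF_add, hdg₁, ← hlow, topP_add_lowP]

section top

variable {n : ℕ} (γ₀ : Fin (n + 1) ≃ ι)

include γ₀ in
/-- a top-degree cocycle with vanishing invariant is a coboundary -/
theorem top_exact {q : ℕ} (γ₁ : Fin (q + 2) ≃ ι) {φ : T ι (q + 1) → (I →₀ A)} (hφ : IsE N φ)
    (hd : dF φ = 0) (h0 : topP N φ γ₁ = 0) : ∃ g : T ι q → (I →₀ A), IsE N g ∧ dF g = φ := by
  classical
  have hlow : lowP N φ = dF (hC N φ) := by
    have := homotopy_hC N φ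
    rw [hd, hC_zero, add_zero] at this
    exact this.symm
  have hd' : dF (topP N φ) = 0 := by
    rw [dF_topP, hd]
    funext γ
    simp [topP, Finsupp.filter_zero]
  have htop : topP N φ = 0 := top_injective γ₁ (SS_topP N hφ) hd' h0
  refine ⟨hC N φ, IsE_hC N hφ, ?_⟩
  rw [← hlow]
  have := topP_add_lowP N φ
  rw [htop, zero_add] at this
  exact this

/-- the invariant of a coboundary vanishes -/
theorem topP_dF_eq_zero {q : ℕ} (γ₁ : Fin (q + 2) ≃ ι) {g : T ι q → (I →₀ A)} (hg : IsE N g) :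
    topP N (dF g) = 0 := by
  rw [← dF_topP]
  have hz : topP N g = 0 := by
    apply eq_zero_of_card_lt (SS_topP N hg)
    rw [← Fintype.card_congr γ₁, Fintype.card_fin]
    omega
  rw [hz, dF_zero]

/-- every element supported on `N m = univ` is the invariant of a top-degree cocycle -/
theorem top_surj (p : I →₀ A) (hp : ∀ m, p m ≠ 0 → N m = Finset.univ) :
    ∃ φ : T ι n → (I →₀ A), IsE N φ ∧ dF φ = 0 ∧ topP N φ γ₀ = p := by
  classical
  obtain ⟨ψ, h1, h2, h3⟩ := top_surjective γ₀ p
  refine ⟨ψ, IsE_of_SS N h1, h2, ?_⟩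
  show (ψ γ₀).filter _ = p
  rw [h3, Finsupp.filter_eq_self_iff]
  exact fun m hm => hp m hm

end top

end Groth.Agent.H82.OrdCech
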