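import Mathlib
import Groth.Agent.H67.CechC
import Groth.Agent.H82.OrdCechFin
import Groth.Agent.H82.HomologyData

/-!
# The Čech complex of a presheaf whose sections on finite intersections are spanned by
"monomials" with a support condition

An abstract model: sections over the intersection indexed by a tuple `γ` are the finitely supported
functions `p : I →₀ A` with `p m ≠ 0 → N m ⊆ image γ`.  Then the Čech complex is the complex of
`OrdCechFin`, whose cohomology is computed there.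
-/

set_option autoImplicit false
set_option linter.unusedSectionVars false
set_option linter.unusedVariables false
set_option linter.style.haveILetI false

universe u

open CategoryTheory CategoryTheory.Limits Opposite TopologicalSpace Simplicial

namespace Groth.Agent.H82.CechModel

open Groth.Agent.H82.OrdCech Groth.Agent.H67.Cech

variable {X : TopCat.{u}} (P : (Opens X)ᵒᵖ ⥤ AddCommGrpCat.{u}) {ι : Type u} [Fintype ι]
  [DecidableEq ι] (𝔘 : ι → Opens X) {I : Type u} (N : I → Finset ι) (A : Type u) [AddCommGroup A]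

/-- the model -/
structure Model where
  /-- the monomial sections -/
  Φ : ∀ {q : ℕ} (γ : T ι q), (I →₀ A) →+ P.obj (op (∏ᶜ (𝔘 ∘ γ)))
  res : ∀ {q : ℕ} (γ : T ι (q + 1)) (k : Fin (q + 2))
      (h : ∏ᶜ (𝔘 ∘ γ) ⟶ ∏ᶜ (𝔘 ∘ γ ∘ k.succAbove)) (p : I →₀ A),
      (∀ m, p m ≠ 0 → N m ⊆ Finset.univ.image (γ ∘ k.succAbove)) →
      (P.map h.op).hom (Φ (γ ∘ k.succAbove) p) = Φ γ p
  ex : ∀ {q : ℕ} (γ : T ι q) (s : P.obj (op (∏ᶜ (𝔘 ∘ γ)))),
      ∃ p : I →₀ A, (∀ m, p m ≠ 0 → N m ⊆ Finset.univ.image γ) ∧ Φ γ p = s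
  inj : ∀ {q : ℕ} (γ : T ι q) (p : I →₀ A), (∀ m, p m ≠ 0 → N m ⊆ Finset.univ.image γ) →
      Φ γ p = 0 → p = 0

variable {P 𝔘 N A}

lemma hom_sum_zsmul {Y Z : AddCommGrpCat.{u}} {κ : Type*} (s : Finset κ) (c : κ → ℤ)
    (f : κ → (Y ⟶ Z)) (x : Y) :
    (∑ k ∈ s, c k • f k).hom x = ∑ k ∈ s, c k • (f k).hom x := by
  classical
  induction s using Finset.induction_on with
  | empty => simp
  | insert a s ha ih =>
    rw [Finset.sum_insert ha, Finset.sum_insert ha, AddCommGrpCat.hom_add, AddMonoidHom.add_apply,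
      ih, AddCommGrpCat.hom_zsmul]
    rfl

lemma IsE_dF {q : ℕ} {φ : T ι q → (I →₀ A)} (hφ : IsE N φ) : IsE N (dF φ) := by
  intro γ m hm
  by_contra hs
  apply hm
  rw [dF_apply, Finsupp.finsetSum_apply]
  apply Finset.sum_eq_zero
  intro k _
  have : φ (γ ∘ k.succAbove) m = 0 := by
    by_contra hne
    apply hs
    intro i hi
    obtain ⟨j, -, hj⟩ := Finset.mem_image.mp (hφ _ m hne hi)
    exact Finset.mem_image.mpr ⟨k.succAbove j, Finset.mem_univ _, hj⟩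
  rw [Finsupp.smul_apply, this, smul_zero]

lemma IsE_zero {q : ℕ} : IsE N (0 : T ι q → (I →₀ A)) := fun γ m h => absurd rfl h

lemma IsE_mapRange {q : ℕ} {φ : T ι q → (I →₀ A)} (hφ : IsE N φ) (b : A →+ A) :
    IsE N (fun γ => Finsupp.mapRange b (map_zero b) (φ γ)) := by
  intro γ m hm
  apply hφ γ m
  intro h0
  apply hm
  rw [Finsupp.mapRange_apply, h0, map_zero]

/-- the projection to the component indexed by a tuple -/
noncomputable def proj {q : ℕ} (γ : T ι q) : (cx 𝔘 P).X q →+ P.obj (op (∏ᶜ (𝔘 ∘ γ))) :=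
  (Pi.π (term 𝔘 P q) γ).hom

lemma ext_K {q : ℕ} {x y : (cx 𝔘 P).X q}
    (h : ∀ γ : T ι q, proj γ x = proj γ y) : x = y :=
  pi_ext (F := term 𝔘 P q) h

namespace Model

variable (M : Model P 𝔘 N A)

/-- cochains of the model to Čech cochains -/
noncomputable def toK {q : ℕ} (φ : T ι q → (I →₀ A)) : (cx 𝔘 P).X q :=
  mkPi (term 𝔘 P q) (fun γ => M.Φ γ (φ γ))

lemma π_toK {q : ℕ} (φ : T ι q → (I →₀ A)) (γ : T ι q) :
    proj γ (M.toK φ) = M.Φ γ (φ γ) :=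
  π_mkPi _ _ γ

lemma toK_add {q : ℕ} (φ ψ : T ι q → (I →₀ A)) : M.toK (φ + ψ) = M.toK φ + M.toK ψ := by
  apply ext_K
  intro γ
  rw [map_add, π_toK, π_toK, π_toK, Pi.add_apply, map_add]

lemma toK_zero {q : ℕ} : M.toK (0 : T ι q → (I →₀ A)) = 0 := by
  apply ext_K
  intro γ
  rw [map_zero, π_toK, Pi.zero_apply, map_zero]

lemma uniq {q : ℕ} (γ : T ι q) (p p' : I →₀ A)
    (hp : ∀ m, p m ≠ 0 → N m ⊆ Finset.univ.image γ)
    (hp' : ∀ m, p' m ≠ 0 → N m ⊆ Finset.univ.image γ) (h : M.Φ γ p = M.Φ γ p') : p = p' := by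
  have : p - p' = 0 := by
    apply M.inj γ
    · intro m hm
      by_contra hs
      apply hm
      have e1 : p m = 0 := by_contra fun e => hs (hp m e)
      have e2 : p' m = 0 := by_contra fun e => hs (hp' m e)
      rw [Finsupp.sub_apply, e1, e2, sub_zero]
    · rw [map_sub, h, sub_self]
  exact sub_eq_zero.mp this

lemma toK_injective {q : ℕ} {φ ψ : T ι q → (I →₀ A)} (hφ : IsE N φ) (hψ : IsE N ψ)
    (h : M.toK φ = M.toK ψ) : φ = ψ := by
  funext γ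
  apply M.uniq γ _ _ (hφ γ) (hψ γ)
  rw [← π_toK, ← π_toK, h]

/-- Čech cochains to cochains of the model -/
noncomputable def fromK {q : ℕ} (x : (cx 𝔘 P).X q) : T ι q → (I →₀ A) :=
  fun γ => Classical.choose (M.ex γ (proj γ x))

lemma IsE_fromK {q : ℕ} (x : (cx 𝔘 P).X q) : IsE N (M.fromK x) :=
  fun γ => (Classical.choose_spec (M.ex γ (proj γ x))).1

lemma toK_fromK {q : ℕ} (x : (cx 𝔘 P).X q) : M.toK (M.fromK x) = x := by
  apply ext_K
  intro γ
  rw [π_toK]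
  exact (Classical.choose_spec (M.ex γ (proj γ x))).2

lemma fromK_toK {q : ℕ} {φ : T ι q → (I →₀ A)} (hφ : IsE N φ) : M.fromK (M.toK φ) = φ :=
  M.toK_injective (M.IsE_fromK _) hφ (M.toK_fromK _)

lemma fromK_add {q : ℕ} (x y : (cx 𝔘 P).X q) : M.fromK (x + y) = M.fromK x + M.fromK y := by
  apply M.toK_injective (M.IsE_fromK _) (IsE_add N (M.IsE_fromK _) (M.IsE_fromK _))
  rw [toK_add, toK_fromK, toK_fromK, toK_fromK]

lemma fromK_zero {q : ℕ} : M.fromK (0 : (cx 𝔘 P).X q) = 0 := by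
  apply M.toK_injective (M.IsE_fromK _) IsE_zero
  rw [toK_fromK, toK_zero]

/-- `fromK` as an additive map -/
noncomputable def fromKHom (q : ℕ) : (cx 𝔘 P).X q →+ (T ι q → (I →₀ A)) where
  toFun := M.fromK
  map_zero' := M.fromK_zero
  map_add' := M.fromK_add

lemma π_cmap {q : ℕ} (k : Fin (q + 2)) (γ : T ι (q + 1)) (x : (cx 𝔘 P).X q) :
    (Pi.π (term 𝔘 P (q + 1)) γ).hom ((cmap (Y := 𝔘) P (SimplexCategory.δ k)).hom x) =
      (P.map (Pi.lift (fun j => Pi.π (𝔘 ∘ γ) (k.succAbove j)) :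
          ∏ᶜ (𝔘 ∘ γ) ⟶ ∏ᶜ (𝔘 ∘ γ ∘ k.succAbove)).op).hom
        (proj (γ ∘ k.succAbove) x) := by
  have h : cmap (Y := 𝔘) P (SimplexCategory.δ k) ≫ Pi.π (term 𝔘 P (q + 1)) γ =
      Pi.π (term 𝔘 P q) (γ ∘ k.succAbove) ≫
        P.map (Pi.lift (fun j => Pi.π (𝔘 ∘ γ) (k.succAbove j)) :
          ∏ᶜ (𝔘 ∘ γ) ⟶ ∏ᶜ (𝔘 ∘ γ ∘ k.succAbove)).op := by
    unfold cmap
    rw [Pi.lift_π]
    rfl
  exact congrArg (fun g => g.hom x) h

lemma d_toK {q : ℕ} {φ : T ι q → (I →₀ A)} (hφ : IsE N φ) :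
    ((cx 𝔘 P).d q (q + 1)).hom (M.toK φ) = M.toK (dF φ) := by
  apply ext_K
  intro γ
  rw [π_toK]
  have h1 : proj γ (((cx 𝔘 P).d q (q + 1)).hom (M.toK φ)) =
      ∑ k : Fin (q + 2), ((-1 : ℤ) ^ (k : ℕ)) •
        (Pi.π (term 𝔘 P (q + 1)) γ).hom ((cmap (Y := 𝔘) P (SimplexCategory.δ k)).hom (M.toK φ)) := by
    have h2 : ((cx 𝔘 P).d q (q + 1)).hom (M.toK φ) =
        ∑ k : Fin (q + 2), ((-1 : ℤ) ^ (k : ℕ)) •
          (cmap (Y := 𝔘) P (SimplexCategory.δ k)).hom (M.toK φ) := by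
      rw [cx_d]
      exact hom_sum_zsmul Finset.univ _ _ _
    rw [h2]
    show (Pi.π (term 𝔘 P (q + 1)) γ).hom _ = _
    rw [map_sum]
    apply Finset.sum_congr rfl
    intro k _
    rw [map_zsmul]
  rw [h1, dF_apply, map_sum]
  apply Finset.sum_congr rfl
  intro k _
  rw [map_zsmul, π_cmap, π_toK]
  congr 1
  exact M.res γ k _ _ (hφ (γ ∘ k.succAbove))

lemma d_eq_zero_iff {q : ℕ} {φ : T ι q → (I →₀ A)} (hφ : IsE N φ) :
    ((cx 𝔘 P).d q (q + 1)).hom (M.toK φ) = 0 ↔ dF φ = 0 := by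
  rw [M.d_toK hφ]
  constructor
  · intro h
    apply M.toK_injective (IsE_dF hφ) IsE_zero
    rw [h, toK_zero]
  · intro h
    rw [h, toK_zero]

include M in
/-- vanishing of Čech cohomology away from the top degree -/
theorem subsingleton_homology (q : ℕ) [Nonempty ι]
    (h : q + 2 ≠ Fintype.card ι ∨ ∀ m, ¬ N m = Finset.univ) :
    Subsingleton ((cx 𝔘 P).homology (q + 1)) := by
  apply HomologyData.subsingleton_homology
  intro x hx
  have hφ := M.IsE_fromK x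
  rw [← M.toK_fromK x, M.d_eq_zero_iff hφ] at hx
  obtain ⟨g, hg, hdg⟩ := exists_primitive_E N hφ hx h
  refine ⟨M.toK g, ?_⟩
  rw [M.d_toK hg, hdg, M.toK_fromK]

section endo

variable (α : P ⟶ P) (b : A →+ A)
  (hαb : ∀ (q : ℕ) (γ : T ι q) (p : I →₀ A),
    (α.app (op (∏ᶜ (𝔘 ∘ γ)))).hom (M.Φ γ p) = M.Φ γ (Finsupp.mapRange b (map_zero b) p))

include hαb in
lemma fromK_map {q : ℕ} (x : (cx 𝔘 P).X q) :
    M.fromK ((((cechComplexFunctor 𝔘).map α).f q).hom x) =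
      fun γ => Finsupp.mapRange b (map_zero b) (M.fromK x γ) := by
  apply M.toK_injective (M.IsE_fromK _) (IsE_mapRange (M.IsE_fromK x) b)
  rw [toK_fromK]
  apply ext_K
  intro γ
  rw [π_toK, ← hαb, ← π_toK, toK_fromK]
  have h : ((cechComplexFunctor 𝔘).map α).f q ≫ Pi.π (term 𝔘 P q) γ =
      Pi.π (term 𝔘 P q) γ ≫ α.app (op (∏ᶜ (𝔘 ∘ γ))) := by
    show Limits.Pi.map (fun a => α.app (op (∏ᶜ (𝔘 ∘ a)))) ≫ _ = _
    rw [Limits.Pi.map_π]
  exact congrArg (fun g => g.hom x) h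

end endo

/-- the top Čech cohomology -/
theorem exists_top_equiv {q : ℕ} (γ₁ : Fin (q + 2) ≃ ι) :
    ∃ e : (cx 𝔘 P).homology (q + 1) ≃+ ({m : I // N m = Finset.univ} →₀ A),
      ∀ (α : P ⟶ P) (b : A →+ A),
        (∀ (q' : ℕ) (γ : T ι q') (p : I →₀ A),
          (α.app (op (∏ᶜ (𝔘 ∘ γ)))).hom (M.Φ γ p) =
            M.Φ γ (Finsupp.mapRange b (map_zero b) p)) →
        ∀ h, e ((HomologicalComplex.homologyMap ((cechComplexFunctor 𝔘).map α) (q + 1)).hom h) =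
          Finsupp.mapRange b (map_zero b) (e h) := by
  classical
  haveI : Nonempty ι := ⟨γ₁ 0⟩
  let ρ : (cx 𝔘 P).X (q + 1) →+ ({m : I // N m = Finset.univ} →₀ A) :=
    (Finsupp.subtypeDomainAddMonoidHom).comp
      ((Pi.evalAddMonoidHom (fun _ : T ι (q + 1) => (I →₀ A)) ⇑γ₁).comp (M.fromKHom (q + 1)))
  have hρ : ∀ x, ρ x = Finsupp.subtypeDomain (fun m => N m = Finset.univ) (M.fromK x ⇑γ₁) :=
    fun x => rfl
  have key : ∀ p : I →₀ A, Finsupp.subtypeDomain (fun m => N m = Finset.univ) p = 0 ↔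
      p.filter (fun m => N m = Finset.univ) = 0 := by
    intro p
    rw [Finsupp.subtypeDomain_eq_zero_iff', Finsupp.filter_eq_zero_iff]
  have H1 : ∀ y : (cx 𝔘 P).X q, ρ (((cx 𝔘 P).d q (q + 1)).hom y) = 0 := by
    intro y
    rw [hρ, key, ← M.toK_fromK y, M.d_toK (M.IsE_fromK y), M.fromK_toK (IsE_dF (M.IsE_fromK y))]
    exact congrFun (topP_dF_eq_zero N γ₁ (M.IsE_fromK y)) ⇑γ₁
  have H2 : ∀ x : (cx 𝔘 P).X (q + 1), ((cx 𝔘 P).d (q + 1) (q + 2)).hom x = 0 → ρ x = 0 →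
      ∃ y, ((cx 𝔘 P).d q (q + 1)).hom y = x := by
    intro x hx h0
    have hφ := M.IsE_fromK x
    rw [← M.toK_fromK x, M.d_eq_zero_iff hφ] at hx
    rw [hρ, key] at h0
    obtain ⟨g, hg, hdg⟩ := top_exact N γ₁ γ₁ hφ hx h0
    refine ⟨M.toK g, ?_⟩
    rw [M.d_toK hg, hdg, M.toK_fromK]
  have H3 : ∀ w : ({m : I // N m = Finset.univ} →₀ A), ∃ x : (cx 𝔘 P).X (q + 1),
      ((cx 𝔘 P).d (q + 1) (q + 2)).hom x = 0 ∧ ρ x = w := by
    intro w
    have hp : ∀ m, (Finsupp.extendDomain w : I →₀ A) m ≠ 0 → N m = Finset.univ := by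
      intro m hm
      by_contra hne
      apply hm
      rw [Finsupp.extendDomain_apply, dif_neg hne]
    obtain ⟨φ, h1, h2, h3⟩ := top_surj N γ₁ (Finsupp.extendDomain w) hp
    refine ⟨M.toK φ, (M.d_eq_zero_iff h1).mpr h2, ?_⟩
    rw [hρ, M.fromK_toK h1]
    have h4 : Finsupp.subtypeDomain (fun m => N m = Finset.univ) (φ ⇑γ₁) =
        Finsupp.subtypeDomain (fun m => N m = Finset.univ) (topP N φ ⇑γ₁) := by
      ext m
      rw [Finsupp.subtypeDomain_apply, Finsupp.subtypeDomain_apply]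
      show φ ⇑γ₁ m.1 = ((φ ⇑γ₁).filter _) m.1
      exact (Finsupp.filter_apply_pos (fun m => N m = Finset.univ) (φ ⇑γ₁) m.2).symm
    rw [h4, h3, Finsupp.subtypeDomain_extendDomain]
  obtain ⟨e, he⟩ := HomologyData.exists_homology_equiv (cx 𝔘 P) q ρ H1 H2 H3
  refine ⟨e, fun α b hαb h => ?_⟩
  refine HomologyData.homologyMap_compat (cx 𝔘 P) ((cechComplexFunctor 𝔘).map α) (q + 1) e ρ he
    (Finsupp.mapRange.addMonoidHom b) (fun x => ?_) h
  rw [hρ, hρ, M.fromK_map α b hαb]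
  ext m
  rfl

/-- the Čech cohomology in degree zero -/
theorem exists_zero_equiv (i₀ : ι) :
    ∃ e : (cx 𝔘 P).homology 0 ≃+ ({m : I // ∀ i : ι, N m ⊆ {i}} →₀ A),
      ∀ (α : P ⟶ P) (b : A →+ A),
        (∀ (q' : ℕ) (γ : T ι q') (p : I →₀ A),
          (α.app (op (∏ᶜ (𝔘 ∘ γ)))).hom (M.Φ γ p) =
            M.Φ γ (Finsupp.mapRange b (map_zero b) p)) →
        ∀ h, e ((HomologicalComplex.homologyMap ((cechComplexFunctor 𝔘).map α) 0).hom h) =
          Finsupp.mapRange b (map_zero b) (e h) := by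
  classical
  let γ₁ : T ι 0 := fun _ => i₀
  let ρ : (cx 𝔘 P).X 0 →+ ({m : I // ∀ i : ι, N m ⊆ {i}} →₀ A) :=
    (Finsupp.subtypeDomainAddMonoidHom).comp
      ((Pi.evalAddMonoidHom (fun _ : T ι 0 => (I →₀ A)) γ₁).comp (M.fromKHom 0))
  have hρ : ∀ x, ρ x = Finsupp.subtypeDomain (fun m => ∀ i : ι, N m ⊆ {i}) (M.fromK x γ₁) :=
    fun x => rfl
  have himg : ∀ γ : T ι 0, Finset.univ.image γ = {γ 0} := by
    intro γ
    ext i
    simp only [Finset.mem_image, Finset.mem_univ, true_and, Finset.mem_singleton]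
    constructor
    · rintro ⟨k, rfl⟩
      rw [Fin.fin_one_eq_zero k]
    · intro h
      exact ⟨0, h.symm⟩
  have H2 : ∀ x : (cx 𝔘 P).X 0, ((cx 𝔘 P).d 0 1).hom x = 0 → ρ x = 0 → x = 0 := by
    intro x hx h0
    have hφ := M.IsE_fromK x
    rw [← M.toK_fromK x, M.d_eq_zero_iff hφ, dF_eq_zero_iff_const] at hx
    rw [hρ, Finsupp.subtypeDomain_eq_zero_iff'] at h0
    have hz : M.fromK x = 0 := by
      funext γ
      rw [hx γ γ₁]
      ext m
      by_contra hne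
      apply hne
      apply h0 m
      intro i
      have := hφ (fun _ => i) m (by rw [hx _ γ₁]; exact hne)
      rw [himg] at this
      exact this
    rw [← M.toK_fromK x, hz, toK_zero]
  have H3 : ∀ w : ({m : I // ∀ i : ι, N m ⊆ {i}} →₀ A), ∃ x : (cx 𝔘 P).X 0,
      ((cx 𝔘 P).d 0 1).hom x = 0 ∧ ρ x = w := by
    intro w
    have hp : ∀ m, (Finsupp.extendDomain w : I →₀ A) m ≠ 0 → ∀ i : ι, N m ⊆ {i} := by
      intro m hm
      by_contra hne
      apply hm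
      rw [Finsupp.extendDomain_apply, dif_neg hne]
    have h1 : IsE N (fun _ : T ι 0 => (Finsupp.extendDomain w : I →₀ A)) := by
      intro γ m hm
      rw [himg]
      exact hp m hm (γ 0)
    refine ⟨M.toK (fun _ => Finsupp.extendDomain w), (M.d_eq_zero_iff h1).mpr ?_, ?_⟩
    · rw [dF_eq_zero_iff_const]
      intro _ _
      rfl
    · rw [hρ, M.fromK_toK h1, Finsupp.subtypeDomain_extendDomain]
  obtain ⟨e, he⟩ := HomologyData.exists_homology_zero_equiv (cx 𝔘 P) ρ H2 H3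
  refine ⟨e, fun α b hαb h => ?_⟩
  refine HomologyData.homologyMap_compat (cx 𝔘 P) ((cechComplexFunctor 𝔘).map α) 0 e ρ he
    (Finsupp.mapRange.addMonoidHom b) (fun x => ?_) h
  rw [hρ, hρ, M.fromK_map α b hαb]
  ext m
  rfl

end Model

end Groth.Agent.H82.CechModel
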