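import Mathlib
import Groth.Agent.H41.GrModQCoh
import Groth.Agent.H18.ProjSpaceGlobal
import Groth.Agent.H82.CechModel

/-!
# Sections of `O(d)` on projective space over the standard opens, as Laurent monomials
-/

set_option autoImplicit false
set_option linter.unusedSectionVars false
set_option linter.unusedVariables false
set_option linter.style.haveILetI false

universe u

open CategoryTheory CategoryTheory.Limits Opposite TopologicalSpace AlgebraicGeometry MvPolynomial

namespace Groth.Agent.H82.ProjSections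

open Groth.Agent.H41

section LocMod

variable {A M : Type u} [CommRing A] [AddCommGroup M] [Module A M] {S : Submonoid A}

lemma mk_add (a b : M) (s : S) :
    LocalizedModule.mk (a + b) s = LocalizedModule.mk a s + LocalizedModule.mk b s := by
  rw [IsLocalizedModule.mk_eq_mk', IsLocalizedModule.mk_eq_mk', IsLocalizedModule.mk_eq_mk',
    IsLocalizedModule.mk'_add]

lemma mk_eq_of {m m' : M} {s s' : S} (h : (s' : A) • m = (s : A) • m') :
    LocalizedModule.mk m s = LocalizedModule.mk m' s' :=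
  LocalizedModule.mk_eq.mpr ⟨1, by rw [one_smul, one_smul]; exact h⟩

lemma mk_eq_zero_iff {m : M} {s : S} :
    LocalizedModule.mk m s = 0 ↔ ∃ c : S, (c : A) • m = 0 := by
  rw [IsLocalizedModule.mk_eq_mk', IsLocalizedModule.mk'_eq_zero']
  rfl

end LocMod

/-- the index set of the standard cover -/
abbrev ιn (n : ℕ) : Type u := ULift.{u} (Fin (n + 1))

/-- exponent vectors of total degree `d` -/
abbrev Idx (n : ℕ) (d : ℤ) : Type u := {m : ιn.{u} n → ℤ // ∑ i, m i = d}

variable {n : ℕ} {R : Type u} [CommRing R]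

/-- the set of indices with negative exponent -/
def Nn {d : ℤ} (m : Idx n d) : Finset (ιn.{u} n) := Finset.univ.filter (fun i => m.1 i < 0)

/-- positive part of an exponent vector -/
noncomputable def pos (m : ιn.{u} n → ℤ) : Fin (n + 1) →₀ ℕ :=
  Finsupp.equivFunOnFinite.symm (fun j => (m ⟨j⟩).toNat)

/-- negative part of an exponent vector -/
noncomputable def neg (m : ιn.{u} n → ℤ) : Fin (n + 1) →₀ ℕ :=
  Finsupp.equivFunOnFinite.symm (fun j => (-(m ⟨j⟩)).toNat)

/-- indicator exponent of a set of indices -/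
noncomputable def ind (S : Finset (ιn.{u} n)) : Fin (n + 1) →₀ ℕ :=
  Finsupp.equivFunOnFinite.symm (fun j => if (⟨j⟩ : ιn n) ∈ S then 1 else 0)

/-- shifted exponent -/
noncomputable def sh (k : ℕ) (S : Finset (ιn.{u} n)) (m : ιn.{u} n → ℤ) : Fin (n + 1) →₀ ℕ :=
  Finsupp.equivFunOnFinite.symm (fun j => (m ⟨j⟩ + (if (⟨j⟩ : ιn n) ∈ S then (k : ℤ) else 0)).toNat)

@[simp] lemma pos_apply (m : ιn.{u} n → ℤ) (j : Fin (n + 1)) : pos m j = (m ⟨j⟩).toNat := rfl
@[simp] lemma neg_apply (m : ιn.{u} n → ℤ) (j : Fin (n + 1)) : neg m j = (-(m ⟨j⟩)).toNat := rfl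
@[simp] lemma ind_apply (S : Finset (ιn.{u} n)) (j : Fin (n + 1)) :
    ind S j = if (⟨j⟩ : ιn n) ∈ S then 1 else 0 := rfl
@[simp] lemma sh_apply (k : ℕ) (S : Finset (ιn.{u} n)) (m : ιn.{u} n → ℤ) (j : Fin (n + 1)) :
    sh k S m j = (m ⟨j⟩ + (if (⟨j⟩ : ιn n) ∈ S then (k : ℤ) else 0)).toNat := rfl

lemma sum_ulift (f : ιn.{u} n → ℤ) : ∑ i, f i = ∑ j : Fin (n + 1), f ⟨j⟩ :=
  Fintype.sum_equiv Equiv.ulift _ _ (fun i => rfl)

lemma degree_pos_neg (m : ιn.{u} n → ℤ) :
    ((pos m).degree : ℤ) = (neg m).degree + ∑ i, m i := by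
  rw [Finsupp.degree_eq_sum, Finsupp.degree_eq_sum, sum_ulift]
  push_cast
  rw [← Finset.sum_add_distrib]
  apply Finset.sum_congr rfl
  intro j _
  simp only [pos_apply, neg_apply]
  omega

lemma degree_ind (S : Finset (ιn.{u} n)) : (ind S).degree = S.card := by
  rw [Finsupp.degree_eq_sum]
  simp only [ind_apply]
  rw [Finset.sum_boole]
  simp only [Nat.cast_id]
  apply Finset.card_bij (fun j _ => (⟨j⟩ : ιn n))
  · intro j hj
    exact (Finset.mem_filter.mp hj).2
  · intro j _ j' _ h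
    exact congrArg ULift.down h
  · intro i hi
    exact ⟨i.down, Finset.mem_filter.mpr ⟨Finset.mem_univ _, hi⟩, rfl⟩

/-- the bound condition -/
def Bd (k : ℕ) (S : Finset (ιn.{u} n)) (m : ιn.{u} n → ℤ) : Prop :=
  ∀ j : ιn n, 0 ≤ m j + (if j ∈ S then (k : ℤ) else 0)

lemma key_identity {k : ℕ} {S : Finset (ιn.{u} n)} {m : ιn.{u} n → ℤ} (h : Bd k S m) :
    k • ind S + pos m = neg m + sh k S m := by
  ext j
  simp only [Finsupp.add_apply, Finsupp.smul_apply, ind_apply, pos_apply, neg_apply, sh_apply,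
    smul_eq_mul]
  have := h ⟨j⟩
  split_ifs at this ⊢ <;> omega

lemma degree_sh {k : ℕ} {S : Finset (ιn.{u} n)} {m : ιn.{u} n → ℤ} (h : Bd k S m) :
    ((sh k S m).degree : ℤ) = ∑ i, m i + k * S.card := by
  have h1 := congrArg (fun e : Fin (n + 1) →₀ ℕ => (e.degree : ℤ)) (key_identity h)
  simp only [map_add, map_nsmul, degree_ind, Nat.cast_add, smul_eq_mul, Nat.cast_mul] at h1
  have h2 := degree_pos_neg m
  linarith

lemma sh_injOn {k : ℕ} {S : Finset (ιn.{u} n)} {m m' : ιn.{u} n → ℤ} (h : Bd k S m)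
    (h' : Bd k S m') (e : sh k S m = sh k S m') : m = m' := by
  funext j
  have h1 := DFunLike.congr_fun e j.down
  simp only [sh_apply] at h1
  have h2 := h j
  have h3 := h' j
  have e1 : (⟨j.down⟩ : ιn n) = j := rfl
  rw [e1] at h1
  split_ifs at h1 h2 h3 <;> omega

lemma Bd_of_Nn {d : ℤ} {S : Finset (ιn.{u} n)} (m : Idx n d) (hm : Nn m ⊆ S) {k : ℕ}
    (hk : ∀ j, -(m.1 j) ≤ k) : Bd k S m.1 := by
  intro j
  by_cases hj : m.1 j < 0
  · have : j ∈ S := hm (Finset.mem_filter.mpr ⟨Finset.mem_univ _, hj⟩)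
    rw [if_pos this]
    have := hk j
    omega
  · push Not at hj
    split_ifs
    · positivity
    · simpa using hj

lemma Nn_of_Bd {d : ℤ} {S : Finset (ιn.{u} n)} (m : Idx n d) {k : ℕ} (h : Bd k S m.1) :
    Nn m ⊆ S := by
  intro j hj
  have hj' : m.1 j < 0 := (Finset.mem_filter.mp hj).2
  by_contra hS
  have := h j
  rw [if_neg hS] at this
  omega


lemma supp_induction {α : Type*} {M : Type*} [AddCommGroup M] (Q : α → Prop)
    (motive : (α →₀ M) → Prop) (zero : motive 0)
    (step : ∀ (a : α) (b : M) (f : α →₀ M), Q a → (∀ m, f m ≠ 0 → Q m) → motive f →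
      motive (Finsupp.single a b + f))
    (p : α →₀ M) (hp : ∀ m, p m ≠ 0 → Q m) : motive p := by
  classical
  induction p using Finsupp.induction with
  | zero => exact zero
  | single_add a b f ha hb ih =>
    have hfa : f a = 0 := Finsupp.notMem_support_iff.mp ha
    have hQa : Q a := hp a (by
      rw [Finsupp.add_apply, Finsupp.single_eq_same, hfa, add_zero]
      exact hb)
    have hf : ∀ m, f m ≠ 0 → Q m := fun m hm => hp m (by
      have hma : m ≠ a := fun e => hm (e ▸ hfa)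
      rw [Finsupp.add_apply, Finsupp.single_apply, if_neg (Ne.symm hma), zero_add]
      exact hm)
    exact step a b f hQa hf (ih hf)

/-- the grading of the polynomial ring -/
noncomputable abbrev gr (n : ℕ) (R : Type u) [CommRing R] :
    ℕ → Submodule R (MvPolynomial (Fin (n + 1)) R) := CohB1.polyGrading n R

/-- the sheaf `O(d)` -/
noncomputable abbrev Fd (n : ℕ) (R : Type u) [CommRing R] (d : ℤ) : (Proj (gr n R)).Modules :=
  GrMod.tilde (gr n R) (gr n R) d

lemma monomial_mem_iff (I : Ideal (MvPolynomial (Fin (n + 1)) R)) [hI : I.IsPrime]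
    (e : Fin (n + 1) →₀ ℕ) :
    monomial e (1 : R) ∈ I ↔ ∃ j, e j ≠ 0 ∧ (X j : MvPolynomial (Fin (n + 1)) R) ∈ I := by
  rw [monomial_eq, C_1, one_mul, Finsupp.prod, Ideal.IsPrime.prod_mem_iff]
  constructor
  · rintro ⟨j, hj, h⟩
    exact ⟨j, Finsupp.mem_support_iff.mp hj, hI.mem_of_pow_mem _ h⟩
  · rintro ⟨j, hj, h⟩
    exact ⟨j, Finsupp.mem_support_iff.mpr hj, Ideal.pow_mem_of_mem _ h _ (Nat.pos_of_ne_zero hj)⟩

/-- the product of the variables indexed by `S` -/
noncomputable def TS (R : Type u) [CommRing R] (S : Finset (ιn.{u} n)) :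
    MvPolynomial (Fin (n + 1)) R := monomial (ind S) 1

lemma TS_mem (S : Finset (ιn.{u} n)) : TS R S ∈ gr n R S.card :=
  isHomogeneous_monomial 1 (degree_ind S)

lemma TS_pow (S : Finset (ιn.{u} n)) (k : ℕ) : TS R S ^ k = monomial (k • ind S) 1 := by
  rw [TS, monomial_pow, one_pow]

/-- the standard open `D₊(T_S)` -/
noncomputable def D (R : Type u) [CommRing R] (S : Finset (ιn.{u} n)) : (Proj (gr n R)).Opens :=
  Proj.basicOpen (gr n R) (TS R S)

lemma mem_D_iff (S : Finset (ιn.{u} n)) (x : Proj (gr n R)) :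
    x ∈ D R S ↔ ∀ i ∈ S, (X i.down : MvPolynomial (Fin (n + 1)) R) ∉ x.asHomogeneousIdeal := by
  haveI := x.isPrime
  have h1 : x ∈ D R S ↔ TS R S ∉ x.asHomogeneousIdeal.toIdeal := Iff.rfl
  rw [h1, TS, monomial_mem_iff]
  constructor
  · intro h i hi hX
    exact h ⟨i.down, by simp [ind_apply, hi], hX⟩
  · rintro h ⟨j, hj, hX⟩
    have : (⟨j⟩ : ιn n) ∈ S := by
      by_contra hS
      simp [ind_apply, hS] at hj
    exact h _ this hX

/-- the standard cover -/
noncomputable def 𝔘 (n : ℕ) (R : Type u) [CommRing R] (i : ιn.{u} n) : (Proj (gr n R)).Opens :=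
  Proj.basicOpen (gr n R) (X i.down : MvPolynomial (Fin (n + 1)) R)

lemma D_le_𝔘 {S : Finset (ιn.{u} n)} {i : ιn.{u} n} (hi : i ∈ S) : D R S ≤ 𝔘 n R i :=
  fun x hx => (mem_D_iff S x).mp hx i hi

lemma iInf_eq_D {q : ℕ} (γ : Fin (q + 1) → ιn.{u} n) :
    ⨅ k, 𝔘 n R (γ k) = D R (Finset.univ.image γ) := by
  apply le_antisymm
  · intro x hx
    rw [mem_D_iff]
    intro i hi
    obtain ⟨k, -, rfl⟩ := Finset.mem_image.mp hi
    exact (iInf_le (fun k => 𝔘 n R (γ k)) k) hx
  · exact le_iInf fun k => D_le_𝔘 (Finset.mem_image.mpr ⟨k, Finset.mem_univ _, rfl⟩)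

lemma prod_eq_D {q : ℕ} (γ : Fin (q + 1) → ιn.{u} n) :
    (∏ᶜ (𝔘 n R ∘ γ) : (Proj (gr n R)).Opens) = D R (Finset.univ.image γ) := by
  apply le_antisymm
  · intro x hx
    rw [mem_D_iff]
    intro i hi
    obtain ⟨k, -, rfl⟩ := Finset.mem_image.mp hi
    exact (Pi.π (𝔘 n R ∘ γ) k).le hx
  · exact (Pi.lift (fun k => homOfLE
      (D_le_𝔘 (Finset.mem_image.mpr ⟨k, Finset.mem_univ _, rfl⟩) :
        D R (Finset.univ.image γ) ≤ (𝔘 n R ∘ γ) k))).le

lemma isAffineOpen_D {S : Finset (ιn.{u} n)} (hS : S.Nonempty) : IsAffineOpen (D R S) :=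
  Proj.isAffineOpen_basicOpen (gr n R) (TS R S) (TS_mem S) (Finset.card_pos.mpr hS)

lemma iSup_𝔘 : iSup (𝔘 n R) = ⊤ := by
  apply Proj.iSup_basicOpen_eq_top
  have : Set.range (fun i : ιn.{u} n => (X i.down : MvPolynomial (Fin (n + 1)) R)) =
      Set.range (X : Fin (n + 1) → MvPolynomial (Fin (n + 1)) R) := by
    ext y
    constructor
    · rintro ⟨i, rfl⟩
      exact ⟨i.down, rfl⟩
    · rintro ⟨j, rfl⟩
      exact ⟨⟨j⟩, rfl⟩
  rw [this]
  exact Groth.Agent.H18.ProjSpaceGlobal.irrelevant_le_span n R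

variable (d : ℤ)

/-- the denominator of the monomial `m` is invertible on `W` -/
def goodW (W : (Proj (gr n R)).Opens) (m : Idx n d) : Prop :=
  ∀ x : W, monomial (neg m.1) (1 : R) ∉ x.1.asHomogeneousIdeal

variable {d}

lemma goodW_mono {V W : (Proj (gr n R)).Opens} (h : V ≤ W) {m : Idx n d} (hm : goodW (R := R) d W m) :
    goodW (R := R) d V m := fun x => hm ⟨x.1, h x.2⟩

lemma goodW_of_Nn {S : Finset (ιn.{u} n)} (m : Idx n d) (hm : Nn m ⊆ S)
    {W : (Proj (gr n R)).Opens} (hW : W ≤ D R S) : goodW (R := R) d W m := by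
  intro x hx
  have hxS := (mem_D_iff S x.1).mp (hW x.2)
  haveI := x.1.isPrime
  obtain ⟨j, hj, hXj⟩ := (monomial_mem_iff x.1.asHomogeneousIdeal.toIdeal _).mp hx
  have hmem : (⟨j⟩ : ιn n) ∈ Nn m := by
    rw [Nn, Finset.mem_filter]
    refine ⟨Finset.mem_univ _, ?_⟩
    simp only [neg_apply] at hj
    omega
  exact hxS _ (hm hmem) hXj

variable (d)

/-- the section given by a Laurent monomial -/
noncomputable def sec (W : (Proj (gr n R)).Opens) (m : Idx n d) (hW : goodW (R := R) d W m) (c : R) :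
    Γ(Fd n R d, W) :=
  GrModQCoh.fracSect (gr n R) (gr n R) d W (i := (pos m.1).degree) (j := (neg m.1).degree)
    (by rw [degree_pos_neg, m.2])
    ⟨monomial (pos m.1) c, isHomogeneous_monomial c rfl⟩
    ⟨monomial (neg m.1) 1, isHomogeneous_monomial 1 rfl⟩ hW

lemma val_sec (W : (Proj (gr n R)).Opens) (m : Idx n d) (hW : goodW (R := R) d W m) (c : R)
    (x : W) : GrMod.val (sec d W m hW c) x =
      LocalizedModule.mk (monomial (pos m.1) c) ⟨monomial (neg m.1) 1, hW x⟩ := rfl

lemma val_add {W : (Proj (gr n R)).Opens} (s t : Γ(Fd n R d, W)) (x : W) :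
    GrMod.val (s + t) x = GrMod.val s x + GrMod.val t x := rfl

/-- the monomial sections, additively in the coefficient -/
noncomputable def secHom (W : (Proj (gr n R)).Opens) (m : Idx n d) (hW : goodW (R := R) d W m) :
    R →+ Γ(Fd n R d, W) where
  toFun := sec d W m hW
  map_zero' := by
    apply GrModQCoh.sect_ext
    intro x
    rw [val_sec, GrModQCoh.val_zero, map_zero, LocalizedModule.zero_mk]
  map_add' c c' := by
    apply GrModQCoh.sect_ext
    intro x
    rw [val_add, val_sec, val_sec, val_sec, map_add, mk_add]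

open Classical in
/-- the map from finitely supported families of coefficients to sections -/
noncomputable def ΦW (W : (Proj (gr n R)).Opens) : (Idx n d →₀ R) →+ Γ(Fd n R d, W) :=
  Finsupp.liftAddHom (fun m => if h : goodW (R := R) d W m then secHom d W m h else 0)

lemma ΦW_single_pos (W : (Proj (gr n R)).Opens) (m : Idx n d) (h : goodW (R := R) d W m) (c : R) :
    ΦW d W (Finsupp.single m c) = sec d W m h c := by
  unfold ΦW
  rw [Finsupp.liftAddHom_apply_single, dif_pos h]
  rfl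

lemma ΦW_single_neg (W : (Proj (gr n R)).Opens) (m : Idx n d) (h : ¬ goodW (R := R) d W m) (c : R) :
    ΦW d W (Finsupp.single m c) = 0 := by
  unfold ΦW
  rw [Finsupp.liftAddHom_apply_single, dif_neg h]
  rfl

/-- the numerator over the common denominator `T_S ^ k` -/
noncomputable def toPoly (k : ℕ) (S : Finset (ιn.{u} n)) :
    (Idx n d →₀ R) →+ MvPolynomial (Fin (n + 1)) R :=
  Finsupp.liftAddHom (fun m => (monomial (sh k S m.1)).toAddMonoidHom)

lemma toPoly_single (k : ℕ) (S : Finset (ιn.{u} n)) (m : Idx n d) (c : R) :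
    toPoly d k S (Finsupp.single m c) = monomial (sh k S m.1) c := by
  unfold toPoly
  rw [Finsupp.liftAddHom_apply_single]
  rfl


lemma TS_pow_nin (S : Finset (ιn.{u} n)) (k : ℕ) (x : D R S) :
    TS R S ^ k ∉ x.1.asHomogeneousIdeal :=
  fun h => x.2 (x.1.isPrime.mem_of_pow_mem k h)

/-- over `D₊(T_S)` the monomial sections with denominators bounded by `T_S ^ k` are fractions with
denominator `T_S ^ k` -/
lemma val_ΦW_eq (k : ℕ) (S : Finset (ιn.{u} n)) (p : Idx n d →₀ R)
    (hp : ∀ m, p m ≠ 0 → Bd k S m.1) (x : D R S) :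
    GrMod.val (ΦW d (D R S) p) x =
      LocalizedModule.mk (toPoly d k S p) ⟨TS R S ^ k, TS_pow_nin S k x⟩ := by
  revert x
  refine supp_induction (fun m : Idx n d => Bd k S m.1)
    (fun p => ∀ x : D R S, GrMod.val (ΦW d (D R S) p) x =
      LocalizedModule.mk (toPoly d k S p) ⟨TS R S ^ k, TS_pow_nin S k x⟩) ?_ ?_ p hp
  · intro x
    rw [map_zero, map_zero, LocalizedModule.zero_mk]
    rfl
  · intro a b f ha hf ih x
    have hg : goodW (R := R) d (D R S) a := goodW_of_Nn a (Nn_of_Bd a ha) le_rfl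
    rw [map_add, map_add, val_add, ih x, mk_add, ΦW_single_pos d _ a hg, val_sec, toPoly_single]
    congr 1
    apply mk_eq_of
    show TS R S ^ k * monomial (pos a.1) b = monomial (neg a.1) 1 * monomial (sh k S a.1) b
    rw [TS_pow, monomial_mul, monomial_mul, key_identity ha]

lemma toPoly_mem (k : ℕ) (S : Finset (ιn.{u} n)) (p : Idx n d →₀ R)
    (hp : ∀ m, p m ≠ 0 → Bd k S m.1) :
    toPoly d k S p ∈ gr n R (d + k * S.card).toNat := by
  refine supp_induction (fun m : Idx n d => Bd k S m.1)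
    (fun p => toPoly d k S p ∈ gr n R (d + k * S.card).toNat) ?_ ?_ p hp
  · rw [map_zero]
    exact Submodule.zero_mem _
  · intro a b f ha hf ih
    rw [map_add, toPoly_single]
    refine Submodule.add_mem _ ?_ ih
    apply isHomogeneous_monomial
    have := degree_sh ha
    rw [a.2] at this
    omega

lemma monomial_mul_eq_zero (e : Fin (n + 1) →₀ ℕ) (a : MvPolynomial (Fin (n + 1)) R)
    (h : monomial e (1 : R) * a = 0) : a = 0 := by
  ext e'
  have := coeff_monomial_mul e' e (1 : R) a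
  rw [h, coeff_zero, one_mul] at this
  rw [coeff_zero]
  exact this.symm

lemma toPoly_eq_zero (k : ℕ) (S : Finset (ιn.{u} n)) (p : Idx n d →₀ R)
    (hp : ∀ m, p m ≠ 0 → Bd k S m.1) (h : toPoly d k S p = 0) : p = 0 := by
  classical
  ext m₀
  by_contra hne
  apply hne
  have h1 : toPoly d k S p = ∑ m ∈ p.support, monomial (sh k S m.1) (p m) := by
    unfold toPoly
    rw [Finsupp.liftAddHom_apply]
    rfl
  have h2 := congrArg (coeff (sh k S m₀.1)) h
  rw [h1, coeff_sum, coeff_zero, Finset.sum_eq_single m₀] at h2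
  · rw [coeff_monomial, if_pos rfl] at h2
    exact h2
  · intro m hm hmm
    rw [coeff_monomial, if_neg]
    intro e
    apply hmm
    apply Subtype.ext
    exact sh_injOn (hp m (Finsupp.mem_support_iff.mp hm)) (hp m₀ hne) e
  · intro hm
    exact absurd (Finsupp.mem_support_iff.mpr hne) hm

/-- injectivity of the monomial description over `D₊(T_S)` -/
theorem ΦW_injective {S : Finset (ιn.{u} n)} (hS : S.Nonempty) (p : Idx n d →₀ R)
    (hp : ∀ m, p m ≠ 0 → Nn m ⊆ S) (h : ΦW d (D R S) p = 0) : p = 0 := by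
  classical
  -- a bound for the denominators
  let k : ℕ := ∑ m ∈ p.support, ∑ j, (-(m.1 j)).toNat
  have hk : ∀ m, p m ≠ 0 → Bd k S m.1 := by
    intro m hm
    apply Bd_of_Nn m (hp m hm)
    intro j
    have h1 : (-(m.1 j)).toNat ≤ ∑ j', (-(m.1 j')).toNat :=
      Finset.single_le_sum (f := fun j' => (-(m.1 j')).toNat) (fun _ _ => Nat.zero_le _)
        (Finset.mem_univ j)
    have h2 : ∑ j', (-(m.1 j')).toNat ≤ k :=
      Finset.single_le_sum (f := fun m' : Idx n d => ∑ j', (-(m'.1 j')).toNat)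
        (fun _ _ => Nat.zero_le _) (Finsupp.mem_support_iff.mpr hm)
    have h3 : -(m.1 j) ≤ (-(m.1 j)).toNat := Int.self_le_toNat _
    have h4 : ((-(m.1 j)).toNat : ℤ) ≤ k := by exact_mod_cast h1.trans h2
    exact h3.trans h4
  apply toPoly_eq_zero d k S p hk
  have hloc : ∀ x : ProjectiveSpectrum (gr n R), TS R S ∉ x.asHomogeneousIdeal →
      ∃ c : MvPolynomial (Fin (n + 1)) R, c ∉ x.asHomogeneousIdeal ∧ c • toPoly d k S p = 0 := by
    intro x hx
    have h1 := val_ΦW_eq d k S p hk ⟨x, hx⟩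
    rw [h] at h1
    have h2 : LocalizedModule.mk (toPoly d k S p)
        (⟨TS R S ^ k, TS_pow_nin S k ⟨x, hx⟩⟩ : x.asHomogeneousIdeal.toIdeal.primeCompl) = 0 :=
      h1.symm
    obtain ⟨c, hc⟩ := mk_eq_zero_iff.mp h2
    exact ⟨c.1, c.2, hc⟩
  obtain ⟨N, hN⟩ := GrModSections.exists_pow_smul_eq_zero_of_forall_localized_eq_zero (gr n R) (gr n R)
    (Finset.card_pos.mpr hS) (TS_mem S) (toPoly_mem d k S p hk) hloc
  rw [smul_eq_mul, TS_pow] at hN
  exact monomial_mul_eq_zero _ _ hN

/-- every homogeneous polynomial of the right degree is a numerator -/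
lemma exists_toPoly (k : ℕ) (S : Finset (ιn.{u} n)) (i : ℕ) (hi : (i : ℤ) = k * S.card + d)
    (a : MvPolynomial (Fin (n + 1)) R) :
    ∃ p : Idx n d →₀ R, (∀ m, p m ≠ 0 → Bd k S m.1) ∧
      toPoly d k S p = homogeneousComponent i a := by
  classical
  induction a using MvPolynomial.induction_on' with
  | monomial e c =>
    by_cases he : e.degree = i
    · have hsum : ∑ j : ιn.{u} n, ((e j.down : ℤ) - (if j ∈ S then (k : ℤ) else 0)) = d := by
        rw [Finset.sum_sub_distrib, Finset.sum_ite_mem, Finset.univ_inter, Finset.sum_const,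
          sum_ulift (fun j => ((e j.down : ℕ) : ℤ))]
        have h1 : (∑ j : Fin (n + 1), ((e j : ℕ) : ℤ)) = i := by
          rw [← he, Finsupp.degree_eq_sum]
          push_cast
          rfl
        rw [h1, hi]
        simp
        ring
      let m₀ : Idx n d := ⟨fun j => (e j.down : ℤ) - (if j ∈ S then (k : ℤ) else 0), hsum⟩
      have hB : Bd k S m₀.1 := by
        intro j
        show 0 ≤ (e j.down : ℤ) - (if j ∈ S then (k : ℤ) else 0) + (if j ∈ S then (k : ℤ) else 0)
        rw [sub_add_cancel]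
        positivity
      have hsh : sh k S m₀.1 = e := by
        ext j
        rw [sh_apply]
        show ((e j : ℤ) - (if (⟨j⟩ : ιn n) ∈ S then (k : ℤ) else 0) +
          (if (⟨j⟩ : ιn n) ∈ S then (k : ℤ) else 0)).toNat = e j
        rw [sub_add_cancel]
        exact Int.toNat_natCast _
      refine ⟨Finsupp.single m₀ c, ?_, ?_⟩
      · intro m hm
        have : m = m₀ := by
          by_contra hne
          apply hm
          rw [Finsupp.single_apply, if_neg (Ne.symm hne)]
        rw [this]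
        exact hB
      · rw [toPoly_single, hsh, homogeneousComponent_of_mem (isHomogeneous_monomial c he),
          if_pos rfl]
    · refine ⟨0, fun m hm => absurd rfl hm, ?_⟩
      rw [map_zero, homogeneousComponent_of_mem (isHomogeneous_monomial c rfl), if_neg (Ne.symm he)]
  | add a b iha ihb =>
    obtain ⟨p, hp, hpa⟩ := iha
    obtain ⟨p', hp', hpb⟩ := ihb
    refine ⟨p + p', ?_, ?_⟩
    · intro m hm
      by_cases h0 : p m = 0
      · apply hp'
        intro h1
        apply hm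
        rw [Finsupp.add_apply, h0, h1, add_zero]
      · exact hp m h0
    · rw [map_add, map_add, hpa, hpb]

/-- surjectivity of the monomial description over `D₊(T_S)` -/
theorem ΦW_surjective {S : Finset (ιn.{u} n)} (hS : S.Nonempty) (s : Γ(Fd n R d, D R S)) :
    ∃ p : Idx n d →₀ R, (∀ m, p m ≠ 0 → Nn m ⊆ S) ∧ ΦW d (D R S) p = s := by
  obtain ⟨k, i, a, hi, hs⟩ := GrModSections.sections_eq_fraction (gr n R) (gr n R) d
    (Finset.card_pos.mpr hS) (TS_mem S) s
  obtain ⟨p, hp, hpa⟩ := exists_toPoly d k S i hi (a : MvPolynomial (Fin (n + 1)) R)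
  refine ⟨p, fun m hm => Nn_of_Bd m (hp m hm), ?_⟩
  apply GrModQCoh.sect_ext
  intro x
  rw [val_ΦW_eq d k S p hp x, hpa, homogeneousComponent_of_mem a.2, if_pos rfl]
  exact (hs x).symm


theorem ΦW_surjective' {W : (Proj (gr n R)).Opens} {S : Finset (ιn.{u} n)} (hW : W = D R S)
    (hS : S.Nonempty) (s : Γ(Fd n R d, W)) :
    ∃ p : Idx n d →₀ R, (∀ m, p m ≠ 0 → Nn m ⊆ S) ∧ ΦW d W p = s := by
  subst hW
  exact ΦW_surjective d hS s

theorem ΦW_injective' {W : (Proj (gr n R)).Opens} {S : Finset (ιn.{u} n)} (hW : W = D R S)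
    (hS : S.Nonempty) (p : Idx n d →₀ R) (hp : ∀ m, p m ≠ 0 → Nn m ⊆ S) (h : ΦW d W p = 0) :
    p = 0 := by
  subst hW
  exact ΦW_injective d hS p hp h

/-- compatibility of the monomial sections with restriction -/
lemma res_ΦW {V W : (Proj (gr n R)).Opens} (h : V ≤ W) (p : Idx n d →₀ R)
    (hp : ∀ m, p m ≠ 0 → goodW (R := R) d W m) :
    (Fd n R d).presheaf.map (homOfLE h).op (ΦW d W p) = ΦW d V p := by
  refine supp_induction (fun m : Idx n d => goodW (R := R) d W m)
    (fun p => (Fd n R d).presheaf.map (homOfLE h).op (ΦW d W p) = ΦW d V p) ?_ ?_ p hp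
  · rw [map_zero, map_zero, map_zero]
  · intro a b f ha hf ih
    rw [map_add, map_add, map_add, ih, ΦW_single_pos d W a ha,
      ΦW_single_pos d V a (goodW_mono h ha)]
    congr 1

lemma image_nonempty {q : ℕ} (γ : Fin (q + 1) → ιn.{u} n) : (Finset.univ.image γ).Nonempty :=
  ⟨γ 0, Finset.mem_image.mpr ⟨0, Finset.mem_univ _, rfl⟩⟩

/-- the Čech model of `O(d)` for the standard cover -/
noncomputable def model (n : ℕ) (R : Type u) [CommRing R] (d : ℤ) :
    CechModel.Model (Coh.toAb (Fd n R d)).obj (𝔘 n R) (Nn (n := n) (d := d)) R where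
  Φ γ := ΦW d (∏ᶜ (𝔘 n R ∘ γ))
  res γ k h p hp := by
    have hle : (∏ᶜ (𝔘 n R ∘ γ) : (Proj (gr n R)).Opens) ≤ ∏ᶜ (𝔘 n R ∘ γ ∘ k.succAbove) := h.le
    have hh : h = homOfLE hle := Subsingleton.elim _ _
    rw [hh]
    exact res_ΦW d hle p (fun m hm => goodW_of_Nn m (hp m hm) (prod_eq_D _).le)
  ex γ s := ΦW_surjective' d (prod_eq_D γ) (image_nonempty γ) s
  inj γ p hp h := ΦW_injective' d (prod_eq_D γ) (image_nonempty γ) p hp h

end Groth.Agent.H82.ProjSections
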