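import Mathlib
import Groth.Agent.H82.ProjSections
import Groth.Agent.H82.LerayNat

/-!
# Cohomology of `O(d)` on projective space: additive statements
-/

set_option autoImplicit false
set_option linter.unusedSectionVars false
set_option linter.unusedVariables false
set_option linter.style.haveILetI false

universe u

open CategoryTheory CategoryTheory.Limits Opposite TopologicalSpace AlgebraicGeometry MvPolynomial

namespace Groth.Agent.H82.ProjCoh

open Groth.Agent.H41 Groth.Agent.H82.ProjSections Groth.Agent.H82.LerayNat Groth.Agent.H67.Cech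

variable (n : ℕ) (R : Type u) [CommRing R] (d : ℤ)

instance isQuasicoherent_Fd : (Fd n R d).IsQuasicoherent :=
  GrModQCoh.isQuasicoherent_tilde (gr n R) (gr n R) d

lemma isAffineOpen_iInf (q : ℕ) (a : Fin (q + 1) → ιn.{u} n) :
    IsAffineOpen (⨅ k, 𝔘 n R (a k)) := by
  rw [iInf_eq_D]
  exact isAffineOpen_D (image_nonempty a)

lemma card_ιn : Fintype.card (ιn.{u} n) = n + 1 := by
  rw [Fintype.card_congr Equiv.ulift, Fintype.card_fin]

/-- Čech cohomology of the standard cover computes the cohomology of `O(d)`, compatibly with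
multiplication by global functions -/
theorem exists_cech_iso (p : ℕ) :
    ∃ e : (cx (𝔘 n R) (Coh.toAb (Fd n R d)).obj).homology p →+ Coh.HH (Proj (gr n R)) (Fd n R d) p,
      Function.Bijective e ∧
      ∀ (g : Coh.Γtop (Proj (gr n R))) (x : (cx (𝔘 n R) (Coh.toAb (Fd n R d)).obj).homology p),
        e ((HomologicalComplex.homologyMap
            ((cechComplexFunctor (𝔘 n R)).map (Coh.smulAb (Fd n R d) g).hom) p).hom x) = g • e x := by
  obtain ⟨e, hnat, hbij⟩ := exists_leray (𝔘 n R) iSup_𝔘 p
  refine ⟨e (Coh.toAb (Fd n R d)), hbij (Fd n R d) (isAffineOpen_iInf n R), fun g x => ?_⟩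
  exact hnat _ _ (Coh.smulAb (Fd n R d) g) x

/-- vanishing of the cohomology in positive degrees -/
theorem subsingleton_HH_succ (q : ℕ)
    (h : q + 2 ≠ n + 1 ∨ ∀ m : Idx.{u} n d, ¬ Nn m = Finset.univ) :
    Subsingleton (Coh.HH (Proj (gr n R)) (Fd n R d) (q + 1)) := by
  obtain ⟨e, he, -⟩ := exists_cech_iso n R d (q + 1)
  haveI : Nonempty (ιn.{u} n) := ⟨⟨0⟩⟩
  haveI := (model n R d).subsingleton_homology q (by rw [card_ιn]; exact h)
  exact he.2.subsingleton

/-- `H^0` of `O(d)` -/
theorem exists_H0_equiv :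
    ∃ e : Coh.HH (Proj (gr n R)) (Fd n R d) 0 ≃+
        ({m : Idx.{u} n d // ∀ i : ιn.{u} n, Nn m ⊆ {i}} →₀ R), True := by
  obtain ⟨e, he, -⟩ := exists_cech_iso n R d 0
  obtain ⟨e', -⟩ := (model n R d).exists_zero_equiv ⟨0⟩
  exact ⟨(AddEquiv.ofBijective e he).symm.trans e', trivial⟩

/-- the vanishing theorem -/
theorem subsingleton_HH (q : ℕ) (h₀ : ¬ (q = 0 ∧ 0 ≤ d)) (hn : ¬ (q = n ∧ d ≤ -((n : ℤ) + 1))) :
    Subsingleton (Coh.HH (Proj (gr n R)) (Fd n R d) q) := by
  rcases q with _ | q
  · have hd : d < 0 := by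
      by_contra hd
      exact h₀ ⟨rfl, not_lt.mp hd⟩
    have hn1 : n ≠ 0 := by
      intro h0
      apply hn
      subst h0
      refine ⟨rfl, ?_⟩
      simp
      omega
    obtain ⟨e, -⟩ := exists_H0_equiv n R d
    haveI : IsEmpty {m : Idx.{u} n d // ∀ i : ιn.{u} n, Nn m ⊆ {i}} := by
      constructor
      rintro ⟨m, hm⟩
      have hex : ∃ j, m.1 j < 0 := by
        by_contra hcon
        push Not at hcon
        have : 0 ≤ ∑ i, m.1 i := Finset.sum_nonneg (fun i _ => hcon i)
        rw [m.2] at this
        omega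
      obtain ⟨j, hj⟩ := hex
      have hjN : j ∈ Nn m := Finset.mem_filter.mpr ⟨Finset.mem_univ _, hj⟩
      -- another index
      obtain ⟨i, hi⟩ : ∃ i : ιn.{u} n, i ≠ j := by
        by_cases hj0 : j.down = 0
        · refine ⟨⟨⟨1, by omega⟩⟩, ?_⟩
          intro e
          have := congrArg (fun t : ιn.{u} n => (t.down : ℕ)) e
          simp only [hj0] at this
          simp at this
        · refine ⟨⟨0⟩, ?_⟩
          intro e
          exact hj0 (congrArg ULift.down e).symm
      have := hm i hjN
      rw [Finset.mem_singleton] at this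
      exact hi this.symm
    exact e.toEquiv.subsingleton
  · apply subsingleton_HH_succ
    by_cases hq : q + 1 = n
    · right
      intro m hm
      apply hn
      refine ⟨hq, ?_⟩
      have hall : ∀ i, m.1 i ≤ -1 := by
        intro i
        have : i ∈ Nn m := by rw [hm]; exact Finset.mem_univ _
        have := (Finset.mem_filter.mp this).2
        omega
      have hs : ∑ i, m.1 i ≤ ∑ i : ιn.{u} n, (-1 : ℤ) := Finset.sum_le_sum (fun i _ => hall i)
      rw [m.2, Finset.sum_const, Finset.card_univ, card_ιn] at hs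
      simp at hs
      omega
    · left
      omega


/-- invariance of the vanishing of cohomology under isomorphisms of modules -/
lemma subsingleton_HH_of_iso {X : Scheme.{u}} {M N : X.Modules} (i : M ≅ N) (q : ℕ)
    (h : Subsingleton (Coh.HH X M q)) : Subsingleton (Coh.HH X N q) := by
  let e : Coh.toAb M ≅ Coh.toAb N := (SheafOfModules.toSheaf X.ringCatSheaf).mapIso i
  let a : Coh.toAb N ⟶ Coh.toAb M := e.inv
  let b : Coh.toAb M ⟶ Coh.toAb N := e.hom
  have hab : a ≫ b = 𝟙 _ := e.inv_hom_id
  have hinj : Function.Injective (Sheaf.H.map a q) := by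
    intro x y hxy
    have := congrArg (Sheaf.H.map b q) hxy
    rw [← Sheaf.H.map_comp_apply, ← Sheaf.H.map_comp_apply, hab, Sheaf.H.map_id_apply,
      Sheaf.H.map_id_apply] at this
    exact this
  exact hinj.subsingleton

end Groth.Agent.H82.ProjCoh
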