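import Mathlib
import Groth.Agent.H82.ProjCoh
import Groth.Agent.H18.ToProj

/-!
# Cohomology of `O(d)` on projective space: the module structure over the base ring
-/

set_option autoImplicit false
set_option linter.unusedSectionVars false
set_option linter.unusedVariables false
set_option linter.style.haveILetI false

universe u

open CategoryTheory CategoryTheory.Limits Opposite TopologicalSpace AlgebraicGeometry MvPolynomial
  HomogeneousLocalization

namespace Groth.Agent.H82.ProjLinear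

open Groth.Agent.H41 Groth.Agent.H82.ProjSections Groth.Agent.H82.LerayNat Groth.Agent.H67.Cech
  Groth.Agent.H18.ProjSpaceGlobal

variable (n : ℕ) (R : Type u) [CommRing R]

/-- the global function attached to an element of the base ring -/
noncomputable def gfun (r : R) : Γ(Proj (gr n R), ⊤) :=
  Coh.toGlobal (CohB1.ProjSpace.toSpec n R) r

lemma aOf_gfun (r : R) (i : Fin (n + 1)) : aOf n R (gfun n R r) i = constMap n R (X i) r := by
  have h6 : (chartι n R i).appTop.hom (gfun n R r) =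
      (Spec.map (CommRingCat.ofHom (constMap n R (X i)))).appTop.hom
        ((Scheme.ΓSpecIso (CommRingCat.of R)).inv.hom r) := by
    rw [← chartι_toSpec n R i]
    rfl
  have h7 := γ_natural (constMap n R (X i)) ((Scheme.ΓSpecIso (CommRingCat.of R)).inv.hom r)
  have h8 : γ R ((Scheme.ΓSpecIso (CommRingCat.of R)).inv.hom r) = r := by
    show (Scheme.ΓSpecIso (CommRingCat.of R)).hom.hom
      ((Scheme.ΓSpecIso (CommRingCat.of R)).inv.hom r) = r
    have := congrArg (fun f => f.hom r) (Scheme.ΓSpecIso (CommRingCat.of R)).inv_hom_id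
    exact this
  rw [h8] at h7
  unfold aOf
  rw [h6]
  exact h7


lemma e0 (i : Fin (n + 1)) : ⊤ ≤ chartι n R i ⁻¹ᵁ Proj.basicOpen (gr n R) (X i) := by
  rw [← Proj.opensRange_awayι (gr n R) (X i) (Xmem n R i) Nat.one_pos]
  intro x _
  exact ⟨x, rfl⟩

lemma appTop_eq (i : Fin (n + 1)) :
    (chartι n R i).appTop = (Proj (gr n R)).presheaf.map
        (homOfLE (le_top : Proj.basicOpen (gr n R) (X i) ≤ ⊤)).op ≫
      (chartι n R i).appLE (Proj.basicOpen (gr n R) (X i)) ⊤ (e0 n R i) := by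
  rw [Scheme.Hom.map_appLE]
  exact (Scheme.Hom.appLE_eq_app _).symm

lemma aOf_eq_of_res (σ : Γ(Proj (gr n R), ⊤)) (i : Fin (n + 1)) (z : Away (gr n R) (X i))
    (hz : (Proj.awayToSection (gr n R) (X i)).hom z =
      ((Proj (gr n R)).presheaf.map
        (homOfLE (le_top : Proj.basicOpen (gr n R) (X i) ≤ ⊤)).op).hom σ) :
    aOf n R σ i = z := by
  have h1 := Groth.Agent.H18.ToProj.awayToSection_awayι_appLE (gr n R) (Xmem n R i) Nat.one_pos
    (e0 n R i)
  have h3 := congrArg (fun f => f.hom z) h1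
  simp only [CommRingCat.hom_comp, RingHom.comp_apply] at h3
  unfold aOf
  rw [appTop_eq]
  simp only [CommRingCat.hom_comp, RingHom.comp_apply]
  rw [← hz, h3]
  have := congrArg (fun f => f.hom z)
    (Scheme.ΓSpecIso (CommRingCat.of (Away (gr n R) (X i : MvPolynomial (Fin (n + 1)) R)))).inv_hom_id
  exact this


/-- the value at a point of the global function attached to `r` is the constant `r` -/
lemma rval_gfun (r : R) (x : (⊤ : (Proj (gr n R)).Opens)) :
    (GrModQCoh.rval (gr n R) (gfun n R r) x).val =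
      algebraMap (MvPolynomial (Fin (n + 1)) R)
        (Localization.AtPrime x.1.asHomogeneousIdeal.toIdeal) (C r) := by
  have hx : x.1 ∈ iSup (𝔘 n R) := by
    rw [iSup_𝔘]
    trivial
  obtain ⟨i, hi⟩ := Opens.mem_iSup.mp hx
  obtain ⟨z, hz⟩ := (ConcreteCategory.bijective_of_isIso
    (Proj.basicOpenIsoAway (gr n R) (X i.down) (Xmem n R i.down) Nat.one_pos).hom).2
      (((Proj (gr n R)).presheaf.map
        (homOfLE (le_top : Proj.basicOpen (gr n R) (X i.down) ≤ ⊤)).op).hom (gfun n R r))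
  have hz' : (Proj.awayToSection (gr n R) (X i.down)).hom z =
      ((Proj (gr n R)).presheaf.map
        (homOfLE (le_top : Proj.basicOpen (gr n R) (X i.down) ≤ ⊤)).op).hom (gfun n R r) := hz
  have h1 : z = constMap n R (X i.down) r := by
    rw [← aOf_eq_of_res n R _ i.down z hz', aOf_gfun]
  have h2 : GrModQCoh.rval (gr n R) (gfun n R r) x =
      GrModQCoh.rval (gr n R) (((Proj (gr n R)).presheaf.map
        (homOfLE (le_top : Proj.basicOpen (gr n R) (X i.down) ≤ ⊤)).op).hom (gfun n R r))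
        ⟨x.1, hi⟩ := rfl
  rw [h2, ← hz', h1]
  have h3 := ProjectiveSpectrum.Proj.awayToSection_apply (gr n R) (X i.down)
    (constMap n R (X i.down) r) ⟨x.1, hi⟩
  refine h3.trans ?_
  rw [val_const, IsLocalization.map_eq]
  rfl


variable (d : ℤ)

/-- the global function attached to an element of the base ring, typed as the module structure of
the cohomology wants it -/
noncomputable def gfun' (r : R) : Coh.Γtop (Proj (gr n R)) :=
  Coh.toGlobal (CohB1.ProjSpace.toSpec n R) r

/-- the action of the global function attached to `r` on sections of `O(d)` -/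
noncomputable def actW (r : R) (W : (Proj (gr n R)).Opens) : Γ(Fd n R d, W) →+ Γ(Fd n R d, W) :=
  ((Coh.smulAb (Fd n R d) (gfun' n R r)).hom.app (op W)).hom

lemma val_actW (r : R) (W : (Proj (gr n R)).Opens) (s : Γ(Fd n R d, W)) (x : W) :
    GrMod.val (actW n R d r W s) x =
      (GrModQCoh.rval (gr n R) (gfun n R r) ⟨x.1, trivial⟩).val • GrMod.val s x :=
  GrMod.coe_smul_val d x.1 _ _

lemma actW_sec (r : R) (W : (Proj (gr n R)).Opens) (m : Idx.{u} n d)
    (h : goodW (R := R) d W m) (c : R) :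
    actW n R d r W (sec d W m h c) = sec d W m h (r * c) := by
  apply GrModQCoh.sect_ext
  intro x
  rw [val_actW, val_sec, val_sec, rval_gfun n R r ⟨x.1, trivial⟩,
    ← Localization.mk_one_eq_algebraMap, LocalizedModule.mk_smul_mk, one_mul, smul_eq_mul,
    C_mul_monomial]

lemma actW_ΦW (r : R) (W : (Proj (gr n R)).Opens) (p : Idx.{u} n d →₀ R) :
    actW n R d r W (ΦW d W p) =
      ΦW d W (Finsupp.mapRange (AddMonoidHom.mulLeft r) (map_zero _) p) := by
  classical
  induction p using Finsupp.induction_linear with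
  | zero => rw [map_zero, Finsupp.mapRange_zero, map_zero, map_zero]
  | add f g hf hg =>
    rw [map_add, map_add, hf, hg, ← map_add]
    congr 1
    exact (map_add (Finsupp.mapRange.addMonoidHom (AddMonoidHom.mulLeft r)) f g).symm
  | single m c =>
    rw [Finsupp.mapRange_single]
    by_cases h : goodW (R := R) d W m
    · rw [ΦW_single_pos d W m h, ΦW_single_pos d W m h]
      exact actW_sec n R d r W m h c
    · rw [ΦW_single_neg d W m h, ΦW_single_neg d W m h, map_zero]


lemma model_compat (r : R) (q' : ℕ) (γ : OrdCech.T (ιn.{u} n) q') (p : Idx.{u} n d →₀ R) :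
    ((Coh.smulAb (Fd n R d) (gfun' n R r)).hom.app (op (∏ᶜ (𝔘 n R ∘ γ)))).hom
        ((model n R d).Φ γ p) =
      (model n R d).Φ γ (Finsupp.mapRange (AddMonoidHom.mulLeft r) (map_zero _) p) :=
  actW_ΦW n R d r _ p

/-- an identification of Čech cohomology compatible with the scalar action gives a linear
identification of the cohomology -/
theorem nonempty_linearEquiv_of {J : Type u} (q : ℕ)
    (e₂ : (cx (𝔘 n R) (Coh.toAb (Fd n R d)).obj).homology q ≃+ (J →₀ R))
    (he₂ : ∀ (α : (Coh.toAb (Fd n R d)).obj ⟶ (Coh.toAb (Fd n R d)).obj) (b : R →+ R),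
      (∀ (q' : ℕ) (γ : OrdCech.T (ιn.{u} n) q') (p : Idx.{u} n d →₀ R),
        (α.app (op (∏ᶜ (𝔘 n R ∘ γ)))).hom ((model n R d).Φ γ p) =
          (model n R d).Φ γ (Finsupp.mapRange b (map_zero b) p)) →
      ∀ h, e₂ ((HomologicalComplex.homologyMap ((cechComplexFunctor (𝔘 n R)).map α) q).hom h) =
        Finsupp.mapRange b (map_zero b) (e₂ h)) :
    Nonempty (Coh.HH (CohB1.ProjSpace n R) (Twist.twistProjSpace n R d) q ≃ₗ[R] (J →₀ R)) := by
  obtain ⟨e₁, hbij, hcompat⟩ := ProjCoh.exists_cech_iso n R d q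
  let E : Coh.HH (CohB1.ProjSpace n R) (Twist.twistProjSpace n R d) q ≃+ (J →₀ R) :=
    (AddEquiv.ofBijective e₁ hbij).symm.trans e₂
  have hE : ∀ x, E (e₁ x) = e₂ x := by
    intro x
    show e₂ ((AddEquiv.ofBijective e₁ hbij).symm (e₁ x)) = e₂ x
    congr 1
    exact (AddEquiv.ofBijective e₁ hbij).symm_apply_apply x
  refine ⟨AddEquiv.toLinearEquiv E ?_⟩
  intro r h
  obtain ⟨x, rfl⟩ := hbij.2 h
  have key : r • (e₁ x : Coh.HH (CohB1.ProjSpace n R) (Twist.twistProjSpace n R d) q) =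
      e₁ ((HomologicalComplex.homologyMap
        ((cechComplexFunctor (𝔘 n R)).map (Coh.smulAb (Fd n R d) (gfun' n R r)).hom) q).hom x) :=
    (hcompat (gfun' n R r) x).symm
  refine (congrArg E key).trans ?_
  rw [hE, hE,
    he₂ (Coh.smulAb (Fd n R d) (gfun' n R r)).hom (AddMonoidHom.mulLeft r)
      (model_compat n R d r) x]
  ext j
  rfl

/-- `H^0(P^n_R, O(d))` as an `R`-module -/
theorem nonempty_linearEquiv_H0 :
    Nonempty (Coh.HH (CohB1.ProjSpace n R) (Twist.twistProjSpace n R d) 0 ≃ₗ[R]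
      ({m : Idx.{u} n d // ∀ i : ιn.{u} n, Nn m ⊆ {i}} →₀ R)) := by
  obtain ⟨e₂, he₂⟩ := (model n R d).exists_zero_equiv ⟨0⟩
  exact nonempty_linearEquiv_of n R d 0 e₂ he₂

/-- `H^n(P^n_R, O(d))` as an `R`-module, `n ≥ 1` -/
theorem nonempty_linearEquiv_top (q : ℕ) (hn : n = q + 1) :
    Nonempty (Coh.HH (CohB1.ProjSpace n R) (Twist.twistProjSpace n R d) n ≃ₗ[R]
      ({m : Idx.{u} n d // Nn m = Finset.univ} →₀ R)) := by
  subst hn
  obtain ⟨e₂, he₂⟩ := (model (q + 1) R d).exists_top_equiv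
    (Equiv.ulift.symm : Fin (q + 2) ≃ ιn.{u} (q + 1))
  exact nonempty_linearEquiv_of (q + 1) R d (q + 1) e₂ he₂


/-- homogeneous polynomials as finitely supported functions on the exponents of that degree -/
noncomputable def polyEquiv (k : ℕ) :
    ↥(homogeneousSubmodule (Fin (n + 1)) R k) ≃ₗ[R]
      (↥({e : Fin (n + 1) →₀ ℕ | e.degree = k} : Set (Fin (n + 1) →₀ ℕ)) →₀ R) :=
  (LinearEquiv.ofEq _ _ (homogeneousSubmodule_eq_finsupp_supported (Fin (n + 1)) R k)).trans
    (AddMonoidAlgebra.supportedEquivFinsupp {e : Fin (n + 1) →₀ ℕ | e.degree = k})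

variable {n}

lemma nonneg_of_H0 {k : ℕ} (m : Idx.{u} n (k : ℤ)) (hm : ∀ i : ιn.{u} n, Nn m ⊆ {i})
    (j : ιn.{u} n) : 0 ≤ m.1 j := by
  by_contra hj
  push Not at hj
  have hjN : j ∈ Nn m := Finset.mem_filter.mpr ⟨Finset.mem_univ _, hj⟩
  have hall : ∀ i : ιn.{u} n, i = j := fun i => (Finset.mem_singleton.mp (hm i hjN)).symm
  have hs : ∑ i, m.1 i = m.1 j :=
    Finset.sum_eq_single j (fun i _ hij => absurd (hall i) hij)
      (fun h => absurd (Finset.mem_univ j) h)
  rw [m.2] at hs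
  omega

/-- exponent vectors with no negative entry and homogeneous exponents -/
noncomputable def idxEquiv0 (k : ℕ) :
    {m : Idx.{u} n (k : ℤ) // ∀ i : ιn.{u} n, Nn m ⊆ {i}} ≃
      ↥({e : Fin (n + 1) →₀ ℕ | e.degree = k} : Set (Fin (n + 1) →₀ ℕ)) where
  toFun m := ⟨pos m.1.1, by
    show (pos m.1.1).degree = k
    have h1 : ((pos m.1.1).degree : ℤ) = k := by
      rw [Finsupp.degree_eq_sum]
      push_cast
      refine Eq.trans ?_ m.1.2
      rw [sum_ulift]
      apply Finset.sum_congr rfl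
      intro j _
      rw [pos_apply]
      exact Int.toNat_of_nonneg (nonneg_of_H0 m.1 m.2 ⟨j⟩)
    exact_mod_cast h1⟩
  invFun e := ⟨⟨fun i => (e.1 i.down : ℤ), by
      rw [sum_ulift (fun i => ((e.1 i.down : ℕ) : ℤ))]
      have h1 : e.1.degree = k := e.2
      have h3 : ((e.1.degree : ℕ) : ℤ) = ∑ j : Fin (n + 1), ((e.1 j : ℕ) : ℤ) := by
        rw [Finsupp.degree_eq_sum]
        push_cast
        rfl
      rw [h1] at h3
      exact h3.symm⟩, by
    intro i j hj
    have := (Finset.mem_filter.mp hj).2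
    simp only at this
    omega⟩
  left_inv m := by
    apply Subtype.ext
    apply Subtype.ext
    funext i
    show ((pos m.1.1 i.down : ℕ) : ℤ) = m.1.1 i
    rw [pos_apply]
    exact Int.toNat_of_nonneg (nonneg_of_H0 m.1 m.2 i)
  right_inv e := by
    apply Subtype.ext
    ext j
    show (((e.1 j : ℕ) : ℤ)).toNat = e.1 j
    exact Int.toNat_natCast _

lemma le_neg_one_of_top {d : ℤ} (m : Idx.{u} n d) (hm : Nn m = Finset.univ) (j : ιn.{u} n) :
    m.1 j ≤ -1 := by
  have : j ∈ Nn m := by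
    rw [hm]
    exact Finset.mem_univ _
  have := (Finset.mem_filter.mp this).2
  omega

/-- exponent vectors with all entries negative and homogeneous exponents -/
noncomputable def idxEquivTop (k : ℕ) :
    {m : Idx.{u} n (-((n : ℤ) + 1 + k)) // Nn m = Finset.univ} ≃
      ↥({e : Fin (n + 1) →₀ ℕ | e.degree = k} : Set (Fin (n + 1) →₀ ℕ)) where
  toFun m := ⟨Finsupp.equivFunOnFinite.symm (fun j => (-(m.1.1 ⟨j⟩) - 1).toNat), by
    show (Finsupp.equivFunOnFinite.symm (fun j => (-(m.1.1 ⟨j⟩) - 1).toNat)).degree = k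
    have h1 : ((Finsupp.equivFunOnFinite.symm
        (fun j : Fin (n + 1) => (-(m.1.1 ⟨j⟩) - 1).toNat)).degree : ℤ) = k := by
      rw [Finsupp.degree_eq_sum]
      push_cast
      have h2 : ∀ j : Fin (n + 1), (((Finsupp.equivFunOnFinite.symm
          (fun j : Fin (n + 1) => (-(m.1.1 ⟨j⟩) - 1).toNat)) j : ℕ) : ℤ) = -(m.1.1 ⟨j⟩) - 1 := by
        intro j
        show (((-(m.1.1 ⟨j⟩) - 1).toNat : ℕ) : ℤ) = _
        have := le_neg_one_of_top m.1 m.2 ⟨j⟩
        omega
      rw [Finset.sum_congr rfl (fun j _ => h2 j), Finset.sum_sub_distrib, Finset.sum_neg_distrib,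
        ← sum_ulift, m.1.2]
      simp
    exact_mod_cast h1⟩
  invFun e := ⟨⟨fun i => -(e.1 i.down : ℤ) - 1, by
      rw [Finset.sum_sub_distrib, Finset.sum_neg_distrib,
        sum_ulift (fun i => ((e.1 i.down : ℕ) : ℤ))]
      have h1 : e.1.degree = k := e.2
      have h3 : ((e.1.degree : ℕ) : ℤ) = ∑ j : Fin (n + 1), ((e.1 j : ℕ) : ℤ) := by
        rw [Finsupp.degree_eq_sum]
        push_cast
        rfl
      rw [h1] at h3
      show -(∑ j : Fin (n + 1), ((e.1 j : ℕ) : ℤ)) - ∑ _i : ιn.{u} n, (1 : ℤ) = _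
      rw [← h3, Finset.sum_const, Finset.card_univ, ProjCoh.card_ιn]
      simp
      ring⟩, by
    ext i
    simp only [Nn, Finset.mem_filter, Finset.mem_univ, true_and, iff_true]
    have : (0 : ℤ) ≤ (e.1 i.down : ℤ) := Int.natCast_nonneg _
    omega⟩
  left_inv m := by
    apply Subtype.ext
    apply Subtype.ext
    funext i
    show -(((-(m.1.1 ⟨i.down⟩) - 1).toNat : ℕ) : ℤ) - 1 = m.1.1 i
    have := le_neg_one_of_top m.1 m.2 i
    have e1 : (⟨i.down⟩ : ιn.{u} n) = i := rfl
    rw [e1]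
    omega
  right_inv e := by
    apply Subtype.ext
    ext j
    show (-(-(e.1 j : ℤ) - 1) - 1).toNat = e.1 j
    have : -(-(e.1 j : ℤ) - 1) - 1 = (e.1 j : ℤ) := by ring
    rw [this]
    exact Int.toNat_natCast _

variable (n)

/-- `H^0(P^n_R, O(d))`, `d ≥ 0`, is the module of homogeneous polynomials of degree `d` -/
theorem nonempty_H0 (k : ℕ) :
    Nonempty (Coh.HH (CohB1.ProjSpace n R) (Twist.twistProjSpace n R (k : ℤ)) 0 ≃ₗ[R]
      ↥(homogeneousSubmodule (Fin (n + 1)) R k)) := by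
  obtain ⟨L⟩ := nonempty_linearEquiv_H0 n R (k : ℤ)
  exact ⟨L.trans ((Finsupp.domLCongr (idxEquiv0 k)).trans (polyEquiv n R k).symm)⟩

/-- `H^n(P^n_R, O(-n-1-k))` is the module of homogeneous polynomials of degree `k` -/
theorem nonempty_Htop (k : ℕ) :
    Nonempty (Coh.HH (CohB1.ProjSpace n R)
        (Twist.twistProjSpace n R (-((n : ℤ) + 1 + k))) n ≃ₗ[R]
      ↥(homogeneousSubmodule (Fin (n + 1)) R k)) := by
  rcases n with _ | q
  · haveI : Subsingleton (Fin (0 + 1)) := (inferInstance : Subsingleton (Fin 1))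
    haveI : Subsingleton (ιn.{u} 0) := Equiv.ulift.subsingleton
    obtain ⟨L⟩ := nonempty_linearEquiv_H0 0 R (-(((0 : ℕ) : ℤ) + 1 + k))
    have hiff : ∀ m : Idx.{u} 0 (-(((0 : ℕ) : ℤ) + 1 + k)),
        (∀ i : ιn.{u} 0, Nn m ⊆ {i}) ↔ Nn m = Finset.univ := by
      intro m
      constructor
      · intro _
        ext i
        simp only [Finset.mem_univ, iff_true]
        have hi : i = ⟨0⟩ := Subsingleton.elim _ _
        have hs : ∑ i' : ιn.{u} 0, m.1 i' = m.1 i := by
          rw [sum_ulift, Fin.sum_univ_one, hi]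
        have := m.2
        rw [hs] at this
        refine Finset.mem_filter.mpr ⟨Finset.mem_univ _, ?_⟩
        omega
      · intro _ i j _
        exact Finset.mem_singleton.mpr (Subsingleton.elim j i)
    exact ⟨L.trans ((Finsupp.domLCongr ((Equiv.subtypeEquivRight hiff).trans (idxEquivTop k))).trans
      (polyEquiv 0 R k).symm)⟩
  · obtain ⟨L⟩ := nonempty_linearEquiv_top (q + 1) R (-(((q + 1 : ℕ) : ℤ) + 1 + k)) q rfl
    exact ⟨L.trans ((Finsupp.domLCongr (idxEquivTop k)).trans (polyEquiv (q + 1) R k).symm)⟩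

end Groth.Agent.H82.ProjLinear
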