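import Mathlib
import Groth.Agent.H82.HHFinite
import Groth.Agent.H82.ProjLinear
import Groth.Agent.S0010
import Groth.Agent.S4402
import Groth.Agent.S9705
import Groth.Agent.H18.AmpleTwistGG
import Groth.Agent.H18.TwistTensor
import Groth.Agent.H18.ProjSpaceGlobal

/-!
# Finiteness of the cohomology of coherent modules on projective space over a Noetherian ring
-/

set_option autoImplicit false
set_option linter.unusedSectionVars false
set_option linter.unusedVariables false
set_option linter.style.haveILetI false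

universe u

open CategoryTheory CategoryTheory.Limits Opposite TopologicalSpace AlgebraicGeometry MvPolynomial

namespace Groth.Agent.H82.ProjFinite

open Groth.Agent.H82.ProjSections Groth.Agent.H82.ProjCoh Groth.Agent.H82.ProjLinear
  Groth.Agent.H82.HHFinite Groth.Agent.H18.ProjSpaceGlobal

variable (n : ℕ) (R : Type u) [CommRing R]

theorem isLocallyNoetherian [IsNoetherianRing R] : IsLocallyNoetherian (CohB1.ProjSpace n R) :=
  LocallyOfFiniteType.isLocallyNoetherian (CohB1.ProjSpace.toSpec n R)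

theorem hcov1 (y : ProjectiveSpectrum (gr n R)) :
    ∃ g ∈ gr n R 1, g ∉ y.asHomogeneousIdeal := by
  by_contra hcon
  push Not at hcon
  apply y.not_irrelevant_le
  intro a ha
  have h1 := irrelevant_le_span (n := n) (R := R) ha
  have h2 : Ideal.span (Set.range (X : Fin (n + 1) → MvPolynomial (Fin (n + 1)) R)) ≤
      y.asHomogeneousIdeal.toIdeal := by
    rw [Ideal.span_le]
    rintro _ ⟨i, rfl⟩
    exact hcon _ (Xmem n R i)
  exact h2 h1

theorem isCoh_Fd (d : ℤ) : Coh.IsCoh (Fd n R d) :=
  Groth.Agent.H18.AmpleTwistGG.isCoh_of_isInvertible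
    ((Groth.Agent.H18.TwistTensor.twist_package (gr n R) (hcov1 n R)).1 d)

open Classical in
/-- the set of variables -/
noncomputable def sX : Finset (MvPolynomial (Fin (n + 1)) R) :=
  Finset.univ.image (X : Fin (n + 1) → MvPolynomial (Fin (n + 1)) R)

open Classical in
theorem coe_sX : (sX n R : Set (MvPolynomial (Fin (n + 1)) R)) =
    Set.range (X : Fin (n + 1) → MvPolynomial (Fin (n + 1)) R) := by
  rw [sX, Finset.coe_image, Finset.coe_univ, Set.image_univ]

theorem irrelevant_eq :
    (HomogeneousIdeal.irrelevant (gr n R)).toIdeal = Ideal.span (sX n R : Set _) := by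
  rw [coe_sX]
  apply le_antisymm (irrelevant_le_span (n := n) (R := R))
  rw [Ideal.span_le]
  rintro _ ⟨i, rfl⟩
  exact HomogeneousIdeal.mem_irrelevant_of_mem (gr n R) Nat.one_pos (Xmem n R i)

open Classical in
theorem exists_epi (M : (Proj (gr n R)).Modules) (hM : Coh.IsCoh M) :
    ∃ (a : ℕ) (k : ℕ) (p : (∐ fun _ : Fin k => Fd n R (-(a : ℤ))) ⟶ M), Epi p := by
  obtain ⟨n₀, h⟩ := Groth.Agent.S4402.result (gr n R) (sX n R)
    (fun f hf => by
      obtain ⟨i, -, rfl⟩ := Finset.mem_image.mp (show f ∈ Finset.univ.image _ from hf)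
      exact Xmem n R i)
    (irrelevant_eq n R) M hM.1 hM.2
  obtain ⟨k, p, hp⟩ := h n₀ le_rfl
  exact ⟨n₀, k, p, hp⟩

section Fin

variable {n}

lemma finite_of_bounds {d : ℤ} (P : Idx.{u} n d → Prop) (a b : ℤ)
    (h : ∀ m, P m → ∀ j, a ≤ m.1 j ∧ m.1 j ≤ b) : Finite {m : Idx.{u} n d // P m} := by
  haveI : Finite (Set.Icc a b) := (Set.finite_Icc a b).to_subtype
  refine Finite.of_injective
    (fun m : {m : Idx.{u} n d // P m} => fun j => (⟨m.1.1 j, h m.1 m.2 j⟩ : Set.Icc a b)) ?_
  intro m m' hmm
  apply Subtype.ext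
  apply Subtype.ext
  funext j
  exact congrArg Subtype.val (congrFun hmm j)

lemma finite_top (d : ℤ) : Finite {m : Idx.{u} n d // Nn m = Finset.univ} := by
  refine finite_of_bounds _ d (-1) (fun m hm j => ⟨?_, le_neg_one_of_top m hm j⟩)
  have h1 : ∀ j' ∈ (Finset.univ : Finset (ιn.{u} n)), 0 ≤ -m.1 j' := fun j' _ => by
    have := le_neg_one_of_top m hm j'
    omega
  have h2 := Finset.single_le_sum h1 (Finset.mem_univ j)
  rw [Finset.sum_neg_distrib, m.2] at h2
  omega

lemma finite_zero (d : ℤ) : Finite {m : Idx.{u} n d // ∀ i : ιn.{u} n, Nn m ⊆ {i}} := by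
  rcases Nat.eq_zero_or_pos n with hn | hn
  · subst hn
    haveI : Subsingleton (Idx.{u} 0 d) := by
      constructor
      intro m m'
      apply Subtype.ext
      funext j
      have hj : ∀ m'' : Idx.{u} 0 d, m''.1 j = d := by
        intro m''
        have hsub : ∀ i : ιn.{u} 0, i = j := by
          intro i
          apply ULift.ext
          apply Fin.ext
          have h1 := i.down.isLt
          have h2 := j.down.isLt
          omega
        have h3 : ∑ i, m''.1 i = m''.1 j :=
          Fintype.sum_eq_single j (fun i hi => (hi (hsub i)).elim)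
        rw [← h3]
        exact m''.2
      rw [hj m, hj m']
    infer_instance
  · have hnn : ∀ m : Idx.{u} n d, (∀ i : ιn.{u} n, Nn m ⊆ {i}) → ∀ j, 0 ≤ m.1 j := by
      intro m hm j
      by_contra hj
      push Not at hj
      have hjN : j ∈ Nn m := Finset.mem_filter.mpr ⟨Finset.mem_univ _, hj⟩
      obtain ⟨i, hi⟩ : ∃ i : ιn.{u} n, i ≠ j := by
        by_cases h0 : j.down = 0
        · refine ⟨⟨⟨1, by omega⟩⟩, fun h => ?_⟩
          have := congrArg (fun t => t.down.val) h
          simp only [h0] at this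
          exact absurd this (by simp)
        · refine ⟨⟨0⟩, fun h => h0 ?_⟩
          rw [← h]
      have := Finset.mem_singleton.mp (hm i hjN)
      exact hi this.symm
    refine finite_of_bounds _ 0 d (fun m hm j => ⟨hnn m hm j, ?_⟩)
    have h2 := Finset.single_le_sum (fun j' _ => hnn m hm j') (Finset.mem_univ j)
    rw [m.2] at h2
    exact h2

end Fin

theorem finite_HH_Fd (d : ℤ) (q : ℕ) :
    Module.Finite R (Coh.HH (CohB1.ProjSpace n R) (Twist.twistProjSpace n R d) q) := by
  by_cases hq0 : q = 0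
  · subst hq0
    obtain ⟨L⟩ := nonempty_linearEquiv_H0 n R d
    haveI := finite_zero (n := n) d
    exact Module.Finite.equiv L.symm
  by_cases hqn : q = n
  · subst hqn
    obtain ⟨q', rfl⟩ := Nat.exists_eq_succ_of_ne_zero hq0
    obtain ⟨L⟩ := nonempty_linearEquiv_top (q' + 1) R d q' rfl
    haveI := finite_top (n := q' + 1) d
    exact Module.Finite.equiv L.symm
  · haveI : Subsingleton (Coh.HH (CohB1.ProjSpace n R) (Twist.twistProjSpace n R d) q) :=
      subsingleton_HH n R d q (fun h => hq0 h.1) (fun h => hqn h.1)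
    infer_instance

theorem subsingleton_HH_above' (M : (Proj (gr n R)).Modules) [hM : Coh.IsQCoh M] (i : ℕ)
    (hi : n + 1 ≤ i) : Subsingleton (Coh.HH (Proj (gr n R)) M i) := by
  refine Groth.Agent.S0010.result (Proj (gr n R)) (n + 1) (fun j => 𝔘 n R ⟨j⟩)
    (fun j => Proj.isAffineOpen_basicOpen (gr n R) (X j) (Xmem n R j) Nat.one_pos) ?_
    (fun V W hV hW => hV.inf hW) M i hi
  rw [← iSup_𝔘 (n := n) (R := R)]
  exact (Equiv.ulift.{u} (α := Fin (n + 1))).symm.iSup_comp (g := 𝔘 n R)

theorem subsingleton_HH_above (M : (CohB1.ProjSpace n R).Modules) [hM : Coh.IsQCoh M] (i : ℕ)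
    (hi : n + 1 ≤ i) : Subsingleton (Coh.HH (CohB1.ProjSpace n R) M i) :=
  @subsingleton_HH_above' n R _ M hM i hi

theorem finite_HH_aux [IsNoetherianRing R] (m : ℕ) : ∀ (i : ℕ), n + 1 ≤ i + m →
    ∀ (M : (CohB1.ProjSpace n R).Modules), Coh.IsCoh M →
      Module.Finite R (Coh.HH (CohB1.ProjSpace n R) M i) := by
  induction m with
  | zero =>
    intro i hi M hM
    haveI : Coh.IsQCoh M := hM.1
    haveI := subsingleton_HH_above n R M i (by omega)
    infer_instance
  | succ m ih =>
    intro i hi M hM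
    haveI := isLocallyNoetherian n R
    obtain ⟨a, k, p, hp⟩ := exists_epi n R M hM
    have hE : Coh.IsCoh (∐ fun _ : Fin k => Fd n R (-(a : ℤ))) :=
      isCoh_sigma _ (fun _ => isCoh_Fd n R _)
    have hK : Coh.IsCoh (kernel p) :=
      Groth.Agent.H8.isCoh_kernel (X := CohB1.ProjSpace n R) hE hM p
    let S : ShortComplex (CohB1.ProjSpace n R).Modules :=
      ShortComplex.mk (kernel.ι p) p (kernel.condition p)
    have hS : S.ShortExact :=
      { exact := ShortComplex.exact_of_f_is_kernel S (kernelIsKernel p)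
        mono_f := inferInstanceAs (Mono (kernel.ι p))
        epi_g := hp }
    have h₂ : Module.Finite R (Coh.HH (CohB1.ProjSpace n R) S.X₂ i) :=
      finite_HH_sigma (X := CohB1.ProjSpace n R) (fun _ : Fin k => Fd n R (-(a : ℤ))) i
        (fun _ => finite_HH_Fd n R _ i)
    have h₁ : Module.Finite R (Coh.HH (CohB1.ProjSpace n R) S.X₁ (i + 1)) :=
      ih (i + 1) (by omega) (kernel p) hK
    exact finite_of_ses (X := CohB1.ProjSpace n R) S hS i h₂ h₁

theorem finite_HH [IsNoetherianRing R] (M : (CohB1.ProjSpace n R).Modules) (hM : Coh.IsCoh M)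
    (i : ℕ) : Module.Finite R (Coh.HH (CohB1.ProjSpace n R) M i) :=
  finite_HH_aux n R (n + 1) i (by omega) M hM

end Groth.Agent.H82.ProjFinite
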