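import Mathlib
import Groth.Agent.H82.HDelta

set_option linter.unusedSectionVars false
set_option linter.unusedVariables false
set_option linter.style.haveILetI false
set_option backward.isDefEq.respectTransparency false

universe v u v' u'

open CategoryTheory CategoryTheory.Limits

namespace Groth.Agent.H82.LDer

variable {C : Type u} [Category.{v} C] [Abelian C] {D : Type u'} [Category.{v'} D] [Abelian D]

/-- Natural connecting morphisms (homological indexing) with the exactness properties at the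
two places adjacent to the connecting morphism. -/
structure NatLES (T : ℕ → C ⥤ D) where
  δ : ∀ (S : ShortComplex C) (_ : S.ShortExact) (n : ℕ), (T (n+1)).obj S.X₃ ⟶ (T n).obj S.X₁
  δ_nat : ∀ {S S' : ShortComplex C} (φ : S ⟶ S') (hS : S.ShortExact) (hS' : S'.ShortExact)
    (n : ℕ), δ S hS n ≫ (T n).map φ.τ₁ = (T (n+1)).map φ.τ₃ ≫ δ S' hS' n
  map_δ : ∀ (S : ShortComplex C) (hS : S.ShortExact) (n : ℕ), (T (n+1)).map S.g ≫ δ S hS n = 0
  δ_map : ∀ (S : ShortComplex C) (hS : S.ShortExact) (n : ℕ), δ S hS n ≫ (T n).map S.f = 0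
  exact₃ : ∀ (S : ShortComplex C) (hS : S.ShortExact) (n : ℕ),
    (ShortComplex.mk _ _ (map_δ S hS n)).Exact
  exact₁ : ∀ (S : ShortComplex C) (hS : S.ShortExact) (n : ℕ),
    (ShortComplex.mk _ _ (δ_map S hS n)).Exact

/-- A family of natural transformations commuting with the connecting morphisms. -/
def IsδMor {T' T : ℕ → C ⥤ D} (t' : NatLES T') (t : NatLES T) (τ : ∀ n, T' n ⟶ T n) : Prop :=
  ∀ (S : ShortComplex C) (hS : S.ShortExact) (n : ℕ),
    t'.δ S hS n ≫ (τ n).app S.X₁ = (τ (n+1)).app S.X₃ ≫ t.δ S hS n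

theorem IsδMor.id {T : ℕ → C ⥤ D} (t : NatLES T) : IsδMor t t (fun n => 𝟙 (T n)) := by
  intro S hS n
  simp

theorem IsδMor.comp {T₁ T₂ T₃ : ℕ → C ⥤ D} {t₁ : NatLES T₁} {t₂ : NatLES T₂} {t₃ : NatLES T₃}
    {τ : ∀ n, T₁ n ⟶ T₂ n} {ω : ∀ n, T₂ n ⟶ T₃ n} (h : IsδMor t₁ t₂ τ) (h' : IsδMor t₂ t₃ ω) :
    IsδMor t₁ t₃ (fun n => τ n ≫ ω n) := by
  intro S hS n
  simp only [NatTrans.comp_app]
  rw [reassoc_of% (h S hS n), h' S hS n, Category.assoc]

section Pres

variable [EnoughProjectives C]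

/-- The standard presentation of an object by a projective object. -/
noncomputable def pres (X : C) : ShortComplex C :=
  ShortComplex.mk (kernel.ι (Projective.π X)) (Projective.π X) (kernel.condition _)

theorem pres_shortExact (X : C) : (pres X).ShortExact :=
  ShortComplex.ShortExact.mk' (ShortComplex.exact_kernel (Projective.π X))
    (inferInstanceAs (Mono (kernel.ι (Projective.π X))))
    (inferInstanceAs (Epi (Projective.π X)))

instance pres_projective (X : C) : Projective (pres X).X₂ :=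
  inferInstanceAs (Projective (Projective.over X))

theorem exists_presHom (X : C) {S : ShortComplex C} (hS : S.ShortExact) (g : X ⟶ S.X₃) :
    ∃ φ : pres X ⟶ S, φ.τ₃ = g := by
  haveI := hS.epi_g
  haveI := hS.mono_f
  let b : Projective.over X ⟶ S.X₂ := Projective.factorThru (Projective.π X ≫ g) S.g
  have hb : b ≫ S.g = Projective.π X ≫ g := Projective.factorThru_comp _ _
  have hz : (kernel.ι (Projective.π X) ≫ b) ≫ S.g = 0 := by
    rw [Category.assoc, hb, ← Category.assoc, kernel.condition, zero_comp]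
  let a : kernel (Projective.π X) ⟶ S.X₁ := hS.exact.lift _ hz
  have ha : a ≫ S.f = kernel.ι (Projective.π X) ≫ b := hS.exact.lift_f _ hz
  exact ⟨{ τ₁ := a, τ₂ := b, τ₃ := g, comm₁₂ := ha, comm₂₃ := hb }, rfl⟩

end Pres

section Step

variable [EnoughProjectives C] {A' A B' B : C ⥤ D}
  (δ' : ∀ (S : ShortComplex C), S.ShortExact → (B'.obj S.X₃ ⟶ A'.obj S.X₁))
  (δ : ∀ (S : ShortComplex C), S.ShortExact → (B.obj S.X₃ ⟶ A.obj S.X₁))
  (nat' : ∀ {S S' : ShortComplex C} (φ : S ⟶ S') (hS : S.ShortExact) (hS' : S'.ShortExact),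
    δ' S hS ≫ A'.map φ.τ₁ = B'.map φ.τ₃ ≫ δ' S' hS')
  (nat : ∀ {S S' : ShortComplex C} (φ : S ⟶ S') (hS : S.ShortExact) (hS' : S'.ShortExact),
    δ S hS ≫ A.map φ.τ₁ = B.map φ.τ₃ ≫ δ S' hS')
  (δ'_map : ∀ (S : ShortComplex C) (hS : S.ShortExact), δ' S hS ≫ A'.map S.f = 0)
  (δ_map : ∀ (S : ShortComplex C) (hS : S.ShortExact), δ S hS ≫ A.map S.f = 0)
  (ex : ∀ (S : ShortComplex C) (hS : S.ShortExact), (ShortComplex.mk _ _ (δ_map S hS)).Exact)
  (mono : ∀ (S : ShortComplex C) (hS : S.ShortExact), Projective S.X₂ → Mono (δ S hS))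
  (σ : A' ⟶ A)

include nat' nat δ'_map δ_map ex mono in
/-- One step of the extension of a natural transformation to a morphism of δ-functors. -/
theorem step :
    ∃ ρ : B' ⟶ B, (∀ (S : ShortComplex C) (hS : S.ShortExact),
        δ' S hS ≫ σ.app S.X₁ = ρ.app S.X₃ ≫ δ S hS) ∧
      ∀ ρ' : B' ⟶ B, (∀ (S : ShortComplex C) (hS : S.ShortExact),
        δ' S hS ≫ σ.app S.X₁ = ρ'.app S.X₃ ≫ δ S hS) → ρ' = ρ := by
  have hm : ∀ X : C, Mono (δ (pres X) (pres_shortExact X)) := fun X =>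
    mono (pres X) (pres_shortExact X) (pres_projective X)
  have key : ∀ X : C, ∃ ρX : B'.obj X ⟶ B.obj X,
      ρX ≫ δ (pres X) (pres_shortExact X) = δ' (pres X) (pres_shortExact X) ≫ σ.app _ := by
    intro X
    haveI := hm X
    have hz : (δ' (pres X) (pres_shortExact X) ≫ σ.app _) ≫ A.map (pres X).f = 0 := by
      rw [Category.assoc, ← σ.naturality, ← Category.assoc, δ'_map, zero_comp]
    exact ⟨(ex (pres X) (pres_shortExact X)).lift _ hz,
      (ex (pres X) (pres_shortExact X)).lift_f _ hz⟩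
  choose ρ hρ using key
  have L : ∀ (X : C) (S : ShortComplex C) (hS : S.ShortExact) (φ : pres X ⟶ S),
      ρ X ≫ B.map φ.τ₃ ≫ δ S hS = B'.map φ.τ₃ ≫ δ' S hS ≫ σ.app S.X₁ := by
    intro X S hS φ
    rw [← nat φ (pres_shortExact X) hS, reassoc_of% (hρ X), ← σ.naturality,
      reassoc_of% (nat' φ (pres_shortExact X) hS)]
  have hnat : ∀ {X Y : C} (g : X ⟶ Y), B'.map g ≫ ρ Y = ρ X ≫ B.map g := by
    intro X Y g
    obtain ⟨φ, hφ⟩ := exists_presHom X (pres_shortExact Y) g
    haveI := hm Y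
    have h1 := L X (pres Y) (pres_shortExact Y) φ
    rw [hφ, ← hρ Y] at h1
    rw [← cancel_mono (δ (pres Y) (pres_shortExact Y)), Category.assoc, Category.assoc]
    exact h1.symm
  refine ⟨{ app := ρ, naturality := fun X Y g => hnat g }, ?_, ?_⟩
  · intro S hS
    obtain ⟨φ, hφ⟩ := exists_presHom S.X₃ hS (𝟙 _)
    have h1 := L S.X₃ S hS φ
    rw [hφ] at h1
    have h2 : ρ S.X₃ ≫ B.map (𝟙 S.X₃) ≫ δ S hS = B'.map (𝟙 S.X₃) ≫ δ' S hS ≫ σ.app S.X₁ := h1
    rw [B.map_id, B'.map_id, Category.id_comp, Category.id_comp] at h2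
    exact h2.symm
  · intro ρ' h'
    ext X
    haveI := hm X
    show ρ'.app X = ρ X
    rw [← cancel_mono (δ (pres X) (pres_shortExact X)), hρ X]
    exact (h' (pres X) (pres_shortExact X)).symm

end Step

section Universal

variable [EnoughProjectives C] {T' T : ℕ → C ⥤ D}

theorem NatLES.mono_δ (t : NatLES T) (v : VanishOnProj T) (S : ShortComplex C)
    (hS : S.ShortExact) (hP : Projective S.X₂) (n : ℕ) : Mono (t.δ S hS n) :=
  (t.exact₃ S hS n).mono_g ((v n _ hP).eq_of_src _ _)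

theorem step_natLES (t' : NatLES T') (t : NatLES T) (v : VanishOnProj T) (n : ℕ)
    (σ : T' n ⟶ T n) :
    ∃ ρ : T' (n+1) ⟶ T (n+1), (∀ (S : ShortComplex C) (hS : S.ShortExact),
        t'.δ S hS n ≫ σ.app S.X₁ = ρ.app S.X₃ ≫ t.δ S hS n) ∧
      ∀ ρ' : T' (n+1) ⟶ T (n+1), (∀ (S : ShortComplex C) (hS : S.ShortExact),
        t'.δ S hS n ≫ σ.app S.X₁ = ρ'.app S.X₃ ≫ t.δ S hS n) → ρ' = ρ :=
  step (fun S hS => t'.δ S hS n) (fun S hS => t.δ S hS n)
    (fun φ hS hS' => t'.δ_nat φ hS hS' n) (fun φ hS hS' => t.δ_nat φ hS hS' n)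
    (fun S hS => t'.δ_map S hS n) (fun S hS => t.δ_map S hS n)
    (fun S hS => t.exact₁ S hS n) (fun S hS hP => t.mono_δ v S hS hP n) σ

/-- Existence of the extension of a natural transformation in degree zero to a morphism
of δ-functors, the target vanishing on projectives in positive degrees. -/
theorem exists_δMor (t' : NatLES T') (t : NatLES T) (v : VanishOnProj T) (τ₀ : T' 0 ⟶ T 0) :
    ∃ τ : ∀ n, T' n ⟶ T n, τ 0 = τ₀ ∧ IsδMor t' t τ := by
  choose next hnext using step_natLES t' t v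
  let τ : ∀ n, T' n ⟶ T n := fun n =>
    Nat.rec (motive := fun n => T' n ⟶ T n) τ₀ (fun n σ => next n σ) n
  refine ⟨τ, rfl, ?_⟩
  intro S hS n
  exact (hnext n (τ n)).1 S hS

/-- Uniqueness of morphisms of δ-functors with given degree zero component. -/
theorem δMor_unique (t' : NatLES T') (t : NatLES T) (v : VanishOnProj T)
    (τ ω : ∀ n, T' n ⟶ T n) (hτ : IsδMor t' t τ) (hω : IsδMor t' t ω) (h0 : τ 0 = ω 0) :
    ∀ n, τ n = ω n := by
  intro n
  induction n with
  | zero => exact h0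
  | succ n ih =>
    obtain ⟨ρ, -, hu⟩ := step_natLES t' t v n (τ n)
    rw [hu (τ (n+1)) (fun S hS => hτ S hS n), hu (ω (n+1)) (fun S hS => by rw [ih]; exact hω S hS n)]

/-- A morphism of δ-functors, both vanishing on projectives in positive degrees, which is an
isomorphism in degree zero is an isomorphism in all degrees. -/
theorem δMor_isIso (t' : NatLES T') (t : NatLES T) (v' : VanishOnProj T') (v : VanishOnProj T)
    (τ : ∀ n, T' n ⟶ T n) (hτ : IsδMor t' t τ) (h0 : IsIso (τ 0)) : ∀ n, IsIso (τ n) := by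
  obtain ⟨ω, hω0, hω⟩ := exists_δMor t t' v' (inv (τ 0))
  have h1 := δMor_unique t' t' v' (fun n => τ n ≫ ω n) (fun n => 𝟙 (T' n)) (hτ.comp hω)
    (IsδMor.id t') (by simp [hω0])
  have h2 := δMor_unique t t v (fun n => ω n ≫ τ n) (fun n => 𝟙 (T n)) (hω.comp hτ)
    (IsδMor.id t) (by simp [hω0])
  intro n
  exact ⟨ω n, h1 n, h2 n⟩

/-- Two δ-functors vanishing on projectives in positive degrees which are isomorphic in
degree zero are isomorphic (as functors) in all degrees. -/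
theorem nonempty_natIso_of_natLES (t' : NatLES T') (t : NatLES T) (v' : VanishOnProj T')
    (v : VanishOnProj T) (e : T' 0 ≅ T 0) (n : ℕ) : Nonempty (T' n ≅ T n) := by
  obtain ⟨τ, hτ0, hτ⟩ := exists_δMor t' t v e.hom
  have h0 : IsIso (τ 0) := by rw [hτ0]; infer_instance
  have := δMor_isIso t' t v' v τ hτ h0 n
  exact ⟨asIso (τ n)⟩

end Universal

end Groth.Agent.H82.LDer
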