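import Mathlib
import Groth.Agent.H82.TorFlat
import Groth.Agent.H82.DeltaFun

set_option linter.unusedSectionVars false
set_option linter.unusedVariables false
set_option linter.style.haveILetI false
set_option backward.isDefEq.respectTransparency false

universe u

open CategoryTheory CategoryTheory.Limits MonoidalCategory

namespace Groth.Agent.H82.TorPD

open Groth.Agent.H82.LDer Groth.Agent.H82.TorLib

variable {A : Type u} [CommRing A]

/-- Dimension shifting along a short exact sequence with projective middle term. -/
theorem isZero_shift (L : ModuleCat.{u} A) (S : ShortComplex (ModuleCat.{u} A))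
    (hS : S.ShortExact) (hP : Projective S.X₂) (i : ℕ) :
    IsZero (((Tor (ModuleCat.{u} A) (i+2)).obj L).obj S.X₃) ↔
      IsZero (((Tor (ModuleCat.{u} A) (i+1)).obj L).obj S.X₁) := by
  obtain ⟨-, -, δ, w₁, w₂, e1, e2⟩ := hasLES_tor L S hS (i+1)
  have hm : Mono δ := e1.mono_g ((vanish_tor L (i+1) _ hP).eq_of_src _ _)
  have he : Epi δ := e2.epi_f ((vanish_tor L i _ hP).eq_of_tgt _ _)
  have : IsIso δ := isIso_of_mono_of_epi δ
  exact ⟨fun h => h.of_iso (asIso δ).symm, fun h => h.of_iso (asIso δ)⟩

/-- Finite projective dimension gives vanishing of Tor in the second variable. -/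
theorem isZero_tor_of_hasProjectiveDimensionLT (L : ModuleCat.{u} A) (n : ℕ) :
    ∀ X : ModuleCat.{u} A, HasProjectiveDimensionLT X (n + 1) →
      ∀ i : ℕ, n < i → IsZero (((Tor (ModuleCat.{u} A) i).obj L).obj X) := by
  induction n with
  | zero =>
    intro X hX i hi
    haveI : Projective X := projective_iff_hasProjectiveDimensionLT_one.2 hX
    obtain ⟨j, rfl⟩ : ∃ j, i = j + 1 := ⟨i - 1, by omega⟩
    exact vanish_tor L j X inferInstance
  | succ n ih =>
    intro X hX i hi
    have hK : HasProjectiveDimensionLT (pres X).X₁ (n + 1) :=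
      ((pres_shortExact X).hasProjectiveDimensionLT_X₃_iff n (pres_projective X)).1 hX
    obtain ⟨j, rfl⟩ : ∃ j, i = j + 2 := ⟨i - 2, by omega⟩
    exact (isZero_shift L (pres X) (pres_shortExact X) (pres_projective X) j).2
      (ih _ hK (j+1) (by omega))

section Local

variable [IsLocalRing A] [IsNoetherianRing A]

theorem exists_pres (M : Type u) [AddCommGroup M] [Module A M] [Module.Finite A M] :
    ∃ (m : ℕ) (g : (Fin m → A) →ₗ[A] M), Function.Surjective g :=
  Module.Finite.exists_fin' A M

/-- Over a Noetherian local ring, vanishing of `Tor_{n+1}(k, M)` for a finite module `M`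
bounds its projective dimension. -/
theorem hasProjectiveDimensionLT_of_isZero_tor (n : ℕ) :
    ∀ (M : Type u) [AddCommGroup M] [Module A M] [Module.Finite A M],
      IsZero (((Tor (ModuleCat.{u} A) (n + 1)).obj
        (ModuleCat.of A (IsLocalRing.ResidueField A))).obj (ModuleCat.of A M)) →
      HasProjectiveDimensionLT (ModuleCat.of A M) (n + 1) := by
  induction n with
  | zero =>
    intro M _ _ _ h
    obtain ⟨m, g, hg⟩ := exists_pres (A := A) M
    have hS := TorFlat.shortExact_of (A := A) (LinearMap.ker g).subtype g
      (Submodule.injective_subtype _) hg (LinearMap.exact_subtype_ker_map g)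
    have hmono := TorFlat.mono_whiskerLeft_of_isZero_tor_one
      (ModuleCat.of A (IsLocalRing.ResidueField A)) _ hS h
    rw [ModuleCat.mono_iff_injective] at hmono
    haveI : Module.Free A M :=
      Module.free_of_lTensor_residueField_injective (LinearMap.ker g).subtype g hg
        (LinearMap.exact_subtype_ker_map g) hmono
    haveI : Projective (ModuleCat.of A M) :=
      (IsProjective.iff_projective (R := A) M).1 inferInstance
    infer_instance
  | succ n ih =>
    intro M _ _ _ h
    obtain ⟨m, g, hg⟩ := exists_pres (A := A) M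
    have hS := TorFlat.shortExact_of (A := A) (LinearMap.ker g).subtype g
      (Submodule.injective_subtype _) hg (LinearMap.exact_subtype_ker_map g)
    haveI hP : Projective (ModuleCat.of A (Fin m → A)) :=
      (IsProjective.iff_projective (R := A) (Fin m → A)).1 inferInstance
    have hK : IsZero (((Tor (ModuleCat.{u} A) (n + 1)).obj
        (ModuleCat.of A (IsLocalRing.ResidueField A))).obj (ModuleCat.of A (LinearMap.ker g))) :=
      (isZero_shift _ _ hS hP n).1 h
    have h1 := ih (LinearMap.ker g) hK
    have h2 : HasProjectiveDimensionLT (ModuleCat.of A (Fin m → A)) (n + 1 + 1) :=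
      hasProjectiveDimensionLT_of_ge _ 1 _ (by omega)
    exact hS.hasProjectiveDimensionLT_X₃ (n + 1) h1 h2

end Local

end Groth.Agent.H82.TorPD
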