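import Mathlib

set_option linter.unusedSectionVars false
set_option linter.unusedVariables false
set_option linter.style.haveILetI false
set_option backward.isDefEq.respectTransparency false

universe u

open CategoryTheory CategoryTheory.Limits

namespace Groth.Agent.H82.FiltColim

variable {A : Type u} [Ring A] {J : Type u} [SmallCategory J] [IsFiltered J]

/-- Recognition of filtered colimits of modules by elements. -/
theorem nonempty_isColimit_of_rep {G : J ⥤ ModuleCat.{u} A} (t : Cocone G)
    (hsurj : ∀ x : t.pt, ∃ (j : J) (y : G.obj j), t.ι.app j y = x)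
    (hinj : ∀ (j : J) (y : G.obj j), t.ι.app j y = 0 → ∃ (k : J) (f : j ⟶ k), G.map f y = 0) :
    Nonempty (IsColimit t) := by
  have h : IsColimit ((forget (ModuleCat.{u} A)).mapCocone t) := by
    apply Types.FilteredColimit.isColimitOf'
    · intro x
      obtain ⟨j, y, hy⟩ := hsurj x
      exact ⟨j, y, hy.symm⟩
    · intro i x y hxy
      have hxy' : t.ι.app i x = t.ι.app i y := hxy
      obtain ⟨k, f, hf⟩ := hinj i (x - y) (by rw [map_sub, hxy', sub_self])
      refine ⟨k, f, ?_⟩
      rw [map_sub] at hf
      exact sub_eq_zero.mp hf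
  haveI : ReflectsColimitsOfShape J (forget (ModuleCat.{u} A)) :=
    ReflectsFilteredColimitsOfSize.reflects_filtered_colimits J
  exact ⟨isColimitOfReflects (forget (ModuleCat.{u} A)) h⟩

theorem rep_of_isColimit {G : J ⥤ ModuleCat.{u} A} {t : Cocone G} (ht : IsColimit t) :
    (∀ x : t.pt, ∃ (j : J) (y : G.obj j), t.ι.app j y = x) ∧
    (∀ (j : J) (y : G.obj j), t.ι.app j y = 0 → ∃ (k : J) (f : j ⟶ k), G.map f y = 0) := by
  haveI : PreservesColimitsOfShape J (forget (ModuleCat.{u} A)) :=
    PreservesFilteredColimitsOfSize.preserves_filtered_colimits J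
  refine ⟨fun x => Concrete.isColimit_exists_rep G ht x, fun j y hy => ?_⟩
  obtain ⟨k, f, g, h⟩ := Concrete.isColimit_exists_of_rep_eq G ht y (0 : G.obj j)
    (by rw [hy, map_zero])
  exact ⟨k, f, by rw [h, map_zero]⟩

section Homology

variable {ι : Type*} {c : ComplexShape ι}

theorem exists_cycle (K : HomologicalComplex (ModuleCat.{u} A) c) (j : ι) (y : K.X j)
    (hy : K.d j (c.next j) y = 0) : ∃ w : K.cycles j, K.iCycles j w = y := by
  have hS : (ShortComplex.mk (K.iCycles j) (K.d j (c.next j)) (K.iCycles_d j _)).Exact :=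
    ShortComplex.exact_of_f_is_kernel _ (K.cyclesIsKernel j (c.next j) rfl)
  exact (ShortComplex.moduleCat_exact_iff _).1 hS y hy

theorem exists_boundary (K : HomologicalComplex (ModuleCat.{u} A) c) (j : ι) (z : K.cycles j)
    (hz : K.homologyπ j z = 0) : ∃ b : K.X (c.prev j), K.toCycles (c.prev j) j b = z := by
  have hS : (ShortComplex.mk (K.toCycles (c.prev j) j) (K.homologyπ j)
      (K.toCycles_comp_homologyπ _ j)).Exact :=
    ShortComplex.exact_of_g_is_cokernel _ (K.homologyIsCokernel (c.prev j) j rfl)
  exact (ShortComplex.moduleCat_exact_iff _).1 hS z hz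

theorem homologyπ_surjective (K : HomologicalComplex (ModuleCat.{u} A) c) (j : ι) :
    Function.Surjective (K.homologyπ j) :=
  (ModuleCat.epi_iff_surjective _).1 inferInstance

theorem iCycles_injective (K : HomologicalComplex (ModuleCat.{u} A) c) (j : ι) :
    Function.Injective (K.iCycles j) :=
  (ModuleCat.mono_iff_injective _).1 inferInstance

theorem app_comp {X Y Z : ModuleCat.{u} A} (f : X ⟶ Y) (g : Y ⟶ Z) (x : X) :
    (f ≫ g) x = g (f x) := rfl

theorem app_congr {X Y : ModuleCat.{u} A} {f g : X ⟶ Y} (h : f = g) (x : X) : f x = g x := by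
  rw [h]

theorem toCycles_cyclesMap' {K L : HomologicalComplex (ModuleCat.{u} A) c} (φ : K ⟶ L) (i j : ι) :
    K.toCycles i j ≫ HomologicalComplex.cyclesMap φ j = φ.f i ≫ L.toCycles i j := by
  rw [← cancel_mono (L.iCycles j)]
  simp

/-- Homology of complexes of modules commutes with filtered colimits. -/
theorem preservesColimitsOfShape_homologyFunctor (j : ι) :
    PreservesColimitsOfShape J (HomologicalComplex.homologyFunctor (ModuleCat.{u} A) c j) := by
  refine ⟨fun {D} => ⟨fun {s} hs => ?_⟩⟩
  have hrep : ∀ n : ι, _ := fun n =>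
    rep_of_isColimit (isColimitOfPreserves (HomologicalComplex.eval (ModuleCat.{u} A) c n) hs)
  obtain ⟨I, hI⟩ : ∃ I : ∀ a, D.obj a ⟶ s.pt, ∀ a, I a = s.ι.app a :=
    ⟨fun a => s.ι.app a, fun a => rfl⟩
  have surj : ∀ (n : ι) (x : s.pt.X n), ∃ (a : J) (y : (D.obj a).X n), (I a).f n y = x := by
    intro n x
    obtain ⟨a, y, h⟩ := (hrep n).1 x
    exact ⟨a, y, by rw [hI]; exact h⟩
  have inj : ∀ (n : ι) (a : J) (y : (D.obj a).X n), (I a).f n y = 0 →
      ∃ (b : J) (f : a ⟶ b), (D.map f).f n y = 0 := by
    intro n a y h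
    rw [hI] at h
    exact (hrep n).2 a y h
  have hι : ∀ {a b : J} (f : a ⟶ b), D.map f ≫ I b = I a := fun f => by
    rw [hI, hI]; exact s.w f
  apply nonempty_isColimit_of_rep
  · -- surjectivity
    intro x
    change s.pt.homology j at x
    obtain ⟨z, rfl⟩ := homologyπ_surjective s.pt j x
    obtain ⟨a, y, hy⟩ := surj j (s.pt.iCycles j z)
    have hdy : (I a).f (c.next j) ((D.obj a).d j (c.next j) y) = 0 := by
      have h1 := app_congr ((I a).comm j (c.next j)) y
      rw [app_comp, app_comp, hy] at h1
      rw [← h1]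
      have h2 := app_congr (s.pt.iCycles_d j (c.next j)) z
      rw [app_comp] at h2
      rw [h2]; rfl
    obtain ⟨b, f, hf⟩ := inj (c.next j) a _ hdy
    have hdy' : (D.obj b).d j (c.next j) ((D.map f).f j y) = 0 := by
      have h1 := app_congr ((D.map f).comm j (c.next j)) y
      rw [app_comp, app_comp] at h1
      rw [h1, hf]
    obtain ⟨w, hw⟩ := exists_cycle (D.obj b) j _ hdy'
    refine ⟨b, (D.obj b).homologyπ j w, ?_⟩
    show HomologicalComplex.homologyMap (s.ι.app b) j ((D.obj b).homologyπ j w) =
      s.pt.homologyπ j z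
    rw [← hI]
    have h1 := app_congr (HomologicalComplex.homologyπ_naturality (I b) j) w
    rw [app_comp, app_comp] at h1
    refine h1.trans ?_
    congr 1
    apply iCycles_injective
    have h2 := app_congr (HomologicalComplex.cyclesMap_i (I b) j) w
    rw [app_comp, app_comp] at h2
    rw [h2, hw, ← hy]
    have h3 := app_congr (congrArg (fun φ => φ.f j) (hι f)) y
    exact h3
  · -- injectivity
    intro a y hy
    change (D.obj a).homology j at y
    change HomologicalComplex.homologyMap (s.ι.app a) j y = 0 at hy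
    rw [← hI] at hy
    obtain ⟨w, rfl⟩ := homologyπ_surjective (D.obj a) j y
    have h1 := app_congr (HomologicalComplex.homologyπ_naturality (I a) j) w
    rw [app_comp, app_comp] at h1
    have h1' : s.pt.homologyπ j (HomologicalComplex.cyclesMap (I a) j w) = 0 := h1.symm.trans hy
    obtain ⟨b₁, hb₁⟩ := exists_boundary s.pt j _ h1'
    obtain ⟨a', c₁, hc₁⟩ := surj (c.prev j) b₁
    obtain ⟨l, f, g, -⟩ : ∃ (l : J) (f : a ⟶ l) (g : a' ⟶ l), True :=
      ⟨IsFiltered.max a a', IsFiltered.leftToMax a a', IsFiltered.rightToMax a a', trivial⟩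
    obtain ⟨w', hw'def⟩ : ∃ w' : (D.obj l).cycles j,
        w' = HomologicalComplex.cyclesMap (D.map f) j w -
          (D.obj l).toCycles (c.prev j) j ((D.map g).f (c.prev j) c₁) := ⟨_, rfl⟩
    have hw' : HomologicalComplex.cyclesMap (I l) j w' = 0 := by
      rw [hw'def, map_sub]
      have e1 : HomologicalComplex.cyclesMap (I l) j
          (HomologicalComplex.cyclesMap (D.map f) j w) =
          HomologicalComplex.cyclesMap (I a) j w := by
        rw [← app_comp, ← HomologicalComplex.cyclesMap_comp, hι f]
      have e2 : HomologicalComplex.cyclesMap (I l) j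
          ((D.obj l).toCycles (c.prev j) j ((D.map g).f (c.prev j) c₁)) =
          s.pt.toCycles (c.prev j) j b₁ := by
        have h2 := app_congr (toCycles_cyclesMap' (I l) (c.prev j) j)
          ((D.map g).f (c.prev j) c₁)
        rw [app_comp, app_comp] at h2
        rw [h2, ← hc₁]
        congr 1
        have h3 := app_congr (congrArg (fun φ => φ.f (c.prev j)) (hι g)) c₁
        exact h3
      rw [e1, e2, hb₁, sub_self]
    have he : (I l).f j ((D.obj l).iCycles j w') = 0 := by
      have h2 := app_congr (HomologicalComplex.cyclesMap_i (I l) j) w'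
      rw [app_comp, app_comp, hw', map_zero] at h2
      exact h2.symm
    obtain ⟨m, h, hh⟩ := inj j l _ he
    have hz : HomologicalComplex.cyclesMap (D.map h) j w' = 0 := by
      apply iCycles_injective
      have h2 := app_congr (HomologicalComplex.cyclesMap_i (D.map h) j) w'
      rw [app_comp, app_comp, hh] at h2
      rw [h2, map_zero]
    refine ⟨m, f ≫ h, ?_⟩
    show HomologicalComplex.homologyMap (D.map (f ≫ h)) j ((D.obj a).homologyπ j w) = 0
    have h3 := app_congr (HomologicalComplex.homologyπ_naturality (D.map (f ≫ h)) j) w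
    rw [app_comp, app_comp] at h3
    refine h3.trans ?_
    have e3 : HomologicalComplex.cyclesMap (D.map (f ≫ h)) j w =
        (D.obj m).toCycles (c.prev j) j ((D.map (g ≫ h)).f (c.prev j) c₁) := by
      rw [hw'def, map_sub, sub_eq_zero] at hz
      rw [D.map_comp, HomologicalComplex.cyclesMap_comp, app_comp, hz]
      have h5 := app_congr (toCycles_cyclesMap' (D.map h) (c.prev j) j)
        ((D.map g).f (c.prev j) c₁)
      rw [app_comp, app_comp] at h5
      rw [h5, D.map_comp]
      rfl
    rw [e3]
    have h6 := app_congr ((D.obj m).toCycles_comp_homologyπ (c.prev j) j)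
      ((D.map (g ≫ h)).f (c.prev j) c₁)
    rw [app_comp] at h6
    exact h6

end Homology

end Groth.Agent.H82.FiltColim
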