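import Mathlib
import Groth.Agent.H82.LDerHorseshoe
import Groth.Agent.H82.DeltaFun

set_option linter.unusedSectionVars false
set_option linter.unusedVariables false
set_option linter.style.haveILetI false
set_option backward.isDefEq.respectTransparency false

universe v u v' u'

open CategoryTheory CategoryTheory.Limits

namespace Groth.Agent.H82.LDer

variable {C : Type u} [Category.{v} C] [Abelian C] {D : Type u'} [Category.{v'} D] [Abelian D]

section Lift

variable {S S' : ShortComplex C} (T : PSESRes S) (T' : PSESRes S') (φ : S ⟶ S')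

/-- A morphism of short complexes lifts to a morphism of short exact sequences of projective
resolutions, the outer components lying over the outer components of the morphism. -/
theorem PSESRes.exists_lift :
    ∃ (a₁ : T.P₁.complex ⟶ T'.P₁.complex) (a₂ : T.P₂.complex ⟶ T'.P₂.complex)
      (a₃ : T.P₃.complex ⟶ T'.P₃.complex),
      T.f ≫ a₂ = a₁ ≫ T'.f ∧ T.g ≫ a₃ = a₂ ≫ T'.g ∧
      a₁.f 0 ≫ T'.P₁.π.f 0 = T.P₁.π.f 0 ≫ φ.τ₁ ∧
      a₃.f 0 ≫ T'.P₃.π.f 0 = T.P₃.π.f 0 ≫ φ.τ₃ := by
  classical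
  let a₁ := ProjectiveResolution.lift φ.τ₁ T.P₁ T'.P₁
  let c := ProjectiveResolution.lift φ.τ₂ T.P₂ T'.P₂
  have hc : c ≫ T'.P₂.π = T.P₂.π ≫ (ChainComplex.single₀ C).map φ.τ₂ :=
    ProjectiveResolution.lift_commutes _ _ _
  have ha₁ : a₁ ≫ T'.P₁.π = T.P₁.π ≫ (ChainComplex.single₀ C).map φ.τ₁ :=
    ProjectiveResolution.lift_commutes _ _ _
  have e1 : (T.f ≫ c) ≫ T'.P₂.π = T.P₁.π ≫ (ChainComplex.single₀ C).map (S.f ≫ φ.τ₂) := by
    rw [Category.assoc, hc, ← Category.assoc, T.f_π, Category.assoc, ← Functor.map_comp]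
  have e2 : (a₁ ≫ T'.f) ≫ T'.P₂.π = T.P₁.π ≫ (ChainComplex.single₀ C).map (S.f ≫ φ.τ₂) := by
    rw [Category.assoc, T'.f_π, ← Category.assoc, ha₁, Category.assoc, ← Functor.map_comp,
      φ.comm₁₂]
  let H : Homotopy (T.f ≫ c) (a₁ ≫ T'.f) :=
    ProjectiveResolution.liftHomotopy (S.f ≫ φ.τ₂) _ _ e1 e2
  let r : ∀ i, T.P₂.complex.X i ⟶ T.P₁.complex.X i := fun i => (T.splitting i).r
  have hr : ∀ i, T.f.f i ≫ r i = 𝟙 _ := fun i => (T.splitting i).f_r
  let k : ∀ i j, T.P₂.complex.X i ⟶ T'.P₂.complex.X j := fun i j => r i ≫ H.hom i j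
  let a₂ : T.P₂.complex ⟶ T'.P₂.complex := c - Homotopy.nullHomotopicMap k
  have hN : T.f ≫ Homotopy.nullHomotopicMap k = Homotopy.nullHomotopicMap H.hom := by
    rw [Homotopy.comp_nullHomotopicMap]
    congr 1
    funext i j
    simp only [k, ← Category.assoc, hr, Category.id_comp]
  have h12 : T.f ≫ a₂ = a₁ ≫ T'.f := by
    rw [show a₂ = c - Homotopy.nullHomotopicMap k from rfl, Preadditive.comp_sub, hN]
    ext i
    rw [HomologicalComplex.sub_f_apply, H.comm i]
    show dNext i H.hom + prevD i H.hom + (a₁ ≫ T'.f).f i - (dNext i H.hom + prevD i H.hom) = _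
    abel
  have hNk : Homotopy.nullHomotopicMap k ≫ T'.P₂.π = 0 := by
    apply HomologicalComplex.to_single_hom_ext
    rw [HomologicalComplex.comp_f, HomologicalComplex.zero_f]
    show (dNext 0 k + prevD 0 k) ≫ T'.P₂.π.f 0 = 0
    rw [Homotopy.dNext_zero_chainComplex, zero_add, Homotopy.prevD_chainComplex, Category.assoc,
      T'.P₂.complex_d_comp_π_f_zero, comp_zero]
  have hπ₂ : a₂ ≫ T'.P₂.π = T.P₂.π ≫ (ChainComplex.single₀ C).map φ.τ₂ := by
    rw [show a₂ = c - Homotopy.nullHomotopicMap k from rfl, Preadditive.sub_comp, hNk, sub_zero, hc]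
  have := T.shortExact.epi_g
  have hz : T.cx.f ≫ (a₂ ≫ T'.g) = 0 := by
    show T.f ≫ (a₂ ≫ T'.g) = 0
    rw [← Category.assoc, h12, Category.assoc, T'.zero, comp_zero]
  let a₃ : T.P₃.complex ⟶ T'.P₃.complex := T.shortExact.exact.desc (a₂ ≫ T'.g) hz
  have h23 : T.g ≫ a₃ = a₂ ≫ T'.g := T.shortExact.exact.g_desc _ _
  have hπ₃ : a₃ ≫ T'.P₃.π = T.P₃.π ≫ (ChainComplex.single₀ C).map φ.τ₃ := by
    have he : Epi T.g := T.shortExact.epi_g
    rw [← cancel_epi T.g, ← Category.assoc, h23, Category.assoc, T'.g_π, reassoc_of% hπ₂,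
      ← Category.assoc T.g, T.g_π, Category.assoc, ← Functor.map_comp, ← Functor.map_comp,
      φ.comm₂₃]
  refine ⟨a₁, a₂, a₃, h12, h23, ProjectiveResolution.lift_commutes_zero _ _ _, ?_⟩
  have := HomologicalComplex.congr_hom hπ₃ 0
  simpa using this

end Lift

section Delta

variable [HasProjectiveResolutions C] {S S' : ShortComplex C}

/-- The connecting morphism computed from a projective resolution of the short exact
sequence. -/
noncomputable def PSESRes.delta (T : PSESRes S) (F : C ⥤ D) [F.Additive] (n : ℕ) :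
    (F.leftDerived (n+1)).obj S.X₃ ⟶ (F.leftDerived n).obj S.X₁ :=
  (T.P₃.isoLeftDerivedObj F (n+1)).hom ≫ (T.map_shortExact F).δ (n+1) n rfl ≫
    (T.P₁.isoLeftDerivedObj F n).inv

theorem PSESRes.exists_delta' (T : PSESRes S) (F : C ⥤ D) [F.Additive] (n : ℕ) :
    ∃ δ : (HomologicalComplex.homologyFunctor D _ (n+1)).obj
        ((F.mapHomologicalComplex (ComplexShape.down ℕ)).obj T.P₃.complex) ⟶
      (HomologicalComplex.homologyFunctor D _ n).obj
        ((F.mapHomologicalComplex (ComplexShape.down ℕ)).obj T.P₁.complex),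
      δ = (T.map_shortExact F).δ (n+1) n rfl ∧
      T.delta F n ≫ (T.P₁.isoLeftDerivedObj F n).hom =
        (T.P₃.isoLeftDerivedObj F (n+1)).hom ≫ δ ∧
      (HomologicalComplex.homologyFunctor D _ (n+1)).map
        ((F.mapHomologicalComplex (ComplexShape.down ℕ)).map T.g) ≫ δ = 0 ∧
      δ ≫ (HomologicalComplex.homologyFunctor D _ n).map
        ((F.mapHomologicalComplex (ComplexShape.down ℕ)).map T.f) = 0 ∧
      (∀ (z₁ : (HomologicalComplex.homologyFunctor D _ (n+1)).map
        ((F.mapHomologicalComplex (ComplexShape.down ℕ)).map T.g) ≫ δ = 0),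
        (ShortComplex.mk _ _ z₁).Exact) ∧
      (∀ (z₂ : δ ≫ (HomologicalComplex.homologyFunctor D _ n).map
        ((F.mapHomologicalComplex (ComplexShape.down ℕ)).map T.f) = 0),
        (ShortComplex.mk _ _ z₂).Exact) := by
  refine ⟨(T.map_shortExact F).δ (n+1) n rfl, rfl, ?_,
    (T.map_shortExact F).comp_δ (n+1) n rfl, (T.map_shortExact F).δ_comp (n+1) n rfl,
    fun _ => (T.map_shortExact F).homology_exact₃ (n+1) n rfl,
    fun _ => (T.map_shortExact F).homology_exact₁ (n+1) n rfl⟩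
  simp only [PSESRes.delta, Category.assoc, Iso.inv_hom_id, Category.comp_id]

variable (F : C ⥤ D) [F.Additive] (T : PSESRes S)

theorem PSESRes.comp_delta (n : ℕ) : (F.leftDerived (n+1)).map S.g ≫ T.delta F n = 0 := by
  obtain ⟨δ, -, hd, h1, h2, -, -⟩ := T.exists_delta' F n
  rw [← cancel_mono (T.P₁.isoLeftDerivedObj F n).hom, Category.assoc, hd,
    reassoc_of% (map_g_iso F T (n+1)), h1, comp_zero, zero_comp]

theorem PSESRes.delta_comp (n : ℕ) : T.delta F n ≫ (F.leftDerived n).map S.f = 0 := by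
  obtain ⟨δ, -, hd, h1, h2, -, -⟩ := T.exists_delta' F n
  rw [← cancel_mono (T.P₂.isoLeftDerivedObj F n).hom, Category.assoc, map_f_iso F T n,
    reassoc_of% hd, h2, comp_zero, zero_comp]

theorem PSESRes.exact₃ (n : ℕ) (z : (F.leftDerived (n+1)).map S.g ≫ T.delta F n = 0) :
    (ShortComplex.mk ((F.leftDerived (n+1)).map S.g) (T.delta F n) z).Exact := by
  obtain ⟨δ, -, hd, h1, h2, e3, e1⟩ := T.exists_delta' F n
  refine ShortComplex.exact_of_iso ?_ (e3 h1)
  refine (ShortComplex.isoMk (T.P₂.isoLeftDerivedObj F (n+1)) (T.P₃.isoLeftDerivedObj F (n+1))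
    (T.P₁.isoLeftDerivedObj F n) ?_ ?_).symm
  · exact (map_g_iso F T (n+1)).symm
  · exact hd.symm

theorem PSESRes.exact₁ (n : ℕ) (z : T.delta F n ≫ (F.leftDerived n).map S.f = 0) :
    (ShortComplex.mk (T.delta F n) ((F.leftDerived n).map S.f) z).Exact := by
  obtain ⟨δ, -, hd, h1, h2, e3, e1⟩ := T.exists_delta' F n
  refine ShortComplex.exact_of_iso ?_ (e1 h2)
  refine (ShortComplex.isoMk (T.P₃.isoLeftDerivedObj F (n+1)) (T.P₁.isoLeftDerivedObj F n)
    (T.P₂.isoLeftDerivedObj F n) ?_ ?_).symm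
  · exact hd.symm
  · exact (map_f_iso F T n).symm

variable (T' : PSESRes S') (φ : S ⟶ S')

theorem PSESRes.delta_natural (n : ℕ) :
    T.delta F n ≫ (F.leftDerived n).map φ.τ₁ =
      (F.leftDerived (n+1)).map φ.τ₃ ≫ T'.delta F n := by
  obtain ⟨a₁, a₂, a₃, h12, h23, hπ₁, hπ₃⟩ := PSESRes.exists_lift T T' φ
  let G := F.mapHomologicalComplex (ComplexShape.down ℕ)
  let Φ : T.cx.map G ⟶ T'.cx.map G :=
    { τ₁ := G.map a₁
      τ₂ := G.map a₂
      τ₃ := G.map a₃
      comm₁₂ := by
        show G.map a₁ ≫ G.map T'.f = G.map T.f ≫ G.map a₂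
        rw [← G.map_comp, ← G.map_comp, h12]
      comm₂₃ := by
        show G.map a₂ ≫ G.map T'.g = G.map T.g ≫ G.map a₃
        rw [← G.map_comp, ← G.map_comp, h23] }
  obtain ⟨δ, hδ, hd, -, -, -, -⟩ := T.exists_delta' F n
  obtain ⟨δ', hδ', hd', -, -, -, -⟩ := T'.exists_delta' F n
  have nat : δ ≫ (HomologicalComplex.homologyFunctor D _ n).map (G.map a₁) =
      (HomologicalComplex.homologyFunctor D _ (n+1)).map (G.map a₃) ≫ δ' := by
    rw [hδ, hδ']
    exact HomologicalComplex.HomologySequence.δ_naturality Φ (T.map_shortExact F)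
      (T'.map_shortExact F) (n+1) n rfl
  have e₃ : (F.leftDerived (n+1)).map φ.τ₃ ≫ (T'.P₃.isoLeftDerivedObj F (n+1)).hom =
      (T.P₃.isoLeftDerivedObj F (n+1)).hom ≫
        (HomologicalComplex.homologyFunctor D _ (n+1)).map (G.map a₃) :=
    ProjectiveResolution.isoLeftDerivedObj_hom_naturality φ.τ₃ T.P₃ T'.P₃ a₃ hπ₃ F (n+1)
  have e₁ : (F.leftDerived n).map φ.τ₁ ≫ (T'.P₁.isoLeftDerivedObj F n).hom =
      (T.P₁.isoLeftDerivedObj F n).hom ≫
        (HomologicalComplex.homologyFunctor D _ n).map (G.map a₁) :=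
    ProjectiveResolution.isoLeftDerivedObj_hom_naturality φ.τ₁ T.P₁ T'.P₁ a₁ hπ₁ F n
  rw [← cancel_mono (T'.P₁.isoLeftDerivedObj F n).hom, Category.assoc, Category.assoc, hd',
    reassoc_of% e₃, ← nat, ← reassoc_of% hd, e₁]

theorem PSESRes.delta_eq (T T' : PSESRes S) (n : ℕ) : T.delta F n = T'.delta F n := by
  have := PSESRes.delta_natural F T T' (𝟙 S) n
  simpa using this

/-- Compatibility of the connecting morphisms with a natural transformation of functors. -/
theorem PSESRes.delta_natTrans {F G : C ⥤ D} [F.Additive] [G.Additive] (α : F ⟶ G)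
    (T : PSESRes S) (n : ℕ) :
    T.delta F n ≫ (NatTrans.leftDerived α n).app S.X₁ =
      (NatTrans.leftDerived α (n+1)).app S.X₃ ≫ T.delta G n := by
  let Φ : T.cx.map (F.mapHomologicalComplex (ComplexShape.down ℕ)) ⟶
      T.cx.map (G.mapHomologicalComplex (ComplexShape.down ℕ)) :=
    { τ₁ := (NatTrans.mapHomologicalComplex α _).app T.P₁.complex
      τ₂ := (NatTrans.mapHomologicalComplex α _).app T.P₂.complex
      τ₃ := (NatTrans.mapHomologicalComplex α _).app T.P₃.complex
      comm₁₂ := ((NatTrans.mapHomologicalComplex α (ComplexShape.down ℕ)).naturality T.f).symm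
      comm₂₃ := ((NatTrans.mapHomologicalComplex α (ComplexShape.down ℕ)).naturality T.g).symm }
  obtain ⟨δ, hδ, hd, -, -, -, -⟩ := T.exists_delta' F n
  obtain ⟨δ', hδ', hd', -, -, -, -⟩ := T.exists_delta' G n
  have nat : δ ≫ (HomologicalComplex.homologyFunctor D _ n).map
        ((NatTrans.mapHomologicalComplex α _).app T.P₁.complex) =
      (HomologicalComplex.homologyFunctor D _ (n+1)).map
        ((NatTrans.mapHomologicalComplex α _).app T.P₃.complex) ≫ δ' := by
    rw [hδ, hδ']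
    exact HomologicalComplex.HomologySequence.δ_naturality Φ (T.map_shortExact F)
      (T.map_shortExact G) (n+1) n rfl
  rw [ProjectiveResolution.leftDerived_app_eq α T.P₁ n,
    ProjectiveResolution.leftDerived_app_eq α T.P₃ (n+1)]
  rw [← cancel_mono (T.P₁.isoLeftDerivedObj G n).hom]
  simp only [Category.assoc, Iso.inv_hom_id, Category.comp_id]
  rw [hd', reassoc_of% hd, nat, Iso.inv_hom_id_assoc]

end Delta

section Main

variable [EnoughProjectives C] (F : C ⥤ D) [F.Additive]

/-- The chosen connecting morphisms of the left derived functors. -/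
noncomputable def δL (S : ShortComplex C) (hS : S.ShortExact) (n : ℕ) :
    (F.leftDerived (n+1)).obj S.X₃ ⟶ (F.leftDerived n).obj S.X₁ :=
  (Classical.choice (nonempty_psesRes hS)).delta F n

theorem δL_eq {S : ShortComplex C} (hS : S.ShortExact) (T : PSESRes S) (n : ℕ) :
    δL F S hS n = T.delta F n :=
  PSESRes.delta_eq F _ T n

/-- The left derived functors with their natural connecting morphisms. -/
noncomputable def natLES_leftDerived : NatLES (fun n => F.leftDerived n) where
  δ S hS n := δL F S hS n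
  δ_nat φ hS hS' n := PSESRes.delta_natural F _ _ φ n
  map_δ S hS n := PSESRes.comp_delta F _ n
  δ_map S hS n := PSESRes.delta_comp F _ n
  exact₃ S hS n := PSESRes.exact₃ F _ n _
  exact₁ S hS n := PSESRes.exact₁ F _ n _

/-- A natural transformation of additive functors induces a morphism of δ-functors between
the left derived functors. -/
theorem isδMor_leftDerived {F G : C ⥤ D} [F.Additive] [G.Additive] (α : F ⟶ G) :
    IsδMor (natLES_leftDerived F) (natLES_leftDerived G) (fun n => NatTrans.leftDerived α n) := by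
  intro S hS n
  exact PSESRes.delta_natTrans α _ n

end Main

end Groth.Agent.H82.LDer
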