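import Mathlib
import Groth.Agent.H82.TorLib
import Groth.Agent.H82.LDerNat
import Groth.Agent.H82.FiltColim

set_option linter.unusedSectionVars false
set_option linter.unusedVariables false
set_option linter.style.haveILetI false
set_option backward.isDefEq.respectTransparency false

universe v u v' u' v'' u''

open CategoryTheory CategoryTheory.Limits MonoidalCategory

namespace Groth.Agent.H82.LDer

section CxFunctor

variable {C : Type u} [Category.{v} C] [Abelian C] {D : Type u'} [Category.{v'} D] [Abelian D]
  {E : Type u''} [Category.{v''} E] [Abelian E]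
variable (G : E ⥤ C ⥤ D) [∀ e, (G.obj e).Additive] [G.PreservesZeroMorphisms]
  (K : ChainComplex C ℕ)
variable (hK : ∀ (i : ℕ) (S : ShortComplex E), S.ShortExact →
  ∀ z, (ShortComplex.mk ((G.map S.f).app (K.X i)) ((G.map S.g).app (K.X i)) z).ShortExact)

/-- The homology of a complex to which a family of functors is applied, with its natural
connecting morphisms. -/
noncomputable def natLES_cxFunctor :
    NatLES (fun n => cxFunctor G K ⋙ HomologicalComplex.homologyFunctor D _ n) where
  δ S hS n := (cxFunctor_shortExact G K hK S hS).δ (n+1) n rfl
  δ_nat φ hS hS' n :=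
    HomologicalComplex.HomologySequence.δ_naturality ((cxFunctor G K).mapShortComplex.map φ)
      (cxFunctor_shortExact G K hK _ hS) (cxFunctor_shortExact G K hK _ hS') (n+1) n rfl
  map_δ S hS n := (cxFunctor_shortExact G K hK S hS).comp_δ (n+1) n rfl
  δ_map S hS n := (cxFunctor_shortExact G K hK S hS).δ_comp (n+1) n rfl
  exact₃ S hS n := (cxFunctor_shortExact G K hK S hS).homology_exact₃ (n+1) n rfl
  exact₁ S hS n := (cxFunctor_shortExact G K hK S hS).homology_exact₁ (n+1) n rfl

theorem preservesColimitsOfShape_cxFunctor (J : Type*) [Category J]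
    (h : ∀ i, PreservesColimitsOfShape J (G.flip.obj (K.X i))) :
    PreservesColimitsOfShape J (cxFunctor G K) := by
  apply HomologicalComplex.preservesColimitsOfShape_of_eval
  intro i
  have e : cxFunctor G K ⋙ HomologicalComplex.eval D _ i ≅ G.flip.obj (K.X i) :=
    NatIso.ofComponents (fun _ => Iso.refl _) (by
      intro X Y f
      simp)
  haveI := h i
  exact preservesColimitsOfShape_of_natIso e.symm

end CxFunctor

end Groth.Agent.H82.LDer

namespace Groth.Agent.H82.TorColim

open Groth.Agent.H82.LDer Groth.Agent.H82.TorLib

variable {A : Type u} [CommRing A]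

section Second

variable {M : ModuleCat.{u} A} (P : ProjectiveResolution M)

noncomputable def natLES_U : NatLES (U P) :=
  natLES_cxFunctor (tensoringRight (ModuleCat.{u} A)) P.complex
    (fun i S hS z => shortExact_whiskerLeft (P.complex.X i) S hS z)

noncomputable def natLES_tor (M : ModuleCat.{u} A) :
    NatLES (fun n => (Tor (ModuleCat.{u} A) n).obj M) :=
  natLES_leftDerived (tensorLeft M)

/-- Natural balancing of Tor. -/
theorem nonempty_tor_natIso_U (n : ℕ) :
    Nonempty ((Tor (ModuleCat.{u} A) n).obj M ≅ U P n) :=
  nonempty_natIso_of_natLES (natLES_tor M) (natLES_U P) (vanish_tor M) (vanish_U P)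
    ((tensorLeft M).leftDerivedZeroIsoSelf ≪≫ (U0iso P).symm) n

theorem preserves_U (n : ℕ) (J : Type u) [SmallCategory J] [IsFiltered J] :
    PreservesColimitsOfShape J (U P n) := by
  haveI : PreservesColimitsOfShape J
      (cxFunctor (tensoringRight (ModuleCat.{u} A)) P.complex) := by
    apply preservesColimitsOfShape_cxFunctor
    intro i
    exact (inferInstance : PreservesColimitsOfShape J (tensorLeft (P.complex.X i)))
  haveI := FiltColim.preservesColimitsOfShape_homologyFunctor (A := A) (J := J)
    (c := ComplexShape.down ℕ) n
  exact (inferInstance : PreservesColimitsOfShape J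
    (cxFunctor (tensoringRight (ModuleCat.{u} A)) P.complex ⋙
      HomologicalComplex.homologyFunctor _ _ n))

/-- Tor commutes with filtered colimits in the second variable. -/
theorem preserves_tor (M : ModuleCat.{u} A) (n : ℕ) (J : Type u) [SmallCategory J]
    [IsFiltered J] : PreservesColimitsOfShape J ((Tor (ModuleCat.{u} A) n).obj M) := by
  obtain ⟨e⟩ := nonempty_tor_natIso_U (projectiveResolution M) n
  haveI := preserves_U (projectiveResolution M) n J
  exact preservesColimitsOfShape_of_natIso e.symm

end Second

section First

variable (N : ModuleCat.{u} A)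

/-- `Tor_n(-, N)` computed by a projective resolution of `N`, naturally. -/
noncomputable def torFlipIso (Q : ProjectiveResolution N) (n : ℕ) :
    (Tor (ModuleCat.{u} A) n).flip.obj N ≅
      cxFunctor (tensoringLeft (ModuleCat.{u} A)) Q.complex ⋙
        HomologicalComplex.homologyFunctor _ _ n :=
  NatIso.ofComponents (fun M => Q.isoLeftDerivedObj (tensorLeft M) n) (by
    intro M M' f
    have e : ((Tor (ModuleCat.{u} A) n).flip.obj N).map f =
        (NatTrans.leftDerived ((tensoringLeft (ModuleCat.{u} A)).map f) n).app N := rfl
    rw [e, Q.leftDerived_app_eq]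
    simp only [Category.assoc, Iso.inv_hom_id, Category.comp_id]
    rfl)

/-- Tor commutes with filtered colimits in the first variable. -/
theorem preserves_tor_flip (n : ℕ) (J : Type u) [SmallCategory J] [IsFiltered J] :
    PreservesColimitsOfShape J ((Tor (ModuleCat.{u} A) n).flip.obj N) := by
  let Q := projectiveResolution N
  haveI : PreservesColimitsOfShape J
      (cxFunctor (tensoringLeft (ModuleCat.{u} A)) Q.complex) := by
    apply preservesColimitsOfShape_cxFunctor
    intro i
    exact (inferInstance : PreservesColimitsOfShape J (tensorRight (Q.complex.X i)))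
  haveI := FiltColim.preservesColimitsOfShape_homologyFunctor (A := A) (J := J)
    (c := ComplexShape.down ℕ) n
  haveI : PreservesColimitsOfShape J
    (cxFunctor (tensoringLeft (ModuleCat.{u} A)) Q.complex ⋙
      HomologicalComplex.homologyFunctor _ _ n) := inferInstance
  exact preservesColimitsOfShape_of_natIso (torFlipIso N Q n).symm

end First

end Groth.Agent.H82.TorColim
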