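import Mathlib
import Groth.Agent.H82.TorColim
import Groth.Agent.S6314

set_option linter.unusedSectionVars false
set_option linter.unusedVariables false
set_option linter.style.haveILetI false
set_option backward.isDefEq.respectTransparency false

universe v u v' u' v'' u''

open CategoryTheory CategoryTheory.Limits MonoidalCategory

namespace Groth.Agent.H82.LDer

section OfIso

variable {C : Type u} [Category.{v} C] [Abelian C] {D : Type u'} [Category.{v'} D] [Abelian D]

/-- Transport of natural connecting morphisms along isomorphisms of functors. -/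
noncomputable def NatLES.ofIso {T T' : ℕ → C ⥤ D} (t : NatLES T) (e : ∀ n, T n ≅ T' n) :
    NatLES T' where
  δ S hS n := (e (n+1)).inv.app S.X₃ ≫ t.δ S hS n ≫ (e n).hom.app S.X₁
  δ_nat φ hS hS' n := by
    simp only [Category.assoc]
    rw [← (e n).hom.naturality φ.τ₁, reassoc_of% (t.δ_nat φ hS hS' n),
      ← (e (n+1)).inv.naturality_assoc φ.τ₃]
  map_δ S hS n := by
    rw [(e (n+1)).inv.naturality_assoc S.g, reassoc_of% (t.map_δ S hS n)]
    simp
  δ_map S hS n := by
    simp only [Category.assoc]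
    rw [← (e n).hom.naturality S.f, reassoc_of% (t.δ_map S hS n)]
    simp
  exact₃ S hS n := by
    refine ShortComplex.exact_of_iso ?_ (t.exact₃ S hS n)
    refine ShortComplex.isoMk ((e (n+1)).app S.X₂) ((e (n+1)).app S.X₃) ((e n).app S.X₁) ?_ ?_
    · exact ((e (n+1)).hom.naturality S.g).symm
    · simp
  exact₁ S hS n := by
    refine ShortComplex.exact_of_iso ?_ (t.exact₁ S hS n)
    refine ShortComplex.isoMk ((e (n+1)).app S.X₃) ((e n).app S.X₁) ((e n).app S.X₂) ?_ ?_
    · simp
    · exact ((e n).hom.naturality S.f).symm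

theorem IsδMor.ofIso {T₁ T₂ T₁' T₂' : ℕ → C ⥤ D} {t₁ : NatLES T₁} {t₂ : NatLES T₂}
    {τ : ∀ n, T₁ n ⟶ T₂ n} (h : IsδMor t₁ t₂ τ) (e₁ : ∀ n, T₁ n ≅ T₁' n)
    (e₂ : ∀ n, T₂ n ≅ T₂' n) :
    IsδMor (t₁.ofIso e₁) (t₂.ofIso e₂) (fun n => (e₁ n).inv ≫ τ n ≫ (e₂ n).hom) := by
  intro S hS n
  show ((e₁ (n+1)).inv.app S.X₃ ≫ t₁.δ S hS n ≫ (e₁ n).hom.app S.X₁) ≫
      ((e₁ n).inv ≫ τ n ≫ (e₂ n).hom).app S.X₁ =
    ((e₁ (n+1)).inv ≫ τ (n+1) ≫ (e₂ (n+1)).hom).app S.X₃ ≫
      (e₂ (n+1)).inv.app S.X₃ ≫ t₂.δ S hS n ≫ (e₂ n).hom.app S.X₁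
  simp only [NatTrans.comp_app, Category.assoc, Iso.hom_inv_id_app_assoc]
  rw [reassoc_of% (h S hS n)]

end OfIso

section CxMap

variable {C : Type u} [Category.{v} C] [Abelian C] {D : Type u'} [Category.{v'} D] [Abelian D]
  {E : Type u''} [Category.{v''} E] [Abelian E]
variable (G : E ⥤ C ⥤ D) [∀ e, (G.obj e).Additive] [G.PreservesZeroMorphisms]
  {K K' : ChainComplex C ℕ} (φ : K ⟶ K')

/-- A chain map induces a natural transformation between the associated functors. -/
@[simps]
noncomputable def cxMap : cxFunctor G K ⟶ cxFunctor G K' where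
  app e := ((G.obj e).mapHomologicalComplex _).map φ
  naturality e e' g :=
    ((NatTrans.mapHomologicalComplex (G.map g) (ComplexShape.down ℕ)).naturality φ).symm

variable (hK : ∀ (i : ℕ) (S : ShortComplex E), S.ShortExact →
    ∀ z, (ShortComplex.mk ((G.map S.f).app (K.X i)) ((G.map S.g).app (K.X i)) z).ShortExact)
  (hK' : ∀ (i : ℕ) (S : ShortComplex E), S.ShortExact →
    ∀ z, (ShortComplex.mk ((G.map S.f).app (K'.X i)) ((G.map S.g).app (K'.X i)) z).ShortExact)

theorem isδMor_cxMap :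
    IsδMor (natLES_cxFunctor G K hK) (natLES_cxFunctor G K' hK')
      (fun n => Functor.whiskerRight (cxMap G φ) (HomologicalComplex.homologyFunctor D _ n)) := by
  intro S hS n
  let Φ : S.map (cxFunctor G K) ⟶ S.map (cxFunctor G K') :=
    { τ₁ := (cxMap G φ).app S.X₁
      τ₂ := (cxMap G φ).app S.X₂
      τ₃ := (cxMap G φ).app S.X₃
      comm₁₂ := ((cxMap G φ).naturality S.f).symm
      comm₂₃ := ((cxMap G φ).naturality S.g).symm }
  exact HomologicalComplex.HomologySequence.δ_naturality Φ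
    (cxFunctor_shortExact G K hK S hS) (cxFunctor_shortExact G K' hK' S hS) (n+1) n rfl

end CxMap

section FromZero

variable {C : Type u} [Category.{v} C] [Abelian C] {D : Type u'} [Category.{v'} D] [Abelian D]
  [HasProjectiveResolutions C]

theorem fromLeftDerivedZero_natTrans {F G : C ⥤ D} [F.Additive] [G.Additive] (α : F ⟶ G) :
    NatTrans.leftDerived α 0 ≫ G.fromLeftDerivedZero = F.fromLeftDerivedZero ≫ α := by
  ext X
  let P := projectiveResolution X
  rw [NatTrans.comp_app, NatTrans.comp_app, P.leftDerived_app_eq α 0,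
    P.fromLeftDerivedZero_eq G, P.fromLeftDerivedZero_eq F]
  simp only [Category.assoc, Iso.inv_hom_id_assoc]
  congr 1
  exact (TorLib.isoHomologyι₀_square _ _ _ _ (TorLib.fromLeftDerivedZero'_natTrans P α)).trans
    (Category.assoc _ _ _)

end FromZero

end Groth.Agent.H82.LDer

namespace Groth.Agent.H82.TorSymm

open Groth.Agent.H82.LDer Groth.Agent.H82.TorLib Groth.Agent.H82.TorColim

variable {A : Type u} [CommRing A]

/-- `T X n = Tor_n(X, -)`. -/
noncomputable abbrev T (X : ModuleCat.{u} A) (n : ℕ) : ModuleCat.{u} A ⥤ ModuleCat.{u} A :=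
  (Tor (ModuleCat.{u} A) n).obj X

/-- `T' X n = Tor_n(-, X)`. -/
noncomputable abbrev T' (X : ModuleCat.{u} A) (n : ℕ) : ModuleCat.{u} A ⥤ ModuleCat.{u} A :=
  (Tor (ModuleCat.{u} A) n).flip.obj X

noncomputable abbrev Q (X : ModuleCat.{u} A) : ProjectiveResolution X := projectiveResolution X

theorem hQ (X : ModuleCat.{u} A) : ∀ (i : ℕ) (S : ShortComplex (ModuleCat.{u} A)), S.ShortExact →
    ∀ z, (ShortComplex.mk (((tensoringLeft (ModuleCat.{u} A)).map S.f).app ((Q X).complex.X i))
      (((tensoringLeft (ModuleCat.{u} A)).map S.g).app ((Q X).complex.X i)) z).ShortExact :=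
  fun i S hS z => shortExact_whiskerRight ((Q X).complex.X i) S hS z

noncomputable def tT (X : ModuleCat.{u} A) : NatLES (T X) := natLES_tor X

noncomputable def tT' (X : ModuleCat.{u} A) : NatLES (T' X) :=
  (natLES_cxFunctor (tensoringLeft (ModuleCat.{u} A)) (Q X).complex (hQ X)).ofIso
    (fun n => (torFlipIso X (Q X) n).symm)

theorem vanish_T' (X : ModuleCat.{u} A) : VanishOnProj (T' X) := by
  intro n P hP
  haveI : Projective (ModuleCat.of A P) := hP
  haveI : Module.Projective A P := (IsProjective.iff_projective (R := A) (P := P)).2 hP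
  exact Groth.Agent.S6314.result A P X (n+1) (Nat.succ_pos n)

/-- The degree zero comparison. -/
noncomputable def bIso (X : ModuleCat.{u} A) : T' X 0 ≅ tensorRight X :=
  NatIso.ofComponents (fun Y => (tensorLeft Y).leftDerivedZeroIsoSelf.app X) (by
    intro Y Y' f
    have h := congrArg (fun α => α.app X)
      (fromLeftDerivedZero_natTrans ((tensoringLeft (ModuleCat.{u} A)).map f))
    exact h)

noncomputable def e0 (X : ModuleCat.{u} A) : T X 0 ≅ T' X 0 :=
  (tensorLeft X).leftDerivedZeroIsoSelf ≪≫ BraidedCategory.tensorLeftIsoTensorRight X ≪≫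
    (bIso X).symm

theorem exists_τ (X : ModuleCat.{u} A) :
    ∃ τ : ∀ n, T X n ⟶ T' X n, τ 0 = (e0 X).hom ∧ IsδMor (tT X) (tT' X) τ :=
  exists_δMor (tT X) (tT' X) (vanish_T' X) (e0 X).hom

noncomputable def τ (X : ModuleCat.{u} A) : ∀ n, T X n ⟶ T' X n := (exists_τ X).choose

theorem τ_zero (X : ModuleCat.{u} A) : τ X 0 = (e0 X).hom := (exists_τ X).choose_spec.1

theorem τ_δ (X : ModuleCat.{u} A) : IsδMor (tT X) (tT' X) (τ X) := (exists_τ X).choose_spec.2

instance τ_isIso (X : ModuleCat.{u} A) (n : ℕ) : IsIso (τ X n) :=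
  δMor_isIso (tT X) (tT' X) (vanish_tor X) (vanish_T' X) (τ X) (τ_δ X)
    (by rw [τ_zero]; infer_instance) n

section Nat

variable {X X' : ModuleCat.{u} A} (f : X ⟶ X')

theorem isδMor_T_map :
    IsδMor (tT X) (tT X') (fun n => (Tor (ModuleCat.{u} A) n).map f) :=
  isδMor_leftDerived ((tensoringLeft (ModuleCat.{u} A)).map f)

theorem flip_map_eq (n : ℕ) :
    (Tor (ModuleCat.{u} A) n).flip.map f =
      (torFlipIso X (Q X) n).hom ≫
        Functor.whiskerRight (cxMap (tensoringLeft (ModuleCat.{u} A))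
          (ProjectiveResolution.lift f (Q X) (Q X')))
          (HomologicalComplex.homologyFunctor (ModuleCat.{u} A) (ComplexShape.down ℕ) n) ≫
            (torFlipIso X' (Q X') n).inv := by
  refine NatTrans.ext (funext fun (Y : ModuleCat.{u} A) => ?_)
  have h := ProjectiveResolution.isoLeftDerivedObj_hom_naturality f (Q X) (Q X')
    (ProjectiveResolution.lift f (Q X) (Q X')) (ProjectiveResolution.lift_commutes_zero _ _ _)
    (tensorLeft Y) n
  show ((tensorLeft Y).leftDerived n).map f =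
    ((Q X).isoLeftDerivedObj (tensorLeft Y) n).hom ≫
      (HomologicalComplex.homologyFunctor (ModuleCat.{u} A) (ComplexShape.down ℕ) n).map
        (((tensorLeft Y).mapHomologicalComplex (ComplexShape.down ℕ)).map
          (ProjectiveResolution.lift f (Q X) (Q X'))) ≫
      ((Q X').isoLeftDerivedObj (tensorLeft Y) n).inv
  rw [← Category.assoc]
  refine ((Iso.comp_inv_eq _).2 ?_).symm
  exact h.symm

theorem isδMor_T'_map :
    IsδMor (tT' X) (tT' X') (fun n => (Tor (ModuleCat.{u} A) n).flip.map f) := by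
  have h := (isδMor_cxMap (tensoringLeft (ModuleCat.{u} A))
    (ProjectiveResolution.lift f (Q X) (Q X')) (hQ X) (hQ X')).ofIso
    (fun n => (torFlipIso X (Q X) n).symm) (fun n => (torFlipIso X' (Q X') n).symm)
  have e : (fun n => (Tor (ModuleCat.{u} A) n).flip.map f) = fun n =>
      ((torFlipIso X (Q X) n).symm).inv ≫ Functor.whiskerRight
        (cxMap (tensoringLeft (ModuleCat.{u} A)) (ProjectiveResolution.lift f (Q X) (Q X')))
        (HomologicalComplex.homologyFunctor (ModuleCat.{u} A) (ComplexShape.down ℕ) n) ≫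
          ((torFlipIso X' (Q X') n).symm).hom := by
    funext n
    exact flip_map_eq f n
  rw [e]
  exact h

theorem e0_natural :
    (Tor (ModuleCat.{u} A) 0).map f ≫ (e0 X').hom =
      (e0 X).hom ≫ (Tor (ModuleCat.{u} A) 0).flip.map f := by
  have h1 : (Tor (ModuleCat.{u} A) 0).map f ≫ (tensorLeft X').leftDerivedZeroIsoSelf.hom =
      (tensorLeft X).leftDerivedZeroIsoSelf.hom ≫ (tensoringLeft (ModuleCat.{u} A)).map f :=
    fromLeftDerivedZero_natTrans ((tensoringLeft (ModuleCat.{u} A)).map f)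
  have h2 : (tensoringLeft (ModuleCat.{u} A)).map f ≫
      (BraidedCategory.tensorLeftIsoTensorRight X').hom =
      (BraidedCategory.tensorLeftIsoTensorRight X).hom ≫
        (tensoringRight (ModuleCat.{u} A)).map f := by
    refine NatTrans.ext (funext fun Y => ?_)
    exact BraidedCategory.braiding_naturality_left f Y
  have h3 : (Tor (ModuleCat.{u} A) 0).flip.map f ≫ (bIso X').hom =
      (bIso X).hom ≫ (tensoringRight (ModuleCat.{u} A)).map f := by
    refine NatTrans.ext (funext fun Y => ?_)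
    exact (tensorLeft Y).fromLeftDerivedZero.naturality f
  have h3' : (bIso X).inv ≫ (Tor (ModuleCat.{u} A) 0).flip.map f =
      (tensoringRight (ModuleCat.{u} A)).map f ≫ (bIso X').inv := by
    rw [Iso.inv_comp_eq, ← Category.assoc, ← h3, Category.assoc, Iso.hom_inv_id, Category.comp_id]
  simp only [e0, Iso.trans_hom, Iso.symm_hom, Category.assoc]
  rw [reassoc_of% h1, reassoc_of% h2, h3']

theorem τ_natural (n : ℕ) :
    (Tor (ModuleCat.{u} A) n).map f ≫ τ X' n = τ X n ≫ (Tor (ModuleCat.{u} A) n).flip.map f :=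
  δMor_unique (tT X) (tT' X') (vanish_T' X')
    (fun n => (Tor (ModuleCat.{u} A) n).map f ≫ τ X' n)
    (fun n => τ X n ≫ (Tor (ModuleCat.{u} A) n).flip.map f)
    ((isδMor_T_map f).comp (τ_δ X')) ((τ_δ X).comp (isδMor_T'_map f))
    (by
      show (Tor (ModuleCat.{u} A) 0).map f ≫ τ X' 0 = τ X 0 ≫ (Tor (ModuleCat.{u} A) 0).flip.map f
      rw [τ_zero, τ_zero]
      exact e0_natural f) n

end Nat

/-- Tor is symmetric, as a bifunctor. -/
theorem nonempty_tor_iso_flip (n : ℕ) :
    Nonempty (Tor (ModuleCat.{u} A) n ≅ (Tor (ModuleCat.{u} A) n).flip) :=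
  ⟨NatIso.ofComponents (fun X => asIso (τ X n)) (fun f => τ_natural f n)⟩

end Groth.Agent.H82.TorSymm
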