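import Mathlib
import Groth.Agent.H82.TorLib

set_option linter.unusedSectionVars false
set_option linter.unusedVariables false
set_option linter.style.haveILetI false
set_option backward.isDefEq.respectTransparency false

universe u

open CategoryTheory CategoryTheory.Limits MonoidalCategory

namespace Groth.Agent.H82.LDer

section General

variable {C : Type*} [Category C] [Abelian C] {D : Type*} [Category D] [Abelian D]
  {C' : Type*} [Category C'] [Abelian C'] {D' : Type*} [Category D'] [Abelian D']

theorem HasLES.comp_exact {T : ℕ → C ⥤ D} (h : HasLES T) (G : D ⥤ D') [G.Additive]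
    [G.PreservesHomology] : HasLES (fun n => T n ⋙ G) := by
  intro S hS n
  obtain ⟨h0, h1, δ, w₁, w₂, e1, e2⟩ := h S hS n
  have h0' : (T n ⋙ G).map S.f ≫ (T n ⋙ G).map S.g = 0 := by
    simp only [Functor.comp_map, ← G.map_comp, h0, G.map_zero]
  refine ⟨h0', fun z => (h1 h0).map G, G.map δ, ?_, ?_, e1.map G, e2.map G⟩
  · simp only [Functor.comp_map, ← G.map_comp, w₁, G.map_zero]
  · simp only [Functor.comp_map, ← G.map_comp, w₂, G.map_zero]

theorem HasLES.precomp_exact {T : ℕ → C ⥤ D} (h : HasLES T) (G : C' ⥤ C) [G.Additive]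
    [PreservesFiniteLimits G] [PreservesFiniteColimits G] : HasLES (fun n => G ⋙ T n) := by
  intro S hS n
  exact h (S.map G) (hS.map_of_exact G) n

theorem VanishOnProj.comp {T : ℕ → C ⥤ D} (h : VanishOnProj T) (G : D ⥤ D')
    [G.PreservesZeroMorphisms] : VanishOnProj (fun n => T n ⋙ G) :=
  fun n P hP => G.map_isZero (h n P hP)

theorem VanishOnProj.precomp {T : ℕ → C ⥤ D} (h : VanishOnProj T) (G : C' ⥤ C)
    (hG : ∀ P : C', Projective P → Projective (G.obj P)) : VanishOnProj (fun n => G ⋙ T n) :=
  fun n P hP => h n _ (hG P hP)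

end General

end Groth.Agent.H82.LDer

namespace Groth.Agent.H82.TorBC

open Groth.Agent.H82.LDer Groth.Agent.H82.TorLib

variable (A A' : Type u) [CommRing A] [CommRing A'] [Algebra A A']

/-- Extension of scalars along `A → A'`. -/
noncomputable abbrev E : ModuleCat.{u} A ⥤ ModuleCat.{u} A' :=
  ModuleCat.extendScalars (algebraMap A A')

instance : (E A A').Additive :=
  (ModuleCat.extendRestrictScalarsAdj (algebraMap A A')).left_adjoint_additive

/-- `A'` with its module structure from restriction of scalars. -/
noncomputable def idEquiv :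
    A' ≃ₗ[A] ((ModuleCat.restrictScalars (algebraMap A A')).obj (ModuleCat.of A' A')) where
  toFun x := x
  invFun x := x
  left_inv _ := rfl
  right_inv _ := rfl
  map_add' _ _ := rfl
  map_smul' r x := by
    show r • x = (algebraMap A A' r) • x
    rw [Algebra.smul_def]
    rfl

theorem E_map_exact [Module.Flat A A'] (S : ShortComplex (ModuleCat.{u} A)) (hS : S.Exact) :
    (S.map (E A A')).Exact := by
  rw [ShortComplex.ShortExact.moduleCat_exact_iff_function_exact] at hS ⊢
  haveI : Module.Flat A
      ((ModuleCat.restrictScalars (algebraMap A A')).obj (ModuleCat.of A' A')) :=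
    Module.Flat.of_linearEquiv (idEquiv A A').symm
  exact Module.Flat.lTensor_exact
    ((ModuleCat.restrictScalars (algebraMap A A')).obj (ModuleCat.of A' A')) hS

instance [Module.Flat A A'] : (E A A').PreservesHomology :=
  Functor.preservesHomology_of_map_exact _ (E_map_exact A A')

instance [Module.Flat A A'] : PreservesFiniteLimits (E A A') :=
  Functor.preservesFiniteLimits_of_preservesHomology _

theorem E_projective (P : ModuleCat.{u} A) (hP : Projective P) : Projective ((E A A').obj P) :=
  (ModuleCat.extendRestrictScalarsAdj (algebraMap A A')).map_projective P hP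

/-- Compatibility of extension of scalars with the tensor product. -/
noncomputable def tensorIso (P : ModuleCat.{u} A) :
    tensorLeft P ⋙ E A A' ≅ E A A' ⋙ tensorLeft ((E A A').obj P) :=
  NatIso.ofComponents (fun N => (Functor.Monoidal.μIso (E A A') P N).symm)
    (fun g => (Functor.OplaxMonoidal.δ_natural_right (E A A') P g).symm)

/-- The two sequences of functors agree in degree zero. -/
noncomputable def zeroIso (P : ModuleCat.{u} A) :
    (Tor (ModuleCat.{u} A) 0).obj P ⋙ E A A' ≅
      E A A' ⋙ (Tor (ModuleCat.{u} A') 0).obj ((E A A').obj P) :=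
  Functor.isoWhiskerRight (tensorLeft P).leftDerivedZeroIsoSelf (E A A') ≪≫ tensorIso A A' P ≪≫
    Functor.isoWhiskerLeft (E A A') (tensorLeft ((E A A').obj P)).leftDerivedZeroIsoSelf.symm

theorem nonempty_tor_baseChange_iso [Module.Flat A A'] (P Q : ModuleCat.{u} A) (n : ℕ) :
    Nonempty ((E A A').obj (((Tor (ModuleCat.{u} A) n).obj P).obj Q) ≅
      ((Tor (ModuleCat.{u} A') n).obj ((E A A').obj P)).obj ((E A A').obj Q)) :=
  nonempty_iso_of_hasLES (T := fun n => (Tor (ModuleCat.{u} A) n).obj P ⋙ E A A')
    (T' := fun n => E A A' ⋙ (Tor (ModuleCat.{u} A') n).obj ((E A A').obj P))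
    ((hasLES_tor P).comp_exact (E A A'))
    ((hasLES_tor ((E A A').obj P)).precomp_exact (E A A'))
    ((vanish_tor P).comp (E A A'))
    ((vanish_tor ((E A A').obj P)).precomp (E A A') (E_projective A A'))
    (zeroIso A A' P) n Q

/-- The underlying additive map of `bcEquiv`. -/
noncomputable def bcFun (X : Type u) [AddCommGroup X] [Module A X] :
    TensorProduct A A' X → (E A A').obj (ModuleCat.of A X) :=
  fun t => TensorProduct.congr (idEquiv A A') (LinearEquiv.refl A X) t

theorem bcFun_add (X : Type u) [AddCommGroup X] [Module A X] (t₁ t₂ : TensorProduct A A' X) :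
    bcFun A A' X (t₁ + t₂) = bcFun A A' X t₁ + bcFun A A' X t₂ :=
  map_add (TensorProduct.congr (idEquiv A A') (LinearEquiv.refl A X)) t₁ t₂

theorem bcFun_smul (X : Type u) [AddCommGroup X] [Module A X] (a : A')
    (t : TensorProduct A A' X) : bcFun A A' X (a • t) = a • bcFun A A' X t := by
  induction t using TensorProduct.induction_on with
  | zero =>
    have h0 : bcFun A A' X 0 = 0 :=
      map_zero (TensorProduct.congr (idEquiv A A') (LinearEquiv.refl A X))
    rw [smul_zero, h0, smul_zero]
  | tmul s x => rfl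
  | add t₁ t₂ h₁ h₂ =>
    rw [smul_add, bcFun_add, bcFun_add, smul_add, h₁, h₂]

/-- The standard base change module is the extension of scalars. -/
noncomputable def bcEquiv (X : Type u) [AddCommGroup X] [Module A X] :
    TensorProduct A A' X ≃ₗ[A'] (E A A').obj (ModuleCat.of A X) where
  toFun := bcFun A A' X
  invFun := fun t => (TensorProduct.congr (idEquiv A A') (LinearEquiv.refl A X)).symm t
  left_inv t := (TensorProduct.congr (idEquiv A A') (LinearEquiv.refl A X)).symm_apply_apply t
  right_inv t := (TensorProduct.congr (idEquiv A A') (LinearEquiv.refl A X)).apply_symm_apply t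
  map_add' := bcFun_add A A' X
  map_smul' := bcFun_smul A A' X

theorem nonempty_tor_baseChange [Module.Flat A A'] (P Q : Type u) [AddCommGroup P] [Module A P]
    [AddCommGroup Q] [Module A Q] (n : ℕ) :
    Nonempty (TensorProduct A A' (((Tor (ModuleCat.{u} A) n).obj (ModuleCat.of A P)).obj
        (ModuleCat.of A Q)) ≃ₗ[A']
      ((Tor (ModuleCat.{u} A') n).obj (ModuleCat.of A' (TensorProduct A A' P))).obj
        (ModuleCat.of A' (TensorProduct A A' Q))) := by
  obtain ⟨e⟩ := nonempty_tor_baseChange_iso A A' (ModuleCat.of A P) (ModuleCat.of A Q) n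
  let eP : ModuleCat.of A' (TensorProduct A A' P) ≅ (E A A').obj (ModuleCat.of A P) :=
    (bcEquiv A A' P).toModuleIso
  let eQ : ModuleCat.of A' (TensorProduct A A' Q) ≅ (E A A').obj (ModuleCat.of A Q) :=
    (bcEquiv A A' Q).toModuleIso
  let e1 : ((Tor (ModuleCat.{u} A') n).obj ((E A A').obj (ModuleCat.of A P))).obj
      ((E A A').obj (ModuleCat.of A Q)) ≅
      ((Tor (ModuleCat.{u} A') n).obj (ModuleCat.of A' (TensorProduct A A' P))).obj
      (ModuleCat.of A' (TensorProduct A A' Q)) :=
    (((Tor (ModuleCat.{u} A') n).mapIso eP.symm).app _) ≪≫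
      ((Tor (ModuleCat.{u} A') n).obj _).mapIso eQ.symm
  exact ⟨(bcEquiv A A' _) ≪≫ₗ (e ≪≫ e1).toLinearEquiv⟩

end Groth.Agent.H82.TorBC
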