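import Mathlib
import Groth.Agent.H82.TorFlat

set_option linter.unusedSectionVars false
set_option linter.unusedVariables false
set_option linter.style.haveILetI false
set_option backward.isDefEq.respectTransparency false

universe u

open CategoryTheory CategoryTheory.Limits MonoidalCategory

namespace Groth.Agent.H82.TorReg

open Groth.Agent.H82.LDer

section Linear

variable {R : Type*} [Semiring R] {C : Type*} [Category C] [Abelian C] [Linear R C]
  {D : Type*} [Category D] [Abelian D] [Linear R D]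

theorem hc_homologyMap_smul {ι : Type*} {c : ComplexShape ι} {K L : HomologicalComplex D c}
    (φ : K ⟶ L) (r : R) (i : ι) :
    HomologicalComplex.homologyMap (r • φ) i = r • HomologicalComplex.homologyMap φ i := by
  show ShortComplex.homologyMap ((HomologicalComplex.shortComplexFunctor D c i).map (r • φ)) =
    r • ShortComplex.homologyMap ((HomologicalComplex.shortComplexFunctor D c i).map φ)
  rw [← ShortComplex.homologyMap_smul]
  rfl

variable [HasProjectiveResolutions C]

theorem leftDerived_map_smul (F : C ⥤ D) [F.Additive] [F.Linear R] (n : ℕ) (r : R) (X : C) :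
    (F.leftDerived n).map (r • 𝟙 X) = r • 𝟙 ((F.leftDerived n).obj X) := by
  let P := projectiveResolution X
  have w : (r • 𝟙 P.complex) ≫ P.π = P.π ≫ (ChainComplex.single₀ C).map (r • 𝟙 X) := by
    apply HomologicalComplex.to_single_hom_ext
    rw [HomologicalComplex.comp_f, HomologicalComplex.comp_f, ChainComplex.single₀_map_f_zero,
      HomologicalComplex.smul_f_apply, HomologicalComplex.id_f]
    simp
  rw [Functor.leftDerived_map_eq F n (r • 𝟙 X) (r • 𝟙 P.complex) w]
  have h1 : (F.mapHomologicalComplex (ComplexShape.down ℕ) ⋙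
      HomologicalComplex.homologyFunctor D _ n).map (r • 𝟙 P.complex) = r • 𝟙 _ := by
    show HomologicalComplex.homologyMap
      ((F.mapHomologicalComplex (ComplexShape.down ℕ)).map (r • 𝟙 P.complex)) n = _
    rw [CategoryTheory.Functor.map_smul, hc_homologyMap_smul, CategoryTheory.Functor.map_id,
      HomologicalComplex.homologyMap_id]
    rfl
  rw [h1]
  simp

end Linear

section Main

variable {A : Type u} [CommRing A] (M : Type u) [AddCommGroup M] [Module A M]

/-- `T n = L_n(- ⊗ M)`. -/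
noncomputable abbrev T (n : ℕ) : ModuleCat.{u} A ⥤ ModuleCat.{u} A :=
  (tensorRight (ModuleCat.of A M)).leftDerived n

theorem hasLES_T : HasLES (T (A := A) M) := hasLES_leftDerived (tensorRight (ModuleCat.of A M))

theorem exact_smul_factor (I : Ideal A) (x : A) :
    Function.Exact (x • LinearMap.id : (A ⧸ I) →ₗ[A] (A ⧸ I))
      (Submodule.factor (le_sup_left : I ≤ I ⊔ Ideal.span {x})) := by
  intro y
  obtain ⟨a, rfl⟩ := Submodule.Quotient.mk_surjective _ y
  constructor
  · intro h
    have h' : (Submodule.Quotient.mk a : A ⧸ (I ⊔ Ideal.span {x})) = 0 := h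
    rw [Submodule.Quotient.mk_eq_zero, Submodule.mem_sup] at h'
    obtain ⟨i, hi, j, hj, rfl⟩ := h'
    obtain ⟨b, rfl⟩ := Ideal.mem_span_singleton'.1 hj
    refine ⟨Submodule.Quotient.mk b, ?_⟩
    show x • (Submodule.Quotient.mk b : A ⧸ I) = Submodule.Quotient.mk (i + b * x)
    rw [← Submodule.Quotient.mk_smul, Submodule.Quotient.eq]
    have : x • b - (i + b * x) = -i := by simp [smul_eq_mul, mul_comm]
    rw [this]
    exact I.neg_mem hi
  · rintro ⟨z, hz⟩
    obtain ⟨b, rfl⟩ := Submodule.Quotient.mk_surjective _ z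
    have h1 : (Submodule.Quotient.mk a : A ⧸ I) = Submodule.Quotient.mk (x • b) := by
      rw [← hz]; rfl
    rw [Submodule.Quotient.eq] at h1
    show (Submodule.Quotient.mk a : A ⧸ (I ⊔ Ideal.span {x})) = 0
    rw [Submodule.Quotient.mk_eq_zero]
    have h2 : a = (a - x • b) + b * x := by simp [smul_eq_mul, mul_comm]
    rw [h2]
    exact Submodule.add_mem _ (Submodule.mem_sup_left h1)
      (Submodule.mem_sup_right (Ideal.mem_span_singleton'.2 ⟨b, rfl⟩))

theorem torsion_sup (I : Ideal A) (x : A) (m : M) :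
    m ∈ Submodule.torsionBySet A M ((I ⊔ Ideal.span {x} : Ideal A) : Set A) ↔
      m ∈ Submodule.torsionBySet A M (I : Set A) ∧ x • m = 0 := by
  simp only [Submodule.mem_torsionBySet_iff, SetCoe.forall]
  constructor
  · intro h
    exact ⟨fun a ha => h a (Submodule.mem_sup_left ha),
      h x (Submodule.mem_sup_right (Ideal.subset_span rfl))⟩
  · rintro ⟨h1, h2⟩ a ha
    obtain ⟨i, hi, j, hj, rfl⟩ := Submodule.mem_sup.1 ha
    obtain ⟨b, rfl⟩ := Ideal.mem_span_singleton'.1 hj
    rw [add_smul, h1 i hi, mul_smul, h2, smul_zero, add_zero]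

theorem step (I : Ideal A) (x : A) (hx : IsSMulRegular (A ⧸ I) x) (k : ℕ)
    (hz : ∀ i, k < i → IsZero ((T M i).obj (ModuleCat.of A (A ⧸ I))))
    (e : ((T M k).obj (ModuleCat.of A (A ⧸ I))) ≃ₗ[A] Submodule.torsionBySet A M (I : Set A)) :
    (∀ i, k + 1 < i → IsZero ((T M i).obj (ModuleCat.of A (A ⧸ (I ⊔ Ideal.span {x}))))) ∧
    Nonempty (((T M (k+1)).obj (ModuleCat.of A (A ⧸ (I ⊔ Ideal.span {x})))) ≃ₗ[A]
      Submodule.torsionBySet A M ((I ⊔ Ideal.span {x} : Ideal A) : Set A)) := by
  have hinj : Function.Injective (x • LinearMap.id : (A ⧸ I) →ₗ[A] (A ⧸ I)) :=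
    fun a b h => hx (by simpa using h)
  let S : ShortComplex (ModuleCat.{u} A) :=
    ModuleCat.shortComplexOfCompEqZero (x • LinearMap.id : (A ⧸ I) →ₗ[A] (A ⧸ I))
      (Submodule.factor (le_sup_left : I ≤ I ⊔ Ideal.span {x}))
      (exact_smul_factor I x).linearMap_comp_eq_zero
  have hS : S.ShortExact := TorFlat.shortExact_of (A := A) _ _ hinj
    (Submodule.factor_surjective _) (exact_smul_factor I x)
  have hSf : S.f = x • 𝟙 (ModuleCat.of A (A ⧸ I)) := rfl
  constructor
  · intro i hi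
    obtain ⟨j, rfl⟩ : ∃ j, i = j + 1 := ⟨i - 1, by omega⟩
    obtain ⟨-, -, δ, w₁, w₂, e1, e2⟩ := hasLES_T M S hS j
    have hm : Mono δ := e1.mono_g ((hz (j+1) (by omega)).eq_of_src _ _)
    exact IsZero.of_mono δ (hz j (by omega))
  · obtain ⟨-, -, δ, w₁, w₂, e1, e2⟩ := hasLES_T M S hS k
    have hm : Mono δ := e1.mono_g ((hz (k+1) (by omega)).eq_of_src _ _)
    let ki := IsLimit.conePointUniqueUpToIso e2.fIsKernel (limit.isLimit _)
    let L1 := (ki ≪≫ ModuleCat.kernelIsoKer _).toLinearEquiv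
    have hmap : ((T M k).map (x • 𝟙 (ModuleCat.of A (A ⧸ I)))).hom =
        (x • LinearMap.id : _ →ₗ[A] _) := by
      rw [show (T M k).map (x • 𝟙 (ModuleCat.of A (A ⧸ I))) = x • 𝟙 _ from
        leftDerived_map_smul (tensorRight (ModuleCat.of A M)) k x _]
      rfl
    let g' : ((T M k).obj (ModuleCat.of A (A ⧸ I))) →ₗ[A] M :=
      (Submodule.torsionBySet A M (I : Set A)).subtype ∘ₗ e.toLinearMap
    have hg' : Function.Injective g' :=
      (Submodule.injective_subtype _).comp e.injective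
    let K : Submodule A ((T M k).obj (ModuleCat.of A (A ⧸ I))) :=
      LinearMap.ker (x • LinearMap.id : _ →ₗ[A] _)
    have hK : K.map g' = Submodule.torsionBySet A M ((I ⊔ Ideal.span {x} : Ideal A) : Set A) := by
      ext m
      rw [torsion_sup]
      constructor
      · rintro ⟨t, ht, rfl⟩
        have ht' : x • t = 0 := ht
        refine ⟨(e t).2, ?_⟩
        show x • g' t = 0
        rw [← map_smul, ht', map_zero]
      · rintro ⟨h1, h2⟩
        refine ⟨e.symm ⟨m, h1⟩, ?_, ?_⟩
        · show x • e.symm ⟨m, h1⟩ = 0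
          apply hg'
          rw [map_smul, map_zero]
          show x • ((e (e.symm ⟨m, h1⟩) : Submodule.torsionBySet A M (I : Set A)) : M) = 0
          rw [LinearEquiv.apply_symm_apply]
          exact h2
        · show ((e (e.symm ⟨m, h1⟩) : Submodule.torsionBySet A M (I : Set A)) : M) = m
          rw [LinearEquiv.apply_symm_apply]
    have hker : LinearMap.ker ((T M k).map S.f).hom = K := by
      show LinearMap.ker ((T M k).map (x • 𝟙 (ModuleCat.of A (A ⧸ I)))).hom = K
      rw [hmap]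
    exact ⟨L1 ≪≫ₗ LinearEquiv.ofEq _ _ hker ≪≫ₗ Submodule.equivMapOfInjective g' hg' K ≪≫ₗ
      LinearEquiv.ofEq _ _ hK⟩

theorem base :
    (∀ i, 0 < i → IsZero ((T M i).obj (ModuleCat.of A (A ⧸ (⊥ : Ideal A))))) ∧
    Nonempty (((T M 0).obj (ModuleCat.of A (A ⧸ (⊥ : Ideal A)))) ≃ₗ[A]
      Submodule.torsionBySet A M ((⊥ : Ideal A) : Set A)) := by
  let q : (A ⧸ (⊥ : Ideal A)) ≃ₗ[A] A := Submodule.quotEquivOfEqBot ⊥ rfl
  haveI : Module.Projective A (A ⧸ (⊥ : Ideal A)) := Module.Projective.of_equiv q.symm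
  haveI : Projective (ModuleCat.of A (A ⧸ (⊥ : Ideal A))) :=
    (IsProjective.iff_projective (R := A) _).1 inferInstance
  constructor
  · intro i hi
    obtain ⟨j, rfl⟩ : ∃ j, i = j + 1 := ⟨i - 1, by omega⟩
    exact Functor.isZero_leftDerived_obj_projective_succ _ j _
  · let L0 := ((tensorRight (ModuleCat.of A M)).leftDerivedZeroIsoSelf.app
      (ModuleCat.of A (A ⧸ (⊥ : Ideal A)))).toLinearEquiv
    let L1 : TensorProduct A (A ⧸ (⊥ : Ideal A)) M ≃ₗ[A] M :=
      TensorProduct.congr q (LinearEquiv.refl A M) ≪≫ₗ TensorProduct.lid A M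
    have htop : Submodule.torsionBySet A M ((⊥ : Ideal A) : Set A) = ⊤ := by
      rw [eq_top_iff]
      intro m _
      rw [Submodule.mem_torsionBySet_iff]
      rintro ⟨a, ha⟩
      have : a = 0 := ha
      subst this
      exact zero_smul _ _
    exact ⟨L0 ≪≫ₗ L1 ≪≫ₗ (LinearEquiv.ofTop _ htop).symm⟩

theorem main (xs : List A) (hreg : RingTheory.Sequence.IsWeaklyRegular A xs) :
    (∀ i, xs.length < i → IsZero ((T M i).obj (ModuleCat.of A (A ⧸ Ideal.ofList xs)))) ∧
    Nonempty (((T M xs.length).obj (ModuleCat.of A (A ⧸ Ideal.ofList xs))) ≃ₗ[A]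
      Submodule.torsionBySet A M (Ideal.ofList xs : Set A)) := by
  induction xs using List.reverseRecOn with
  | nil =>
    rw [Ideal.ofList_nil]
    exact base M
  | append_singleton xs x ih =>
    obtain ⟨h1, h2⟩ := (RingTheory.Sequence.isWeaklyRegular_append_iff A xs [x]).1 hreg
    rw [RingTheory.Sequence.isWeaklyRegular_singleton_iff] at h2
    have heq : (Ideal.ofList xs • ⊤ : Submodule A A) = Ideal.ofList xs := by
      rw [smul_eq_mul, Ideal.mul_top]
    have hx : IsSMulRegular (A ⧸ Ideal.ofList xs) x :=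
      ((Submodule.quotEquivOfEq _ _ heq).isSMulRegular_congr x).1 h2
    obtain ⟨hz, ⟨e⟩⟩ := ih h1
    rw [Ideal.ofList_append, Ideal.ofList_singleton, List.length_append, List.length_singleton]
    exact step M (Ideal.ofList xs) x hx xs.length hz e

/-- `Hom(A/J, M)` is the `J`-torsion of `M`. -/
theorem nonempty_hom_quotient_equiv (J : Ideal A) :
    Nonempty (((A ⧸ J) →ₗ[A] M) ≃ₗ[A] Submodule.torsionBySet A M (J : Set A)) := by
  let Φ₀ : ((A ⧸ J) →ₗ[A] M) →ₗ[A] M := LinearMap.applyₗ (Submodule.Quotient.mk 1 : A ⧸ J)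
  have hmem : ∀ φ, Φ₀ φ ∈ Submodule.torsionBySet A M (J : Set A) := by
    intro φ
    rw [Submodule.mem_torsionBySet_iff]
    rintro ⟨a, ha⟩
    show a • φ (Submodule.Quotient.mk 1) = 0
    rw [← map_smul, ← Submodule.Quotient.mk_smul, smul_eq_mul, mul_one,
      (Submodule.Quotient.mk_eq_zero J).2 ha, map_zero]
  let Φ := Φ₀.codRestrict _ hmem
  refine ⟨LinearEquiv.ofBijective Φ ⟨?_, ?_⟩⟩
  · rw [← LinearMap.ker_eq_bot, LinearMap.ker_codRestrict, LinearMap.ker_eq_bot']
    intro φ hφ
    have h1 : φ (Submodule.Quotient.mk 1) = 0 := hφ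
    apply LinearMap.ext
    intro y
    obtain ⟨a, rfl⟩ := Submodule.Quotient.mk_surjective _ y
    show φ (Submodule.Quotient.mk a) = 0
    have : (Submodule.Quotient.mk a : A ⧸ J) = a • Submodule.Quotient.mk 1 := by
      rw [← Submodule.Quotient.mk_smul, smul_eq_mul, mul_one]
    rw [this, map_smul, h1, smul_zero]
  · rintro ⟨m, hm⟩
    have hle : J ≤ LinearMap.ker (LinearMap.toSpanSingleton A M m) := by
      intro a ha
      rw [LinearMap.mem_ker, LinearMap.toSpanSingleton_apply]
      exact (Submodule.mem_torsionBySet_iff _ _).1 hm ⟨a, ha⟩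
    refine ⟨Submodule.liftQ J (LinearMap.toSpanSingleton A M m) hle, ?_⟩
    apply Subtype.ext
    show Submodule.liftQ J (LinearMap.toSpanSingleton A M m) hle (Submodule.Quotient.mk 1) = m
    rw [Submodule.liftQ_apply, LinearMap.toSpanSingleton_apply, one_smul]

theorem result_aux (xs : List A) (hreg : RingTheory.Sequence.IsWeaklyRegular A xs) :
    Nonempty (((T M xs.length).obj (ModuleCat.of A (A ⧸ Ideal.ofList xs))) ≃ₗ[A]
      ((A ⧸ Ideal.ofList xs) →ₗ[A] M)) := by
  obtain ⟨-, ⟨e⟩⟩ := main M xs hreg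
  obtain ⟨e'⟩ := nonempty_hom_quotient_equiv M (Ideal.ofList xs)
  exact ⟨e ≪≫ₗ e'.symm⟩

end Main

end Groth.Agent.H82.TorReg
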