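import Mathlib
import Groth.Agent.H82.TorReg
import Groth.Agent.H82.TorSymm
import Groth.Agent.S6315

set_option linter.unusedSectionVars false
set_option linter.unusedVariables false
set_option linter.style.haveILetI false
set_option backward.isDefEq.respectTransparency false

universe u

open CategoryTheory CategoryTheory.Limits MonoidalCategory

namespace Groth.Agent.H82.TorReg2

open Groth.Agent.H82.LDer Groth.Agent.H82.TorLib

variable {A : Type u} [CommRing A] (N : Type u) [AddCommGroup N] [Module A N]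

/-- `T n = Tor_n(N, -)`. -/
noncomputable abbrev T (n : ℕ) : ModuleCat.{u} A ⥤ ModuleCat.{u} A :=
  (Tor (ModuleCat.{u} A) n).obj (ModuleCat.of A N)

theorem hasLES_T : HasLES (T (A := A) N) := hasLES_tor (ModuleCat.of A N)

/-- The sequence `0 → A/I → A/I → A/(I + (x)) → 0`. -/
noncomputable def sesS (I : Ideal A) (x : A) : ShortComplex (ModuleCat.{u} A) :=
  ModuleCat.shortComplexOfCompEqZero (x • LinearMap.id : (A ⧸ I) →ₗ[A] (A ⧸ I))
    (Submodule.factor (le_sup_left : I ≤ I ⊔ Ideal.span {x}))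
    (TorReg.exact_smul_factor I x).linearMap_comp_eq_zero

theorem sesS_shortExact (I : Ideal A) (x : A) (hx : IsSMulRegular (A ⧸ I) x) :
    (sesS I x).ShortExact :=
  TorFlat.shortExact_of (A := A) _ _ (fun a b h => hx (by simpa using h))
    (Submodule.factor_surjective _) (TorReg.exact_smul_factor I x)

theorem sesS_f (I : Ideal A) (x : A) : (sesS I x).f = x • 𝟙 (ModuleCat.of A (A ⧸ I)) := rfl

theorem map_smul_eq (n : ℕ) (x : A) (X : ModuleCat.{u} A) :
    (T N n).map (x • 𝟙 X) = x • 𝟙 ((T N n).obj X) :=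
  TorReg.leftDerived_map_smul (tensorLeft (ModuleCat.of A N)) n x X

theorem mono_map_smul_iff (n : ℕ) (x : A) (X : ModuleCat.{u} A) :
    Mono ((T N n).map (x • 𝟙 X)) ↔ IsSMulRegular ((T N n).obj X) x := by
  rw [map_smul_eq, ModuleCat.mono_iff_injective]
  rfl

theorem epi_map_smul_iff (n : ℕ) (x : A) (X : ModuleCat.{u} A) :
    Epi ((T N n).map (x • 𝟙 X)) ↔ Function.Surjective (fun t : (T N n).obj X => x • t) := by
  rw [map_smul_eq, ModuleCat.epi_iff_surjective]
  rfl

/-- `Tor_0(N, A/I) ≃ N/IN`. -/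
noncomputable def t0Equiv (I : Ideal A) :
    ((T N 0).obj (ModuleCat.of A (A ⧸ I))) ≃ₗ[A] N ⧸ (I • ⊤ : Submodule A N) :=
  ((tensorLeft (ModuleCat.of A N)).leftDerivedZeroIsoSelf.app
    (ModuleCat.of A (A ⧸ I))).toLinearEquiv ≪≫ₗ TensorProduct.tensorQuotEquivQuotSMul N I

theorem regular_t0_iff (I : Ideal A) (x : A) :
    IsSMulRegular ((T N 0).obj (ModuleCat.of A (A ⧸ I))) x ↔
      IsSMulRegular (N ⧸ (I • ⊤ : Submodule A N)) x :=
  (t0Equiv N I).isSMulRegular_congr x

theorem isZero_quot_bot (i : ℕ) (hi : 0 < i) :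
    IsZero ((T N i).obj (ModuleCat.of A (A ⧸ (⊥ : Ideal A)))) := by
  let q : (A ⧸ (⊥ : Ideal A)) ≃ₗ[A] A := Submodule.quotEquivOfEqBot ⊥ rfl
  haveI : Module.Projective A (A ⧸ (⊥ : Ideal A)) := Module.Projective.of_equiv q.symm
  haveI : Projective (ModuleCat.of A (A ⧸ (⊥ : Ideal A))) :=
    (IsProjective.iff_projective (R := A) _).1 inferInstance
  obtain ⟨j, rfl⟩ : ∃ j, i = j + 1 := ⟨i - 1, by omega⟩
  exact Functor.isZero_leftDerived_obj_projective_succ _ j _

theorem regA (xs : List A) (x : A) (h : RingTheory.Sequence.IsWeaklyRegular A (xs ++ [x])) :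
    RingTheory.Sequence.IsWeaklyRegular A xs ∧ IsSMulRegular (A ⧸ Ideal.ofList xs) x := by
  obtain ⟨h1, h2⟩ := (RingTheory.Sequence.isWeaklyRegular_append_iff A xs [x]).1 h
  rw [RingTheory.Sequence.isWeaklyRegular_singleton_iff] at h2
  have heq : (Ideal.ofList xs • ⊤ : Submodule A A) = Ideal.ofList xs := by
    rw [smul_eq_mul, Ideal.mul_top]
  exact ⟨h1, ((Submodule.quotEquivOfEq _ _ heq).isSMulRegular_congr x).1 h2⟩

/-- A sequence regular on `A` and on `N` gives vanishing of the higher `Tor_i(N, A/(xs))`. -/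
theorem forward (xs : List A) (hA : RingTheory.Sequence.IsWeaklyRegular A xs)
    (hN : RingTheory.Sequence.IsWeaklyRegular N xs) :
    ∀ i, 0 < i → IsZero ((T N i).obj (ModuleCat.of A (A ⧸ Ideal.ofList xs))) := by
  induction xs using List.reverseRecOn with
  | nil =>
    rw [Ideal.ofList_nil]
    exact isZero_quot_bot N
  | append_singleton xs x ih =>
    obtain ⟨hA1, hxA⟩ := regA xs x hA
    obtain ⟨hN1, hxN⟩ := (RingTheory.Sequence.isWeaklyRegular_append_iff N xs [x]).1 hN
    rw [RingTheory.Sequence.isWeaklyRegular_singleton_iff] at hxN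
    have hz := ih hA1 hN1
    rw [Ideal.ofList_append, Ideal.ofList_singleton]
    intro i hi
    obtain ⟨j, rfl⟩ : ∃ j, i = j + 1 := ⟨i - 1, by omega⟩
    have hS := sesS_shortExact (Ideal.ofList xs) x hxA
    obtain ⟨-, -, δ, w₁, w₂, e1, e2⟩ := hasLES_T N (sesS (Ideal.ofList xs) x) hS j
    have hm : Mono δ := e1.mono_g ((hz (j+1) (by omega)).eq_of_src _ _)
    rcases Nat.eq_zero_or_pos j with rfl | hj
    · have hmono0 : Mono ((T N 0).map (x • 𝟙 (ModuleCat.of A (A ⧸ Ideal.ofList xs)))) := by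
        rw [mono_map_smul_iff, regular_t0_iff]
        exact hxN
      have hmono : Mono ((T N 0).map (sesS (Ideal.ofList xs) x).f) := hmono0
      have hδ : δ = 0 := by
        rw [← cancel_mono ((T N 0).map (sesS (Ideal.ofList xs) x).f), w₂, zero_comp]
      exact IsZero.of_mono_eq_zero δ hδ
    · exact IsZero.of_mono δ (hz j hj)

/-- Conversely, over a Noetherian local ring, for a finite module and elements of the maximal
ideal, vanishing of the higher Tor modules gives regularity. -/
theorem backward [IsNoetherianRing A] [IsLocalRing A] [Module.Finite A N] (xs : List A)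
    (hA : RingTheory.Sequence.IsWeaklyRegular A xs)
    (hm : ∀ y ∈ xs, y ∈ IsLocalRing.maximalIdeal A)
    (hz : ∀ i, 0 < i → IsZero ((T N i).obj (ModuleCat.of A (A ⧸ Ideal.ofList xs)))) :
    RingTheory.Sequence.IsWeaklyRegular N xs := by
  induction xs using List.reverseRecOn with
  | nil => exact RingTheory.Sequence.IsWeaklyRegular.nil A N
  | append_singleton xs x ih =>
    obtain ⟨hA1, hxA⟩ := regA xs x hA
    rw [Ideal.ofList_append, Ideal.ofList_singleton] at hz
    have hxm : x ∈ IsLocalRing.maximalIdeal A := hm x (by simp)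
    have hS := sesS_shortExact (Ideal.ofList xs) x hxA
    have hz' : ∀ i, 0 < i → IsZero ((T N i).obj (ModuleCat.of A (A ⧸ Ideal.ofList xs))) := by
      intro i hi
      obtain ⟨-, h1, -⟩ := hasLES_T N (sesS (Ideal.ofList xs) x) hS i
      have hepi : Epi ((T N i).map (sesS (Ideal.ofList xs) x).f) :=
        (h1 (by rw [← Functor.map_comp, (sesS (Ideal.ofList xs) x).zero]; exact
          ((hz i hi).eq_of_tgt _ _))).epi_f ((hz i hi).eq_of_tgt _ _)
      have hepi0 : Epi ((T N i).map (x • 𝟙 (ModuleCat.of A (A ⧸ Ideal.ofList xs)))) := hepi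
      rw [epi_map_smul_iff] at hepi0
      haveI : Module.Finite A ((T N i).obj (ModuleCat.of A (A ⧸ Ideal.ofList xs))) :=
        Groth.Agent.S6315.result A N (A ⧸ Ideal.ofList xs) i
      have hle : (⊤ : Submodule A ((T N i).obj (ModuleCat.of A (A ⧸ Ideal.ofList xs)))) ≤
          Ideal.span {x} • ⊤ := by
        intro t _
        obtain ⟨t', rfl⟩ := hepi0 t
        exact Submodule.smul_mem_smul (Ideal.subset_span rfl) Submodule.mem_top
      have hjac : Ideal.span {x} ≤ (⊥ : Ideal A).jacobson := by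
        rw [IsLocalRing.jacobson_eq_maximalIdeal ⊥ bot_ne_top, Ideal.span_le]
        rintro y rfl
        exact hxm
      have hbot := Submodule.eq_bot_of_le_smul_of_le_jacobson_bot (Ideal.span {x}) ⊤
        Module.Finite.fg_top hle hjac
      haveI : Subsingleton ((T N i).obj (ModuleCat.of A (A ⧸ Ideal.ofList xs))) :=
        ⟨fun a b => by
          have ha : a ∈ (⊤ : Submodule A ((T N i).obj (ModuleCat.of A (A ⧸ Ideal.ofList xs)))) :=
            Submodule.mem_top
          have hb : b ∈ (⊤ : Submodule A ((T N i).obj (ModuleCat.of A (A ⧸ Ideal.ofList xs)))) :=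
            Submodule.mem_top
          rw [hbot, Submodule.mem_bot] at ha hb
          rw [ha, hb]⟩
      exact ModuleCat.isZero_of_subsingleton _
    have hN1 := ih hA1 (fun y hy => hm y (by simp [hy])) hz'
    refine (RingTheory.Sequence.isWeaklyRegular_append_iff N xs [x]).2 ⟨hN1, ?_⟩
    rw [RingTheory.Sequence.isWeaklyRegular_singleton_iff, ← regular_t0_iff, ← mono_map_smul_iff]
    obtain ⟨-, -, δ, w₁, w₂, e1, e2⟩ := hasLES_T N (sesS (Ideal.ofList xs) x) hS 0
    have hmono : Mono ((T N 0).map (sesS (Ideal.ofList xs) x).f) :=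
      e2.mono_g ((hz 1 Nat.one_pos).eq_of_src _ _)
    exact hmono

end Groth.Agent.H82.TorReg2
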