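import Mathlib
import Groth.Agent.H82.TorSymm
import Groth.Agent.H82.TorColim
import Groth.Agent.H82.TorFlat

set_option linter.unusedSectionVars false
set_option linter.unusedVariables false
set_option linter.style.haveILetI false
set_option backward.isDefEq.respectTransparency false

/-!
# Dimension shifting for `Tor` of maps in the first variable
-/

universe u

open CategoryTheory

namespace Groth.Agent.H82.TorShift

section TorPart

variable {R : Type u} [CommRing R]

open CategoryTheory MonoidalCategory Groth.Agent.H82.LDer Groth.Agent.H82 Groth.Agent.H82.TorLib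

/-- `Tor_{n+1}(α, N) = 0` for all `N`. -/
def TorCond {M M' : ModuleCat.{u} R} (α : M ⟶ M') (n : ℕ) : Prop :=
  ∀ N : ModuleCat.{u} R, ((Tor (ModuleCat.{u} R) (n + 1)).map α).app N = 0

theorem tor_flip_map_zero_iff (n : ℕ) {Mc M'c : ModuleCat.{u} R} (a : Mc ⟶ M'c)
    (Nc : ModuleCat.{u} R) :
    ((Tor (ModuleCat.{u} R) n).map a).app Nc = 0 ↔
      ((Tor (ModuleCat.{u} R) n).obj Nc).map a = 0 := by
  obtain ⟨e⟩ := TorSymm.nonempty_tor_iso_flip (A := R) n
  have h1 := congrArg (fun t => t.app Nc) (e.hom.naturality a)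
  simp only [NatTrans.comp_app] at h1
  have h2 : ((Tor (ModuleCat.{u} R) n).flip.map a).app Nc =
      ((Tor (ModuleCat.{u} R) n).obj Nc).map a := rfl
  rw [h2] at h1
  let i₁ : ((Tor (ModuleCat.{u} R) n).obj Mc).obj Nc ≅ ((Tor (ModuleCat.{u} R) n).flip.obj Mc).obj Nc :=
    (e.app Mc).app Nc
  let i₂ : ((Tor (ModuleCat.{u} R) n).obj M'c).obj Nc ≅
      ((Tor (ModuleCat.{u} R) n).flip.obj M'c).obj Nc := (e.app M'c).app Nc
  have h3 : ((Tor (ModuleCat.{u} R) n).map a).app Nc ≫ i₂.hom =
      i₁.hom ≫ ((Tor (ModuleCat.{u} R) n).obj Nc).map a := h1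
  constructor
  · intro h
    rw [h, Limits.zero_comp] at h3
    have h4 : ((Tor (ModuleCat.{u} R) n).obj Nc).map a =
        i₁.inv ≫ (i₁.hom ≫ ((Tor (ModuleCat.{u} R) n).obj Nc).map a) := by
      rw [Iso.inv_hom_id_assoc]
    rw [h4, ← h3, Limits.comp_zero]
  · intro h
    rw [h, Limits.comp_zero] at h3
    have h4 : ((Tor (ModuleCat.{u} R) n).map a).app Nc =
        (((Tor (ModuleCat.{u} R) n).map a).app Nc ≫ i₂.hom) ≫ i₂.inv := by
      rw [Category.assoc, Iso.hom_inv_id, Category.comp_id]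
    rw [h4, h3, Limits.zero_comp]

theorem torCond_step {S S' : ShortComplex (ModuleCat.{u} R)} (hS : S.ShortExact)
    (hS' : S'.ShortExact) [Projective S.X₂] [Projective S'.X₂] (φ : S ⟶ S') (n : ℕ) :
    TorCond φ.τ₃ (n + 1) ↔ TorCond φ.τ₁ n := by
  constructor
  · intro h N
    rw [tor_flip_map_zero_iff]
    have h0 := (tor_flip_map_zero_iff (n + 1 + 1) φ.τ₃ N).mp (h N)
    let t := TorColim.natLES_tor N
    have hnat := t.δ_nat φ hS hS' (n + 1)
    rw [h0, Limits.zero_comp] at hnat
    have hex := t.exact₁ S hS (n + 1)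
    have hz : Limits.IsZero (((Tor (ModuleCat.{u} R) (n + 1)).obj N).obj S.X₂) :=
      vanish_tor N n S.X₂ inferInstance
    haveI : Epi (t.δ S hS (n + 1)) := hex.epi_f (hz.eq_of_tgt _ _)
    exact (cancel_epi (t.δ S hS (n + 1))).1 (by rw [hnat, Limits.comp_zero])
  · intro h N
    rw [tor_flip_map_zero_iff]
    have h0 := (tor_flip_map_zero_iff (n + 1) φ.τ₁ N).mp (h N)
    let t := TorColim.natLES_tor N
    have hnat := t.δ_nat φ hS hS' (n + 1)
    rw [h0, Limits.comp_zero] at hnat
    have hex := t.exact₃ S' hS' (n + 1)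
    have hz : Limits.IsZero (((Tor (ModuleCat.{u} R) (n + 1 + 1)).obj N).obj S'.X₂) :=
      vanish_tor N (n + 1) S'.X₂ inferInstance
    haveI : Mono (t.δ S' hS' (n + 1)) := hex.mono_g (hz.eq_of_src _ _)
    exact (cancel_mono (t.δ S' hS' (n + 1))).1 (by rw [← hnat, Limits.zero_comp])

/-- `Tor_{n+1}(P, N) = 0` for `P` projective (first variable). -/
theorem isZero_tor_of_projective_left (P N : ModuleCat.{u} R) [Projective P] (n : ℕ) :
    Limits.IsZero (((Tor (ModuleCat.{u} R) (n + 1)).obj P).obj N) := by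
  obtain ⟨e⟩ := TorSymm.nonempty_tor_iso_flip (A := R) (n + 1)
  exact (vanish_tor N n P inferInstance).of_iso ((e.app P).app N)

theorem torCond_of_factors {M M' P : ModuleCat.{u} R} [Projective P] (g : M ⟶ P) (π : P ⟶ M')
    (n : ℕ) : TorCond (g ≫ π) n := by
  intro N
  rw [Functor.map_comp, NatTrans.comp_app,
    (isZero_tor_of_projective_left P N n).eq_of_tgt
      (((Tor (ModuleCat.{u} R) (n + 1)).map g).app N) 0, Limits.zero_comp]

end TorPart

end Groth.Agent.H82.TorShift
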