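import Mathlib
import Groth.Agent.H82.TorBC
import Groth.Agent.H82.TorFlat

/-!
# Flat base change for `Abelian.Ext` of finitely generated modules over a Noetherian ring

`isBaseChange_l` : for `A` Noetherian, `B` flat over `A`, `M` finite, the natural map
`Ext^r_A(M, N) → Ext^r_B(E M, E N)` (`E` = extension of scalars) is a base change.
-/

set_option autoImplicit false

universe u

open CategoryTheory CategoryTheory.Limits TensorProduct

namespace Groth.Agent.H82.ExtBC

open Groth.Agent.H82.TorBC Groth.Agent.H82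

variable (A B : Type u) [CommRing A] [CommRing B] [Algebra A B]

instance : PreservesFiniteColimits (E A B) := by
  have : PreservesColimitsOfSize.{0, 0} (E A B) :=
    (ModuleCat.extendRestrictScalarsAdj (algebraMap A B)).leftAdjoint_preservesColimits
  exact PreservesColimitsOfSize.preservesFiniteColimits _

/-- The `A`-module structure on `Ext` groups over `B`. -/
@[reducible] noncomputable def extModule (X Y : ModuleCat.{u} B) (n : ℕ) :
    Module A (Abelian.Ext X Y n) :=
  Module.compHom _ (algebraMap A B)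

attribute [local instance] extModule

instance instIsScalarTowerExt (X Y : ModuleCat.{u} B) (n : ℕ) :
    IsScalarTower A B (Abelian.Ext X Y n) :=
  IsScalarTower.of_algebraMap_smul fun _ _ => rfl

theorem E_map_smul (a : A) (N : Type u) [AddCommGroup N] [Module A N] :
    (E A B).map (a • 𝟙 (ModuleCat.of A N)) =
      (algebraMap A B a) • 𝟙 ((E A B).obj (ModuleCat.of A N)) := by
  have key : ∀ t : B ⊗[A] N, ((E A B).map (a • 𝟙 (ModuleCat.of A N))).hom (bcEquiv A B N t) =
      bcEquiv A B N (algebraMap A B a • t) := by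
    intro t
    induction t using TensorProduct.induction_on with
    | zero => simp
    | tmul b y =>
      show bcEquiv A B N (b ⊗ₜ (a • y)) = _
      congr 1
      rw [TensorProduct.smul_tmul', algebraMap_smul, TensorProduct.smul_tmul]
    | add x y hx hy => simp only [map_add, smul_add, hx, hy]
  apply ModuleCat.hom_ext
  apply LinearMap.ext
  intro x
  obtain ⟨t, rfl⟩ := (bcEquiv A B N).surjective x
  rw [key t, map_smul]
  rfl

variable [Module.Flat A B]

/-- The base change map on `Ext` groups, as an `A`-linear map. -/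
noncomputable def l (X : ModuleCat.{u} A) (N : Type u) [AddCommGroup N] [Module A N] (n : ℕ) :
    Abelian.Ext X (ModuleCat.of A N) n →ₗ[A]
      Abelian.Ext ((E A B).obj X) ((E A B).obj (ModuleCat.of A N)) n where
  toFun e := e.mapExactFunctor (E A B)
  map_add' a b := Abelian.Ext.mapExactFunctor_add (E A B) _ _ _ a b
  map_smul' a e := by
    show (a • e).mapExactFunctor (E A B) = (algebraMap A B a) • e.mapExactFunctor (E A B)
    rw [Abelian.Ext.smul_eq_comp_mk₀, Abelian.Ext.mapExactFunctor_comp,
      Abelian.Ext.mapExactFunctor_mk₀, E_map_smul, ← Abelian.Ext.smul_eq_comp_mk₀]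

theorem l_apply (X : ModuleCat.{u} A) (N : Type u) [AddCommGroup N] [Module A N] (n : ℕ)
    (e : Abelian.Ext X (ModuleCat.of A N) n) : l A B X N n e = e.mapExactFunctor (E A B) := rfl

section Step

variable {A B}
variable (N : Type u) [AddCommGroup N] [Module A N]

/-- The induction step: right exactness. -/
theorem isBaseChange_step (S : ShortComplex (ModuleCat.{u} A)) (hS : S.ShortExact)
    [Projective S.X₂] (r : ℕ)
    (h₂ : IsBaseChange B (l A B S.X₂ N r)) (h₁ : IsBaseChange B (l A B S.X₁ N r)) :
    IsBaseChange B (l A B S.X₃ N (r + 1)) := by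
  have hr : 1 + r = r + 1 := add_comm 1 r
  have hS' : (S.map (E A B)).ShortExact := hS.map_of_exact (E A B)
  have : Projective (S.map (E A B)).X₂ := E_projective A B _ inferInstance
  refine IsBaseChange.of_right_exact B (l A B S.X₂ N r) (l A B S.X₁ N r) (l A B S.X₃ N (r + 1))
    (f := (Abelian.Ext.mk₀ S.f).precompOfLinear A (ModuleCat.of A N) (zero_add r))
    (g := hS.extClass.precompOfLinear A (ModuleCat.of A N) hr)
    (f' := (Abelian.Ext.mk₀ (S.map (E A B)).f).precompOfLinear B
      ((E A B).obj (ModuleCat.of A N)) (zero_add r))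
    (g' := hS'.extClass.precompOfLinear B ((E A B).obj (ModuleCat.of A N)) hr)
    ?_ ?_ h₂ h₁ ?_ ?_ ?_ ?_
  · -- comm₁
    apply LinearMap.ext
    intro x
    show ((Abelian.Ext.mk₀ S.f).comp x (zero_add r)).mapExactFunctor (E A B) =
      (Abelian.Ext.mk₀ ((E A B).map S.f)).comp (x.mapExactFunctor (E A B)) (zero_add r)
    rw [Abelian.Ext.mapExactFunctor_comp, Abelian.Ext.mapExactFunctor_mk₀]
  · -- comm₂
    apply LinearMap.ext
    intro x
    show (hS.extClass.comp x hr).mapExactFunctor (E A B) =
      hS'.extClass.comp (x.mapExactFunctor (E A B)) hr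
    rw [Abelian.Ext.mapExactFunctor_comp, Abelian.Ext.mapExactFunctor_extClass]
    rfl
  · -- exact₁
    intro y
    constructor
    · intro hy
      obtain ⟨x, hx⟩ := Abelian.Ext.contravariant_sequence_exact₁ hS (ModuleCat.of A N) y hr hy
      exact ⟨x, hx⟩
    · rintro ⟨x, rfl⟩
      exact hS.extClass_comp_assoc x (h := hr)
  · -- surj₁
    intro z
    obtain ⟨y, hy⟩ := Abelian.Ext.contravariant_sequence_exact₃ hS (ModuleCat.of A N) z
      (Abelian.Ext.eq_zero_of_projective _) hr
    exact ⟨y, hy⟩
  · -- exact₂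
    intro y
    constructor
    · intro hy
      obtain ⟨x, hx⟩ := Abelian.Ext.contravariant_sequence_exact₁ hS'
        ((E A B).obj (ModuleCat.of A N)) y hr hy
      exact ⟨x, hx⟩
    · rintro ⟨x, rfl⟩
      exact hS'.extClass_comp_assoc x (h := hr)
  · -- surj₂
    intro z
    obtain ⟨y, hy⟩ := Abelian.Ext.contravariant_sequence_exact₃ hS'
      ((E A B).obj (ModuleCat.of A N)) z (Abelian.Ext.eq_zero_of_projective _) hr
    exact ⟨y, hy⟩

end Step

section Base

variable (M N : Type u) [AddCommGroup M] [Module A M] [AddCommGroup N] [Module A N]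

theorem linearEquiv₀_mk₀ {R : Type u} [CommRing R] {X Y : ModuleCat.{u} R} (ψ : X ⟶ Y) :
    Abelian.Ext.linearEquiv₀ (R := R) (Abelian.Ext.mk₀ ψ) = ψ := by
  rw [← Abelian.Ext.linearEquiv₀_symm_apply (R := R), LinearEquiv.apply_symm_apply]

/-- `Ext⁰` as linear maps. -/
noncomputable def eM :
    Abelian.Ext (ModuleCat.of A M) (ModuleCat.of A N) 0 ≃ₗ[A] (M →ₗ[A] N) :=
  (Abelian.Ext.linearEquiv₀ (R := A)) ≪≫ₗ ModuleCat.homLinearEquiv (S := A)

/-- `Ext⁰` over `B` as linear maps between the standard base changes. -/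
noncomputable def eN :
    Abelian.Ext ((E A B).obj (ModuleCat.of A M)) ((E A B).obj (ModuleCat.of A N)) 0 ≃ₗ[B]
      (B ⊗[A] M →ₗ[B] B ⊗[A] N) :=
  (Abelian.Ext.linearEquiv₀ (R := B)) ≪≫ₗ ModuleCat.homLinearEquiv (S := B) ≪≫ₗ
    LinearEquiv.arrowCongr (bcEquiv A B M).symm (bcEquiv A B N).symm

theorem bc_map (φ : ModuleCat.of A M ⟶ ModuleCat.of A N) (t : B ⊗[A] M) :
    bcEquiv A B N (φ.hom.baseChange B t) = ((E A B).map φ).hom (bcEquiv A B M t) := by
  induction t using TensorProduct.induction_on with
  | zero => simp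
  | tmul b m => rfl
  | add x y hx hy => simp only [map_add, hx, hy]

theorem isBaseChange_zero [Module.FinitePresentation A M] :
    IsBaseChange B (l A B (ModuleCat.of A M) N 0) := by
  have h0 := Module.FinitePresentation.isBaseChange_map A M N B
  refine (IsBaseChange.iff_of_equiv_comm (eM A M N) (eN A B M N) ?_).2 h0
  apply LinearMap.ext
  intro x
  obtain ⟨φ, rfl⟩ := (Abelian.Ext.mk₀_bijective _ _).2 x
  show LinearMap.baseChangeHom A B M N (eM A M N (Abelian.Ext.mk₀ φ)) =
    eN A B M N ((Abelian.Ext.mk₀ φ).mapExactFunctor (E A B))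
  rw [Abelian.Ext.mapExactFunctor_mk₀]
  have e1 : eM A M N (Abelian.Ext.mk₀ φ) = φ.hom := by
    show ModuleCat.homLinearEquiv (S := A) (Abelian.Ext.linearEquiv₀ (R := A) (Abelian.Ext.mk₀ φ)) = _
    rw [linearEquiv₀_mk₀]
    rfl
  have e2 : eN A B M N (Abelian.Ext.mk₀ ((E A B).map φ)) =
      LinearEquiv.arrowCongr (bcEquiv A B M).symm (bcEquiv A B N).symm ((E A B).map φ).hom := by
    show LinearEquiv.arrowCongr (bcEquiv A B M).symm (bcEquiv A B N).symm
      (ModuleCat.homLinearEquiv (S := B) (Abelian.Ext.linearEquiv₀ (R := B)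
        (Abelian.Ext.mk₀ ((E A B).map φ)))) = _
    rw [linearEquiv₀_mk₀]
    rfl
  rw [e1, e2]
  apply LinearMap.ext
  intro t
  rw [LinearEquiv.arrowCongr_apply, LinearEquiv.symm_symm]
  apply (bcEquiv A B N).injective
  rw [LinearEquiv.apply_symm_apply]
  exact bc_map A B M N φ t

end Base

/-- Flat base change for `Ext` of finite modules over a Noetherian ring. -/
theorem isBaseChange_l [IsNoetherianRing A] (N : Type u) [AddCommGroup N] [Module A N] (r : ℕ) :
    ∀ (M : Type u) [AddCommGroup M] [Module A M] [Module.Finite A M],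
      IsBaseChange B (l A B (ModuleCat.of A M) N r) := by
  induction r with
  | zero =>
    intro M _ _ _
    haveI := Module.finitePresentation_of_finite A M
    exact isBaseChange_zero A B M N
  | succ r ih =>
    intro M _ _ _
    obtain ⟨n, p, hp⟩ := Module.Finite.exists_fin' A M
    have hS := TorFlat.shortExact_of (A := A) (LinearMap.ker p).subtype p
      (Submodule.injective_subtype _) hp (LinearMap.exact_subtype_ker_map p)
    haveI hP : Projective (ModuleCat.of A (Fin n → A)) :=
      (IsProjective.iff_projective (R := A) (Fin n → A)).1 inferInstance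
    haveI : Projective (ModuleCat.shortComplexOfCompEqZero (LinearMap.ker p).subtype p
        (LinearMap.exact_subtype_ker_map p).linearMap_comp_eq_zero).X₂ := hP
    exact isBaseChange_step N _ hS r (ih (Fin n → A)) (ih (LinearMap.ker p))

/-- Transport of `Ext` along isomorphisms, as a linear equivalence. -/
noncomputable def extCongr {R : Type u} [CommRing R] {X X' Y Y' : ModuleCat.{u} R}
    (iX : X' ≅ X) (iY : Y ≅ Y') (n : ℕ) :
    Abelian.Ext X Y n ≃ₗ[R] Abelian.Ext X' Y' n where
  toFun e := (Abelian.Ext.mk₀ iX.hom).comp (e.comp (Abelian.Ext.mk₀ iY.hom) (add_zero n)) (zero_add n)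
  invFun e := (Abelian.Ext.mk₀ iX.inv).comp (e.comp (Abelian.Ext.mk₀ iY.inv) (add_zero n)) (zero_add n)
  map_add' a b := by simp
  map_smul' a b := by simp
  left_inv e := by
    simp
  right_inv e := by
    simp

end Groth.Agent.H82.ExtBC
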