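import Mathlib

set_option linter.unusedSectionVars false
set_option linter.unusedVariables false
set_option linter.style.haveILetI false
set_option backward.isDefEq.respectTransparency false

universe v u

open CategoryTheory CategoryTheory.Limits

namespace Groth.Agent.H82.FinFreeRes

section General

variable {C : Type u} [Category.{v} C] [Abelian C]

/-- A projective resolution from an augmented exact sequence of projectives. -/
noncomputable def ofExact {Z : C} (X : ℕ → C) (d : ∀ n, X (n+1) ⟶ X n)
    (sq : ∀ n, d (n+1) ≫ d n = 0) (ε : X 0 ⟶ Z) (hε : d 0 ≫ ε = 0) (hepi : Epi ε)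
    (h0 : (ShortComplex.mk (d 0) ε hε).Exact)
    (hn : ∀ n, (ShortComplex.mk (d (n+1)) (d n) (sq n)).Exact)
    (proj : ∀ n, Projective (X n)) : ProjectiveResolution Z where
  complex := ChainComplex.of X d sq
  projective := proj
  π := (ChainComplex.toSingle₀Equiv _ _).symm ⟨ε, by
    have h : (ChainComplex.of X d sq).d 1 0 = d 0 := ChainComplex.of_d X d 0
    rw [h]; exact hε⟩
  quasiIso := ⟨fun n => by
    cases n with
    | zero =>
      rw [ChainComplex.quasiIsoAt₀_iff, ShortComplex.quasiIso_iff_of_zeros']
      · dsimp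
        refine (ShortComplex.exact_and_epi_g_iff_of_iso ?_).2 ⟨h0, hepi⟩
        exact ShortComplex.isoMk (Iso.refl _) (Iso.refl _) (Iso.refl _)
          (by
            have h : ChainComplex.of.d X d 1 0 = d 0 := ChainComplex.of_d X d 0
            simp [h])
          (by
            have h := ChainComplex.toSingle₀Equiv_symm_apply_f_zero (C := ChainComplex.of X d sq)
              ε (by
                have h : (ChainComplex.of X d sq).d 1 0 = d 0 := ChainComplex.of_d X d 0
                rw [h]; exact hε)
            simp [h])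
      all_goals rfl
    | succ n =>
      rw [quasiIsoAt_iff_exactAt']
      · rw [HomologicalComplex.exactAt_iff' _ (n + 1 + 1) (n + 1) n (by simp) (by simp)]
        refine ShortComplex.exact_of_iso ?_ (hn n)
        exact ShortComplex.isoMk (Iso.refl _) (Iso.refl _) (Iso.refl _)
          (by simp [ChainComplex.of_d]) (by simp [ChainComplex.of_d])
      · apply ChainComplex.exactAt_succ_single_obj⟩

theorem ofExact_X {Z : C} (X : ℕ → C) (d : ∀ n, X (n+1) ⟶ X n)
    (sq : ∀ n, d (n+1) ≫ d n = 0) (ε : X 0 ⟶ Z) (hε : d 0 ≫ ε = 0) (hepi : Epi ε)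
    (h0 : (ShortComplex.mk (d 0) ε hε).Exact)
    (hn : ∀ n, (ShortComplex.mk (d (n+1)) (d n) (sq n)).Exact)
    (proj : ∀ n, Projective (X n)) (n : ℕ) :
    (ofExact X d sq ε hε hepi h0 hn proj).complex.X n = X n := rfl

end General

section Noeth

variable (R : Type u) [CommRing R] [IsNoetherianRing R]

/-- A finite module. -/
structure FinMod where
  carrier : ModuleCat.{u} R
  fin : Module.Finite R carrier

variable {R}

namespace FinMod

/-- The rank of a chosen finite free cover. -/
noncomputable def rank (K : FinMod R) : ℕ :=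
  haveI := K.fin
  (Module.Finite.exists_fin' R K.carrier).choose

/-- The chosen free module. -/
noncomputable def F (K : FinMod R) : ModuleCat.{u} R := ModuleCat.of R (Fin K.rank → R)

/-- The chosen cover. -/
noncomputable def πlin (K : FinMod R) : (Fin K.rank → R) →ₗ[R] K.carrier :=
  haveI := K.fin
  (Module.Finite.exists_fin' R K.carrier).choose_spec.choose

theorem πlin_surjective (K : FinMod R) : Function.Surjective K.πlin :=
  haveI := K.fin
  (Module.Finite.exists_fin' R K.carrier).choose_spec.choose_spec

/-- The chosen cover as a morphism. -/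
noncomputable def π (K : FinMod R) : K.F ⟶ K.carrier := ModuleCat.ofHom K.πlin

/-- The kernel of the chosen cover. -/
noncomputable def next (K : FinMod R) : FinMod R where
  carrier := ModuleCat.of R (LinearMap.ker K.πlin)
  fin := inferInstanceAs (Module.Finite R (LinearMap.ker K.πlin))

/-- The inclusion of the kernel. -/
noncomputable def ι (K : FinMod R) : K.next.carrier ⟶ K.F :=
  ModuleCat.ofHom (LinearMap.ker K.πlin).subtype

/-- The differential. -/
noncomputable def dK (K : FinMod R) : K.next.F ⟶ K.F := K.next.π ≫ K.ι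

theorem ι_π (K : FinMod R) : K.ι ≫ K.π = 0 := by
  ext x
  exact x.2

theorem dK_π (K : FinMod R) : K.dK ≫ K.π = 0 := by
  rw [dK, Category.assoc, ι_π, comp_zero]

theorem dK_dK (K : FinMod R) : K.next.dK ≫ K.dK = 0 := by
  rw [dK, dK, Category.assoc, reassoc_of% (ι_π K.next), zero_comp, comp_zero]

theorem exact_dK_π (K : FinMod R) : (ShortComplex.mk K.dK K.π K.dK_π).Exact := by
  rw [ShortComplex.moduleCat_exact_iff]
  intro x hx
  obtain ⟨y, hy⟩ := K.next.πlin_surjective ⟨x, hx⟩
  refine ⟨y, ?_⟩
  show (K.ι.hom (K.next.π.hom y)) = x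
  have : K.next.π.hom y = ⟨x, hx⟩ := hy
  rw [this]
  rfl

theorem exact_dK_dK (K : FinMod R) : (ShortComplex.mk K.next.dK K.dK K.dK_dK).Exact := by
  rw [ShortComplex.moduleCat_exact_iff]
  intro x hx
  have hx' : K.next.πlin x = 0 := by
    have h1 : K.ι.hom (K.next.π.hom x) = 0 := hx
    have h2 : (LinearMap.ker K.πlin).subtype (K.next.πlin x) = 0 := h1
    exact (LinearMap.ker K.πlin).injective_subtype (by rw [h2, map_zero])
  obtain ⟨y, hy⟩ := K.next.next.πlin_surjective ⟨x, hx'⟩
  refine ⟨y, ?_⟩
  show (K.next.ι.hom (K.next.next.π.hom y)) = x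
  have : K.next.next.π.hom y = ⟨x, hx'⟩ := hy
  rw [this]
  rfl

instance (K : FinMod R) : Projective K.F :=
  inferInstanceAs (Projective (ModuleCat.of R (Fin K.rank → R)))

/-- The sequence of syzygies. -/
noncomputable def stage (K : FinMod R) : ℕ → FinMod R
  | 0 => K
  | n + 1 => (stage K n).next

end FinMod

/-- A resolution by finite free modules. -/
noncomputable def finFreeRes (K : FinMod R) : ProjectiveResolution K.carrier :=
  ofExact (fun n => (K.stage n).F) (fun n => (K.stage n).dK) (fun n => (K.stage n).dK_dK)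
    K.π K.dK_π ((ModuleCat.epi_iff_surjective _).mpr K.πlin_surjective) K.exact_dK_π
    (fun n => (K.stage n).exact_dK_dK) (fun n => inferInstance)

theorem finFreeRes_finite (K : FinMod R) (n : ℕ) :
    Module.Finite R ((finFreeRes K).complex.X n) :=
  inferInstanceAs (Module.Finite R (Fin (K.stage n).rank → R))

theorem finFreeRes_free (K : FinMod R) (n : ℕ) :
    Module.Free R ((finFreeRes K).complex.X n) :=
  inferInstanceAs (Module.Free R (Fin (K.stage n).rank → R))

theorem exists_finFreeRes (M : ModuleCat.{u} R) [Module.Finite R M] :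
    ∃ F : ProjectiveResolution M,
      ∀ n : ℕ, Module.Finite R (F.complex.X n) ∧ Module.Free R (F.complex.X n) :=
  ⟨finFreeRes ⟨M, inferInstance⟩, fun n => ⟨finFreeRes_finite _ n, finFreeRes_free _ n⟩⟩

end Noeth

end Groth.Agent.H82.FinFreeRes
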