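import Mathlib
import Groth.Agent.H82.TorBC

set_option linter.unusedSectionVars false
set_option linter.unusedVariables false
set_option linter.style.haveILetI false
set_option backward.isDefEq.respectTransparency false

universe u

open CategoryTheory CategoryTheory.Limits MonoidalCategory TensorProduct

namespace Groth.Agent.H82.TorBC2

open Groth.Agent.H82.LDer Groth.Agent.H82.TorLib

section Ladder

theorem exact_of_ladder {M N P M' N' P' : Type*} [Zero P] [Zero P'] (f : M → N) (g : N → P)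
    (f' : M' → N') (g' : N' → P') (e₁ : M ≃ M') (e₂ : N ≃ N') (e₃ : P ≃ P') (h3 : e₃ 0 = 0)
    (h₁ : ∀ x, e₂ (f x) = f' (e₁ x)) (h₂ : ∀ x, e₃ (g x) = g' (e₂ x))
    (H : Function.Exact f g) : Function.Exact f' g' := by
  intro y'
  obtain ⟨y, rfl⟩ := e₂.surjective y'
  rw [← h₂, ← h3, e₃.apply_eq_iff_eq, H y]
  constructor
  · rintro ⟨x, rfl⟩
    exact ⟨e₁ x, (h₁ x).symm⟩
  · rintro ⟨x', hx'⟩
    obtain ⟨x, rfl⟩ := e₁.surjective x'
    rw [← h₁] at hx'
    exact ⟨x, e₂.injective hx'⟩

end Ladder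

section LinAlg

variable {A A' : Type u} [CommRing A] [CommRing A'] [Algebra A A']

/-- `X ⊗[A] Q ≃ Q ⊗[A'] (A' ⊗[A] X)`. -/
noncomputable def swapEquiv (X : Type u) [AddCommGroup X] [Module A X] (Q : Type u)
    [AddCommGroup Q] [Module A' Q] [Module A Q] [IsScalarTower A A' Q] :
    X ⊗[A] Q ≃ Q ⊗[A'] (A' ⊗[A] X) :=
  (TensorProduct.comm A X Q).toEquiv.trans
    (AlgebraTensorModule.cancelBaseChange A A' A' Q X).symm.toEquiv

theorem swapEquiv_tmul (X : Type u) [AddCommGroup X] [Module A X] (Q : Type u)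
    [AddCommGroup Q] [Module A' Q] [Module A Q] [IsScalarTower A A' Q] (x : X) (q : Q) :
    swapEquiv (A := A) (A' := A') X Q (x ⊗ₜ q) = q ⊗ₜ[A'] ((1 : A') ⊗ₜ[A] x) := rfl

theorem swapEquiv_add (X : Type u) [AddCommGroup X] [Module A X] (Q : Type u)
    [AddCommGroup Q] [Module A' Q] [Module A Q] [IsScalarTower A A' Q] (s t : X ⊗[A] Q) :
    swapEquiv (A := A) (A' := A') X Q (s + t) = swapEquiv (A := A) (A' := A') X Q s +
      swapEquiv (A := A) (A' := A') X Q t := by
  simp [swapEquiv]

theorem swapEquiv_zero (X : Type u) [AddCommGroup X] [Module A X] (Q : Type u)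
    [AddCommGroup Q] [Module A' Q] [Module A Q] [IsScalarTower A A' Q] :
    swapEquiv (A := A) (A' := A') X Q 0 = 0 := by
  simp [swapEquiv]

theorem swapEquiv_natural {X Y : Type u} [AddCommGroup X] [Module A X] [AddCommGroup Y]
    [Module A Y] (f : X →ₗ[A] Y) (Q : Type u)
    [AddCommGroup Q] [Module A' Q] [Module A Q] [IsScalarTower A A' Q] (t : X ⊗[A] Q) :
    swapEquiv (A := A) (A' := A') Y Q (f.rTensor Q t) =
      (f.baseChange A').lTensor Q (swapEquiv (A := A) (A' := A') X Q t) := by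
  induction t using TensorProduct.induction_on with
  | zero => simp [swapEquiv_zero]
  | tmul x q => simp [swapEquiv_tmul]
  | add s t hs ht => simp only [map_add, swapEquiv_add, hs, ht]

/-- `X ⊗[A] A' ≃ A' ⊗[A] X`. -/
theorem exact_baseChange_of_exact_rTensor {X₂ X₁ X₀ : Type u} [AddCommGroup X₂] [Module A X₂]
    [AddCommGroup X₁] [Module A X₁] [AddCommGroup X₀] [Module A X₀] (f : X₂ →ₗ[A] X₁)
    (g : X₁ →ₗ[A] X₀) (h : Function.Exact (f.rTensor A') (g.rTensor A')) :
    Function.Exact (f.baseChange A') (g.baseChange A') := by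
  refine exact_of_ladder (f.rTensor A') (g.rTensor A') _ _
    (TensorProduct.comm A X₂ A').toEquiv (TensorProduct.comm A X₁ A').toEquiv
    (TensorProduct.comm A X₀ A').toEquiv (map_zero (TensorProduct.comm A X₀ A')) ?_ ?_ h
  · intro t
    induction t using TensorProduct.induction_on with
    | zero => simp
    | tmul x q => simp
    | add s t hs ht => simp only [map_add, LinearEquiv.coe_toEquiv] at hs ht ⊢; rw [hs, ht]
  · intro t
    induction t using TensorProduct.induction_on with
    | zero => simp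
    | tmul x q => simp
    | add s t hs ht => simp only [map_add, LinearEquiv.coe_toEquiv] at hs ht ⊢; rw [hs, ht]

/-- Exactness after tensoring with `A'` over `A` implies exactness after tensoring with any flat
`A'`-module. -/
theorem exact_rTensor_of_flat {X₂ X₁ X₀ : Type u} [AddCommGroup X₂] [Module A X₂]
    [AddCommGroup X₁] [Module A X₁] [AddCommGroup X₀] [Module A X₀] (f : X₂ →ₗ[A] X₁)
    (g : X₁ →ₗ[A] X₀) (h : Function.Exact (f.rTensor A') (g.rTensor A')) (Q : Type u)
    [AddCommGroup Q] [Module A' Q] [Module A Q] [IsScalarTower A A' Q] [Module.Flat A' Q] :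
    Function.Exact (f.rTensor Q) (g.rTensor Q) := by
  have h1 := exact_baseChange_of_exact_rTensor f g h
  have h2 : Function.Exact ((f.baseChange A').lTensor Q) ((g.baseChange A').lTensor Q) :=
    Module.Flat.lTensor_exact Q h1
  refine exact_of_ladder _ _ (f.rTensor Q) (g.rTensor Q)
    (swapEquiv (A := A) (A' := A') X₂ Q).symm (swapEquiv (A := A) (A' := A') X₁ Q).symm
    (swapEquiv (A := A) (A' := A') X₀ Q).symm ?_ ?_ ?_ h2
  · rw [Equiv.symm_apply_eq, swapEquiv_zero]
  · intro t
    rw [Equiv.symm_apply_eq, swapEquiv_natural, Equiv.apply_symm_apply]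
  · intro t
    rw [Equiv.symm_apply_eq, swapEquiv_natural, Equiv.apply_symm_apply]

end LinAlg

section Cat

variable (A A' : Type u) [CommRing A] [CommRing A'] [Algebra A A']

/-- Restriction of scalars along `A → A'`. -/
noncomputable abbrev Rs : ModuleCat.{u} A' ⥤ ModuleCat.{u} A :=
  ModuleCat.restrictScalars (algebraMap A A')

instance instTowerRs (M : ModuleCat.{u} A') : IsScalarTower A A' ((Rs A A').obj M) :=
  ⟨fun a a' m => by
    show (a • a') • (show M from m) = algebraMap A A' a • (a' • (show M from m))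
    rw [Algebra.smul_def, mul_smul]⟩

theorem isZero_tor_Rs_of_flat (P : ModuleCat.{u} A)
    (hP : ∀ q : ℕ, IsZero (((Tor (ModuleCat.{u} A) (q+1)).obj P).obj (ModuleCat.of A A')))
    (n : ℕ) (Q' : ModuleCat.{u} A') [Module.Flat A' Q'] :
    IsZero (((Tor (ModuleCat.{u} A) (n+1)).obj P).obj ((Rs A A').obj Q')) := by
  let F := projectiveResolution P
  obtain ⟨e⟩ := nonempty_tor_iso_U F (n+1) ((Rs A A').obj Q')
  refine IsZero.of_iso ?_ e
  obtain ⟨e'⟩ := nonempty_tor_iso_U F (n+1) (ModuleCat.of A A')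
  have h0 : IsZero ((U F (n+1)).obj (ModuleCat.of A A')) := (hP n).of_iso e'.symm
  have h0' : ((((tensorRight (ModuleCat.of A A')).mapHomologicalComplex
      (ComplexShape.down ℕ)).obj F.complex).sc' (n+2) (n+1) n).Exact := by
    rw [← HomologicalComplex.exactAt_iff' _ (n+2) (n+1) n (by simp) (by simp),
      HomologicalComplex.exactAt_iff_isZero_homology]
    exact h0
  show IsZero ((((tensorRight ((Rs A A').obj Q')).mapHomologicalComplex
    (ComplexShape.down ℕ)).obj F.complex).homology (n+1))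
  rw [← HomologicalComplex.exactAt_iff_isZero_homology,
    HomologicalComplex.exactAt_iff' _ (n+2) (n+1) n (by simp) (by simp)]
  rw [ShortComplex.ShortExact.moduleCat_exact_iff_function_exact] at h0' ⊢
  haveI : Module.Flat A' ((Rs A A').obj Q') := ‹Module.Flat A' Q'›
  exact exact_rTensor_of_flat (F.complex.d (n+2) (n+1)).hom (F.complex.d (n+1) n).hom h0'
    ((Rs A A').obj Q')

instance : (Rs A A').PreservesHomology :=
  Functor.preservesHomology_of_map_exact _ (fun S hS => by
    rw [ShortComplex.ShortExact.moduleCat_exact_iff_function_exact] at hS ⊢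
    exact hS)

instance : PreservesFiniteLimits (Rs A A') :=
  Functor.preservesFiniteLimits_of_preservesHomology _

instance : PreservesFiniteColimits (Rs A A') :=
  Functor.preservesFiniteColimits_of_preservesHomology _

variable {A A'}

/-- The underlying function of `midEquiv`. -/
noncomputable def midFun (P : Type u) [AddCommGroup P] [Module A P] (Q' : ModuleCat.{u} A') :
    P ⊗[A] ((Rs A A').obj Q') → (Rs A A').obj (ModuleCat.of A' ((A' ⊗[A] P) ⊗[A'] Q')) :=
  fun t => TensorProduct.comm A' Q' (A' ⊗[A] P)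
    (swapEquiv (A := A) (A' := A') P ((Rs A A').obj Q') t)

theorem midFun_tmul (P : Type u) [AddCommGroup P] [Module A P] (Q' : ModuleCat.{u} A')
    (x : P) (q : Q') :
    midFun P Q' (x ⊗ₜ[A] (show (Rs A A').obj Q' from q)) =
      (((1 : A') ⊗ₜ[A] x) ⊗ₜ[A'] q : (A' ⊗[A] P) ⊗[A'] Q') := rfl

theorem midFun_add (P : Type u) [AddCommGroup P] [Module A P] (Q' : ModuleCat.{u} A')
    (s t : P ⊗[A] ((Rs A A').obj Q')) :
    midFun P Q' (s + t) = midFun P Q' s + midFun P Q' t := by
  exact (congrArg (TensorProduct.comm A' Q' (A' ⊗[A] P))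
    (swapEquiv_add (A := A) (A' := A') P ((Rs A A').obj Q') s t)).trans
    (map_add (TensorProduct.comm A' Q' (A' ⊗[A] P)) _ _)

theorem midFun_zero (P : Type u) [AddCommGroup P] [Module A P] (Q' : ModuleCat.{u} A') :
    midFun (A := A) P Q' 0 = 0 := by
  exact (congrArg (TensorProduct.comm A' Q' (A' ⊗[A] P))
    (swapEquiv_zero (A := A) (A' := A') P ((Rs A A').obj Q'))).trans
    (map_zero (TensorProduct.comm A' Q' (A' ⊗[A] P)))

theorem midFun_smul (P : Type u) [AddCommGroup P] [Module A P] (Q' : ModuleCat.{u} A')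
    (a : A) (t : P ⊗[A] ((Rs A A').obj Q')) :
    midFun P Q' (a • t) = a • midFun P Q' t := by
  induction t using TensorProduct.induction_on with
  | zero => rw [smul_zero, midFun_zero, smul_zero]
  | tmul x q =>
    have h1 : a • (x ⊗ₜ[A] q : P ⊗[A] ((Rs A A').obj Q')) = (a • x) ⊗ₜ[A] q :=
      TensorProduct.smul_tmul' a x q
    rw [h1]
    show (((1 : A') ⊗ₜ[A] (a • x)) ⊗ₜ[A'] (show Q' from q) : (A' ⊗[A] P) ⊗[A'] Q') =
      algebraMap A A' a •
        ((((1 : A') ⊗ₜ[A] x) ⊗ₜ[A'] (show Q' from q) : (A' ⊗[A] P) ⊗[A'] Q'))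
    have e1 : ((1 : A') ⊗ₜ[A] (a • x) : A' ⊗[A] P) =
        algebraMap A A' a • ((1 : A') ⊗ₜ[A] x) := by
      rw [TensorProduct.tmul_smul, TensorProduct.smul_tmul', TensorProduct.smul_tmul',
        Algebra.smul_def, smul_eq_mul]
    rw [e1]
    simp only [TensorProduct.smul_tmul']
  | add s t hs ht => rw [smul_add, midFun_add, midFun_add, smul_add, hs, ht]

/-- `P ⊗[A] Q' ≃ (A' ⊗[A] P) ⊗[A'] Q'`, as `A`-modules. -/
noncomputable def midEquiv (P : Type u) [AddCommGroup P] [Module A P] (Q' : ModuleCat.{u} A') :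
    P ⊗[A] ((Rs A A').obj Q') ≃ₗ[A]
      (Rs A A').obj (ModuleCat.of A' ((A' ⊗[A] P) ⊗[A'] Q')) where
  toFun := midFun P Q'
  invFun := fun t => (swapEquiv (A := A) (A' := A') P ((Rs A A').obj Q')).symm
    ((TensorProduct.comm A' Q' (A' ⊗[A] P)).symm t)
  left_inv t := by
    show (swapEquiv (A := A) (A' := A') P ((Rs A A').obj Q')).symm
      ((TensorProduct.comm A' Q' (A' ⊗[A] P)).symm (TensorProduct.comm A' Q' (A' ⊗[A] P) _)) = t
    rw [LinearEquiv.symm_apply_apply, Equiv.symm_apply_apply]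
  right_inv t := by
    show TensorProduct.comm A' Q' (A' ⊗[A] P) (swapEquiv (A := A) (A' := A') P
      ((Rs A A').obj Q') ((swapEquiv (A := A) (A' := A') P ((Rs A A').obj Q')).symm _)) = t
    rw [Equiv.apply_symm_apply, LinearEquiv.apply_symm_apply]
  map_add' := midFun_add P Q'
  map_smul' := midFun_smul P Q'

/-- The projection formula as a natural isomorphism. -/
noncomputable def midIso (P : Type u) [AddCommGroup P] [Module A P] :
    Rs A A' ⋙ tensorLeft (ModuleCat.of A P) ≅
      tensorLeft (ModuleCat.of A' (A' ⊗[A] P)) ⋙ Rs A A' :=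
  NatIso.ofComponents (fun Q' => (midEquiv P Q').toModuleIso) (by
    intro Q' Q'' g
    apply ModuleCat.hom_ext
    apply TensorProduct.ext'
    intro x q
    rfl)

theorem exists_semilinear_bijective (P : Type u) [AddCommGroup P] [Module A P] (Q' : Type u)
    [AddCommGroup Q'] [Module A' Q'] [Module A Q'] [IsScalarTower A A' Q']
    (hP : ∀ q : ℕ, 0 < q → Subsingleton (((Tor (ModuleCat.{u} A) q).obj (ModuleCat.of A P)).obj
      (ModuleCat.of A A'))) (n : ℕ) :
    ∃ φ : (((Tor (ModuleCat.{u} A) n).obj (ModuleCat.of A P)).obj (ModuleCat.of A Q'))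
        →ₛₗ[algebraMap A A']
        (((Tor (ModuleCat.{u} A') n).obj (ModuleCat.of A' (A' ⊗[A] P))).obj (ModuleCat.of A' Q')),
      Function.Bijective φ := by
  have hP' : ∀ q : ℕ, IsZero (((Tor (ModuleCat.{u} A) (q+1)).obj (ModuleCat.of A P)).obj
      (ModuleCat.of A A')) := fun q => by
    haveI := hP (q+1) (Nat.succ_pos q)
    exact ModuleCat.isZero_of_subsingleton _
  have hv : VanishOnProj (fun n => Rs A A' ⋙ (Tor (ModuleCat.{u} A) n).obj (ModuleCat.of A P)) := by
    intro n Q'' hQ''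
    haveI := hQ''
    haveI : Module.Projective A' Q'' := inferInstance
    haveI : Module.Flat A' Q'' := inferInstance
    exact isZero_tor_Rs_of_flat A A' (ModuleCat.of A P) hP' n Q''
  let e0 : Rs A A' ⋙ (Tor (ModuleCat.{u} A) 0).obj (ModuleCat.of A P) ≅
      (Tor (ModuleCat.{u} A') 0).obj (ModuleCat.of A' (A' ⊗[A] P)) ⋙ Rs A A' :=
    Functor.isoWhiskerLeft (Rs A A') (tensorLeft (ModuleCat.of A P)).leftDerivedZeroIsoSelf ≪≫
      midIso P ≪≫ Functor.isoWhiskerRight
        (tensorLeft (ModuleCat.of A' (A' ⊗[A] P))).leftDerivedZeroIsoSelf.symm (Rs A A')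
  obtain ⟨e⟩ := nonempty_iso_of_hasLES
    (T := fun n => Rs A A' ⋙ (Tor (ModuleCat.{u} A) n).obj (ModuleCat.of A P))
    (T' := fun n => (Tor (ModuleCat.{u} A') n).obj (ModuleCat.of A' (A' ⊗[A] P)) ⋙ Rs A A')
    ((hasLES_tor (ModuleCat.of A P)).precomp_exact (Rs A A'))
    ((hasLES_tor (ModuleCat.of A' (A' ⊗[A] P))).comp_exact (Rs A A'))
    hv ((vanish_tor (ModuleCat.of A' (A' ⊗[A] P))).comp (Rs A A')) e0 n (ModuleCat.of A' Q')
  let l : Q' ≃ₗ[A] ((Rs A A').obj (ModuleCat.of A' Q')) :=
      { toFun := fun q => q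
        invFun := fun q => q
        left_inv := fun _ => rfl
        right_inv := fun _ => rfl
        map_add' := fun _ _ => rfl
        map_smul' := fun a q => (algebraMap_smul A' a q).symm }
  let i0 : ModuleCat.of A Q' ≅ (Rs A A').obj (ModuleCat.of A' Q') := l.toModuleIso
  let L := (((Tor (ModuleCat.{u} A) n).obj (ModuleCat.of A P)).mapIso i0 ≪≫ e).toLinearEquiv
  refine ⟨{ toFun := fun x => L x
            map_add' := L.map_add
            map_smul' := fun a x => ?_ }, L.bijective⟩
  show L (a • x) = algebraMap A A' a •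
    (show ↑(((Tor (ModuleCat.{u} A') n).obj (ModuleCat.of A' (A' ⊗[A] P))).obj
      (ModuleCat.of A' Q')) from L x)
  rw [L.map_smul]
  rfl

end Cat

end Groth.Agent.H82.TorBC2
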