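import Mathlib
import Groth.Agent.H8.QCohQcqs
import Groth.Agent.H8.FreeRes

/-!
# Local homomorphisms of `O`-modules on a scheme and their gluing

A `LocHom F G W` is a family of additive maps `F(V) → G(V)` for opens `V ≤ W`, natural in `V` and
linear over functions.  They can be built from a basis of sections of `F` on `W`, and a compatible
family on an open cover glues to a morphism of modules.
-/

set_option autoImplicit false
set_option linter.unusedSectionVars false
set_option linter.unusedVariables false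
set_option linter.style.haveILetI false

universe u

open CategoryTheory CategoryTheory.Limits AlgebraicGeometry TopologicalSpace Opposite
open AlgebraicGeometry.Scheme.Modules
open Groth.Agent.H8

namespace Groth.Agent.H82.LFG

variable {Y : Scheme.{u}} (F G : Y.Modules)

/-- `s` restricts to a basis of the sections of `F` over every open contained in `W`. -/
def IsBasisOn (W : Y.Opens) {r : ℕ} (s : Fin r → Γ(F, W)) : Prop :=
  ∀ (V : Y.Opens) (h : V ≤ W), Function.Bijective
    (fun c : Fin r → Γ(Y, V) => ∑ l, c l • F.presheaf.map (homOfLE h).op (s l))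

theorem exists_isBasisOn {W : Y.Opens} {r : ℕ} (e : F.restrict W.ι ≅ FlatMod.freeMod (↑W) r) :
    ∃ s : Fin r → Γ(F, W), IsBasisOn F W s := by
  classical
  have hW : W.ι ''ᵁ (⊤ : W.toScheme.Opens) = W := by
    rw [Scheme.Hom.image_top_eq_opensRange, Scheme.Opens.opensRange_ι]
  let sh : Fin r → Γ(F, W.ι ''ᵁ (⊤ : W.toScheme.Opens)) := fun l =>
    (sectionsEquivOfRestrictIso F e ⊤).symm (Pi.single l 1)
  refine ⟨fun l => F.presheaf.map (homOfLE hW.ge).op (sh l), ?_⟩
  intro V h
  obtain ⟨V', rfl⟩ : ∃ V' : W.toScheme.Opens, V = W.ι ''ᵁ V' :=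
    ⟨W.ι ⁻¹ᵁ V, by
      rw [Scheme.Hom.image_preimage_eq_opensRange_inf, Scheme.Opens.opensRange_ι]
      exact (inf_eq_right.mpr h).symm⟩
  have key : ∀ l, F.presheaf.map (homOfLE h).op (F.presheaf.map (homOfLE hW.ge).op (sh l)) =
      (sectionsEquivOfRestrictIso F e V').symm (Pi.single l 1) := by
    intro l
    rw [res_res]
    apply (sectionsEquivOfRestrictIso F e V').injective
    rw [LinearEquiv.apply_symm_apply]
    funext i
    have h1 := sectionsEquivOfRestrictIso_res F e (le_top : V' ≤ ⊤) (sh l) i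
    rw [show sectionsEquivOfRestrictIso F e ⊤ (sh l) = Pi.single l 1 from
      LinearEquiv.apply_symm_apply _ _] at h1
    rw [h1]
    by_cases hil : i = l
    · subst hil
      rw [Pi.single_eq_same, Pi.single_eq_same, map_one]
    · rw [Pi.single_eq_of_ne hil, Pi.single_eq_of_ne hil, map_zero]
  have hfun : (fun c : Fin r → Γ(Y, W.ι ''ᵁ V') => ∑ l, c l •
      F.presheaf.map (homOfLE h).op (F.presheaf.map (homOfLE hW.ge).op (sh l))) =
      fun c => (sectionsEquivOfRestrictIso F e V').symm c := by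
    funext c
    simp only [key]
    have hc : c = ∑ l, c l • (Pi.single l 1 : Fin r → Γ(Y, W.ι ''ᵁ V')) := by
      funext j
      rw [Finset.sum_apply, Finset.sum_eq_single j]
      · rw [Pi.smul_apply, Pi.single_eq_same, smul_eq_mul, mul_one]
      · intro b _ hb
        rw [Pi.smul_apply, Pi.single_eq_of_ne (Ne.symm hb), smul_zero]
      · intro hj
        exact absurd (Finset.mem_univ j) hj
    conv_rhs => rw [hc]
    rw [map_sum]
    refine Finset.sum_congr rfl fun l _ => ?_
    rw [LinearEquiv.map_smul]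
  rw [hfun]
  exact (sectionsEquivOfRestrictIso F e V').symm.bijective

/-- A family of maps on sections over the opens contained in `W`, natural and linear. -/
structure LocHom (W : Y.Opens) where
  /-- the maps on sections -/
  app : ∀ V : Y.Opens, V ≤ W → (Γ(F, V) →+ Γ(G, V))
  nat : ∀ (V V' : Y.Opens) (hV : V ≤ W) (h : V' ≤ V) (x : Γ(F, V)),
    G.presheaf.map (homOfLE h).op (app V hV x) =
      app V' (h.trans hV) (F.presheaf.map (homOfLE h).op x)
  lin : ∀ (V : Y.Opens) (hV : V ≤ W) (c : Γ(Y, V)) (x : Γ(F, V)),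
    app V hV (c • x) = c • app V hV x

variable {F G}

/-- a global morphism, viewed locally -/
noncomputable def LocHom.ofHom (φ : F ⟶ G) (W : Y.Opens) : LocHom F G W where
  app V _ := (φ.app V).hom
  nat V V' hV h x := (app_res φ h x).symm
  lin V hV c x := Scheme.Modules.Hom.app_smul φ c x

/-- restriction to a smaller open -/
def LocHom.restrict {W : Y.Opens} (β : LocHom F G W) {W' : Y.Opens} (h : W' ≤ W) :
    LocHom F G W' where
  app V hV := β.app V (hV.trans h)
  nat V V' hV h' x := β.nat V V' (hV.trans h) h' x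
  lin V hV c x := β.lin V (hV.trans h) c x

section ofBasis

variable {W : Y.Opens} {r : ℕ} (s : Fin r → Γ(F, W)) (hs : IsBasisOn F W s)

/-- the linear combination map with coefficients in `O(V)` -/
noncomputable def comb {M : Y.Modules} (t : Fin r → Γ(M, W)) (V : Y.Opens) (h : V ≤ W) :
    (Fin r → Γ(Y, V)) →ₗ[Γ(Y, V)] Γ(M, V) :=
  ∑ l, (LinearMap.proj l : (Fin r → Γ(Y, V)) →ₗ[Γ(Y, V)] Γ(Y, V)).smulRight
    (M.presheaf.map (homOfLE h).op (t l))

theorem comb_apply {M : Y.Modules} (t : Fin r → Γ(M, W)) (V : Y.Opens) (h : V ≤ W)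
    (c : Fin r → Γ(Y, V)) :
    comb t V h c = ∑ l, c l • M.presheaf.map (homOfLE h).op (t l) := by
  unfold comb
  rw [LinearMap.sum_apply]
  rfl

theorem comb_single {M : Y.Modules} (t : Fin r → Γ(M, W)) (V : Y.Opens) (h : V ≤ W) (l : Fin r) :
    comb t V h (Pi.single l 1) = M.presheaf.map (homOfLE h).op (t l) := by
  classical
  rw [comb_apply, Finset.sum_eq_single l]
  · rw [Pi.single_eq_same, one_smul]
  · intro b _ hb
    rw [Pi.single_eq_of_ne hb, zero_smul]
  · intro hl
    exact absurd (Finset.mem_univ l) hl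

theorem res_comb {M : Y.Modules} (t : Fin r → Γ(M, W)) (V V' : Y.Opens) (hV : V ≤ W)
    (h : V' ≤ V) (c : Fin r → Γ(Y, V)) :
    M.presheaf.map (homOfLE h).op (comb t V hV c) =
      comb t V' (h.trans hV) (fun l => Y.presheaf.map (homOfLE h).op (c l)) := by
  rw [comb_apply, comb_apply, map_sum]
  refine Finset.sum_congr rfl fun l _ => ?_
  rw [res_smul, res_res]

include hs in
theorem comb_bijective (V : Y.Opens) (h : V ≤ W) : Function.Bijective (comb s V h) := by
  have := hs V h
  convert this using 1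
  funext c
  exact comb_apply s V h c

/-- coordinates with respect to a basis of sections -/
noncomputable def coordEquiv (V : Y.Opens) (h : V ≤ W) :
    (Fin r → Γ(Y, V)) ≃ₗ[Γ(Y, V)] Γ(F, V) :=
  LinearEquiv.ofBijective (comb s V h) (comb_bijective s hs V h)

theorem coordEquiv_apply (V : Y.Opens) (h : V ≤ W) (c : Fin r → Γ(Y, V)) :
    coordEquiv s hs V h c = comb s V h c := rfl

/-- the local homomorphism sending the basis sections `s l` to the sections `t l` -/
noncomputable def LocHom.ofBasis (t : Fin r → Γ(G, W)) : LocHom F G W where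
  app V h := ((comb t V h).comp (coordEquiv s hs V h).symm.toLinearMap).toAddMonoidHom
  nat V V' hV h x := by
    obtain ⟨c, rfl⟩ := (coordEquiv s hs V hV).surjective x
    show G.presheaf.map (homOfLE h).op (comb t V hV ((coordEquiv s hs V hV).symm
      (coordEquiv s hs V hV c))) = comb t V' (h.trans hV) ((coordEquiv s hs V' (h.trans hV)).symm
        (F.presheaf.map (homOfLE h).op (coordEquiv s hs V hV c)))
    rw [LinearEquiv.symm_apply_apply, coordEquiv_apply, res_comb, res_comb,
      ← coordEquiv_apply s hs V' (h.trans hV), LinearEquiv.symm_apply_apply]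
  lin V h c x := by
    show comb t V h ((coordEquiv s hs V h).symm (c • x)) =
      c • comb t V h ((coordEquiv s hs V h).symm x)
    rw [LinearEquiv.map_smul, LinearMap.map_smul]

theorem LocHom.ofBasis_apply_comb (t : Fin r → Γ(G, W)) (V : Y.Opens) (h : V ≤ W)
    (c : Fin r → Γ(Y, V)) :
    (LocHom.ofBasis s hs t).app V h (comb s V h c) = comb t V h c := by
  show comb t V h ((coordEquiv s hs V h).symm (comb s V h c)) = _
  rw [← coordEquiv_apply s hs, LinearEquiv.symm_apply_apply]

theorem LocHom.ofBasis_apply_basis (t : Fin r → Γ(G, W)) (V : Y.Opens) (h : V ≤ W) (l : Fin r) :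
    (LocHom.ofBasis s hs t).app V h (F.presheaf.map (homOfLE h).op (s l)) =
      G.presheaf.map (homOfLE h).op (t l) := by
  rw [← comb_single s V h l, LocHom.ofBasis_apply_comb, comb_single]

include hs in
/-- two local homomorphisms agreeing on the basis sections agree -/
theorem LocHom.ext_of_basis {W' : Y.Opens} (hW' : W' ≤ W) (β γ : LocHom F G W')
    (h : ∀ l, β.app W' le_rfl (F.presheaf.map (homOfLE hW').op (s l)) =
      γ.app W' le_rfl (F.presheaf.map (homOfLE hW').op (s l)))
    (V : Y.Opens) (hV : V ≤ W') (x : Γ(F, V)) : β.app V hV x = γ.app V hV x := by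
  obtain ⟨c, rfl⟩ := (coordEquiv s hs V (hV.trans hW')).surjective x
  rw [coordEquiv_apply, comb_apply, map_sum, map_sum]
  refine Finset.sum_congr rfl fun l _ => ?_
  rw [β.lin, γ.lin, ← res_res F hV hW', ← β.nat W' V le_rfl hV, ← γ.nat W' V le_rfl hV, h l]

end ofBasis

section glue

variable {ι : Type} (W : ι → Y.Opens) (hW : ∀ y : Y, ∃ i, y ∈ W i) (β : ∀ i, LocHom F G (W i))
  (hβ : ∀ (i k : ι) (V : Y.Opens) (h1 : V ≤ W i) (h2 : V ≤ W k) (x : Γ(F, V)),
    (β i).app V h1 x = (β k).app V h2 x)

/-- the index type of opens contained in some member of the cover -/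
abbrev Sub := {V : Y.Opens // ∃ i, V ≤ W i}

include hW in
theorem isBasis_sub : Opens.IsBasis (Set.range (fun j : Sub W => (j.1 : Y.Opens))) := by
  rw [Opens.isBasis_iff_nbhd]
  intro V y hy
  obtain ⟨i, hi⟩ := hW y
  exact ⟨V ⊓ W i, ⟨⟨V ⊓ W i, i, inf_le_right⟩, rfl⟩, ⟨hy, hi⟩, inf_le_left⟩

/-- the natural transformation on the basis -/
noncomputable def glueBasis :
    (inducedFunctor (fun j : Sub W => (j.1 : Y.Opens))).op ⋙ F.presheaf ⟶
      (inducedFunctor (fun j : Sub W => (j.1 : Y.Opens))).op ⋙ G.presheaf where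
  app j := AddCommGrpCat.ofHom ((β j.unop.2.choose).app j.unop.1 j.unop.2.choose_spec)
  naturality j j' f := by
    ext x
    have hle : j'.unop.1 ≤ j.unop.1 := leOfHom f.unop.hom
    have h1 := (β j.unop.2.choose).nat j.unop.1 j'.unop.1 j.unop.2.choose_spec hle x
    have h2 := hβ j.unop.2.choose j'.unop.2.choose j'.unop.1
      (hle.trans j.unop.2.choose_spec) j'.unop.2.choose_spec
      (F.presheaf.map (homOfLE hle).op x)
    exact (h1.trans h2).symm

include hW hβ in
theorem exists_glue : ∃ b : F ⟶ G, ∀ (i : ι) (V : Y.Opens) (h : V ≤ W i) (x : Γ(F, V)),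
    b.app V x = (β i).app V h x := by
  let φ0 : F.presheaf ⟶ G.presheaf :=
    TopCat.Sheaf.restrictHomEquivHom F.presheaf ⟨G.presheaf, G.isSheaf⟩ (isBasis_sub W hW)
      (glueBasis W β hβ)
  have hφ0 : ∀ (i : ι) (V : Y.Opens) (h : V ≤ W i) (x : Γ(F, V)),
      φ0.app (op V) x = (β i).app V h x := by
    intro i V h x
    have h1 := TopCat.Sheaf.extend_hom_app F.presheaf ⟨G.presheaf, G.isSheaf⟩ (isBasis_sub W hW)
      (glueBasis W β hβ) ⟨V, i, h⟩
    have h2 : φ0.app (op V) x = (glueBasis W β hβ).app (op ⟨V, i, h⟩) x :=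
      congrArg (fun g => g x) h1
    rw [h2]
    exact hβ _ i V _ h x
  have hnat : ∀ (V V' : Y.Opens) (h : V' ≤ V) (x : Γ(F, V)),
      G.presheaf.map (homOfLE h).op (φ0.app (op V) x) =
        φ0.app (op V') (F.presheaf.map (homOfLE h).op x) := fun V V' h x =>
    (congrArg (fun g => g x) (φ0.naturality (homOfLE h).op)).symm
  refine ⟨⟨PresheafOfModules.homMk φ0 (fun V c x => ?_)⟩, fun i V h x => hφ0 i V h x⟩
  obtain ⟨V⟩ := V
  change ↑(Γ(Y, V)) at c
  change ↑(Γ(F, V)) at x
  show φ0.app (op V) (c • x) = c • φ0.app (op V) x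
  refine section_eq_of_cover G _ _ (fun y hy => ?_)
  obtain ⟨i, hi⟩ := hW y
  refine ⟨V ⊓ W i, inf_le_left, ⟨hy, hi⟩, ?_⟩
  rw [hnat, res_smul, res_smul, hnat, hφ0 i _ inf_le_right, hφ0 i _ inf_le_right, (β i).lin]

end glue

end Groth.Agent.H82.LFG
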