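import Mathlib
import Groth.Agent.H82.ProjFinite
import Groth.Agent.H40.FlatBridge2
import Groth.Agent.H31.FlatSite
import Groth.Agent.H8.UnitIso
import Groth.Agent.S9805
import Groth.Agent.H18.TensorCoh
import Groth.Agent.H8.LocFreeNearFinite

/-!
# Serre vanishing on projective space over a Noetherian ring

* `T L`: the functor `- ⊗ L` on `O_X`-modules; it is exact for invertible `L` and preserves
  coproducts.
* `serre_vanishing`: for a coherent module `F` on `P^n_R` (`R` Noetherian) there is `d₀` with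
  `H^i(P^n_R, F ⊗ O(d)) = 0` for all `i ≥ 1` and `d ≥ d₀`.
-/

set_option autoImplicit false
set_option linter.unusedSectionVars false
set_option linter.unusedVariables false
set_option linter.style.haveILetI false

universe u

open CategoryTheory CategoryTheory.Limits Opposite TopologicalSpace AlgebraicGeometry MvPolynomial

namespace Groth.Agent.H82.ProjSerre

open Groth.Agent.H82.ProjSections Groth.Agent.H82.ProjCoh Groth.Agent.H82.ProjLinear
  Groth.Agent.H82.HHFinite Groth.Agent.H82.ProjFinite Groth.Agent.H82.HHA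

section General

variable {X : Scheme.{u}}

/-- the functor `- ⊗ L` -/
noncomputable def T (L : X.Modules) : X.Modules ⥤ X.Modules :=
  (ModSite.tensorBi (X.sheaf)).flip.obj L

theorem T_obj (L F : X.Modules) : (T L).obj F = CohB1.tensorMod F L := rfl

theorem isFlat_of_isInvertible {L : X.Modules} (hL : PicF.IsInvertible L) :
    ModSite.IsFlat (O := X.sheaf) L := by
  have h1 := Groth.Agent.H8.isFinLocFree_of_isInvertible hL
  have hq := Groth.Agent.H8.isQuasicoherent_of_isFinLocFree L h1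
  have h2 : FlatMod.IsFlat L := ((Groth.Agent.S9805.result X L hq).2 h1).1
  exact (Groth.Agent.H40.FlatBridge2.isFlat_iff_stalkFlat L).2 h2

instance (L : X.Modules) : (T L).IsLeftAdjoint :=
  inferInstanceAs ((ModSite.tensorBi (X.sheaf)).flip.obj L).IsLeftAdjoint

instance (L : X.Modules) : (T L).Additive :=
  inferInstanceAs ((ModSite.tensorBi (X.sheaf)).flip.obj L).Additive

theorem shortExact_map_T {L : X.Modules} (hL : PicF.IsInvertible L) (S : ShortComplex X.Modules)
    (hS : S.ShortExact) : (S.map (T L)).ShortExact := by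
  have h := isFlat_of_isInvertible hL
  haveI : PreservesFiniteLimits (T L) := h.1
  haveI : PreservesFiniteColimits (T L) := h.2
  exact hS.map_of_exact (T L)

/-- `- ⊗ L` commutes with coproducts -/
noncomputable def sigmaIso (L : X.Modules) {ι : Type} (f : ι → X.Modules) :
    (T L).obj (∐ f) ≅ ∐ fun j => (T L).obj (f j) :=
  PreservesCoproduct.iso (T L) f

theorem subsingleton_HH_sigma {ι : Type} [Fintype ι] [DecidableEq ι] (F : ι → X.Modules) (i : ℕ)
    (h : ∀ j, Subsingleton (Coh.HH X (F j) i)) : Subsingleton (Coh.HH X (∐ F) i) := by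
  haveI : HasFiniteBiproducts X.Modules := HasFiniteBiproducts.of_hasFiniteProducts
  obtain ⟨π, hπ⟩ := exists_sigma_total F
  have key : ∀ x : Coh.HH X (∐ F) i, x = 0 := by
    intro x
    rw [H_eq_sum F π hπ i x]
    refine Finset.sum_eq_zero fun j _ => ?_
    haveI := h j
    rw [Subsingleton.elim (Sheaf.H.map (abMap (π j)) i x) 0, _root_.map_zero]
  exact ⟨fun a b => (key a).trans (key b).symm⟩

end General

variable (n : ℕ) (R : Type u) [CommRing R]

theorem isInvertible_Fd (d : ℤ) : PicF.IsInvertible (Fd n R d) :=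
  (Groth.Agent.H18.TwistTensor.twist_package (gr n R) (hcov1 n R)).1 d

theorem nonempty_tensor_iso (a d : ℤ) :
    Nonempty (CohB1.tensorMod (Fd n R a) (Fd n R d) ≅ Fd n R (a + d)) :=
  (Groth.Agent.H18.TwistTensor.twist_package (gr n R) (hcov1 n R)).2.1 a d

/-- vanishing of the higher cohomology of `(∐ O(-a)) ⊗ O(d)` for `d ≥ a` -/
theorem subsingleton_HH_free (a : ℕ) (k : ℕ) (d : ℤ) (hd : (a : ℤ) ≤ d) (i : ℕ) (hi : 1 ≤ i) :
    Subsingleton (Coh.HH (CohB1.ProjSpace n R)
      (CohB1.tensorMod (∐ fun _ : Fin k => Fd n R (-(a : ℤ))) (Fd n R d)) i) := by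
  obtain ⟨e⟩ := nonempty_tensor_iso n R (-(a : ℤ)) d
  let E : (T (Fd n R d)).obj (∐ fun _ : Fin k => Fd n R (-(a : ℤ))) ≅
      ∐ fun _ : Fin k => Fd n R (-(a : ℤ) + d) :=
    (sigmaIso (Fd n R d) (fun _ : Fin k => Fd n R (-(a : ℤ)))).trans
      (Sigma.mapIso (fun _ => e))
  have h0 : Subsingleton (Coh.HH (Proj (gr n R)) (Fd n R (-(a : ℤ) + d)) i) :=
    subsingleton_HH n R (-(a : ℤ) + d) i (fun h => by omega) (fun h => by
      have h2 := h.2
      omega)
  have h1 : Subsingleton (Coh.HH (Proj (gr n R)) (∐ fun _ : Fin k => Fd n R (-(a : ℤ) + d)) i) :=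
    subsingleton_HH_sigma _ i (fun _ => h0)
  exact subsingleton_HH_of_iso E.symm i h1

theorem serre_aux [IsNoetherianRing R] (m : ℕ) : ∀ i : ℕ, 1 ≤ i → n + 1 ≤ i + m →
    ∀ F : (CohB1.ProjSpace n R).Modules, Coh.IsCoh F →
      ∃ d₀ : ℤ, ∀ d : ℤ, d₀ ≤ d →
        Subsingleton (Coh.HH (CohB1.ProjSpace n R)
          (CohB1.tensorMod F (Twist.twistProjSpace n R d)) i) := by
  induction m with
  | zero =>
    intro i hi1 hi F hF
    refine ⟨0, fun d _ => ?_⟩
    haveI : Coh.IsQCoh (CohB1.tensorMod F (Twist.twistProjSpace n R d)) :=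
      (Groth.Agent.H18.TensorCoh.isCoh_tensorMod hF (isInvertible_Fd n R d)).1
    exact subsingleton_HH_above n R _ i (by omega)
  | succ m ih =>
    intro i hi1 hi F hF
    haveI := isLocallyNoetherian n R
    obtain ⟨a, k, p, hp⟩ := exists_epi n R F hF
    have hE : Coh.IsCoh (∐ fun _ : Fin k => Fd n R (-(a : ℤ))) :=
      isCoh_sigma _ (fun _ => isCoh_Fd n R _)
    have hK : Coh.IsCoh (kernel p) :=
      Groth.Agent.H8.isCoh_kernel (X := CohB1.ProjSpace n R) hE hF p
    let S : ShortComplex (CohB1.ProjSpace n R).Modules :=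
      ShortComplex.mk (kernel.ι p) p (kernel.condition p)
    have hS : S.ShortExact :=
      { exact := ShortComplex.exact_of_f_is_kernel S (kernelIsKernel p)
        mono_f := inferInstanceAs (Mono (kernel.ι p))
        epi_g := hp }
    obtain ⟨d₁, hd₁⟩ := ih (i + 1) (by omega) (by omega) (kernel p) hK
    refine ⟨max d₁ a, fun d hd => ?_⟩
    have hS' := shortExact_map_T (X := CohB1.ProjSpace n R) (isInvertible_Fd n R d) S hS
    have h₁ : Subsingleton (Coh.HH (CohB1.ProjSpace n R) (S.map (T (Fd n R d))).X₁ (i + 1)) :=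
      hd₁ d (le_trans (le_max_left _ _) hd)
    have h₂ : Subsingleton (Coh.HH (CohB1.ProjSpace n R) (S.map (T (Fd n R d))).X₂ i) :=
      subsingleton_HH_free n R a k d (le_trans (le_max_right _ _) hd) i hi1
    have key : ∀ x : Coh.HH (CohB1.ProjSpace n R) (S.map (T (Fd n R d))).X₃ i, x = 0 := by
      intro x
      obtain ⟨y, hy⟩ := δ_exact (S.map (T (Fd n R d))) hS' i x (Subsingleton.elim _ _)
      rw [← hy, Subsingleton.elim y 0, _root_.map_zero]
    exact ⟨fun x y => (key x).trans (key y).symm⟩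

/-- Serre vanishing on projective space over a Noetherian ring -/
theorem serre_vanishing [IsNoetherianRing R] (F : (CohB1.ProjSpace n R).Modules)
    (hF : Coh.IsCoh F) :
    ∃ d₀ : ℤ, ∀ d : ℤ, d₀ ≤ d → ∀ i : ℕ, 1 ≤ i →
      Subsingleton (Coh.HH (CohB1.ProjSpace n R)
        (CohB1.tensorMod F (Twist.twistProjSpace n R d)) i) := by
  have h : ∀ i : ℕ, ∃ d₀ : ℤ, ∀ d : ℤ, d₀ ≤ d → 1 ≤ i →
      Subsingleton (Coh.HH (CohB1.ProjSpace n R)
        (CohB1.tensorMod F (Twist.twistProjSpace n R d)) i) := by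
    intro i
    by_cases hi : 1 ≤ i
    · obtain ⟨d₀, h⟩ := serre_aux n R (n + 1) i hi (by omega) F hF
      exact ⟨d₀, fun d hd _ => h d hd⟩
    · exact ⟨0, fun d _ h1 => absurd h1 hi⟩
  choose D hD using h
  refine ⟨(Finset.range (n + 1)).sup' ⟨0, Finset.mem_range.mpr (Nat.succ_pos n)⟩ D, ?_⟩
  intro d hd i hi
  by_cases hin : i ≤ n
  · refine hD i d (le_trans ?_ hd) hi
    exact Finset.le_sup' D (Finset.mem_range.mpr (Nat.lt_succ_of_le hin))
  · haveI : Coh.IsQCoh (CohB1.tensorMod F (Twist.twistProjSpace n R d)) :=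
      (Groth.Agent.H18.TensorCoh.isCoh_tensorMod hF (isInvertible_Fd n R d)).1
    exact subsingleton_HH_above n R _ i (by omega)

end Groth.Agent.H82.ProjSerre
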