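import Mathlib
import Groth.Prelude.Def_RDerDelta

set_option linter.unusedSectionVars false
set_option linter.unusedVariables false
set_option linter.style.haveILetI false

universe v u v' u'

open CategoryTheory CategoryTheory.Limits

namespace Groth.Agent.H82.RDerLES

variable {C : Type u} [Category.{v} C] [Abelian C] {D : Type u'} [Category.{v'} D] [Abelian D]

section Lift

variable {S S' : ShortComplex C} (T : RDer.SESRes S) (T' : RDer.SESRes S') (φ : S ⟶ S')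

/-- A morphism of short complexes lifts to a morphism of short exact sequences of resolutions,
the outer components lying over the outer components of the morphism. -/
theorem exists_lift :
    ∃ (a₁ : T.I₁.cocomplex ⟶ T'.I₁.cocomplex) (a₂ : T.I₂.cocomplex ⟶ T'.I₂.cocomplex)
      (a₃ : T.I₃.cocomplex ⟶ T'.I₃.cocomplex),
      T.f ≫ a₂ = a₁ ≫ T'.f ∧ T.g ≫ a₃ = a₂ ≫ T'.g ∧
      T.I₁.ι.f 0 ≫ a₁.f 0 = φ.τ₁ ≫ T'.I₁.ι.f 0 ∧
      T.I₃.ι.f 0 ≫ a₃.f 0 = φ.τ₃ ≫ T'.I₃.ι.f 0 := by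
  classical
  let a₃ := InjectiveResolution.desc φ.τ₃ T'.I₃ T.I₃
  let c := InjectiveResolution.desc φ.τ₂ T'.I₂ T.I₂
  have hc : T.I₂.ι ≫ c = (CochainComplex.single₀ C).map φ.τ₂ ≫ T'.I₂.ι :=
    InjectiveResolution.desc_commutes _ _ _
  have ha₃ : T.I₃.ι ≫ a₃ = (CochainComplex.single₀ C).map φ.τ₃ ≫ T'.I₃.ι :=
    InjectiveResolution.desc_commutes _ _ _
  have e1 : T.I₂.ι ≫ c ≫ T'.g = (CochainComplex.single₀ C).map (S.g ≫ φ.τ₃) ≫ T'.I₃.ι := by
    rw [reassoc_of% hc, T'.ι_g, ← Category.assoc, ← Functor.map_comp, φ.comm₂₃]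
  have e2 : T.I₂.ι ≫ T.g ≫ a₃ = (CochainComplex.single₀ C).map (S.g ≫ φ.τ₃) ≫ T'.I₃.ι := by
    rw [reassoc_of% T.ι_g, ha₃, ← Category.assoc, ← Functor.map_comp]
  let H : Homotopy (c ≫ T'.g) (T.g ≫ a₃) :=
    InjectiveResolution.descHomotopy (S.g ≫ φ.τ₃) _ _ e1 e2
  let s' : ∀ j, T'.I₃.cocomplex.X j ⟶ T'.I₂.cocomplex.X j := fun j => (T'.splitting j).s
  have hs' : ∀ j, s' j ≫ T'.g.f j = 𝟙 _ := fun j => (T'.splitting j).s_g
  let k : ∀ i j, T.I₂.cocomplex.X i ⟶ T'.I₂.cocomplex.X j := fun i j => H.hom i j ≫ s' j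
  let a₂ : T.I₂.cocomplex ⟶ T'.I₂.cocomplex := c - Homotopy.nullHomotopicMap k
  have hN : Homotopy.nullHomotopicMap k ≫ T'.g = Homotopy.nullHomotopicMap H.hom := by
    rw [Homotopy.nullHomotopicMap_comp]
    congr 1
    funext i j
    simp only [k, Category.assoc, hs', Category.comp_id]
  have h23 : a₂ ≫ T'.g = T.g ≫ a₃ := by
    rw [show a₂ = c - Homotopy.nullHomotopicMap k from rfl, Preadditive.sub_comp, hN]
    ext i
    rw [HomologicalComplex.sub_f_apply, H.comm i]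
    show dNext i H.hom + prevD i H.hom + (T.g ≫ a₃).f i - (dNext i H.hom + prevD i H.hom) = _
    abel
  have hNk : T.I₂.ι ≫ Homotopy.nullHomotopicMap k = 0 := by
    apply HomologicalComplex.from_single_hom_ext
    rw [HomologicalComplex.comp_f, HomologicalComplex.zero_f]
    show T.I₂.ι.f 0 ≫ (dNext 0 k + prevD 0 k) = 0
    rw [dNext_eq k (show (ComplexShape.up ℕ).Rel 0 1 from rfl), Homotopy.prevD_zero_cochainComplex,
      add_zero, ← Category.assoc, T.I₂.ι_f_zero_comp_complex_d, zero_comp]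
  have hι₂ : T.I₂.ι ≫ a₂ = (CochainComplex.single₀ C).map φ.τ₂ ≫ T'.I₂.ι := by
    rw [show a₂ = c - Homotopy.nullHomotopicMap k from rfl, Preadditive.comp_sub, hNk, sub_zero, hc]
  have := T'.shortExact.mono_f
  have hz : (T.f ≫ a₂) ≫ T'.cx.g = 0 := by
    show (T.f ≫ a₂) ≫ T'.g = 0
    rw [Category.assoc, h23, ← Category.assoc, T.zero, zero_comp]
  let a₁ : T.I₁.cocomplex ⟶ T'.I₁.cocomplex := T'.shortExact.exact.lift (T.f ≫ a₂) hz
  have h12 : a₁ ≫ T'.f = T.f ≫ a₂ := T'.shortExact.exact.lift_f _ _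
  have hι₁ : T.I₁.ι ≫ a₁ = (CochainComplex.single₀ C).map φ.τ₁ ≫ T'.I₁.ι := by
    have hm : Mono T'.f := T'.shortExact.mono_f
    rw [← cancel_mono T'.f, Category.assoc, h12, reassoc_of% T.ι_f, hι₂, Category.assoc, T'.ι_f,
      ← Category.assoc, ← Category.assoc, ← Functor.map_comp, ← Functor.map_comp, φ.comm₁₂]
  refine ⟨a₁, a₂, a₃, h12.symm, h23.symm, ?_, InjectiveResolution.desc_commutes_zero _ _ _⟩
  have := HomologicalComplex.congr_hom hι₁ 0
  simpa using this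

end Lift

section Natural

variable [HasInjectiveResolutions C] {S S' : ShortComplex C} (T : RDer.SESRes S)
  (T' : RDer.SESRes S') (φ : S ⟶ S') (F : C ⥤ D) [F.Additive]

theorem delta_natural (n₀ n₁ : ℕ) (h : n₀ + 1 = n₁) :
    (F.rightDerived n₀).map φ.τ₃ ≫ T'.delta F n₀ n₁ h =
      T.delta F n₀ n₁ h ≫ (F.rightDerived n₁).map φ.τ₁ := by
  obtain ⟨a₁, a₂, a₃, h12, h23, hι₁, hι₃⟩ := exists_lift T T' φ
  let G := F.mapHomologicalComplex (ComplexShape.up ℕ)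
  let Φ : T.cx.map G ⟶ T'.cx.map G :=
    { τ₁ := G.map a₁
      τ₂ := G.map a₂
      τ₃ := G.map a₃
      comm₁₂ := by
        show G.map a₁ ≫ G.map T'.f = G.map T.f ≫ G.map a₂
        rw [← G.map_comp, ← G.map_comp, h12]
      comm₂₃ := by
        show G.map a₂ ≫ G.map T'.g = G.map T.g ≫ G.map a₃
        rw [← G.map_comp, ← G.map_comp, h23] }
  obtain ⟨δ, hδ⟩ : ∃ δ : (HomologicalComplex.homologyFunctor D _ n₀).obj (G.obj T.I₃.cocomplex) ⟶
      (HomologicalComplex.homologyFunctor D _ n₁).obj (G.obj T.I₁.cocomplex),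
      δ = (T.map_shortExact F).δ n₀ n₁ h := ⟨_, rfl⟩
  obtain ⟨δ', hδ'⟩ : ∃ δ' : (HomologicalComplex.homologyFunctor D _ n₀).obj (G.obj T'.I₃.cocomplex) ⟶
      (HomologicalComplex.homologyFunctor D _ n₁).obj (G.obj T'.I₁.cocomplex),
      δ' = (T'.map_shortExact F).δ n₀ n₁ h := ⟨_, rfl⟩
  have nat : δ ≫ (HomologicalComplex.homologyFunctor D _ n₁).map (G.map a₁) =
      (HomologicalComplex.homologyFunctor D _ n₀).map (G.map a₃) ≫ δ' := by
    rw [hδ, hδ']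
    exact HomologicalComplex.HomologySequence.δ_naturality Φ (T.map_shortExact F)
      (T'.map_shortExact F) n₀ n₁ h
  have e₃ : (F.rightDerived n₀).map φ.τ₃ ≫ (T'.I₃.isoRightDerivedObj F n₀).hom =
      (T.I₃.isoRightDerivedObj F n₀).hom ≫
        (HomologicalComplex.homologyFunctor D _ n₀).map (G.map a₃) :=
    InjectiveResolution.isoRightDerivedObj_hom_naturality φ.τ₃ T.I₃ T'.I₃ a₃ hι₃ F n₀
  have e₁ : (F.rightDerived n₁).map φ.τ₁ ≫ (T'.I₁.isoRightDerivedObj F n₁).hom =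
      (T.I₁.isoRightDerivedObj F n₁).hom ≫
        (HomologicalComplex.homologyFunctor D _ n₁).map (G.map a₁) :=
    InjectiveResolution.isoRightDerivedObj_hom_naturality φ.τ₁ T.I₁ T'.I₁ a₁ hι₁ F n₁
  have hd : T.delta F n₀ n₁ h ≫ (T.I₁.isoRightDerivedObj F n₁).hom =
      (T.I₃.isoRightDerivedObj F n₀).hom ≫ δ := by
    rw [hδ]; exact T.delta_comp_isoRightDerivedObj_hom F n₀ n₁ h
  have hd' : T'.delta F n₀ n₁ h ≫ (T'.I₁.isoRightDerivedObj F n₁).hom =
      (T'.I₃.isoRightDerivedObj F n₀).hom ≫ δ' := by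
    rw [hδ']; exact T'.delta_comp_isoRightDerivedObj_hom F n₀ n₁ h
  rw [← cancel_mono (T'.I₁.isoRightDerivedObj F n₁).hom, Category.assoc, Category.assoc, hd',
    reassoc_of% e₃, ← nat, ← reassoc_of% hd, e₁]

theorem delta_eq {S : ShortComplex C} (T T' : RDer.SESRes S) (n₀ n₁ : ℕ) (h : n₀ + 1 = n₁) :
    T.delta F n₀ n₁ h = T'.delta F n₀ n₁ h := by
  have := delta_natural T T' (𝟙 S) F n₀ n₁ h
  simpa using this.symm

end Natural

end Groth.Agent.H82.RDerLES
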