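import Mathlib
import Groth.Prelude.Def_RDerDelta
import Groth.Agent.H82.RDerLES

set_option linter.unusedSectionVars false
set_option backward.isDefEq.respectTransparency false
set_option linter.unusedVariables false
set_option linter.style.haveILetI false

universe v u v' u'

open CategoryTheory CategoryTheory.Limits

namespace Groth.Agent.H82.RDerLES

variable {C : Type u} [Category.{v} C] [Abelian C] {D : Type u'} [Category.{v'} D] [Abelian D]

section Desc

/-- A morphism from an object into the degree-zero cycles of a complex of injectives descends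
to a cochain map from any injective resolution of the object. -/
theorem exists_desc {Z : C} (I : InjectiveResolution Z) (Q : CochainComplex C ℕ)
    [∀ n, Injective (Q.X n)] (t : Z ⟶ Q.X 0) (ht : t ≫ Q.d 0 1 = 0) :
    ∃ θ : I.cocomplex ⟶ Q, I.ι.f 0 ≫ θ.f 0 = t := by
  obtain ⟨ι, hι, hm⟩ : ∃ ι : Z ⟶ I.cocomplex.X 0, ι = I.ι.f 0 ∧ Mono ι :=
    ⟨I.ι.f 0, rfl, (inferInstance : Mono (I.ι.f 0))⟩
  haveI := hm
  let z : I.cocomplex.X 0 ⟶ Q.X 0 := Injective.factorThru t ι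
  have hz : ι ≫ z = t := Injective.comp_factorThru _ _
  let o : I.cocomplex.X 1 ⟶ Q.X 1 := I.exact₀.descToInjective (z ≫ Q.d 0 1) (by
    show I.ι.f 0 ≫ z ≫ Q.d 0 1 = 0
    rw [← hι, ← Category.assoc, hz, ht])
  have ho : I.cocomplex.d 0 1 ≫ o = z ≫ Q.d 0 1 := I.exact₀.comp_descToInjective _ _
  refine ⟨CochainComplex.mkHom _ _ z o ho.symm (fun n p =>
    ⟨(I.exact_succ n).descToInjective (p.2.1 ≫ Q.d (n+1) (n+2)) (by
        show I.cocomplex.d n (n+1) ≫ p.2.1 ≫ Q.d (n+1) (n+2) = 0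
        rw [← Category.assoc, ← p.2.2, Category.assoc, Q.d_comp_d, comp_zero]),
      ((I.exact_succ n).comp_descToInjective _ _).symm⟩), ?_⟩
  rw [CochainComplex.mkHom_f_0, ← hι]
  exact hz

theorem exists_family {Z : C} (I : InjectiveResolution Z) (K : CochainComplex C ℕ)
    [∀ n, Injective (K.X n)] (t : Z ⟶ K.X 1) (ht : t ≫ K.d 1 2 = 0) :
    ∃ θ : ∀ n, I.cocomplex.X n ⟶ K.X (n+1), I.ι.f 0 ≫ θ 0 = t ∧
      ∀ n, θ n ≫ K.d (n+1) (n+1+1) + I.cocomplex.d n (n+1) ≫ θ (n+1) = 0 := by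
  let Q : CochainComplex C ℕ := CochainComplex.of (fun n => K.X (n+1))
    (fun n => -K.d (n+1) (n+2)) (fun n => by simp)
  haveI : ∀ n, Injective (Q.X n) := fun n => (inferInstance : Injective (K.X (n+1)))
  have hQd : ∀ n, Q.d n (n+1) = -K.d (n+1) (n+2) := fun n => CochainComplex.of_d (fun n => K.X (n+1)) (fun n => -K.d (n+1) (n+2)) n
  have ht' : t ≫ Q.d 0 1 = 0 := by
    have h0 := hQd 0
    rw [h0, Preadditive.comp_neg]
    exact neg_eq_zero.mpr ht
  obtain ⟨θ, hθ⟩ := exists_desc I Q t ht'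
  refine ⟨fun n => θ.f n, hθ, fun n => ?_⟩
  have := θ.comm n (n+1)
  rw [hQd, Preadditive.comp_neg] at this
  rw [← this]
  exact add_neg_cancel _

end Desc

section Mid

variable (K₁ K₃ : CochainComplex C ℕ) (θ : ∀ n, K₃.X n ⟶ K₁.X (n+1))
  (hθ : ∀ n, θ n ≫ K₁.d (n+1) (n+1+1) + K₃.d n (n+1) ≫ θ (n+1) = 0)

/-- The differential of the twisted direct sum. -/
noncomputable def midD (n : ℕ) : (K₁.X n ⊞ K₃.X n) ⟶ (K₁.X (n+1) ⊞ K₃.X (n+1)) :=
  biprod.desc (K₁.d n (n+1) ≫ biprod.inl) (θ n ≫ biprod.inl + K₃.d n (n+1) ≫ biprod.inr)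

theorem midD_fst (n : ℕ) :
    midD K₁ K₃ θ n ≫ biprod.fst = biprod.fst ≫ K₁.d n (n+1) + biprod.snd ≫ θ n := by
  apply biprod.hom_ext' <;> simp [midD]

theorem midD_snd (n : ℕ) :
    midD K₁ K₃ θ n ≫ biprod.snd = biprod.snd ≫ K₃.d n (n+1) := by
  apply biprod.hom_ext' <;> simp [midD]

theorem inl_midD (n : ℕ) :
    biprod.inl ≫ midD K₁ K₃ θ n = K₁.d n (n+1) ≫ biprod.inl := by
  simp [midD]

include hθ in
theorem midD_sq (n : ℕ) : midD K₁ K₃ θ n ≫ midD K₁ K₃ θ (n+1) = 0 := by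
  apply biprod.hom_ext
  · rw [Category.assoc, midD_fst, Preadditive.comp_add, ← Category.assoc, midD_fst,
      ← Category.assoc, midD_snd, zero_comp]
    apply biprod.hom_ext'
    · simp
    · have := hθ n
      simp only [Preadditive.add_comp, Category.assoc, Preadditive.comp_add, biprod.inr_fst_assoc,
        zero_comp, biprod.inr_snd_assoc, zero_add, comp_zero]
      exact this
  · rw [Category.assoc, midD_snd, ← Category.assoc, midD_snd, Category.assoc,
      HomologicalComplex.d_comp_d, comp_zero, zero_comp]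

/-- The twisted direct sum complex. -/
noncomputable def midCx : CochainComplex C ℕ :=
  CochainComplex.of (fun n => K₁.X n ⊞ K₃.X n) (midD K₁ K₃ θ) (midD_sq K₁ K₃ θ hθ)

theorem midCx_d (n : ℕ) : (midCx K₁ K₃ θ hθ).d n (n+1) = midD K₁ K₃ θ n :=
  CochainComplex.of_d (fun n => K₁.X n ⊞ K₃.X n) (midD K₁ K₃ θ) n

/-- inclusion -/
noncomputable def midF : K₁ ⟶ midCx K₁ K₃ θ hθ where
  f n := (biprod.inl : K₁.X n ⟶ K₁.X n ⊞ K₃.X n)
  comm' i j hij := by
    obtain rfl : i + 1 = j := hij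
    show (biprod.inl : K₁.X i ⟶ K₁.X i ⊞ K₃.X i) ≫ (midCx K₁ K₃ θ hθ).d i (i+1) =
      K₁.d i (i+1) ≫ (biprod.inl : K₁.X (i+1) ⟶ K₁.X (i+1) ⊞ K₃.X (i+1))
    rw [midCx_d]
    exact inl_midD K₁ K₃ θ i

/-- projection -/
noncomputable def midG : midCx K₁ K₃ θ hθ ⟶ K₃ where
  f n := (biprod.snd : K₁.X n ⊞ K₃.X n ⟶ K₃.X n)
  comm' i j hij := by
    obtain rfl : i + 1 = j := hij
    show (biprod.snd : K₁.X i ⊞ K₃.X i ⟶ K₃.X i) ≫ K₃.d i (i+1) =
      (midCx K₁ K₃ θ hθ).d i (i+1) ≫ (biprod.snd : K₁.X (i+1) ⊞ K₃.X (i+1) ⟶ K₃.X (i+1))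
    rw [midCx_d]
    exact (midD_snd K₁ K₃ θ i).symm

theorem mid_zero : midF K₁ K₃ θ hθ ≫ midG K₁ K₃ θ hθ = 0 := by
  ext n
  show (biprod.inl : K₁.X n ⟶ K₁.X n ⊞ K₃.X n) ≫ (biprod.snd : K₁.X n ⊞ K₃.X n ⟶ K₃.X n) = 0
  simp

theorem mid_shortExact :
    (ShortComplex.mk (midF K₁ K₃ θ hθ) (midG K₁ K₃ θ hθ) (mid_zero K₁ K₃ θ hθ)).ShortExact := by
  apply HomologicalComplex.shortExact_of_degreewise_shortExact
  intro n
  exact (ShortComplex.Splitting.ofHasBinaryBiproduct (K₁.X n) (K₃.X n)).shortExact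

end Mid

section Horseshoe

variable {S : ShortComplex C} (hS : S.ShortExact) (I₁ : InjectiveResolution S.X₁)
  (I₃ : InjectiveResolution S.X₃)

include hS I₁ I₃ in
/-- The horseshoe lemma: a short exact sequence has an injective resolution extending given
resolutions of its outer terms. -/
theorem nonempty_sesRes_of : Nonempty (RDer.SESRes S) := by
  haveI := hS.mono_f
  haveI := hS.epi_g
  obtain ⟨ι₁, hι₁, hm₁⟩ : ∃ ι : S.X₁ ⟶ I₁.cocomplex.X 0, ι = I₁.ι.f 0 ∧ Mono ι :=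
    ⟨I₁.ι.f 0, rfl, (inferInstance : Mono (I₁.ι.f 0))⟩
  obtain ⟨ι₃, hι₃, hm₃⟩ : ∃ ι : S.X₃ ⟶ I₃.cocomplex.X 0, ι = I₃.ι.f 0 ∧ Mono ι :=
    ⟨I₃.ι.f 0, rfl, (inferInstance : Mono (I₃.ι.f 0))⟩
  haveI := hm₁
  haveI := hm₃
  have hι₁d : ι₁ ≫ I₁.cocomplex.d 0 1 = 0 := by rw [hι₁]; exact I₁.ι_f_zero_comp_complex_d
  have hι₃d : ι₃ ≫ I₃.cocomplex.d 0 1 = 0 := by rw [hι₃]; exact I₃.ι_f_zero_comp_complex_d
  have ex₁ : (ShortComplex.mk ι₁ (I₁.cocomplex.d 0 1) hι₁d).Exact := by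
    subst hι₁; exact I₁.exact₀
  have ex₃ : (ShortComplex.mk ι₃ (I₃.cocomplex.d 0 1) hι₃d).Exact := by
    subst hι₃; exact I₃.exact₀
  let u : S.X₂ ⟶ I₁.cocomplex.X 0 := Injective.factorThru ι₁ S.f
  have hu : S.f ≫ u = ι₁ := Injective.comp_factorThru _ _
  let tb : S.X₃ ⟶ I₁.cocomplex.X 1 := hS.exact.desc (-(u ≫ I₁.cocomplex.d 0 1)) (by
    rw [Preadditive.comp_neg, ← Category.assoc, hu, hι₁d, neg_zero])
  have htb : S.g ≫ tb = -(u ≫ I₁.cocomplex.d 0 1) := hS.exact.g_desc _ _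
  have htbd : tb ≫ I₁.cocomplex.d 1 2 = 0 := by
    rw [← cancel_epi S.g, ← Category.assoc, htb, Preadditive.neg_comp, Category.assoc,
      I₁.cocomplex.d_comp_d, comp_zero, neg_zero, comp_zero]
  obtain ⟨θ, hθ0, hθ⟩ := exists_family I₃ I₁.cocomplex tb htbd
  have hθ0' : ι₃ ≫ θ 0 = tb := by rw [hι₃]; exact hθ0
  let M : CochainComplex C ℕ := midCx I₁.cocomplex I₃.cocomplex θ hθ
  -- the augmentation
  let j : S.X₂ ⟶ I₁.cocomplex.X 0 ⊞ I₃.cocomplex.X 0 := biprod.lift u (S.g ≫ ι₃)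
  have hj : j ≫ midD I₁.cocomplex I₃.cocomplex θ 0 = 0 := by
    apply biprod.hom_ext
    · rw [Category.assoc, midD_fst, zero_comp, Preadditive.comp_add, ← Category.assoc,
        ← Category.assoc, biprod.lift_fst, biprod.lift_snd, Category.assoc, hθ0', htb]
      exact add_neg_cancel _
    · rw [Category.assoc, midD_snd, zero_comp, ← Category.assoc, biprod.lift_snd, Category.assoc,
        hι₃d, comp_zero]
  have hmono : Mono j := by
    apply Preadditive.mono_of_cancel_zero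
    intro P z hz
    have hz1 : z ≫ u = 0 := by
      have := hz =≫ biprod.fst
      simpa [j] using this
    have hz3 : (z ≫ S.g) ≫ ι₃ = 0 := by
      have := hz =≫ biprod.snd
      simpa [j] using this
    have hz3' : z ≫ S.g = 0 := by rw [← cancel_mono ι₃, hz3, zero_comp]
    have hz' : hS.exact.lift z hz3' ≫ S.f = z := hS.exact.lift_f _ _
    have h1 : hS.exact.lift z hz3' ≫ ι₁ = 0 := by rw [← hu, ← Category.assoc, hz', hz1]
    have h2 : hS.exact.lift z hz3' = 0 := by rw [← cancel_mono ι₁, h1, zero_comp]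
    rw [← hz', h2, zero_comp]
  have hex : (ShortComplex.mk j (midD I₁.cocomplex I₃.cocomplex θ 0) hj).Exact := by
    rw [ShortComplex.exact_iff_exact_up_to_refinements]
    intro A y hy
    have hy' : y ≫ midD I₁.cocomplex I₃.cocomplex θ 0 = 0 := hy
    have hy3 : (y ≫ biprod.snd) ≫ I₃.cocomplex.d 0 1 = 0 := by
      have := hy' =≫ biprod.snd
      rw [Category.assoc, midD_snd, zero_comp, ← Category.assoc] at this
      exact this
    have hy1 : (y ≫ biprod.fst) ≫ I₁.cocomplex.d 0 1 + (y ≫ biprod.snd) ≫ θ 0 = 0 := by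
      have := hy' =≫ biprod.fst
      rw [Category.assoc, midD_fst, zero_comp, Preadditive.comp_add, ← Category.assoc,
        ← Category.assoc] at this
      exact this
    have hx₃ : ex₃.lift (y ≫ biprod.snd) hy3 ≫ ι₃ = y ≫ biprod.snd := ex₃.lift_f _ _
    obtain ⟨A', π, hπ, x₂, hx₂⟩ := surjective_up_to_refinements_of_epi S.g
      (ex₃.lift (y ≫ biprod.snd) hy3)
    have hy1' : y ≫ biprod.fst ≫ I₁.cocomplex.d 0 1 = -(y ≫ biprod.snd ≫ θ 0) := by
      rw [← Category.assoc, ← Category.assoc]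
      exact eq_neg_of_add_eq_zero_left hy1
    have e3 : π ≫ y ≫ biprod.snd ≫ θ 0 = x₂ ≫ S.g ≫ tb := by
      rw [← Category.assoc y, ← hx₃, Category.assoc, hθ0', ← Category.assoc, hx₂, Category.assoc]
    have hw : (π ≫ y ≫ biprod.fst - x₂ ≫ u) ≫ I₁.cocomplex.d 0 1 = 0 := by
      have e1 : π ≫ y ≫ biprod.fst ≫ I₁.cocomplex.d 0 1 = -(π ≫ y ≫ biprod.snd ≫ θ 0) := by
        rw [hy1', Preadditive.comp_neg]
      have e2 : x₂ ≫ u ≫ I₁.cocomplex.d 0 1 = -(π ≫ y ≫ biprod.snd ≫ θ 0) := by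
        rw [e3, htb, Preadditive.comp_neg, neg_neg]
      rw [Preadditive.sub_comp]
      simp only [Category.assoc]
      rw [e1, e2, sub_self]
    have hx₁ : ex₁.lift _ hw ≫ ι₁ = π ≫ y ≫ biprod.fst - x₂ ≫ u := ex₁.lift_f _ _
    refine ⟨A', π, hπ, x₂ + ex₁.lift _ hw ≫ S.f, ?_⟩
    show π ≫ y = (x₂ + ex₁.lift _ hw ≫ S.f) ≫ j
    apply biprod.hom_ext
    · rw [Category.assoc, Category.assoc, biprod.lift_fst, Preadditive.add_comp, Category.assoc,
        hu, hx₁]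
      abel
    · rw [Category.assoc, Category.assoc, biprod.lift_snd, Preadditive.add_comp, Category.assoc,
        S.zero_assoc, zero_comp, comp_zero, add_zero, ← Category.assoc x₂, ← hx₂, Category.assoc, hx₃]
  have hMd : M.d 0 1 = midD I₁.cocomplex I₃.cocomplex θ 0 := midCx_d _ _ _ _ 0
  have hjM : j ≫ M.d 0 1 = 0 := by rw [hMd]; exact hj
  let ι₂ : (CochainComplex.single₀ C).obj S.X₂ ⟶ M :=
    (CochainComplex.fromSingle₀Equiv M S.X₂).symm ⟨j, hjM⟩
  have hι₂0 : ι₂.f 0 = j :=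
    CochainComplex.fromSingle₀Equiv_symm_apply_f_zero (C := M) (X := S.X₂) j hjM
  have hSE := mid_shortExact I₁.cocomplex I₃.cocomplex θ hθ
  have hq : QuasiIso ι₂ := ⟨fun n => by
    cases n with
    | zero =>
      rw [CochainComplex.quasiIsoAt₀_iff, ShortComplex.quasiIso_iff_of_zeros]
      · refine (ShortComplex.exact_and_mono_f_iff_of_iso ?_).2 ⟨hex, hmono⟩
        exact ShortComplex.isoMk (Iso.refl _) (Iso.refl _) (Iso.refl _) (by simp [hι₂0])
          (by simp [hMd])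
      all_goals rfl
    | succ n =>
      rw [quasiIsoAt_iff_exactAt]
      · exact hSE.exactAt_X₂ (n+1) (I₁.cocomplex_exactAt_succ n) (I₃.cocomplex_exactAt_succ n)
      · apply CochainComplex.exactAt_succ_single_obj⟩
  let I₂ : InjectiveResolution S.X₂ :=
    { cocomplex := M
      injective := fun n => (inferInstance : Injective (I₁.cocomplex.X n ⊞ I₃.cocomplex.X n))
      ι := ι₂
      quasiIso := hq }
  refine ⟨{ I₁ := I₁, I₂ := I₂, I₃ := I₃, f := midF _ _ θ hθ, g := midG _ _ θ hθ,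
            zero := mid_zero _ _ θ hθ, ι_f := ?_, ι_g := ?_, shortExact := hSE }⟩
  · apply HomologicalComplex.from_single_hom_ext
    show I₁.ι.f 0 ≫ biprod.inl = ((CochainComplex.single₀ C).map S.f).f 0 ≫ ι₂.f 0
    rw [CochainComplex.single₀_map_f_zero, hι₂0, ← hι₁]
    apply biprod.hom_ext
    · simp [j, hu]
    · simp [j]
  · apply HomologicalComplex.from_single_hom_ext
    show ι₂.f 0 ≫ biprod.snd = ((CochainComplex.single₀ C).map S.g).f 0 ≫ I₃.ι.f 0
    rw [CochainComplex.single₀_map_f_zero, hι₂0, ← hι₃]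
    simp [j]

end Horseshoe

section LES

variable [HasInjectiveResolutions C] (F : C ⥤ D) [F.Additive] {S : ShortComplex C}
  (T : RDer.SESRes S)

theorem ι_f_zero : T.I₁.ι.f 0 ≫ T.f.f 0 = S.f ≫ T.I₂.ι.f 0 := by
  have := HomologicalComplex.congr_hom T.ι_f 0
  simpa using this

theorem ι_g_zero : T.I₂.ι.f 0 ≫ T.g.f 0 = S.g ≫ T.I₃.ι.f 0 := by
  have := HomologicalComplex.congr_hom T.ι_g 0
  simpa using this

theorem map_f_iso (n : ℕ) :
    (F.rightDerived n).map S.f ≫ (T.I₂.isoRightDerivedObj F n).hom =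
      (T.I₁.isoRightDerivedObj F n).hom ≫ (HomologicalComplex.homologyFunctor D _ n).map
        ((F.mapHomologicalComplex (ComplexShape.up ℕ)).map T.f) :=
  InjectiveResolution.isoRightDerivedObj_hom_naturality S.f T.I₁ T.I₂ T.f (ι_f_zero T) F n

theorem map_g_iso (n : ℕ) :
    (F.rightDerived n).map S.g ≫ (T.I₃.isoRightDerivedObj F n).hom =
      (T.I₂.isoRightDerivedObj F n).hom ≫ (HomologicalComplex.homologyFunctor D _ n).map
        ((F.mapHomologicalComplex (ComplexShape.up ℕ)).map T.g) :=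
  InjectiveResolution.isoRightDerivedObj_hom_naturality S.g T.I₂ T.I₃ T.g (ι_g_zero T) F n

/-- The connecting morphism of complexes with normalised types, together with its properties. -/
theorem exists_delta (n₀ n₁ : ℕ) (h : n₀ + 1 = n₁) :
    ∃ δ : (HomologicalComplex.homologyFunctor D _ n₀).obj
        ((F.mapHomologicalComplex (ComplexShape.up ℕ)).obj T.I₃.cocomplex) ⟶
      (HomologicalComplex.homologyFunctor D _ n₁).obj
        ((F.mapHomologicalComplex (ComplexShape.up ℕ)).obj T.I₁.cocomplex),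
      T.delta F n₀ n₁ h ≫ (T.I₁.isoRightDerivedObj F n₁).hom =
        (T.I₃.isoRightDerivedObj F n₀).hom ≫ δ ∧
      (HomologicalComplex.homologyFunctor D _ n₀).map
        ((F.mapHomologicalComplex (ComplexShape.up ℕ)).map T.g) ≫ δ = 0 ∧
      δ ≫ (HomologicalComplex.homologyFunctor D _ n₁).map
        ((F.mapHomologicalComplex (ComplexShape.up ℕ)).map T.f) = 0 ∧
      (∀ (z₁ : (HomologicalComplex.homologyFunctor D _ n₀).map
        ((F.mapHomologicalComplex (ComplexShape.up ℕ)).map T.g) ≫ δ = 0),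
        (ShortComplex.mk _ _ z₁).Exact) ∧
      (∀ (z₂ : δ ≫ (HomologicalComplex.homologyFunctor D _ n₁).map
        ((F.mapHomologicalComplex (ComplexShape.up ℕ)).map T.f) = 0),
        (ShortComplex.mk _ _ z₂).Exact) :=
  ⟨(T.map_shortExact F).δ n₀ n₁ h, T.delta_comp_isoRightDerivedObj_hom F n₀ n₁ h,
    (T.map_shortExact F).comp_δ n₀ n₁ h, (T.map_shortExact F).δ_comp n₀ n₁ h,
    fun _ => (T.map_shortExact F).homology_exact₃ n₀ n₁ h,
    fun _ => (T.map_shortExact F).homology_exact₁ n₀ n₁ h⟩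

theorem comp_delta (n₀ n₁ : ℕ) (h : n₀ + 1 = n₁) :
    (F.rightDerived n₀).map S.g ≫ T.delta F n₀ n₁ h = 0 := by
  obtain ⟨δ, hd, h1, h2, -, -⟩ := exists_delta F T n₀ n₁ h
  rw [← cancel_mono (T.I₁.isoRightDerivedObj F n₁).hom, Category.assoc, hd,
    reassoc_of% (map_g_iso F T n₀), h1, comp_zero, zero_comp]

theorem delta_comp (n₀ n₁ : ℕ) (h : n₀ + 1 = n₁) :
    T.delta F n₀ n₁ h ≫ (F.rightDerived n₁).map S.f = 0 := by
  obtain ⟨δ, hd, h1, h2, -, -⟩ := exists_delta F T n₀ n₁ h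
  rw [← cancel_mono (T.I₂.isoRightDerivedObj F n₁).hom, Category.assoc, map_f_iso F T n₁,
    reassoc_of% hd, h2, comp_zero, zero_comp]

include T in
theorem exact₂ (n : ℕ) (z : (F.rightDerived n).map S.f ≫ (F.rightDerived n).map S.g = 0) :
    (ShortComplex.mk ((F.rightDerived n).map S.f) ((F.rightDerived n).map S.g) z).Exact := by
  have hT := (T.map_shortExact F).homology_exact₂ n
  refine ShortComplex.exact_of_iso ?_ hT
  refine (ShortComplex.isoMk (T.I₁.isoRightDerivedObj F n) (T.I₂.isoRightDerivedObj F n)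
    (T.I₃.isoRightDerivedObj F n) ?_ ?_).symm
  · exact (map_f_iso F T n).symm
  · exact (map_g_iso F T n).symm

theorem exact₃ (n₀ n₁ : ℕ) (h : n₀ + 1 = n₁)
    (z : (F.rightDerived n₀).map S.g ≫ T.delta F n₀ n₁ h = 0) :
    (ShortComplex.mk ((F.rightDerived n₀).map S.g) (T.delta F n₀ n₁ h) z).Exact := by
  obtain ⟨δ, hd, h1, h2, e3, e1⟩ := exists_delta F T n₀ n₁ h
  refine ShortComplex.exact_of_iso ?_ (e3 h1)
  refine (ShortComplex.isoMk (T.I₂.isoRightDerivedObj F n₀) (T.I₃.isoRightDerivedObj F n₀)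
    (T.I₁.isoRightDerivedObj F n₁) ?_ ?_).symm
  · exact (map_g_iso F T n₀).symm
  · exact hd.symm

theorem exact₁ (n₀ n₁ : ℕ) (h : n₀ + 1 = n₁)
    (z : T.delta F n₀ n₁ h ≫ (F.rightDerived n₁).map S.f = 0) :
    (ShortComplex.mk (T.delta F n₀ n₁ h) ((F.rightDerived n₁).map S.f) z).Exact := by
  obtain ⟨δ, hd, h1, h2, e3, e1⟩ := exists_delta F T n₀ n₁ h
  refine ShortComplex.exact_of_iso ?_ (e1 h2)
  refine (ShortComplex.isoMk (T.I₃.isoRightDerivedObj F n₀) (T.I₁.isoRightDerivedObj F n₁)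
    (T.I₂.isoRightDerivedObj F n₁) ?_ ?_).symm
  · exact hd.symm
  · exact (map_f_iso F T n₁).symm

end LES

section Main

variable [EnoughInjectives C] (F : C ⥤ D) [F.Additive]

theorem nonempty_sesRes {S : ShortComplex C} (hS : S.ShortExact) : Nonempty (RDer.SESRes S) :=
  nonempty_sesRes_of hS (injectiveResolution S.X₁) (injectiveResolution S.X₃)

/-- The connecting morphisms of the right derived functors. -/
noncomputable def derivedLES : RDer.DerivedLES F where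
  δ S hS n₀ n₁ h := (Classical.choice (nonempty_sesRes hS)).delta F n₀ n₁ h
  δ_eq S hS T n₀ n₁ h := delta_eq F _ T n₀ n₁ h
  δ_natural hS hS' φ n₀ n₁ h := delta_natural _ _ φ F n₀ n₁ h
  exact₂ S hS n := exact₂ F (Classical.choice (nonempty_sesRes hS)) n _
  comp_δ S hS n₀ n₁ h := comp_delta F _ n₀ n₁ h
  exact₃ S hS n₀ n₁ h := exact₃ F _ n₀ n₁ h _
  δ_comp S hS n₀ n₁ h := delta_comp F _ n₀ n₁ h
  exact₁ S hS n₀ n₁ h := exact₁ F _ n₀ n₁ h _

end Main

end Groth.Agent.H82.RDerLES
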