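import Mathlib
import Groth.Agent.H82.CechLES
import Groth.Agent.H82.RDerHorseshoe
import Groth.Agent.H58.LCBSeq
import Groth.Agent.H58.LCInj
import Groth.Agent.S11619

/-!
# Čech cohomology of injective modules and comparison with local cohomology
-/

set_option autoImplicit false
set_option linter.unusedSectionVars false
set_option linter.unusedVariables false
set_option linter.style.haveILetI false
set_option backward.isDefEq.respectTransparency false

universe u

open CategoryTheory Limits DerCA CochainComplex HomologicalComplex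

namespace Groth.Agent.H82.Cech

variable {R : Type u} [CommRing R] [IsNoetherianRing R]

/-- iterated divisibility up to torsion inside an injective module -/
theorem exists_smul_pow_eq_iter (N : Type u) [AddCommGroup N] [Module R N] [Module.Injective R N]
    (b : R) (n : ℕ) (x : N) :
    ∃ (y : N) (t : ℕ), (∀ r : R, r • x = 0 → r • y = 0) ∧ b ^ (t + n) • y = b ^ t • x := by
  induction n with
  | zero => exact ⟨x, 0, fun r hr => hr, rfl⟩
  | succ n ih =>
    obtain ⟨y₁, t₁, h₁, e₁⟩ := ih
    obtain ⟨y₂, t₂, h₂, e₂⟩ := Groth.Agent.H58.LC.exists_smul_pow_eq N b y₁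
    refine ⟨y₂, t₁ + t₂, fun r hr => h₂ r (h₁ r hr), ?_⟩
    have : b ^ (t₁ + t₂ + (n + 1)) = b ^ (t₁ + n) * b ^ (t₂ + 1) := by
      rw [← pow_add]
      congr 1
      omega
    rw [this, mul_smul, e₂, smul_comm, e₁, ← mul_smul, ← pow_add, add_comm]

theorem mkLinearMap_surjective_cechH0 (E : ModuleCat.{u} R) [Module.Injective R E] (f : R)
    (fs : List R) :
    Function.Surjective
      (LocalizedModule.mkLinearMap (Submonoid.powers f) ((extCech E fs).homology 0)) := by
  obtain ⟨hinj, hrange⟩ := η_injective_and_range E fs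
  intro z
  induction z using LocalizedModule.induction_on with
  | h x s =>
    obtain ⟨s, n, rfl⟩ := s
    obtain ⟨m', t, hann, hm'⟩ := exists_smul_pow_eq_iter E f n ((η E fs).hom x)
    have hx : (η E fs).hom x ∈ DRing.torsionSub (Ideal.span {x | x ∈ fs}) E := by
      rw [← hrange]
      exact ⟨x, rfl⟩
    have hm'mem : m' ∈ LinearMap.range (η E fs).hom := by
      rw [hrange]
      obtain ⟨k, hk⟩ := hx
      exact ⟨k, fun a ha => hann a (hk a ha)⟩
    obtain ⟨y, rfl⟩ := hm'mem
    have hy : f ^ (t + n) • y = f ^ t • x := hinj (by rw [map_smul, map_smul]; exact hm')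
    refine ⟨y, ?_⟩
    rw [LocalizedModule.mkLinearMap_apply, LocalizedModule.mk_eq]
    refine ⟨⟨f ^ t, t, rfl⟩, ?_⟩
    rw [Submonoid.smul_def, Submonoid.smul_def, Submonoid.smul_def, one_smul]
    show f ^ t • f ^ n • y = f ^ t • x
    rw [← mul_smul, ← pow_add]
    exact hy

/-- Čech cohomology of an injective module vanishes in positive degrees. -/
theorem isZero_extCechH_injective (E : ModuleCat.{u} R) [Module.Injective R E] :
    ∀ (fs : List R) (q : ℤ), 1 ≤ q → IsZero (extCechH fs E q)
  | [], q, hq => Groth.Agent.S9264.result R [] E q (Or.inr (by simp only [List.length_nil, Nat.cast_zero]; omega))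
  | f :: fs, q, hq => by
    have ih := isZero_extCechH_injective E fs
    by_cases h1 : q = 1
    · subst h1
      refine isZero_cocone_homology_of_epi (locCxUnit (Submonoid.powers f) (extCech E fs)) 0 1 rfl
        ?_ (ih 1 le_rfl)
      rw [ModuleCat.epi_iff_surjective]
      exact homologyMap_locCxUnit_surjective _ _ 0 (mkLinearMap_surjective_cechH0 E f fs)
    · exact isZero_cocone_homology (locCxUnit (Submonoid.powers f) (extCech E fs)) q
        (isZero_homology_locCx _ _ _ (ih (q - 1) (by omega))) (ih q (by omega))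

theorem vanishOnInj_cechH (fs : List R) : CDelta.VanishOnInj (cechH fs) := by
  intro n E hE
  haveI : Module.Injective R E := Module.injective_module_of_injective_object R E
  exact isZero_extCechH_injective E fs ((n + 1 : ℕ) : ℤ) (by push_cast; omega)

theorem hasCLES_rightDerived (F : ModuleCat.{u} R ⥤ ModuleCat.{u} R) [F.Additive] :
    CDelta.HasCLES (fun n => F.rightDerived n) := by
  intro S hS n
  let Δ := Groth.Agent.H82.RDerLES.derivedLES F
  have z : (F.rightDerived n).map S.f ≫ (F.rightDerived n).map S.g = 0 := by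
    rw [← CategoryTheory.Functor.map_comp, S.zero, CategoryTheory.Functor.map_zero]
  exact ⟨z, fun _ => Δ.exact₂ S hS n, Δ.δ S hS n (n + 1) rfl, Δ.comp_δ S hS n (n + 1) rfl,
    Δ.δ_comp S hS n (n + 1) rfl, Δ.exact₃ S hS n (n + 1) rfl, Δ.exact₁ S hS n (n + 1) rfl⟩

/-- Čech cohomology computes local cohomology over a Noetherian ring. -/
theorem nonempty_cechH_iso_localCohomology (fs : List R) (M : ModuleCat.{u} R) (i : ℕ) :
    Nonempty (extCechH fs M (i : ℤ) ≅ (localCohomology (Ideal.span {x | x ∈ fs}) i).obj M) := by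
  haveI := Groth.Agent.S11619.result R (Ideal.span {x | x ∈ fs})
  have v' : CDelta.VanishOnInj
      (fun n => (DRing.gammaI (Ideal.span {x | x ∈ fs})).rightDerived n) := fun n E hE =>
    Functor.isZero_rightDerived_obj_injective_succ _ n E
  have e : cechH fs 0 ≅ (DRing.gammaI (Ideal.span {x | x ∈ fs})).rightDerived 0 :=
    cechH0Iso fs ≪≫ (Functor.rightDerivedZeroIsoSelf _).symm
  obtain ⟨j⟩ := CDelta.nonempty_iso_of_hasCLES (hasCLES_cechH fs)
    (hasCLES_rightDerived (DRing.gammaI (Ideal.span {x | x ∈ fs})))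
    (vanishOnInj_cechH fs) v' e i M
  exact ⟨j ≪≫ (Groth.Agent.H58.LC.rightDerivedIso (Ideal.span {x | x ∈ fs}) i).app M⟩

end Groth.Agent.H82.Cech
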