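import Mathlib
import Groth.Prelude.Def_FlatCA

set_option backward.isDefEq.respectTransparency false
set_option linter.unusedSectionVars false

/-!
# Associated primes (strict sense) of fibre modules

Helper lemmas about `FlatCA.ass`, `FlatCA.fiberMod` and `FlatCA.toFiberMod`.
-/

universe u

namespace Groth.Agent.H82.AssFiber

open TensorProduct

attribute [local instance] Algebra.TensorProduct.rightAlgebra

section General

variable {S : Type u} [CommRing S]

lemma mem_ann {X : Type*} [AddCommGroup X] [Module S X] (x : X) (s : S) :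
    s ∈ (Submodule.span S {x}).annihilator ↔ s • x = 0 :=
  Submodule.mem_annihilator_span_singleton x s

lemma ass_iff {X : Type*} [AddCommGroup X] [Module S X] (q : Ideal S) :
    q ∈ FlatCA.ass S X ↔ q.IsPrime ∧ ∃ x : X, ∀ s, s ∈ q ↔ s • x = 0 := by
  constructor
  · rintro ⟨hq, x, rfl⟩
    exact ⟨hq, x, fun s => mem_ann x s⟩
  · rintro ⟨hq, x, hx⟩
    exact ⟨hq, x, Ideal.ext fun s => (hx s).trans (mem_ann x s).symm⟩

lemma ass_of_injective {X Y : Type*} [AddCommGroup X] [Module S X] [AddCommGroup Y] [Module S Y]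
    (f : X →ₗ[S] Y) (hf : Function.Injective f) {q : Ideal S} (h : q ∈ FlatCA.ass S X) :
    q ∈ FlatCA.ass S Y := by
  rw [ass_iff] at h ⊢
  obtain ⟨hq, x, hx⟩ := h
  refine ⟨hq, f x, fun s => (hx s).trans ?_⟩
  constructor
  · intro h
    rw [← map_smul, h, map_zero]
  · intro h
    apply hf
    rw [map_smul, h, map_zero]

lemma ass_of_equiv {X Y : Type*} [AddCommGroup X] [Module S X] [AddCommGroup Y] [Module S Y]
    (e : X ≃ₗ[S] Y) {q : Ideal S} : q ∈ FlatCA.ass S X ↔ q ∈ FlatCA.ass S Y :=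
  ⟨ass_of_injective e.toLinearMap e.injective, ass_of_injective e.symm.toLinearMap e.symm.injective⟩

lemma ass_of_exact {X Y Z : Type*} [AddCommGroup X] [Module S X] [AddCommGroup Y] [Module S Y]
    [AddCommGroup Z] [Module S Z]
    (f : X →ₗ[S] Y) (g : Y →ₗ[S] Z) (hf : Function.Injective f) (hfg : Function.Exact f g)
    {q : Ideal S} (h : q ∈ FlatCA.ass S Y) : q ∈ FlatCA.ass S X ∨ q ∈ FlatCA.ass S Z := by
  rw [ass_iff] at h
  obtain ⟨hq, y, hy⟩ := h
  by_cases hcase : ∃ t : S, t ∉ q ∧ g (t • y) = 0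
  · obtain ⟨t, htq, ht⟩ := hcase
    obtain ⟨x, hx⟩ := (hfg (t • y)).mp ht
    left
    rw [ass_iff]
    refine ⟨hq, x, fun s => ?_⟩
    constructor
    · intro hs
      apply hf
      rw [map_smul, hx, map_zero, smul_smul]
      exact (hy _).mp (q.mul_mem_right t hs)
    · intro hs
      have h1 : (s * t) • y = 0 := by rw [mul_smul, ← hx, ← map_smul, hs, map_zero]
      have h2 := (hy _).mpr h1
      exact (hq.mem_or_mem h2).resolve_right htq
  · right
    push Not at hcase
    rw [ass_iff]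
    refine ⟨hq, g y, fun s => ?_⟩
    constructor
    · intro hs
      rw [← map_smul, (hy s).mp hs, map_zero]
    · intro hs
      by_contra hsq
      exact hcase s hsq (by rw [map_smul]; exact hs)

lemma not_mem_ass_of_subsingleton {X : Type*} [AddCommGroup X] [Module S X] [Subsingleton X]
    {q : Ideal S} : q ∉ FlatCA.ass S X := by
  intro h
  rw [ass_iff] at h
  obtain ⟨hq, x, hx⟩ := h
  exact hq.ne_top ((Ideal.eq_top_iff_one q).mpr ((hx 1).mpr (Subsingleton.elim _ _)))

end General

section PN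

variable {R : Type u} [CommRing R] (I : Ideal R) (S : Type u) [CommRing S] [Algebra R S]
  (N : Type u) [AddCommGroup N] [Module S N] [Module R N] [IsScalarTower R S N]

/-- The submodule `(I S) N`. -/
abbrev pN {R : Type u} [CommRing R] (I : Ideal R) (S : Type u) [CommRing S] [Algebra R S]
    (N : Type u) [AddCommGroup N] [Module S N] : Submodule S N :=
  (I.map (algebraMap R S)) • (⊤ : Submodule S N)

lemma smul_mem_of_mem_map {s : S} (hs : s ∈ I.map (algebraMap R S)) :
    ∀ n : N, s • n ∈ (I • ⊤ : Submodule R N) := by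
  induction hs using Submodule.span_induction with
  | mem x hx =>
    obtain ⟨a, ha, rfl⟩ := hx
    intro n
    rw [algebraMap_smul]
    exact Submodule.smul_mem_smul ha Submodule.mem_top
  | zero => intro n; rw [zero_smul]; exact zero_mem _
  | add x y _ _ hx hy => intro n; rw [add_smul]; exact add_mem (hx n) (hy n)
  | smul c x _ hx =>
    intro n
    rw [smul_eq_mul, mul_comm, mul_smul]
    exact hx (c • n)

lemma mem_pN_iff (n : N) : n ∈ pN I S N ↔ n ∈ (I • ⊤ : Submodule R N) := by
  constructor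
  · intro h
    refine Submodule.smul_induction_on h (fun s hs n _ => smul_mem_of_mem_map I S N hs n)
      (fun x y hx hy => add_mem hx hy)
  · intro h
    refine Submodule.smul_induction_on h (fun a ha n _ => ?_) (fun x y hx hy => add_mem hx hy)
    rw [← algebraMap_smul S a n]
    exact Submodule.smul_mem_smul (Ideal.mem_map_of_mem _ ha) Submodule.mem_top

/-- `n ↦ n ⊗ 1`, as an `S`-linear map. -/
noncomputable def toTensorQuot : N →ₗ[S] N ⊗[R] (R ⧸ I) where
  toFun n := n ⊗ₜ[R] (1 : R ⧸ I)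
  map_add' a b := TensorProduct.add_tmul a b 1
  map_smul' s n := by
    rw [RingHom.id_apply, TensorProduct.smul_tmul']

lemma toTensorQuot_surjective : Function.Surjective (toTensorQuot I S N) := by
  intro x
  induction x using TensorProduct.induction_on with
  | zero => exact ⟨0, map_zero _⟩
  | tmul n c =>
    obtain ⟨c, rfl⟩ := Ideal.Quotient.mk_surjective c
    refine ⟨c • n, ?_⟩
    show (c • n) ⊗ₜ[R] (1 : R ⧸ I) = n ⊗ₜ[R] (Ideal.Quotient.mk I c)
    rw [TensorProduct.smul_tmul]
    congr 1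
    rw [Algebra.smul_def, mul_one]
    rfl
  | add x y hx hy =>
    obtain ⟨a, rfl⟩ := hx
    obtain ⟨b, rfl⟩ := hy
    exact ⟨a + b, map_add _ _ _⟩

lemma ker_toTensorQuot : LinearMap.ker (toTensorQuot I S N) = pN I S N := by
  ext n
  rw [LinearMap.mem_ker, mem_pN_iff]
  show n ⊗ₜ[R] (1 : R ⧸ I) = 0 ↔ _
  rw [← (TensorProduct.tensorQuotEquivQuotSMul N I).map_eq_zero_iff,
    ← map_one (Ideal.Quotient.mk I), TensorProduct.tensorQuotEquivQuotSMul_tmul_mk, one_smul,
    Submodule.Quotient.mk_eq_zero]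

/-- `N / (IS)N ≃ N ⊗ R/I`, `S`-linearly. -/
noncomputable def quotEquivTensorQuot : (N ⧸ pN I S N) ≃ₗ[S] N ⊗[R] (R ⧸ I) :=
  (Submodule.quotEquivOfEq _ _ (ker_toTensorQuot I S N).symm).trans
    ((toTensorQuot I S N).quotKerEquivOfSurjective (toTensorQuot_surjective I S N))

lemma ass_tensorQuot_iff {q : Ideal S} :
    q ∈ FlatCA.ass S (N ⊗[R] (R ⧸ I)) ↔ q ∈ FlatCA.ass S (N ⧸ pN I S N) :=
  (ass_of_equiv (quotEquivTensorQuot I S N)).symm

end PN

section Fiber

variable {R : Type u} [CommRing R] (p : Ideal R) [p.IsPrime] (S : Type u) [CommRing S]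
  [Algebra R S] (N : Type u) [AddCommGroup N] [Module S N] [Module R N] [IsScalarTower R S N]

theorem isScalarTower_fiberMod : IsScalarTower S (p.Fiber S) (FlatCA.fiberMod p S N) :=
  inferInstanceAs (IsScalarTower S (p.Fiber S) ((p.Fiber S) ⊗[S] N))

lemma algebraMap_comp (r : R) :
    algebraMap S (p.Fiber S) (algebraMap R S r) = algebraMap R (p.Fiber S) r := by
  rw [← IsScalarTower.algebraMap_apply]

lemma algebraMap_fiber (r : R) :
    algebraMap R (p.Fiber S) r
      = algebraMap p.ResidueField (p.Fiber S) (algebraMap R p.ResidueField r) := by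
  rw [← IsScalarTower.algebraMap_apply]

lemma isUnit_algebraMap {r : R} (hr : r ∉ p) : IsUnit (algebraMap R (p.Fiber S) r) := by
  have h1 : IsUnit (algebraMap R p.ResidueField r) := by
    rw [isUnit_iff_ne_zero, Ne, Ideal.algebraMap_residueField_eq_zero]
    exact hr
  rw [algebraMap_fiber]
  exact h1.map _

lemma smul_eq_zero_of_not_mem {r : R} (hr : r ∉ p) (x : FlatCA.fiberMod p S N)
    (h : algebraMap R S r • x = 0) : x = 0 := by
  haveI := isScalarTower_fiberMod p S N
  rw [← algebraMap_smul (p.Fiber S), algebraMap_comp] at h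
  exact (isUnit_algebraMap p S hr).smul_left_cancel.mp (by rw [h, smul_zero])

lemma algebraMap_eq_zero_of_mem {s : S} (hs : s ∈ p.map (algebraMap R S)) :
    algebraMap S (p.Fiber S) s = 0 := by
  have hle : p.map (algebraMap R S) ≤ RingHom.ker (algebraMap S (p.Fiber S)) := by
    rw [Ideal.map_le_iff_le_comap]
    intro a ha
    rw [Ideal.mem_comap, RingHom.mem_ker, algebraMap_comp, algebraMap_fiber,
      (Ideal.algebraMap_residueField_eq_zero).mpr ha, map_zero]
  exact hle hs

lemma toFiberMod_eq_zero_of_mem {n : N} (hn : n ∈ pN p S N) : FlatCA.toFiberMod p S N n = 0 := by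
  haveI := isScalarTower_fiberMod p S N
  refine Submodule.smul_induction_on hn (fun s hs n _ => ?_)
    (fun x y hx hy => by rw [map_add, hx, hy, add_zero])
  rw [map_smul, ← algebraMap_smul (p.Fiber S), algebraMap_eq_zero_of_mem p S hs, zero_smul]

lemma exists_smul_eq_toFiberMod_aux (x : (p.Fiber S) ⊗[S] N) :
    ∃ r ∉ p, ∃ n : N, algebraMap R S r • x = (1 : p.Fiber S) ⊗ₜ[S] n := by
  induction x using TensorProduct.induction_on with
  | zero =>
    exact ⟨1, fun h => ‹p.IsPrime›.ne_top ((Ideal.eq_top_iff_one p).mpr h), 0, by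
      rw [smul_zero, TensorProduct.tmul_zero]⟩
  | tmul f n =>
    obtain ⟨r, hr, s, hs⟩ := Ideal.Fiber.exists_smul_eq_one_tmul p f
    refine ⟨r, hr, s • n, ?_⟩
    rw [TensorProduct.smul_tmul', algebraMap_smul, hs, ← TensorProduct.smul_tmul]
    congr 1
    rw [Algebra.smul_def, mul_one]
    rfl
  | add x y hx hy =>
    obtain ⟨r, hr, n, hn⟩ := hx
    obtain ⟨r', hr', n', hn'⟩ := hy
    refine ⟨r * r', ‹p.IsPrime›.mul_notMem hr hr', algebraMap R S r' • n + algebraMap R S r • n', ?_⟩
    rw [smul_add, map_mul, TensorProduct.tmul_add]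
    congr 1
    · rw [mul_comm, mul_smul, hn, TensorProduct.tmul_smul]
    · rw [mul_smul, hn', TensorProduct.tmul_smul]

lemma exists_smul_eq_toFiberMod (x : FlatCA.fiberMod p S N) :
    ∃ r ∉ p, ∃ n : N, algebraMap R S r • x = FlatCA.toFiberMod p S N n :=
  exists_smul_eq_toFiberMod_aux p S N x

/-! ### A map out of the fibre module detecting vanishing -/

/-- The multiplicative set `R ∖ p` inside `S`. -/
abbrev W : Submonoid S := Algebra.algebraMapSubmonoid S p.primeCompl

/-- The localisation of `N / pN` at `R ∖ p`. -/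
abbrev T : Type u := LocalizedModule (W p S) (N ⧸ pN p S N)

/-- The ideal `p S_p`. -/
abbrev J : Ideal (Localization (W p S)) :=
  (p.map (algebraMap R S)).map (algebraMap S (Localization (W p S)))

lemma J_le_annihilator : J p S ≤ Module.annihilator (Localization (W p S)) (T p S N) := by
  rw [Ideal.map_le_iff_le_comap]
  intro s hs
  rw [Ideal.mem_comap, Module.mem_annihilator]
  intro t
  rw [algebraMap_smul]
  induction t using LocalizedModule.induction_on with
  | h x w =>
    obtain ⟨n, rfl⟩ := Submodule.Quotient.mk_surjective _ x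
    rw [LocalizedModule.smul'_mk, ← Submodule.Quotient.mk_smul,
      (Submodule.Quotient.mk_eq_zero _).mpr (Submodule.smul_mem_smul hs Submodule.mem_top),
      LocalizedModule.zero_mk]

/-- The action of `S_p / p S_p` on `T`. -/
noncomputable def ρ : (Localization (W p S) ⧸ J p S) →+* Module.End S (T p S N) :=
  Ideal.Quotient.lift (J p S) (Module.toModuleEnd S (S := Localization (W p S)) (T p S N))
    (fun c hc => by
      ext t
      exact Module.mem_annihilator.mp (J_le_annihilator p S N hc) t)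

lemma ρ_mk (c : Localization (W p S)) (t : T p S N) :
    ρ p S N (Ideal.Quotient.mk _ c) t = c • t := rfl

/-- `N → T`. -/
noncomputable def ι₀ : N →ₗ[S] T p S N :=
  (LocalizedModule.mkLinearMap (W p S) (N ⧸ pN p S N)).comp (pN p S N).mkQ

/-- The bilinear map defining `θ`. -/
noncomputable def β : (p.Fiber S) →ₗ[S] N →ₗ[S] T p S N where
  toFun f := (ρ p S N ((Ideal.Fiber.algEquivAux₁ p (S := S)) f)).comp (ι₀ p S N)
  map_add' f g := by rw [map_add, map_add, LinearMap.add_comp]
  map_smul' s f := by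
    rw [RingHom.id_apply, map_smul]
    obtain ⟨c, hc⟩ := Ideal.Quotient.mk_surjective ((Ideal.Fiber.algEquivAux₁ p (S := S)) f)
    rw [← hc]
    ext n
    have h1 : s • (Ideal.Quotient.mk (J p S) c) = Ideal.Quotient.mk (J p S) (s • c) := rfl
    rw [h1, LinearMap.comp_apply, ρ_mk, LinearMap.smul_apply, LinearMap.comp_apply, ρ_mk,
      smul_assoc]

/-- The comparison map from the fibre module to the localisation of `N / pN`. -/
noncomputable def θ : FlatCA.fiberMod p S N →ₗ[S] T p S N :=
  TensorProduct.lift (β p S N)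

lemma θ_toFiberMod (n : N) : θ p S N (FlatCA.toFiberMod p S N n) = ι₀ p S N n := by
  show TensorProduct.lift (β p S N) ((1 : p.Fiber S) ⊗ₜ[S] n) = _
  rw [TensorProduct.lift.tmul]
  show (ρ p S N ((Ideal.Fiber.algEquivAux₁ p (S := S)) 1)) (ι₀ p S N n) = _
  rw [map_one, map_one]
  rfl

lemma exists_of_toFiberMod_eq_zero {n : N} (h : FlatCA.toFiberMod p S N n = 0) :
    ∃ r ∉ p, algebraMap R S r • n ∈ pN p S N := by
  have h1 : ι₀ p S N n = 0 := by rw [← θ_toFiberMod, h, map_zero]
  obtain ⟨⟨w, hw⟩, hw0⟩ := (IsLocalizedModule.eq_zero_iff (W p S)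
    (LocalizedModule.mkLinearMap (W p S) (N ⧸ pN p S N))).mp h1
  obtain ⟨r, hr, rfl⟩ := Submonoid.mem_map.mp hw
  refine ⟨r, hr, ?_⟩
  rw [← Submodule.Quotient.mk_eq_zero, Submodule.Quotient.mk_smul]
  exact hw0

lemma smul_toFiberMod_eq_zero_iff (s : S) (m : N) :
    s • FlatCA.toFiberMod p S N m = 0 ↔ ∃ r ∉ p, (algebraMap R S r * s) • m ∈ pN p S N := by
  rw [← map_smul]
  constructor
  · intro h
    obtain ⟨r, hr, hrs⟩ := exists_of_toFiberMod_eq_zero p S N h
    exact ⟨r, hr, by rw [mul_smul]; exact hrs⟩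
  · rintro ⟨r, hr, hrs⟩
    apply smul_eq_zero_of_not_mem p S N hr
    rw [← map_smul, ← mul_smul]
    exact toFiberMod_eq_zero_of_mem p S N hrs

lemma exists_ann_eq (x : FlatCA.fiberMod p S N) :
    ∃ m : N, ∀ s : S, s • x = 0 ↔ s • FlatCA.toFiberMod p S N m = 0 := by
  obtain ⟨r, hr, m, hm⟩ := exists_smul_eq_toFiberMod p S N x
  refine ⟨m, fun s => ?_⟩
  rw [← hm, smul_comm]
  constructor
  · intro h
    rw [h, smul_zero]
  · intro h
    exact smul_eq_zero_of_not_mem p S N hr _ h

/-! ### Annihilators over the fibre ring -/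

lemma comap_ann (x : FlatCA.fiberMod p S N) :
    (Submodule.span (p.Fiber S) {x}).annihilator.comap
        (Algebra.TensorProduct.includeRight (R := R) (A := p.ResidueField) (B := S)).toRingHom
      = (Submodule.span S {x}).annihilator := by
  have := isScalarTower_fiberMod p S N
  ext s
  rw [Ideal.mem_comap, mem_ann, mem_ann]
  show (algebraMap S (p.Fiber S) s) • x = 0 ↔ _
  rw [algebraMap_smul]

lemma ann_fiber_isPrime (x : FlatCA.fiberMod p S N)
    (h : (Submodule.span S {x}).annihilator.IsPrime) :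
    (Submodule.span (p.Fiber S) {x}).annihilator.IsPrime := by
  have := isScalarTower_fiberMod p S N
  rw [Ideal.isPrime_iff]
  constructor
  · intro htop
    have h1 : (1 : p.Fiber S) ∈ (Submodule.span (p.Fiber S) {x}).annihilator := by
      rw [htop]; exact Submodule.mem_top
    rw [mem_ann, one_smul] at h1
    apply h.ne_top
    rw [Ideal.eq_top_iff_one, mem_ann, h1, smul_zero]
  · intro f g hfg
    rw [mem_ann] at hfg
    obtain ⟨r, hr, s, hs⟩ := Ideal.Fiber.exists_smul_eq_one_tmul p f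
    obtain ⟨r', hr', s', hs'⟩ := Ideal.Fiber.exists_smul_eq_one_tmul p g
    rw [Algebra.smul_def] at hs hs'
    have hu := isUnit_algebraMap p S hr
    have hu' := isUnit_algebraMap p S hr'
    have key : (s * s') • x = 0 := by
      rw [← algebraMap_smul (p.Fiber S), map_mul]
      show ((1 : p.ResidueField) ⊗ₜ[R] s * (1 : p.ResidueField) ⊗ₜ[R] s') • x = 0
      rw [← hs, ← hs']
      have : algebraMap R (p.Fiber S) r * f * (algebraMap R (p.Fiber S) r' * g)
          = (algebraMap R (p.Fiber S) r * algebraMap R (p.Fiber S) r') * (f * g) := by ring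
      rw [this, mul_smul, hfg, smul_zero]
    have hmem : s * s' ∈ (Submodule.span S {x}).annihilator := (mem_ann x _).mpr key
    rcases h.mem_or_mem hmem with h1 | h1
    · left
      rw [mem_ann] at h1 ⊢
      rw [← algebraMap_smul (p.Fiber S)] at h1
      change ((1 : p.ResidueField) ⊗ₜ[R] s) • x = 0 at h1
      rw [← hs, mul_smul] at h1
      exact hu.smul_left_cancel.mp (by rw [h1, smul_zero])
    · right
      rw [mem_ann] at h1 ⊢
      rw [← algebraMap_smul (p.Fiber S)] at h1
      change ((1 : p.ResidueField) ⊗ₜ[R] s') • x = 0 at h1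
      rw [← hs', mul_smul] at h1
      exact hu'.smul_left_cancel.mp (by rw [h1, smul_zero])

lemma mem_ass_fiber_iff (q : Ideal S) :
    q ∈ FlatCA.ass S (FlatCA.fiberMod p S N) ↔
      ∃ Q ∈ FlatCA.ass (p.Fiber S) (FlatCA.fiberMod p S N),
        Q.comap (Algebra.TensorProduct.includeRight (R := R) (A := p.ResidueField)
          (B := S)).toRingHom = q := by
  constructor
  · rintro ⟨hq, x, rfl⟩
    exact ⟨_, ⟨ann_fiber_isPrime p S N x hq, x, rfl⟩, comap_ann p S N x⟩
  · rintro ⟨Q, ⟨hQ, x, rfl⟩, rfl⟩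
    rw [comap_ann]
    refine ⟨?_, x, rfl⟩
    rw [← comap_ann]
    exact Ideal.comap_isPrime _ _

/-! ### Comparison of `Ass (N / pN)` and `Ass` of the fibre module -/

lemma mem_ass_fiberMod_of_mem_ass_quot (q : Ideal S) [q.IsPrime]
    (hq : q.comap (algebraMap R S) = p) (h : q ∈ FlatCA.ass S (N ⧸ pN p S N)) :
    q ∈ FlatCA.ass S (FlatCA.fiberMod p S N) := by
  rw [ass_iff] at h ⊢
  obtain ⟨hqp, x, hx⟩ := h
  obtain ⟨m, rfl⟩ := Submodule.Quotient.mk_surjective _ x
  refine ⟨hqp, FlatCA.toFiberMod p S N m, fun s => ?_⟩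
  rw [hx s, smul_toFiberMod_eq_zero_iff]
  constructor
  · intro h0
    refine ⟨1, fun h1 => ‹p.IsPrime›.ne_top ((Ideal.eq_top_iff_one p).mpr h1), ?_⟩
    rw [map_one, one_mul, ← Submodule.Quotient.mk_eq_zero, Submodule.Quotient.mk_smul]
    exact h0
  · rintro ⟨r, hr, hrs⟩
    have h1 : (algebraMap R S r * s) ∈ q := (hx _).mpr (by
      rw [← Submodule.Quotient.mk_smul, Submodule.Quotient.mk_eq_zero]; exact hrs)
    rcases hqp.mem_or_mem h1 with h2 | h2
    · exact absurd (by rw [← hq]; exact h2) hr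
    · exact (hx s).mp h2

lemma mem_ass_quot_of_mem_ass_fiberMod_of_noeth [IsNoetherianRing S] (q : Ideal S)
    (h : q ∈ FlatCA.ass S (FlatCA.fiberMod p S N)) :
    q ∈ FlatCA.ass S (N ⧸ pN p S N) := by
  classical
  rw [ass_iff] at h ⊢
  obtain ⟨hqp, x, hx⟩ := h
  obtain ⟨m, hm⟩ := exists_ann_eq p S N x
  have hq' : ∀ s, s ∈ q ↔ ∃ r ∉ p, (algebraMap R S r * s) • m ∈ pN p S N := fun s => by
    rw [hx s, hm s, smul_toFiberMod_eq_zero_iff]
  obtain ⟨G, hG⟩ := (isNoetherianRing_iff_ideal_fg S).mp inferInstance q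
  have hex : ∀ g : S, ∃ r : R, g ∈ q → (r ∉ p ∧ (algebraMap R S r * g) • m ∈ pN p S N) := by
    intro g
    by_cases hg : g ∈ q
    · obtain ⟨r, hr, hrg⟩ := (hq' g).mp hg
      exact ⟨r, fun _ => ⟨hr, hrg⟩⟩
    · exact ⟨0, fun h => absurd h hg⟩
  choose rr hrr using hex
  have hGq : ∀ g ∈ G, g ∈ q := fun g hg => hG ▸ Ideal.subset_span hg
  have hr : (∏ g ∈ G, rr g) ∉ p := by
    intro hmem
    obtain ⟨g, hg, hgp⟩ := (Ideal.IsPrime.prod_mem_iff).mp hmem
    exact (hrr g (hGq g hg)).1 hgp
  refine ⟨hqp, Submodule.Quotient.mk (algebraMap R S (∏ g ∈ G, rr g) • m), fun s => ?_⟩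
  constructor
  · intro hs
    have hle : q ≤ (Submodule.span S
        {(Submodule.Quotient.mk (algebraMap R S (∏ g ∈ G, rr g) • m) : N ⧸ pN p S N)}).annihilator := by
      rw [← hG, Ideal.span_le]
      intro g hg
      rw [SetLike.mem_coe, mem_ann, ← Submodule.Quotient.mk_smul, Submodule.Quotient.mk_eq_zero]
      have h1 := (hrr g (hGq g hg)).2
      have h2 : (∏ g' ∈ G, rr g') = (∏ g' ∈ G.erase g, rr g') * rr g :=
        (Finset.prod_erase_mul G rr hg).symm
      rw [h2, map_mul, smul_smul]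
      have h3 : g * (algebraMap R S (∏ g' ∈ G.erase g, rr g') * algebraMap R S (rr g))
          = algebraMap R S (∏ g' ∈ G.erase g, rr g') * (algebraMap R S (rr g) * g) := by ring
      rw [h3, mul_smul]
      exact Submodule.smul_mem _ _ h1
    exact (mem_ann _ _).mp (hle hs)
  · intro hs
    rw [← Submodule.Quotient.mk_smul, Submodule.Quotient.mk_eq_zero, smul_smul] at hs
    exact (hq' s).mpr ⟨_, hr, by rw [mul_comm]; exact hs⟩

/-! ### The flat case -/

lemma mem_pN_of_smul_mem [Module.Flat R N] {r : R} (hr : r ∉ p) {n : N}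
    (h : algebraMap R S r • n ∈ pN p S N) : n ∈ pN p S N := by
  rw [mem_pN_iff] at h ⊢
  rw [algebraMap_smul] at h
  let f : (R ⧸ p) →ₗ[R] (R ⧸ p) := LinearMap.lsmul R (R ⧸ p) r
  have hf : Function.Injective f := by
    intro a b hab
    have hab' : r • a = r • b := hab
    rw [Algebra.smul_def, Algebra.smul_def] at hab'
    refine mul_left_cancel₀ ?_ hab'
    rw [Ideal.Quotient.algebraMap_eq, Ne, Ideal.Quotient.eq_zero_iff_mem]
    exact hr
  have hinj := Module.Flat.lTensor_preserves_injective_linearMap (M := N) f hf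
  have h1 : f.lTensor N (n ⊗ₜ[R] (1 : R ⧸ p)) = 0 := by
    rw [LinearMap.lTensor_tmul]
    apply (TensorProduct.tensorQuotEquivQuotSMul N p).injective
    rw [map_zero]
    have h2 : f (1 : R ⧸ p) = Ideal.Quotient.mk p r := by
      show r • (1 : R ⧸ p) = _
      rw [Algebra.smul_def, mul_one]
      rfl
    rw [h2, TensorProduct.tensorQuotEquivQuotSMul_tmul_mk, Submodule.Quotient.mk_eq_zero]
    exact h
  have h3 : n ⊗ₜ[R] (1 : R ⧸ p) = 0 := hinj (h1.trans (map_zero _).symm)
  have h4 := congrArg (TensorProduct.tensorQuotEquivQuotSMul N p) h3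
  rw [map_zero, ← map_one (Ideal.Quotient.mk p), TensorProduct.tensorQuotEquivQuotSMul_tmul_mk,
    one_smul, Submodule.Quotient.mk_eq_zero] at h4
  exact h4

lemma comap_eq_of_mem_ass_quot [Module.Flat R N] {q : Ideal S}
    (h : q ∈ FlatCA.ass S (N ⧸ pN p S N)) : q.comap (algebraMap R S) = p := by
  rw [ass_iff] at h
  obtain ⟨hqp, x, hx⟩ := h
  obtain ⟨m, rfl⟩ := Submodule.Quotient.mk_surjective _ x
  apply le_antisymm
  · intro r hr
    by_contra hrp
    rw [Ideal.mem_comap, hx, ← Submodule.Quotient.mk_smul, Submodule.Quotient.mk_eq_zero] at hr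
    have hm := mem_pN_of_smul_mem p S N hrp hr
    exact hqp.ne_top ((Ideal.eq_top_iff_one q).mpr ((hx 1).mpr (by
      rw [one_smul, Submodule.Quotient.mk_eq_zero]; exact hm)))
  · intro a ha
    rw [Ideal.mem_comap, hx, ← Submodule.Quotient.mk_smul, Submodule.Quotient.mk_eq_zero]
    exact Submodule.smul_mem_smul (Ideal.mem_map_of_mem _ ha) Submodule.mem_top

lemma mem_ass_quot_of_mem_ass_fiberMod_of_flat [Module.Flat R N] (q : Ideal S)
    (h : q ∈ FlatCA.ass S (FlatCA.fiberMod p S N)) :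
    q ∈ FlatCA.ass S (N ⧸ pN p S N) := by
  rw [ass_iff] at h ⊢
  obtain ⟨hqp, x, hx⟩ := h
  obtain ⟨m, hm⟩ := exists_ann_eq p S N x
  refine ⟨hqp, Submodule.Quotient.mk m, fun s => ?_⟩
  rw [hx s, hm s, smul_toFiberMod_eq_zero_iff, ← Submodule.Quotient.mk_smul,
    Submodule.Quotient.mk_eq_zero]
  constructor
  · rintro ⟨r, hr, h⟩
    rw [mul_smul] at h
    exact mem_pN_of_smul_mem p S N hr h
  · intro h
    refine ⟨1, fun h1 => ‹p.IsPrime›.ne_top ((Ideal.eq_top_iff_one p).mpr h1), ?_⟩
    rw [map_one, one_mul]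
    exact h

end Fiber

section Tensor

variable {R : Type u} [CommRing R] (S : Type u) [CommRing S] [Algebra R S]
  (N : Type u) [AddCommGroup N] [Module S N] [Module R N] [IsScalarTower R S N]

lemma mem_ass_of_mem_ass_tensorQuot [Module.Flat R N] (p' : Ideal R) [p'.IsPrime] {q : Ideal S}
    (h : q ∈ FlatCA.ass S (N ⊗[R] (R ⧸ p'))) :
    q ∈ FlatCA.ass S (N ⧸ pN (q.comap (algebraMap R S)) S N) := by
  have h1 : q ∈ FlatCA.ass S (N ⧸ pN p' S N) := (ass_tensorQuot_iff p' S N).mp h
  have h2 := comap_eq_of_mem_ass_quot p' S N h1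
  rw [h2]
  exact h1

theorem ass_tensor_finite [IsNoetherianRing R] [Module.Flat R N] (M : Type u) [AddCommGroup M]
    [Module R M] [Module.Finite R M] :
    ∀ q : Ideal S, q ∈ FlatCA.ass S (N ⊗[R] M) →
      q ∈ FlatCA.ass S (N ⧸ pN (q.comap (algebraMap R S)) S N) := by
  induction ‹Module.Finite R M› using
    IsNoetherianRing.induction_on_isQuotientEquivQuotientPrime R with
  | subsingleton M =>
    intro q hq
    exact absurd hq not_mem_ass_of_subsingleton
  | quotient M p' e =>
    intro q hq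
    haveI := p'.2
    have e' : N ⊗[R] M ≃ₗ[S] N ⊗[R] (R ⧸ p'.1) :=
      TensorProduct.AlgebraTensorModule.congr (LinearEquiv.refl S N) e
    exact mem_ass_of_mem_ass_tensorQuot S N p'.1 ((ass_of_equiv e').mp hq)
  | exact M₁ M₂ M₃ f g hf hg hfg h₁ h₃ =>
    intro q hq
    have hf' : Function.Injective (TensorProduct.AlgebraTensorModule.lTensor S N f) :=
      Module.Flat.lTensor_preserves_injective_linearMap (M := N) f hf
    have hex : Function.Exact (TensorProduct.AlgebraTensorModule.lTensor S N f)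
        (TensorProduct.AlgebraTensorModule.lTensor S N g) := lTensor_exact N hfg hg
    rcases ass_of_exact _ _ hf' hex hq with h | h
    · exact h₁ q h
    · exact h₃ q h

theorem mem_ass_tensor_of_mem_ass [Module.Flat R N] (M : Type u) [AddCommGroup M] [Module R M]
    (p : Ideal R) [p.IsPrime] (hp : p ∈ FlatCA.ass R M) (q : Ideal S)
    (hq : q ∈ FlatCA.ass S (FlatCA.fiberMod p S N)) : q ∈ FlatCA.ass S (N ⊗[R] M) := by
  have h1 := mem_ass_quot_of_mem_ass_fiberMod_of_flat p S N q hq
  have h2 : q ∈ FlatCA.ass S (N ⊗[R] (R ⧸ p)) := (ass_tensorQuot_iff p S N).mpr h1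
  obtain ⟨_, m, hm⟩ := hp
  have hle : (p : Submodule R R) ≤ LinearMap.ker (LinearMap.toSpanSingleton R M m) := by
    intro c hc
    rw [LinearMap.mem_ker, LinearMap.toSpanSingleton_apply]
    have hc' : c ∈ (Submodule.span R {m}).annihilator := hm ▸ hc
    exact (mem_ann m c).mp hc'
  let j : (R ⧸ p) →ₗ[R] M := Submodule.liftQ p (LinearMap.toSpanSingleton R M m) hle
  have hj : Function.Injective j := by
    rw [← LinearMap.ker_eq_bot]
    apply Submodule.ker_liftQ_eq_bot
    intro c hc
    rw [LinearMap.mem_ker, LinearMap.toSpanSingleton_apply] at hc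
    have hc' : c ∈ (Submodule.span R {m}).annihilator := (mem_ann m c).mpr hc
    exact hm ▸ hc'
  have hj' : Function.Injective (TensorProduct.AlgebraTensorModule.lTensor S N j) :=
    Module.Flat.lTensor_preserves_injective_linearMap (M := N) j hj
  exact ass_of_injective _ hj' h2

end Tensor

end Groth.Agent.H82.AssFiber
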