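import Mathlib
import Groth.Agent.H82.TorBC2

set_option linter.unusedSectionVars false
set_option linter.unusedVariables false
set_option linter.style.haveILetI false
set_option backward.isDefEq.respectTransparency false

universe u

open CategoryTheory CategoryTheory.Limits MonoidalCategory TensorProduct

namespace Groth.Agent.H82.TorBC3

open Groth.Agent.H82.LDer Groth.Agent.H82.TorLib Groth.Agent.H82.TorBC Groth.Agent.H82.TorBC2

variable {A A' : Type u} [CommRing A] [CommRing A'] [Algebra A A']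

/-- `P' ⊗[A] Q ≃ P' ⊗[A'] E(Q)` on underlying types. -/
noncomputable def cbEquiv (P' : Type u) [AddCommGroup P'] [Module A' P'] [Module A P']
    [IsScalarTower A A' P'] (Q : ModuleCat.{u} A) :
    P' ⊗[A] Q ≃ P' ⊗[A'] ((E A A').obj Q) :=
  (AlgebraTensorModule.cancelBaseChange A A' A' P' Q).symm.toEquiv.trans
    (TensorProduct.congr (LinearEquiv.refl A' P') (bcEquiv A A' Q)).toEquiv

theorem cbEquiv_tmul (P' : Type u) [AddCommGroup P'] [Module A' P'] [Module A P']
    [IsScalarTower A A' P'] (Q : ModuleCat.{u} A) (p : P') (q : Q) :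
    cbEquiv (A := A) (A' := A') P' Q (p ⊗ₜ[A] q) =
      p ⊗ₜ[A'] (show (E A A').obj Q from bcFun A A' Q ((1 : A') ⊗ₜ[A] q)) := rfl

theorem cbEquiv_add (P' : Type u) [AddCommGroup P'] [Module A' P'] [Module A P']
    [IsScalarTower A A' P'] (Q : ModuleCat.{u} A) (s t : P' ⊗[A] Q) :
    cbEquiv (A := A) (A' := A') P' Q (s + t) =
      cbEquiv (A := A) (A' := A') P' Q s + cbEquiv (A := A) (A' := A') P' Q t := by
  simp [cbEquiv]

theorem cbEquiv_zero (P' : Type u) [AddCommGroup P'] [Module A' P'] [Module A P']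
    [IsScalarTower A A' P'] (Q : ModuleCat.{u} A) :
    cbEquiv (A := A) (A' := A') P' Q 0 = 0 := by
  simp [cbEquiv]

theorem cbEquiv_smul (P' : Type u) [AddCommGroup P'] [Module A' P'] [Module A P']
    [IsScalarTower A A' P'] (Q : ModuleCat.{u} A) (a : A) (t : P' ⊗[A] Q) :
    cbEquiv (A := A) (A' := A') P' Q (a • t) =
      algebraMap A A' a • cbEquiv (A := A) (A' := A') P' Q t := by
  induction t using TensorProduct.induction_on with
  | zero => rw [smul_zero, cbEquiv_zero, smul_zero]
  | tmul p q =>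
    rw [TensorProduct.smul_tmul', cbEquiv_tmul, cbEquiv_tmul, TensorProduct.smul_tmul',
      algebraMap_smul]
  | add s t hs ht => rw [smul_add, cbEquiv_add, cbEquiv_add, smul_add, hs, ht]

/-- The `A`-linear version of `cbEquiv`. -/
noncomputable def cbLin (P' : Type u) [AddCommGroup P'] [Module A' P'] [Module A P']
    [IsScalarTower A A' P'] (Q : ModuleCat.{u} A) :
    P' ⊗[A] Q ≃ₗ[A]
      (Rs A A').obj ((tensorLeft (ModuleCat.of A' P')).obj ((E A A').obj Q)) where
  toFun := cbEquiv (A := A) (A' := A') P' Q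
  invFun := (cbEquiv (A := A) (A' := A') P' Q).symm
  left_inv := (cbEquiv (A := A) (A' := A') P' Q).left_inv
  right_inv := (cbEquiv (A := A) (A' := A') P' Q).right_inv
  map_add' := cbEquiv_add P' Q
  map_smul' := cbEquiv_smul P' Q

/-- The comparison in degree zero, as a natural isomorphism. -/
noncomputable def cbIso (P' : Type u) [AddCommGroup P'] [Module A' P'] [Module A P']
    [IsScalarTower A A' P'] :
    tensorLeft (ModuleCat.of A P') ≅
      E A A' ⋙ tensorLeft (ModuleCat.of A' P') ⋙ Rs A A' :=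
  NatIso.ofComponents (fun Q => (cbLin P' Q).toModuleIso) (by
    intro Q Q₂ g
    apply ModuleCat.hom_ext
    apply TensorProduct.ext'
    intro x q
    rfl)

theorem exists_semilinear_bijective_flat [Module.Flat A A'] (P' : Type u) [AddCommGroup P']
    [Module A' P'] [Module A P'] [IsScalarTower A A' P'] (Q : Type u) [AddCommGroup Q]
    [Module A Q] (n : ℕ) :
    ∃ φ : (((Tor (ModuleCat.{u} A) n).obj (ModuleCat.of A P')).obj (ModuleCat.of A Q))
        →ₛₗ[algebraMap A A']
        (((Tor (ModuleCat.{u} A') n).obj (ModuleCat.of A' P')).obj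
          (ModuleCat.of A' (A' ⊗[A] Q))),
      Function.Bijective φ := by
  let e0 : (Tor (ModuleCat.{u} A) 0).obj (ModuleCat.of A P') ≅
      E A A' ⋙ (Tor (ModuleCat.{u} A') 0).obj (ModuleCat.of A' P') ⋙ Rs A A' :=
    (tensorLeft (ModuleCat.of A P')).leftDerivedZeroIsoSelf ≪≫ cbIso P' ≪≫
      Functor.isoWhiskerLeft (E A A') (Functor.isoWhiskerRight
        (tensorLeft (ModuleCat.of A' P')).leftDerivedZeroIsoSelf.symm (Rs A A'))
  obtain ⟨e⟩ := nonempty_iso_of_hasLES
    (T := fun n => (Tor (ModuleCat.{u} A) n).obj (ModuleCat.of A P'))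
    (T' := fun n => E A A' ⋙ ((Tor (ModuleCat.{u} A') n).obj (ModuleCat.of A' P') ⋙ Rs A A'))
    (hasLES_tor (ModuleCat.of A P'))
    (((hasLES_tor (ModuleCat.of A' P')).comp_exact (Rs A A')).precomp_exact (E A A'))
    (vanish_tor (ModuleCat.of A P'))
    (((vanish_tor (ModuleCat.of A' P')).comp (Rs A A')).precomp (E A A') (E_projective A A'))
    e0 n (ModuleCat.of A Q)
  let i0 : (E A A').obj (ModuleCat.of A Q) ≅ ModuleCat.of A' (A' ⊗[A] Q) :=
    (bcEquiv A A' Q).toModuleIso.symm
  let L := (e ≪≫ (Rs A A').mapIso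
    (((Tor (ModuleCat.{u} A') n).obj (ModuleCat.of A' P')).mapIso i0)).toLinearEquiv
  refine ⟨{ toFun := fun x => L x
            map_add' := L.map_add
            map_smul' := fun a x => ?_ }, L.bijective⟩
  show L (a • x) = algebraMap A A' a •
    (show ↑(((Tor (ModuleCat.{u} A') n).obj (ModuleCat.of A' P')).obj
      (ModuleCat.of A' (A' ⊗[A] Q))) from L x)
  rw [L.map_smul]
  rfl

end Groth.Agent.H82.TorBC3
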