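import Mathlib
import Groth.Prelude.Def_ega3
import Groth.Agent.H59.KoszTop
import Groth.Agent.H59.KoszBridge
import Groth.Agent.H82.KCTheta
import Groth.Agent.H82.DirLimFree

/-!
# The top Koszul cohomology, naturally in the transition maps of powers

An explicit identification of the degree-`0` term of the (cone model) Koszul complex with the
module, the description of top cohomology as `M / (f) M`, and compatibility with
`CohIII.koszulTrans` (which becomes multiplication by a power of the product of the elements).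
-/

set_option autoImplicit false
set_option linter.unusedSectionVars false
set_option linter.unusedVariables false
set_option linter.style.haveILetI false
set_option backward.isDefEq.respectTransparency false

universe u

open CategoryTheory CochainComplex HomologicalComplex Limits
open Groth.Agent.H59.Kosz
open scoped Pointwise

namespace Groth.Agent.H82.KTN

variable {A : Type u} [CommRing A]

section qH

variable (K : Cx A) (h1 : IsZero (K.X 1))

/-- the canonical surjection `K⁰ → H⁰(K)` when `K¹ = 0` -/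
noncomputable def qH : K.X 0 ⟶ K.homology 0 :=
  K.pOpcycles 0 ≫ (K.isoHomologyι 0 1 (by simp) (h1.eq_of_tgt _ _)).inv

theorem qH_surjective : Function.Surjective (qH K h1).hom := by
  rw [← ModuleCat.epi_iff_surjective]
  unfold qH
  infer_instance

theorem qH_eq_zero_iff (x : K.X 0) :
    (qH K h1).hom x = 0 ↔ x ∈ LinearMap.range (K.d (-1) 0).hom := by
  have hiso : Function.Injective (K.isoHomologyι 0 1 (by simp) (h1.eq_of_tgt _ _)).inv.hom := by
    rw [← ModuleCat.mono_iff_injective]
    infer_instance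
  have e1 : (qH K h1).hom x = 0 ↔ (K.pOpcycles 0).hom x = 0 := by
    constructor
    · intro h
      apply hiso
      rw [map_zero]
      exact h
    · intro h
      show (K.isoHomologyι 0 1 (by simp) (h1.eq_of_tgt _ _)).inv.hom ((K.pOpcycles 0).hom x) = 0
      rw [h, map_zero]
  rw [e1]
  let T : ShortComplex (ModuleCat.{u} A) :=
    ShortComplex.mk (K.d (-1) 0) (K.pOpcycles 0) (K.d_pOpcycles _ _)
  have hT : T.Exact := ShortComplex.exact_of_g_is_cokernel T (K.opcyclesIsCokernel (-1) 0 (by simp))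
  constructor
  · intro h
    obtain ⟨y, hy⟩ := (ShortComplex.moduleCat_exact_iff T).1 hT x h
    exact ⟨y, hy⟩
  · rintro ⟨y, rfl⟩
    have := congrArg (fun g => g.hom y) (K.d_pOpcycles (-1) 0)
    exact this

theorem qH_naturality {K L : Cx A} (φ : K ⟶ L) (hK : IsZero (K.X 1)) (hL : IsZero (L.X 1)) :
    qH K hK ≫ homologyMap φ 0 = φ.f 0 ≫ qH L hL := by
  unfold qH
  rw [← cancel_mono (L.homologyι 0)]
  simp only [Category.assoc, isoHomologyι_inv_hom_id, Category.comp_id, homologyι_naturality,
    isoHomologyι_inv_hom_id_assoc, p_opcyclesMap]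

theorem qH_naturality_apply {K L : Cx A} (φ : K ⟶ L) (hK : IsZero (K.X 1)) (hL : IsZero (L.X 1))
    (x : K.X 0) :
    (homologyMap φ 0).hom ((qH K hK).hom x) = (qH L hL).hom ((φ.f 0).hom x) :=
  congrArg (fun g => g.hom x) (qH_naturality φ hK hL)

end qH

section cone

variable (f : A) (K : Cx A)

/-- In degree `0`, the cone of `f` on a complex with `K¹ = 0` is `K⁰`. -/
noncomputable def coneTopEquiv (hK1 : IsZero (K.X 1)) : (mappingCone (f • 𝟙 K)).X 0 ≃ₗ[A] K.X 0 :=
  haveI : Subsingleton (K.X 1) := ModuleCat.subsingleton_of_isZero hK1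
  LinearEquiv.ofLinearMap ((mappingCone.snd (f • 𝟙 K)).v 0 0 (add_zero 0)).hom
    ((mappingCone.inr (f • 𝟙 K)).f 0).hom
    (LinearMap.ext fun y => snd_inr f K 0 y)
    (LinearMap.ext fun z => by
      have := decomp' f K 1 0 (by norm_num) z
      have h0 : (mappingCone.fst (f • 𝟙 K)).1.v 0 1 (by norm_num) z = 0 := Subsingleton.elim _ _
      rw [h0, map_zero, zero_add] at this
      exact this)

theorem coneTopEquiv_apply (hK1 : IsZero (K.X 1)) (z : (mappingCone (f • 𝟙 K)).X 0) :
    coneTopEquiv f K hK1 z = ((mappingCone.snd (f • 𝟙 K)).v 0 0 (add_zero 0)).hom z := rfl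

theorem map_snd_range :
    Submodule.map ((mappingCone.snd (f • 𝟙 K)).v 0 0 (add_zero 0)).hom
      (LinearMap.range ((mappingCone (f • 𝟙 K)).d (-1) 0).hom)
      = f • (⊤ : Submodule A (K.X 0)) ⊔ LinearMap.range (K.d (-1) 0).hom := by
  apply le_antisymm
  · rintro _ ⟨_, ⟨z, rfl⟩, rfl⟩
    have h1 := d_snd_apply f K (-1) 0 (by norm_num) z
    show ((mappingCone.snd (f • 𝟙 K)).v 0 0 (add_zero 0)).hom
      (((mappingCone (f • 𝟙 K)).d (-1) 0).hom z) ∈ _
    rw [show ((mappingCone.snd (f • 𝟙 K)).v 0 0 (add_zero 0)).hom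
      (((mappingCone (f • 𝟙 K)).d (-1) 0).hom z) = _ from h1]
    exact Submodule.add_mem_sup
      (Submodule.smul_mem_pointwise_smul _ _ _ Submodule.mem_top) ⟨_, rfl⟩
  · apply sup_le
    · rintro _ hx
      obtain ⟨x, -, rfl⟩ := (Submodule.mem_smul_pointwise_iff_exists _ _ _).mp hx
      refine ⟨_, ⟨(mappingCone.inl (f • 𝟙 K)).v 0 (-1) (by norm_num) x, rfl⟩, ?_⟩
      have h1 := d_snd_apply f K (-1) 0 (by norm_num)
        ((mappingCone.inl (f • 𝟙 K)).v 0 (-1) (by norm_num) x)
      rw [fst_inl' f K 0 (-1) (by norm_num), snd_inl' f K 0 (-1) (by norm_num), map_zero,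
        add_zero] at h1
      exact h1
    · rintro _ ⟨y, rfl⟩
      refine ⟨_, ⟨(mappingCone.inr (f • 𝟙 K)).f (-1) y, rfl⟩, ?_⟩
      have h1 := d_snd_apply f K (-1) 0 (by norm_num) ((mappingCone.inr (f • 𝟙 K)).f (-1) y)
      rw [fst_inr' f K 0 (-1) (by norm_num), snd_inr, smul_zero, zero_add] at h1
      exact h1

end cone

theorem map_f_snd {K₁ L₁ K₂ L₂ : Cx A} (φ₁ : K₁ ⟶ L₁) (φ₂ : K₂ ⟶ L₂) (a : K₁ ⟶ K₂) (b : L₁ ⟶ L₂)
    (comm : φ₁ ≫ b = a ≫ φ₂) (n : ℤ) :
    (mappingCone.map φ₁ φ₂ a b comm).f n ≫ (mappingCone.snd φ₂).v n n (add_zero n) =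
      (mappingCone.snd φ₁).v n n (add_zero n) ≫ b.f n := by
  simp [mappingCone.map, mappingCone.ext_from_iff _ (n + 1) n rfl]

theorem isZero_koszulCx_pos (M : ModuleCat.{u} A) (l : List A) (n : ℤ) (hn : 0 < n) :
    IsZero ((CohIII.koszulCx M l).X n) := by
  rw [koszulCx_eq]
  exact isZero_kz_pos M l n hn

/-- the degree-`0` term of the Koszul complex is the module -/
noncomputable def topEquiv (M : ModuleCat.{u} A) :
    ∀ l : List A, (CohIII.koszulCx M l).X 0 ≃ₗ[A] M
  | [] => (HomologicalComplex.singleObjXSelf (ComplexShape.up ℤ) 0 M).toLinearEquiv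
  | f :: fs =>
      (coneTopEquiv f (CohIII.koszulCx M fs) (isZero_koszulCx_pos M fs 1 one_pos)).trans
        (topEquiv M fs)

theorem topEquiv_cons (M : ModuleCat.{u} A) (f : A) (fs : List A)
    (z : (CohIII.koszulCx M (f :: fs)).X 0) :
    topEquiv M (f :: fs) z = topEquiv M fs
      (((mappingCone.snd (f • 𝟙 (CohIII.koszulCx M fs))).v 0 0 (add_zero 0)).hom z) := rfl

theorem topEquiv_map_range (M : ModuleCat.{u} A) : ∀ l : List A,
    Submodule.map (topEquiv M l).toLinearMap
      (LinearMap.range ((CohIII.koszulCx M l).d (-1) 0).hom)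
      = Ideal.ofList l • (⊤ : Submodule A M)
  | [] => by
      have hd : ((CohIII.koszulCx M []).d (-1) 0) = 0 :=
        HomologicalComplex.single_obj_d _ _ _ _ _
      rw [hd]
      simp only [ModuleCat.hom_zero, LinearMap.range_zero, Submodule.map_bot, Ideal.ofList_nil,
        Submodule.bot_smul]
  | f :: fs => by
      have ih := topEquiv_map_range M fs
      have hcomp : (topEquiv M (f :: fs)).toLinearMap = (topEquiv M fs).toLinearMap ∘ₗ
          ((mappingCone.snd (f • 𝟙 (CohIII.koszulCx M fs))).v 0 0 (add_zero 0)).hom := rfl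
      rw [hcomp, Submodule.map_comp]
      have := map_snd_range f (CohIII.koszulCx M fs)
      show Submodule.map (topEquiv M fs).toLinearMap
        (Submodule.map ((mappingCone.snd (f • 𝟙 (CohIII.koszulCx M fs))).v 0 0 (add_zero 0)).hom
          (LinearMap.range ((mappingCone (f • 𝟙 (CohIII.koszulCx M fs))).d (-1) 0).hom)) = _
      rw [this, Submodule.map_sup, ih, Ideal.ofList_cons_smul]
      congr 1
      rw [← Submodule.ideal_span_singleton_smul, Submodule.map_smul'', Submodule.map_top,
        LinearEquiv.range, Submodule.ideal_span_singleton_smul]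

theorem topEquiv_trans (M : ModuleCat.{u} A) (n m : ℕ) (h : n ≤ m) : ∀ (l : List A)
    (x : (CohIII.koszulCx M (l.map (· ^ n))).X 0),
    topEquiv M (l.map (· ^ m)) (((CohIII.koszulTrans M n m h l).f 0).hom x) =
      (l.prod) ^ (m - n) • topEquiv M (l.map (· ^ n)) x
  | [], x => by
      rw [List.prod_nil, one_pow, one_smul]
      rfl
  | f :: fs, x => by
      have ih := topEquiv_trans M n m h fs
      show topEquiv M (f ^ m :: fs.map (· ^ m)) _ = _ • topEquiv M (f ^ n :: fs.map (· ^ n)) x
      rw [topEquiv_cons, topEquiv_cons]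
      have h1 := congrArg (fun g => g.hom x)
        (map_f_snd (f ^ n • 𝟙 (CohIII.koszulCx M (fs.map (· ^ n))))
          (f ^ m • 𝟙 (CohIII.koszulCx M (fs.map (· ^ m)))) (CohIII.koszulTrans M n m h fs)
          (f ^ (m - n) • CohIII.koszulTrans M n m h fs) (by
            simp only [Linear.smul_comp, Linear.comp_smul, Category.id_comp, Category.comp_id,
              smul_smul, ← pow_add, Nat.sub_add_cancel h]) 0)
      have h2 : ((mappingCone.snd (f ^ m • 𝟙 (CohIII.koszulCx M (fs.map (· ^ m))))).v 0 0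
          (add_zero 0)).hom (((CohIII.koszulTrans M n m h (f :: fs)).f 0).hom x) =
          f ^ (m - n) • ((CohIII.koszulTrans M n m h fs).f 0).hom
            (((mappingCone.snd (f ^ n • 𝟙 (CohIII.koszulCx M (fs.map (· ^ n))))).v 0 0
              (add_zero 0)).hom x) := h1
      rw [h2, map_smul, ih, List.prod_cons, mul_pow, mul_smul]

section assembly

variable (l : List A)

/-- the class map `A → H⁰(K(fⁿ; A))` -/
noncomputable def cl (n : ℕ) :
    A →ₗ[A] ((CohIII.koszulCx (ModuleCat.of A A) (l.map (· ^ n))).homology 0 : Type u) :=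
  (qH _ (isZero_koszulCx_pos (ModuleCat.of A A) (l.map (· ^ n)) 1 one_pos)).hom ∘ₗ
    (topEquiv (ModuleCat.of A A) (l.map (· ^ n))).symm.toLinearMap

theorem cl_surjective (n : ℕ) : Function.Surjective (cl l n) := by
  unfold cl
  exact (qH_surjective _ (isZero_koszulCx_pos (ModuleCat.of A A) (l.map (· ^ n)) 1 one_pos)).comp
    (LinearEquiv.surjective (topEquiv (ModuleCat.of A A) (l.map (· ^ n))).symm)

theorem cl_eq_zero_iff (n : ℕ) (p : A) : cl l n p = 0 ↔ p ∈ Ideal.ofList (l.map (· ^ n)) := by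
  unfold cl
  rw [LinearMap.comp_apply, qH_eq_zero_iff]
  have h := topEquiv_map_range (ModuleCat.of A A) (l.map (· ^ n))
  have h2 : Ideal.ofList (l.map (· ^ n)) • (⊤ : Submodule A (ModuleCat.of A A)) =
      Ideal.ofList (l.map (· ^ n)) := by
    show Ideal.ofList (l.map (· ^ n)) • (⊤ : Ideal A) = _
    rw [smul_eq_mul, Ideal.mul_top]
  rw [h2] at h
  rw [← h]
  constructor
  · intro hx
    exact ⟨_, hx, LinearEquiv.apply_symm_apply _ p⟩
  · rintro ⟨y, hy, rfl⟩
    rw [LinearEquiv.coe_coe, LinearEquiv.coe_coe, LinearEquiv.symm_apply_apply]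
    exact hy

theorem cl_trans (n m : ℕ) (h : n ≤ m) (p : A) :
    (homologyMap (CohIII.koszulTrans (ModuleCat.of A A) n m h l) 0).hom (cl l n p) =
      cl l m (l.prod ^ (m - n) * p) := by
  unfold cl
  rw [LinearMap.comp_apply, LinearMap.comp_apply, qH_naturality_apply _ _
    (isZero_koszulCx_pos (ModuleCat.of A A) (l.map (· ^ m)) 1 one_pos)]
  congr 1
  apply (topEquiv (ModuleCat.of A A) (l.map (· ^ m))).injective
  rw [LinearEquiv.coe_coe, LinearEquiv.coe_coe, LinearEquiv.apply_symm_apply, topEquiv_trans,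
    LinearEquiv.apply_symm_apply, smul_eq_mul]

/-- Freeness criterion for the top direct-limit Koszul cohomology of a ring. -/
theorem nonempty_equiv_top (j : ℤ) (hj : j = 0) {B : Type u} [CommRing B] [Algebra B A]
    {F : Type u} [AddCommGroup F] [Module B F] (ψ : ℕ → A →ₗ[B] F)
    (hker : ∀ n p, p ∈ Ideal.ofList (l.map (· ^ n)) ↔ ψ n p = 0)
    (hψ : ∀ n m, n ≤ m → ∀ p, ψ m (l.prod ^ (m - n) * p) = ψ n p)
    (hsurj : ∀ c : F, ∃ n p, ψ n p = c) :
    Nonempty (F ≃ₗ[B] RestrictScalars B A (Module.DirectLimit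
      (fun n : ℕ => ((CohIII.koszulCx (ModuleCat.of A A) (l.map (· ^ n))).homology j : Type u))
      (fun n m h => (homologyMap (CohIII.koszulTrans (ModuleCat.of A A) n m h l) j).hom))) := by
  subst hj
  haveI : DirectedSystem
      (fun n : ℕ => ((CohIII.koszulCx (ModuleCat.of A A) (l.map (· ^ n))).homology 0 : Type u))
      (fun n m h => (homologyMap (CohIII.koszulTrans (ModuleCat.of A A) n m h l) 0).hom) := by
    constructor
    · intro n x
      show (homologyMap (CohIII.koszulTrans (ModuleCat.of A A) n n le_rfl l) 0).hom x = x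
      rw [KC.trans_refl, homologyMap_id]
      rfl
    · intro k j i hij hjk x
      show (homologyMap (CohIII.koszulTrans (ModuleCat.of A A) j k hjk l) 0).hom
        ((homologyMap (CohIII.koszulTrans (ModuleCat.of A A) i j hij l) 0).hom x) =
        (homologyMap (CohIII.koszulTrans (ModuleCat.of A A) i k (hij.trans hjk) l) 0).hom x
      rw [← KC.trans_comp (ModuleCat.of A A) i j k hij hjk l, homologyMap_comp]
      rfl
  exact DLF.nonempty_equiv _ _ (cl l) (fun n m => l.prod ^ (m - n)) ψ (cl_surjective l)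
    (fun n m h p => cl_trans l n m h p)
    (fun n p => (cl_eq_zero_iff l n p).trans (hker n p)) hψ hsurj

end assembly

end Groth.Agent.H82.KTN
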