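import Groth.Prelude.Def_AssocGrMod
import Mathlib.RingTheory.AdicCompletion.Basic
import Mathlib.Tactic

set_option autoImplicit false

namespace Groth.Agent.H82

open AssocGr Polynomial

universe u

variable {A : Type u} [CommRing A] {I : Ideal A} {M : Type u} [AddCommGroup M] [Module A M]
  (F : I.Filtration M)

theorem coeff_smul_monomM (f : ↥(FiltBl.IdealFiltration.adic I).rees) (d : ℕ) (x : F.N d) (n : ℕ) :
    ReesM.coeff F (f • monomM F d x) n =
      if d ≤ n then (f : A[X]).coeff (n - d) • (x : M) else 0 := by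
  rw [ReesM.coeff_smul]
  simp only [ReesM.coeff_monomM]
  split_ifs with hdn
  · rw [Finset.sum_eq_single (n - d, d)]
    · simp
    · rintro ⟨p1, p2⟩ hp hne
      rw [Finset.mem_antidiagonal] at hp
      simp only at hp
      have : ¬ d = p2 := by
        intro h
        apply hne
        subst h
        have : p1 = n - d := by omega
        subst this
        rfl
      simp [this]
    · intro h
      exfalso; apply h
      rw [Finset.mem_antidiagonal]
      simp only
      omega
  · apply Finset.sum_eq_zero
    rintro ⟨p1, p2⟩ hp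
    rw [Finset.mem_antidiagonal] at hp
    simp only at hp
    have : ¬ d = p2 := by omega
    simp [this]

/-- Degree-`n` approximation: if the classes of the `x i` generate the associated graded module,
then every `y ∈ Nₙ` is a combination of the `x i` with coefficients in `I ^ (n - d i)`, modulo
`Nₙ₊₁`. -/
theorem approx_of_span_inDegM {k : ℕ} (d : Fin k → ℕ) (x : (i : Fin k) → ↥(F.N (d i)))
    (hgen : Submodule.span (GrRing (FiltBl.IdealFiltration.adic I))
      (Set.range fun i => (inDegM F (d i) (x i) : GrMod F)) = ⊤)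
    (n : ℕ) (y : M) (hy : y ∈ F.N n) :
    ∃ a : Fin k → A, (∀ i, a i ∈ I ^ (n - d i)) ∧
      y - ∑ i, a i • ((x i : ↥(F.N (d i))) : M) ∈ F.N (n + 1) := by
  classical
  have hmem : (inDegM F n ⟨y, hy⟩ : GrMod F) ∈ Submodule.span (GrRing (FiltBl.IdealFiltration.adic I))
      (Set.range fun i => (inDegM F (d i) (x i) : GrMod F)) := by
    rw [hgen]; trivial
  rw [Submodule.mem_span_range_iff_exists_fun] at hmem
  obtain ⟨c, hc⟩ := hmem
  choose f hf using fun i => mkG_surjective (FiltBl.IdealFiltration.adic I) (c i)
  have h1 : mkGM F (∑ i, f i • monomM F (d i) (x i)) = mkGM F (monomM F n ⟨y, hy⟩) := by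
    rw [map_sum, ← coe_inDegM, ← hc]
    refine Finset.sum_congr rfl fun i _ => ?_
    rw [← hf i, coe_inDegM, mkG_smul_mkGM]
  have h2 : mkGM F (monomM F n ⟨y, hy⟩ - ∑ i, f i • monomM F (d i) (x i)) = 0 := by
    rw [map_sub, h1, sub_self]
  rw [mkGM_eq_zero_iff, mem_succMod_iff] at h2
  have h3 := h2 n
  rw [← ReesM.coeffHom_apply, map_sub, map_sum] at h3
  simp only [ReesM.coeffHom_apply, ReesM.coeff_monomM, coeff_smul_monomM] at h3
  refine ⟨fun i => if d i ≤ n then ((f i : ↥(FiltBl.IdealFiltration.adic I).rees) : A[X]).coeff (n - d i) else 0,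
    fun i => ?_, ?_⟩
  · simp only
    split_ifs with h
    · exact (f i).2 (n - d i)
    · exact Ideal.zero_mem _
  · have h4 : ∑ i, (fun i => if d i ≤ n then
          ((f i : ↥(FiltBl.IdealFiltration.adic I).rees) : A[X]).coeff (n - d i) else 0) i •
          ((x i : ↥(F.N (d i))) : M) =
        ∑ i, (if d i ≤ n then ((f i : ↥(FiltBl.IdealFiltration.adic I).rees) : A[X]).coeff (n - d i) •
          ((x i : ↥(F.N (d i))) : M) else 0) := by
      refine Finset.sum_congr rfl fun i _ => ?_
      by_cases h : d i ≤ n
      · simp only [if_pos h]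
      · simp only [if_neg h, zero_smul]
    rw [h4]
    simpa using h3

end Groth.Agent.H82
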