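import Mathlib
import Groth.Prelude.Def_GrTwist
import Groth.Prelude.Def_GrMod3

set_option autoImplicit false
universe u
open CategoryTheory CategoryTheory.Limits AlgebraicGeometry Opposite TopologicalSpace TensorProduct
open scoped HomogeneousIdeal

namespace Groth.Agent.H82.BCTw_COV

section BC

variable {R R' A B : Type u} [CommRing R'] [CommRing R] [Algebra R' R]
    [CommRing B] [Algebra R' B] (ℬ : ℕ → Submodule R' B) [GradedAlgebra ℬ]
    [CommRing A] [Algebra R A] [Algebra R' A] [IsScalarTower R' R A] (𝒜 : ℕ → Submodule R A)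
    [GradedAlgebra 𝒜]
    [Algebra B A] [IsScalarTower R' B A] [Algebra.IsPushout R' R B A]
    (φ : ℬ →+*ᵍ 𝒜) (hφA : ∀ b : B, φ b = algebraMap B A b)
    (hφ : HomogeneousIdeal.irrelevant 𝒜 ≤ (HomogeneousIdeal.irrelevant ℬ).map φ) (n : ℤ)

/-- (COV) the preimages of the `D₊(s)`, `s` homogeneous of positive degree, cover `Proj 𝒜`. -/
theorem isOpenCover_preimage_basicOpen :
    IsOpenCover fun p : {p : ℕ × B // 0 < p.1 ∧ p.2 ∈ ℬ p.1} =>
      Proj.map φ hφ ⁻¹ᵁ Proj.basicOpen ℬ p.1.2 := by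
  refine Proj.iSup_basicOpen_eq_top 𝒜 (fun p : {p : ℕ × B // 0 < p.1 ∧ p.2 ∈ ℬ p.1} => φ p.1.2) ?_
  refine (show (HomogeneousIdeal.irrelevant 𝒜).toIdeal ≤ ((HomogeneousIdeal.irrelevant ℬ).map φ).toIdeal from hφ).trans ?_
  refine Ideal.map_le_of_le_comap ?_
  refine (HomogeneousIdeal.toIdeal_irrelevant_le _).mpr fun i hi x hx ↦ ?_
  exact Ideal.subset_span ⟨⟨(i, x), hi, hx⟩, rfl⟩

end BC

end Groth.Agent.H82.BCTw_COV
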