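import Mathlib.Algebra.Polynomial.Taylor
import Mathlib.Algebra.Polynomial.HasseDeriv
import Mathlib.Data.Nat.Choose.Lucas
import Mathlib.Algebra.CharP.Basic
import Mathlib.LinearAlgebra.Matrix.Block
import Mathlib.Tactic

set_option autoImplicit false

namespace Groth.Agent.H82

open Polynomial Finset

section

variable {k : Type*} [Field k]

/-- Coefficients of a translated polynomial. -/
theorem coeff_comp_X_add_C (h : k[X]) (α : k) (n N : ℕ) (hN : h.natDegree < N) :
    (h.comp (X + C α)).coeff n =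
      ∑ l ∈ range N, ((l.choose n : ℕ) : k) * h.coeff l * α ^ (l - n) := by
  rw [← taylor_apply, taylor_coeff, hasseDeriv_apply, Polynomial.sum_over_range' _ _ N hN,
    eval_finset_sum]
  · refine Finset.sum_congr rfl (fun l _ => ?_)
    rw [eval_monomial]
  · intro l
    simp

variable (p : ℕ) [hp : Fact p.Prime] [CharP k p]

theorem cast_choose_of_div_mod (a b : ℕ) :
    ((a.choose b : ℕ) : k) = (((a % p).choose (b % p) : ℕ) : k) * (((a / p).choose (b / p) : ℕ) : k) := by
  have h := (CharP.natCast_eq_natCast k p).mpr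
    (Choose.choose_modEq_choose_mod_mul_choose_div_nat (n := a) (k := b) (p := p))
  rw [h, Nat.cast_mul]

/-- The entry formula: the coefficient of `x^((i+1)p-(j+1))` in the translate. -/
theorem cartierManin_entry (g : ℕ) (hg : g ≤ p) (h : k[X]) (hh : h.natDegree ≤ (p - 1) * (g + 1))
    (α : k) (i j : ℕ) (hi : i < g) (hj : j < g) :
    (h.comp (X + C α)).coeff ((i + 1) * p - (j + 1)) =
      ∑ x ∈ (Finset.univ : Finset (Fin g × Fin g)),
        (((x.1 : ℕ).choose i : ℕ) : k) * α ^ (((x.1 : ℕ) - i) * p) *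
          h.coeff (((x.1 : ℕ) + 1) * p - ((x.2 : ℕ) + 1)) *
          ((((p - ((x.2 : ℕ) + 1)).choose (p - (j + 1)) : ℕ) : k) * α ^ (j - (x.2 : ℕ))) := by
  have hp0 : 0 < p := hp.out.pos
  have hp1 : 1 ≤ p := hp0
  set n := (i + 1) * p - (j + 1) with hn
  have hnp : n = (p - (j + 1)) + p * i := by
    have : (i + 1) * p = p * i + p := by ring
    rw [hn, this]
    omega
  have hnmod : n % p = p - (j + 1) := by
    rw [hnp, Nat.add_mul_mod_self_left, Nat.mod_eq_of_lt (by omega)]
  have hndiv : n / p = i := by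
    rw [hnp, Nat.add_mul_div_left _ _ hp0, Nat.div_eq_of_lt (by omega), zero_add]
  have hN : h.natDegree < (g + 1) * p := by
    have : (p - 1) * (g + 1) < (g + 1) * p := by
      rw [mul_comm (g + 1) p]
      exact Nat.mul_lt_mul_of_pos_right (by omega) (by omega)
    omega
  rw [coeff_comp_X_add_C h α n _ hN]
  -- the index map
  let φ : Fin g × Fin g → ℕ := fun x => ((x.1 : ℕ) + 1) * p - ((x.2 : ℕ) + 1)
  have hφ : ∀ x : Fin g × Fin g, φ x = (p - ((x.2 : ℕ) + 1)) + p * (x.1 : ℕ) := by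
    intro x
    have h1 : ((x.1 : ℕ) + 1) * p = p * (x.1 : ℕ) + p := by ring
    have h2 : (x.2 : ℕ) < g := x.2.2
    change ((x.1 : ℕ) + 1) * p - ((x.2 : ℕ) + 1) = _
    rw [h1]
    omega
  have hφmod : ∀ x : Fin g × Fin g, φ x % p = p - ((x.2 : ℕ) + 1) := by
    intro x
    rw [hφ, Nat.add_mul_mod_self_left, Nat.mod_eq_of_lt (by omega)]
  have hφdiv : ∀ x : Fin g × Fin g, φ x / p = (x.1 : ℕ) := by
    intro x
    rw [hφ, Nat.add_mul_div_left _ _ hp0, Nat.div_eq_of_lt (by omega), zero_add]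
  have hinj : Function.Injective φ := by
    intro x y hxy
    have h1 : (x.1 : ℕ) = (y.1 : ℕ) := by rw [← hφdiv x, ← hφdiv y, hxy]
    have h2 : p - ((x.2 : ℕ) + 1) = p - ((y.2 : ℕ) + 1) := by rw [← hφmod x, ← hφmod y, hxy]
    have hx2 : (x.2 : ℕ) < g := x.2.2
    have hy2 : (y.2 : ℕ) < g := y.2.2
    have h3 : (x.2 : ℕ) = (y.2 : ℕ) := by omega
    exact Prod.ext (Fin.ext h1) (Fin.ext h3)
  -- rewrite the right-hand side as a sum over the image of φ
  have hterm : ∀ x : Fin g × Fin g,
      (((x.1 : ℕ).choose i : ℕ) : k) * α ^ (((x.1 : ℕ) - i) * p) *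
          h.coeff (((x.1 : ℕ) + 1) * p - ((x.2 : ℕ) + 1)) *
          ((((p - ((x.2 : ℕ) + 1)).choose (p - (j + 1)) : ℕ) : k) * α ^ (j - (x.2 : ℕ))) =
      (((φ x).choose n : ℕ) : k) * h.coeff (φ x) * α ^ (φ x - n) := by
    intro x
    have hx2 : (x.2 : ℕ) < g := x.2.2
    rw [cast_choose_of_div_mod p (φ x) n, hφmod, hφdiv, hnmod, hndiv]
    change _ * _ * h.coeff (φ x) * _ = _
    by_cases h1 : i ≤ (x.1 : ℕ)
    · by_cases h2 : (x.2 : ℕ) ≤ j
      · have hexp : φ x - n = ((x.1 : ℕ) - i) * p + (j - (x.2 : ℕ)) := by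
          rw [hφ, hnp]
          obtain ⟨e, he⟩ := Nat.exists_eq_add_of_le h1
          rw [he, Nat.add_sub_cancel_left, mul_add, mul_comm e p]
          omega
        rw [hexp, pow_add]
        ring
      · have : (p - ((x.2 : ℕ) + 1)).choose (p - (j + 1)) = 0 :=
          Nat.choose_eq_zero_of_lt (by omega)
        rw [this]
        simp
    · have : ((x.1 : ℕ)).choose i = 0 := Nat.choose_eq_zero_of_lt (by omega)
      rw [this]
      simp
  rw [Finset.sum_congr rfl (fun x _ => hterm x)]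
  rw [← Finset.sum_image (f := fun l => ((l.choose n : ℕ) : k) * h.coeff l * α ^ (l - n))
    (fun x _ y _ hxy => hinj hxy)]
  symm
  apply Finset.sum_subset
  · intro l hl
    rw [Finset.mem_image] at hl
    obtain ⟨x, -, rfl⟩ := hl
    rw [Finset.mem_range, hφ]
    have hx1 : (x.1 : ℕ) < g := x.1.2
    have : p * (x.1 : ℕ) + p ≤ p * g := by
      have : (x.1 : ℕ) + 1 ≤ g := hx1
      calc p * (x.1 : ℕ) + p = p * ((x.1 : ℕ) + 1) := by ring
        _ ≤ p * g := Nat.mul_le_mul_left p this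
    have h2 : (g + 1) * p = p * g + p := by ring
    omega
  · intro l hl hl'
    rw [Finset.mem_range] at hl
    rw [cast_choose_of_div_mod p l n, hnmod, hndiv]
    by_cases hr : l % p < p - (j + 1)
    · rw [Nat.choose_eq_zero_of_lt hr]
      simp
    · -- then the coefficient vanishes
      have hlt : l % p < p := Nat.mod_lt _ hp0
      have hI : g ≤ l / p := by
        by_contra hcon
        push Not at hcon
        apply hl'
        rw [Finset.mem_image]
        refine ⟨(⟨l / p, hcon⟩, ⟨p - 1 - l % p, by omega⟩), Finset.mem_univ _, ?_⟩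
        rw [hφ]
        change (p - ((p - 1 - l % p) + 1)) + p * (l / p) = l
        have := Nat.mod_add_div l p
        omega
      have hcoeff : h.coeff l = 0 := by
        apply Polynomial.coeff_eq_zero_of_natDegree_lt
        have h3 := Nat.mod_add_div l p
        have h4 : p * g ≤ p * (l / p) := Nat.mul_le_mul_left p hI
        have h5 : (p - 1) * (g + 1) + g + 1 = p * g + p := by
          obtain ⟨e, he⟩ := Nat.exists_eq_add_of_le hp1
          rw [he]
          simp only [Nat.add_sub_cancel_left]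
          ring
        omega
      rw [hcoeff]
      simp

end

end Groth.Agent.H82

namespace Groth.Agent.H82

open Polynomial Finset

section Main

variable {k : Type*} [Field k] (p : ℕ) [hp : Fact p.Prime] [CharP k p]

theorem cartierManin_natDegree_le (hp2 : p ≠ 2) (g : ℕ) (f : k[X])
    (hf : f.natDegree ≤ 2 * g + 2) : (f ^ ((p - 1) / 2)).natDegree ≤ (p - 1) * (g + 1) := by
  have hodd : p % 2 = 1 := by
    rcases hp.out.eq_two_or_odd with h | h
    · exact absurd h hp2
    · exact h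
  have h2m : 2 * ((p - 1) / 2) = p - 1 := by omega
  calc (f ^ ((p - 1) / 2)).natDegree ≤ ((p - 1) / 2) * f.natDegree := natDegree_pow_le
    _ ≤ ((p - 1) / 2) * (2 * g + 2) := Nat.mul_le_mul_left _ hf
    _ = (2 * ((p - 1) / 2)) * (g + 1) := by ring
    _ = (p - 1) * (g + 1) := by rw [h2m]

theorem cartierManin_translate (hp2 : p ≠ 2) (g : ℕ) (hg : g ≤ p) (f : k[X])
    (hf : f.natDegree ≤ 2 * g + 2) (α : k) :
    (Matrix.of fun i j : Fin g =>
        ((f.comp (X + C α)) ^ ((p - 1) / 2)).coeff (((i : ℕ) + 1) * p - ((j : ℕ) + 1))) =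
      (Matrix.of fun i I : Fin g => (((I : ℕ).choose (i : ℕ) : ℕ) : k) * α ^ (((I : ℕ) - (i : ℕ)) * p)) *
        (Matrix.of fun i j : Fin g => (f ^ ((p - 1) / 2)).coeff (((i : ℕ) + 1) * p - ((j : ℕ) + 1))) *
        (Matrix.of fun J j : Fin g =>
          (((p - ((J : ℕ) + 1)).choose (p - ((j : ℕ) + 1)) : ℕ) : k) * α ^ ((j : ℕ) - (J : ℕ))) := by
  ext i j
  rw [Matrix.of_apply, ← Polynomial.pow_comp,
    cartierManin_entry p g hg _ (cartierManin_natDegree_le p hp2 g f hf) α i j i.2 j.2,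
    Matrix.mul_apply, Fintype.sum_prod_type, Finset.sum_comm]
  refine Finset.sum_congr rfl (fun J _ => ?_)
  rw [Matrix.mul_apply, Finset.sum_mul]
  refine Finset.sum_congr rfl (fun I _ => ?_)
  simp only [Matrix.of_apply]

theorem cartierManin_det (hp2 : p ≠ 2) (g : ℕ) (hg : g ≤ p) (f : k[X])
    (hf : f.natDegree ≤ 2 * g + 2) (α : k) :
    (Matrix.of fun i j : Fin g =>
        ((f.comp (X + C α)) ^ ((p - 1) / 2)).coeff (((i : ℕ) + 1) * p - ((j : ℕ) + 1))).det =
      (Matrix.of fun i j : Fin g =>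
        (f ^ ((p - 1) / 2)).coeff (((i : ℕ) + 1) * p - ((j : ℕ) + 1))).det := by
  rw [cartierManin_translate p hp2 g hg f hf α, Matrix.det_mul, Matrix.det_mul]
  have hL : (Matrix.of fun i I : Fin g =>
      (((I : ℕ).choose (i : ℕ) : ℕ) : k) * α ^ (((I : ℕ) - (i : ℕ)) * p)).det = 1 := by
    rw [Matrix.det_of_upperTriangular]
    · apply Finset.prod_eq_one
      intro i _
      simp
    · intro i I hIi
      have hlt : (I : ℕ) < (i : ℕ) := hIi
      simp only [Matrix.of_apply]
      rw [Nat.choose_eq_zero_of_lt hlt]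
      simp
  have hU : (Matrix.of fun J j : Fin g =>
      (((p - ((J : ℕ) + 1)).choose (p - ((j : ℕ) + 1)) : ℕ) : k) * α ^ ((j : ℕ) - (J : ℕ))).det = 1 := by
    rw [Matrix.det_of_upperTriangular]
    · apply Finset.prod_eq_one
      intro i _
      simp
    · intro J j hjJ
      have hlt : (j : ℕ) < (J : ℕ) := hjJ
      have hJ : (J : ℕ) < g := J.2
      simp only [Matrix.of_apply]
      rw [Nat.choose_eq_zero_of_lt (by omega)]
      simp
  rw [hL, hU, one_mul, mul_one]

end Main

end Groth.Agent.H82
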