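import Mathlib
import Groth.Agent.H82.TorSymm
import Groth.Agent.H82.TorColim
import Groth.Agent.H82.TorFlat

set_option linter.unusedSectionVars false
set_option linter.unusedVariables false
set_option linter.style.haveILetI false
set_option backward.isDefEq.respectTransparency false

/-!
# Dimension shifting for `Ext` (first variable) and `Tor`, for maps
-/

universe w w' v' u' u

open CategoryTheory CategoryTheory.Limits

namespace Groth.Agent.H82.ExtTor

section General

variable {C : Type u'} [Category.{v'} C] [Abelian C]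

theorem exists_hom_of_projective {S S' : ShortComplex C} (hS : S.ShortExact)
    (hS' : S'.ShortExact) [Projective S.X₂] (g : S.X₃ ⟶ S'.X₃) : ∃ φ : S ⟶ S', φ.τ₃ = g := by
  haveI := hS'.epi_g
  haveI := hS'.mono_f
  let b : S.X₂ ⟶ S'.X₂ := Projective.factorThru (S.g ≫ g) S'.g
  have hb : b ≫ S'.g = S.g ≫ g := Projective.factorThru_comp _ _
  have hz : (S.f ≫ b) ≫ S'.g = 0 := by
    rw [Category.assoc, hb, ← Category.assoc, S.zero, zero_comp]
  let a : S.X₁ ⟶ S'.X₁ := hS'.exact.lift _ hz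
  have ha : a ≫ S'.f = S.f ≫ b := hS'.exact.lift_f _ hz
  exact ⟨{ τ₁ := a, τ₂ := b, τ₃ := g, comm₁₂ := ha, comm₂₃ := hb }, rfl⟩

end General

section ExtPart

open Abelian

variable {C : Type u'} [Category.{v'} C] [Abelian C] [HasExt.{w} C]

/-- Precomposition with `α` kills `Ext^{n+1}(M', -)`. -/
def ExtCond {M M' : C} (α : M ⟶ M') (n : ℕ) : Prop :=
  ∀ (N : C) (x : Ext.{w} M' N (n + 1)), (Ext.mk₀ α).comp x (zero_add _) = 0

theorem comp_extClass_comp {S S' : ShortComplex C} (hS : S.ShortExact) (hS' : S'.ShortExact)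
    (φ : S ⟶ S') {N : C} {m k : ℕ} (y : Ext.{w} S'.X₁ N m) (h1 : 1 + m = k) :
    (Ext.mk₀ φ.τ₃).comp (hS'.extClass.comp y h1) (zero_add k) =
      hS.extClass.comp ((Ext.mk₀ φ.τ₁).comp y (zero_add m)) h1 := by
  have hnat := ShortComplex.ShortExact.extClass_naturality hS hS' φ
  rw [← Ext.comp_assoc (Ext.mk₀ φ.τ₃) hS'.extClass y (zero_add 1) h1 (by omega), ← hnat,
    Ext.comp_assoc hS.extClass (Ext.mk₀ φ.τ₁) y (add_zero 1) (zero_add m) (by omega)]

theorem extCond_step {S S' : ShortComplex C} (hS : S.ShortExact) (hS' : S'.ShortExact)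
    [Projective S.X₂] [Projective S'.X₂] (φ : S ⟶ S') (n : ℕ) :
    ExtCond.{w} φ.τ₃ (n + 1) ↔ ExtCond.{w} φ.τ₁ n := by
  constructor
  · intro h N y
    have hx := h N (hS'.extClass.comp y (show 1 + (n + 1) = n + 1 + 1 by omega))
    rw [comp_extClass_comp hS hS' φ] at hx
    obtain ⟨x₂, hx₂⟩ := Ext.contravariant_sequence_exact₁ hS N _ _ hx
    rw [← hx₂, Ext.eq_zero_of_projective x₂, Ext.comp_zero]
  · intro h N x
    have h0 : (Ext.mk₀ S'.g).comp x (zero_add _) = 0 := Ext.eq_zero_of_projective _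
    obtain ⟨y, hy⟩ := Ext.contravariant_sequence_exact₃ hS' N x h0
      (show 1 + (n + 1) = n + 1 + 1 by omega)
    rw [← hy, comp_extClass_comp hS hS' φ, h N y, Ext.comp_zero]

theorem extCond_zero_iff {M : C} {S' : ShortComplex C} (hS' : S'.ShortExact) [Projective S'.X₂]
    (α : M ⟶ S'.X₃) : ExtCond.{w} α 0 ↔ ∃ g : M ⟶ S'.X₂, g ≫ S'.g = α := by
  constructor
  · intro h
    have h1 : (Ext.mk₀ α).comp hS'.extClass (zero_add 1) = 0 := h S'.X₁ hS'.extClass
    obtain ⟨x₂, hx₂⟩ := Ext.covariant_sequence_exact₃ M hS' (Ext.mk₀ α) (zero_add 1) h1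
    refine ⟨Ext.homEquiv₀ x₂, ?_⟩
    apply (Ext.mk₀_bijective M S'.X₃).1
    rw [← Ext.mk₀_comp_mk₀, Ext.mk₀_homEquiv₀_apply, hx₂]
  · rintro ⟨g, rfl⟩ N x
    rw [← Ext.mk₀_comp_mk₀_assoc,
      Ext.eq_zero_of_projective ((Ext.mk₀ S'.g).comp x (zero_add _)), Ext.comp_zero]

/-- Translation to morphisms in the derived category. -/
theorem extCond_iff_hom [HasDerivedCategory.{w'} C] {M M' : C} (α : M ⟶ M') (n : ℕ) :
    ExtCond.{w} α n ↔ ∀ (N : C) (φ : ShiftedHom ((DerivedCategory.singleFunctor C 0).obj M')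
      ((DerivedCategory.singleFunctor C 0).obj N) ((n + 1 : ℕ) : ℤ)),
      (DerivedCategory.singleFunctor C 0).map α ≫ φ = 0 := by
  have key : ∀ (N : C) (x : Ext.{w} M' N (n + 1)),
      ((Ext.mk₀ α).comp x (zero_add _)).hom = (DerivedCategory.singleFunctor C 0).map α ≫ x.hom := by
    intro N x
    rw [Ext.comp_hom, Ext.mk₀_hom, ShiftedHom.mk₀_comp]
  constructor
  · intro h N φ
    have h1 := h N (Ext.homEquiv.symm φ)
    have h2 := key N (Ext.homEquiv.symm φ)
    rw [h1, Ext.zero_hom] at h2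
    have h3 : (Ext.homEquiv.symm φ : Ext.{w} M' N (n + 1)).hom = φ := Equiv.apply_symm_apply _ _
    rw [h3] at h2
    exact h2.symm
  · intro h N x
    apply Ext.ext
    rw [key N x, h N x.hom, Ext.zero_hom]

end ExtPart


end Groth.Agent.H82.ExtTor
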