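import Mathlib
import Groth.Agent.H82.TorLib

set_option linter.unusedSectionVars false
set_option linter.unusedVariables false
set_option linter.style.haveILetI false
set_option backward.isDefEq.respectTransparency false

universe u

open CategoryTheory CategoryTheory.Limits MonoidalCategory
open CategoryTheory.Category ChainComplex HomologicalComplex

namespace Groth.Agent.H82.FlatRes

open Groth.Agent.H82.LDer Groth.Agent.H82.TorLib

variable {A : Type u} [CommRing A] {M : ModuleCat.{u} A}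
  (F : ChainComplex (ModuleCat.{u} A) ℕ)
  (φ : F ⟶ (ChainComplex.single₀ (ModuleCat.{u} A)).obj M) [QuasiIso φ]

theorem d_comp_φ : F.d 1 0 ≫ φ.f 0 = 0 := by
  rw [← φ.comm 1 0, HomologicalComplex.single_obj_d, comp_zero]

include φ in
theorem exactAt_succ (n : ℕ) : F.ExactAt (n + 1) := by
  rw [← quasiIsoAt_iff_exactAt' φ (n + 1) (exactAt_succ_single_obj _ _)]
  infer_instance

include φ in
theorem exact_succ (n : ℕ) :
    (ShortComplex.mk _ _ (F.d_comp_d (n + 2) (n + 1) n)).Exact :=
  ((HomologicalComplex.exactAt_iff' _ (n + 2) (n + 1) n) (by simp only [ChainComplex.prev]; rfl)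
    (by simp)).1 (exactAt_succ F φ n)

set_option backward.isDefEq.respectTransparency.types false in
set_option backward.defeqAttrib.useBackward true in
/-- `M` is the cokernel of `F₁ ⟶ F₀`. -/
noncomputable def isColimitCokernelCofork :
    IsColimit (CokernelCofork.ofπ (φ.f 0) (d_comp_φ F φ)) := by
  refine IsColimit.ofIsoColimit (F.opcyclesIsCokernel 1 0 (by simp)) ?_
  refine Cofork.ext (F.isoHomologyι₀.symm ≪≫ isoOfQuasiIsoAt φ 0 ≪≫
    singleObjHomologySelfIso _ _ _) ?_
  rw [← cancel_mono (singleObjHomologySelfIso (ComplexShape.down ℕ) 0 _).inv,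
    ← cancel_mono (isoHomologyι₀ _).hom]
  dsimp
  simp only [isoHomologyι₀_inv_naturality_assoc, p_opcyclesMap_assoc, single₀_obj_zero, assoc,
    Iso.hom_inv_id, comp_id, isoHomologyι_inv_hom_id, singleObjHomologySelfIso_inv_homologyι,
    singleObjOpcyclesSelfIso_hom, single₀ObjXSelf, Iso.refl_inv, id_comp]

/-- `Y ↦ H_n(F ⊗ Y)`. -/
noncomputable def V (n : ℕ) : ModuleCat.{u} A ⥤ ModuleCat.{u} A :=
  cxFunctor (tensoringRight (ModuleCat.{u} A)) F ⋙ HomologicalComplex.homologyFunctor _ _ n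

theorem hasLES_V (hF : ∀ i : ℕ, Module.Flat A (F.X i)) : HasLES (V F) :=
  hasLES_cxFunctor (tensoringRight (ModuleCat.{u} A)) F
    (fun i S hS z => by
      haveI := hF i
      exact shortExact_whiskerLeft (F.X i) S hS z)

include φ in
theorem vanish_V : VanishOnProj (V F) := by
  intro n Q hQ
  haveI := hQ
  show IsZero ((((tensorRight Q).mapHomologicalComplex (ComplexShape.down ℕ)).obj
    F).homology (n+1))
  rw [← HomologicalComplex.exactAt_iff_isZero_homology,
    HomologicalComplex.exactAt_iff' _ (n+2) (n+1) n (by simp) (by simp)]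
  exact (exact_succ F φ n).map (tensorRight Q)

/-- The canonical map `coker(F₁ ⊗ Y → F₀ ⊗ Y) ⟶ M ⊗ Y`. -/
noncomputable def d0 (Y : ModuleCat.{u} A) :
    ((cxFunctor (tensoringRight (ModuleCat.{u} A)) F).obj Y).opcycles 0 ⟶
      (tensorRight Y).obj M :=
  HomologicalComplex.descOpcycles _ ((tensorRight Y).map (φ.f 0)) 1 (by simp) (by
    show (tensorRight Y).map (F.d 1 0) ≫ (tensorRight Y).map (φ.f 0) = 0
    rw [← Functor.map_comp, d_comp_φ, Functor.map_zero])

@[reassoc]
theorem p_d0 (Y : ModuleCat.{u} A) :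
    HomologicalComplex.pOpcycles _ 0 ≫ d0 F φ Y = (tensorRight Y).map (φ.f 0) := by
  simp [d0]

set_option backward.isDefEq.respectTransparency.types false in
instance isIso_d0 (Y : ModuleCat.{u} A) : IsIso (d0 F φ Y) := by
  dsimp only [d0]
  rw [ChainComplex.isIso_descOpcycles_iff, ShortComplex.exact_and_epi_g_iff_g_is_cokernel]
  exact ⟨CokernelCofork.mapIsColimit _ (isColimitCokernelCofork F φ) (tensorRight Y)⟩

theorem d0_natural {Y Y' : ModuleCat.{u} A} (ψ : Y ⟶ Y') :
    HomologicalComplex.opcyclesMap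
        ((cxFunctor (tensoringRight (ModuleCat.{u} A)) F).map ψ) 0 ≫ d0 F φ Y' =
      d0 F φ Y ≫ M ◁ ψ := by
  rw [← cancel_epi (HomologicalComplex.pOpcycles _ _), HomologicalComplex.p_opcyclesMap_assoc,
    p_d0, p_d0_assoc]
  exact whisker_exchange (φ.f 0) ψ

/-- `H_0(F ⊗ Y) ≅ M ⊗ Y`, naturally in `Y`. -/
noncomputable def V0iso : V F 0 ≅ tensorLeft M :=
  NatIso.ofComponents
    (fun Y => ChainComplex.isoHomologyι₀ _ ≪≫ asIso (d0 F φ Y))
    (by
      intro Y Y' ψ
      show HomologicalComplex.homologyMap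
          ((cxFunctor (tensoringRight (ModuleCat.{u} A)) F).map ψ) 0 ≫
          (ChainComplex.isoHomologyι₀ _).hom ≫ d0 F φ Y' =
        ((ChainComplex.isoHomologyι₀ _).hom ≫ d0 F φ Y) ≫ M ◁ ψ
      exact isoHomologyι₀_square _ _ _ _ (d0_natural F φ ψ))

include φ in
/-- A flat resolution computes `Tor'`. -/
theorem nonempty_homology_iso_tor' (hF : ∀ i : ℕ, Module.Flat A (F.X i)) (N : ModuleCat.{u} A)
    (i : ℕ) :
    Nonempty ((((tensorRight N).mapHomologicalComplex (ComplexShape.down ℕ)).obj F).homology i ≅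
      ((Tor' (ModuleCat.{u} A) i).obj M).obj N) := by
  let P := projectiveResolution M
  obtain ⟨e⟩ := nonempty_iso_of_hasLES (hasLES_V F hF) (hasLES_U P) (vanish_V F φ) (vanish_U P)
    (V0iso F φ ≪≫ (U0iso P).symm) i N
  exact ⟨e ≪≫ (P.isoLeftDerivedObj (tensorRight N) i).symm⟩

end Groth.Agent.H82.FlatRes
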