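import Mathlib.RingTheory.GradedAlgebra.Homogeneous.Ideal
import Mathlib.Algebra.Module.GradedModule
import Mathlib.Algebra.Module.Projective
import Mathlib.RingTheory.Finiteness.Basic
import Mathlib.Tactic

set_option autoImplicit false
set_option linter.unusedSectionVars false

namespace Groth.Agent.H82

open DirectSum

section

variable {S : Type*} [CommRing S] (𝒜 : ℤ → AddSubgroup S) [GradedRing 𝒜]
  {M : Type*} [AddCommGroup M] [Module S M] (ℳ : ℤ → AddSubgroup M)
  [DirectSum.Decomposition ℳ] [SetLike.GradedSMul 𝒜 ℳ]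

/-- The degree `n` component of `s • m` for `m` homogeneous of degree `d`. -/
theorem decompose_smul_of_mem (s : S) {m : M} {d : ℤ} (hm : m ∈ ℳ d) (n : ℤ) :
    ((decompose ℳ (s • m)) n : M) = ((decompose 𝒜 s (n - d) : 𝒜 (n - d)) : S) • m := by
  classical
  have hs : s = ∑ k ∈ (decompose 𝒜 s).support, ((decompose 𝒜 s k : 𝒜 k) : S) :=
    (DirectSum.sum_support_decompose 𝒜 s).symm
  have hterm : ∀ k : ℤ, ((decompose ℳ (((decompose 𝒜 s k : 𝒜 k) : S) • m)) n : M) =
      if k + d = n then ((decompose 𝒜 s k : 𝒜 k) : S) • m else 0 := by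
    intro k
    have hk : ((decompose 𝒜 s k : 𝒜 k) : S) • m ∈ ℳ (k + d) :=
      SetLike.GradedSMul.smul_mem (decompose 𝒜 s k).2 hm
    split_ifs with h
    · subst h
      exact DirectSum.decompose_of_mem_same ℳ hk
    · exact DirectSum.decompose_of_mem_ne ℳ hk h
  calc ((decompose ℳ (s • m)) n : M)
      = ((decompose ℳ ((∑ k ∈ (decompose 𝒜 s).support, ((decompose 𝒜 s k : 𝒜 k) : S)) • m)) n : M) := by
        rw [← hs]
    _ = ∑ k ∈ (decompose 𝒜 s).support,
          ((decompose ℳ (((decompose 𝒜 s k : 𝒜 k) : S) • m)) n : M) := by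
        rw [Finset.sum_smul, DirectSum.decompose_sum, DFinsupp.finsetSum_apply,
          AddSubgroup.val_finsetSum]
    _ = ∑ k ∈ (decompose 𝒜 s).support,
          (if k + d = n then ((decompose 𝒜 s k : 𝒜 k) : S) • m else 0) :=
        Finset.sum_congr rfl (fun k _ => hterm k)
    _ = ((decompose 𝒜 s (n - d) : 𝒜 (n - d)) : S) • m := by
        rw [Finset.sum_eq_single (n - d)]
        · rw [if_pos (by ring)]
        · intro k _ hk
          rw [if_neg]
          intro h
          apply hk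
          omega
        · intro hn
          rw [DFinsupp.notMem_support_iff] at hn
          rw [if_pos (by ring), hn]
          simp

theorem eq_sum_proj_smul {ι : Type*} [Fintype ι] (m : ι → M) (d : ι → ℤ)
    (hm : ∀ i, m i ∈ ℳ (d i)) (s : ι → S) {x : M} {n : ℤ} (hx : x ∈ ℳ n)
    (hxs : x = ∑ i, s i • m i) :
    x = ∑ i, ((decompose 𝒜 (s i) (n - d i) : 𝒜 (n - d i)) : S) • m i := by
  classical
  have h1 : ((decompose ℳ x) n : M) = x := DirectSum.decompose_of_mem_same ℳ hx
  calc x = ((decompose ℳ x) n : M) := h1.symm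
    _ = ((decompose ℳ (∑ i, s i • m i)) n : M) := by rw [← hxs]
    _ = ∑ i, ((decompose ℳ (s i • m i)) n : M) := by
        rw [DirectSum.decompose_sum, DFinsupp.finsetSum_apply, AddSubgroup.val_finsetSum]
    _ = _ := Finset.sum_congr rfl (fun i _ => decompose_smul_of_mem 𝒜 ℳ (s i) (hm i) n)

theorem exists_homogeneous_generators [Module.Finite S M] :
    ∃ G : Finset M, (∀ x ∈ G, ∃ i, x ∈ ℳ i) ∧ Submodule.span S (G : Set M) = ⊤ := by
  classical
  obtain ⟨T, hT⟩ := (Module.Finite.fg_top : (⊤ : Submodule S M).FG)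
  refine ⟨T.biUnion (fun t => (decompose ℳ t).support.image
    (fun i => ((decompose ℳ t i : ℳ i) : M))), ?_, ?_⟩
  · intro x hx
    rw [Finset.mem_biUnion] at hx
    obtain ⟨t, _, hx⟩ := hx
    rw [Finset.mem_image] at hx
    obtain ⟨i, _, rfl⟩ := hx
    exact ⟨i, (decompose ℳ t i).2⟩
  · rw [eq_top_iff, ← hT, Submodule.span_le]
    intro t ht
    have hsum := DirectSum.sum_support_decompose ℳ t
    rw [SetLike.mem_coe, ← hsum]
    refine Submodule.sum_mem _ (fun i hi => Submodule.subset_span ?_)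
    rw [Finset.mem_coe, Finset.mem_biUnion]
    exact ⟨t, ht, Finset.mem_image_of_mem _ hi⟩

theorem graded_complete (V : ℕ → HomogeneousIdeal 𝒜)
    (hsep : ∀ (n : ℤ) (s : S), s ∈ 𝒜 n → (∀ m, s ∈ (V m).toIdeal) → s = 0)
    (hcpl : ∀ (n : ℤ) (f : ℕ → S), (∀ m, f m ∈ 𝒜 n) →
      (∀ m, f (m + 1) - f m ∈ (V m).toIdeal) → ∃ s ∈ 𝒜 n, ∀ m, s - f m ∈ (V m).toIdeal)
    [Module.Finite S M] [Module.Projective S M] :
    (∀ (n : ℤ) (x : M), x ∈ ℳ n → (∀ m, x ∈ (V m).toIdeal • (⊤ : Submodule S M)) → x = 0) ∧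
    (∀ (n : ℤ) (g : ℕ → M), (∀ m, g m ∈ ℳ n) →
      (∀ m, g (m + 1) - g m ∈ (V m).toIdeal • (⊤ : Submodule S M)) →
      ∃ x ∈ ℳ n, ∀ m, x - g m ∈ (V m).toIdeal • (⊤ : Submodule S M)) := by
  classical
  obtain ⟨G, hGhom, hGspan⟩ := exists_homogeneous_generators (S := S) ℳ
  choose! deg hdeg using hGhom
  let m : {x // x ∈ G} → M := fun i => i.1
  let d : {x // x ∈ G} → ℤ := fun i => deg i.1
  have hm : ∀ i, m i ∈ ℳ (d i) := fun i => hdeg i.1 i.2
  have hπ : Function.Surjective (Finsupp.linearCombination S m) := by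
    rw [← LinearMap.range_eq_top, Finsupp.range_linearCombination]
    have : Set.range m = (G : Set M) := by
      ext y
      simp [m]
    rw [this, hGspan]
  obtain ⟨σ, hσ⟩ := Module.projective_lifting_property (Finsupp.linearCombination S m)
    LinearMap.id hπ
  have hrepr : ∀ x : M, x = ∑ i, (σ x i) • m i := by
    intro x
    have hx : Finsupp.linearCombination S m (σ x) = x := LinearMap.congr_fun hσ x
    conv_lhs => rw [← hx]
    rw [Finsupp.linearCombination_apply, Finsupp.sum_fintype]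
    intro i
    exact zero_smul S (m i)
  have hcoord : ∀ (I : Ideal S) (x : M), x ∈ I • (⊤ : Submodule S M) → ∀ i, σ x i ∈ I := by
    intro I x hx i
    refine Submodule.smul_induction_on hx (fun r hr y _ => ?_) (fun y z hy hz => ?_)
    · rw [map_smul, Finsupp.smul_apply, smul_eq_mul]
      exact I.mul_mem_right _ hr
    · rw [map_add, Finsupp.add_apply]
      exact I.add_mem hy hz
  have hproj : ∀ (m' : ℕ) (s : S), s ∈ (V m').toIdeal →
      ∀ k, ((decompose 𝒜 s k : 𝒜 k) : S) ∈ (V m').toIdeal :=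
    fun m' s hs k => (V m').isHomogeneous k hs
  constructor
  · intro n x hx hxV
    rw [eq_sum_proj_smul 𝒜 ℳ m d hm (fun i => σ x i) hx (hrepr x)]
    apply Finset.sum_eq_zero
    intro i _
    have h0 : ((decompose 𝒜 (σ x i) (n - d i) : 𝒜 (n - d i)) : S) = 0 :=
      hsep (n - d i) _ (decompose 𝒜 (σ x i) (n - d i)).2
        (fun m' => hproj m' _ (hcoord _ x (hxV m') i) _)
    rw [h0, zero_smul]
  · intro n g hg hgV
    have hex : ∀ i, ∃ s ∈ 𝒜 (n - d i), ∀ m',
        s - ((decompose 𝒜 (σ (g m') i) (n - d i) : 𝒜 (n - d i)) : S) ∈ (V m').toIdeal := by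
      intro i
      refine hcpl (n - d i)
        (fun m' => ((decompose 𝒜 (σ (g m') i) (n - d i) : 𝒜 (n - d i)) : S))
        (fun m' => (decompose 𝒜 (σ (g m') i) (n - d i)).2) (fun m' => ?_)
      have h1 : ((decompose 𝒜 (σ (g (m' + 1)) i) (n - d i) : 𝒜 (n - d i)) : S) -
          ((decompose 𝒜 (σ (g m') i) (n - d i) : 𝒜 (n - d i)) : S) =
          ((decompose 𝒜 (σ (g (m' + 1) - g m') i) (n - d i) : 𝒜 (n - d i)) : S) := by
        rw [map_sub, Finsupp.sub_apply, DirectSum.decompose_sub, DirectSum.sub_apply,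
          AddSubgroup.coe_sub]
      rw [h1]
      exact hproj m' _ (hcoord _ _ (hgV m') i) _
    choose s hs𝒜 hsV using hex
    refine ⟨∑ i, s i • m i, ?_, ?_⟩
    · refine sum_mem (fun i _ => ?_)
      have h2 : s i • m i ∈ ℳ ((n - d i) + d i) := SetLike.GradedSMul.smul_mem (hs𝒜 i) (hm i)
      rwa [sub_add_cancel] at h2
    · intro m'
      have h3 := eq_sum_proj_smul 𝒜 ℳ m d hm (fun i => σ (g m') i) (hg m') (hrepr (g m'))
      have h4 : ∑ i, s i • m i - g m' = ∑ i,
          (s i - ((decompose 𝒜 (σ (g m') i) (n - d i) : 𝒜 (n - d i)) : S)) • m i := by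
        conv_lhs => rw [h3]
        rw [← Finset.sum_sub_distrib]
        exact Finset.sum_congr rfl (fun i _ => (sub_smul _ _ _).symm)
      rw [h4]
      exact Submodule.sum_mem _ (fun i _ =>
        Submodule.smul_mem_smul (hsV i m') Submodule.mem_top)

end

end Groth.Agent.H82
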