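import Mathlib
import Groth.Agent.H45.LocCohZShift

/-!
# Vanishing of the local cohomology sheaves above a degree, tested on a basis
-/

set_option autoImplicit false
set_option linter.unusedSectionVars false
set_option linter.unusedVariables false
set_option linter.style.haveILetI false

universe u

open CategoryTheory CategoryTheory.Limits TopologicalSpace Opposite

namespace Groth.Agent.H82.HZA

open Groth.Agent.H45.LocCohZShift Groth.Agent.H45.LocCohZLib Groth.Agent.H45.CohTopOpenPull
  Groth.Agent.H45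

variable {X : TopCat.{u}} (U : Opens X) (𝓑 : Set (Opens X)) (h𝓑 : Opens.IsBasis 𝓑)

include h𝓑 in
/-- `F ⟶ j_* j⁻¹ F` is an epimorphism if sections over `U ∩ B` extend to `B` for `B` in a
basis. -/
theorem epi_unit_of_surjective_basis (F : CohTop.Ab X)
    (hs : ∀ B ∈ 𝓑, Function.Surjective (F.obj.map (homOfLE (interOpen_le U B)).op)) :
    Epi ((η U).app F) := by
  have h1 : Epi ((restrPushAdj U).unit.app F) := by
    haveI : Sheaf.IsLocallySurjective ((restrPushAdj U).unit.app F) := by
      refine (TopCat.Presheaf.isLocallySurjective_iff ((restrPushAdj U).unit.app F).hom).2 ?_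
      intro V t x hx
      obtain ⟨B, hB𝓑, hxB, hBV⟩ := (TopologicalSpace.Opens.isBasis_iff_nbhd.1 h𝓑) hx
      refine ⟨B, hBV, ?_, hxB⟩
      obtain ⟨s, hs'⟩ := hs B hB𝓑
        ((((CohTop.push (CohCx.incl U)).obj ((CohTop.restrFunctor U).obj F)).obj.map
          (homOfLE hBV).op) t)
      exact ⟨s, hs'⟩
    exact Sheaf.epi_of_isLocallySurjective _
  have h := unit_comp U F
  have h' : (η U).app F = (restrPushAdj U).unit.app F ≫
      (CohTop.push (CohCx.incl U)).map ((pullIsoRestr U).inv.app F) := by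
    have e : (CohTop.push (CohCx.incl U)).map ((pullIsoRestr U).hom.app F) ≫
        (CohTop.push (CohCx.incl U)).map ((pullIsoRestr U).inv.app F) = 𝟙 _ := by
      rw [← Functor.map_comp, Iso.hom_inv_id_app]
      exact CategoryTheory.Functor.map_id _ _
    calc (η U).app F = (η U).app F ≫ 𝟙 _ := (Category.comp_id _).symm
      _ = (η U).app F ≫ ((CohTop.push (CohCx.incl U)).map ((pullIsoRestr U).hom.app F) ≫
          (CohTop.push (CohCx.incl U)).map ((pullIsoRestr U).inv.app F)) := by rw [e]; rfl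
      _ = _ := by rw [← Category.assoc]; exact congrArg (· ≫ _) h
  rw [h']
  haveI : IsIso ((pullIsoRestr U).inv.app F) := inferInstance
  haveI : IsIso ((CohTop.push (CohCx.incl U)).map ((pullIsoRestr U).inv.app F)) :=
    Functor.map_isIso _ _
  exact epi_comp' h1 inferInstance

include h𝓑 in
/-- Degree one. -/
theorem isZero_HZsh_one_of_basis (F : CohTop.Ab X)
    (h : ∀ B ∈ 𝓑, Subsingleton (LocCohZ.HZ F 1 (inf_le_left : B ⊓ U ≤ B))) :
    IsZero ((LocCohZ.HZsh U 1).obj F) := by
  apply isZero_HZsh_one_of_epi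
  apply epi_unit_of_surjective_basis U 𝓑 h𝓑
  intro B hB
  haveI := h B hB
  have hinj : Function.Injective (LocCohZ.toHU F 1 (inf_le_left : B ⊓ U ≤ B)) :=
    fun a b _ => Subsingleton.elim a b
  have hs : Function.Surjective (CohTop.res F 0 (inf_le_left : B ⊓ U ≤ B)) :=
    ExtContraLES.surjective_res_of (LocCohZ.zqSeq_shortExact (inf_le_left : B ⊓ U ≤ B)) F 0 hinj
  have hs' := surjective_map_of_surjective_res F (inf_le_left : B ⊓ U ≤ B) hs
  have hle₁ : interOpen U B ≤ B ⊓ U := le_inf (interOpen_le U B) (interOpen_le_self U B)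
  have hle₂ : B ⊓ U ≤ interOpen U B := le_interOpen U inf_le_left inf_le_right
  intro s'
  obtain ⟨t, ht⟩ := hs' (F.obj.map (homOfLE hle₂).op s')
  refine ⟨t, ?_⟩
  have h3 := congrArg (F.obj.map (homOfLE hle₁).op) ht
  rw [← ConcreteCategory.comp_apply, ← F.obj.map_comp, ← ConcreteCategory.comp_apply,
    ← F.obj.map_comp] at h3
  have h4 : (homOfLE hle₂).op ≫ (homOfLE hle₁).op = 𝟙 (op (interOpen U B)) := rfl
  rw [h4, F.obj.map_id] at h3
  exact h3

section Shift

variable (F : CohTop.Ab X)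

/-- The short exact sequence `0 ⟶ F ⟶ I ⟶ C ⟶ 0` with `I` an injective hull. -/
noncomputable def S' : ShortComplex (CohTop.Ab X) :=
  ShortComplex.mk (Injective.ι F) (cokernel.π (Injective.ι F)) (cokernel.condition _)

lemma shortExact_S' : (S' F).ShortExact :=
  { exact := ShortComplex.exact_cokernel (Injective.ι F)
    mono_f := inferInstanceAs (Mono (Injective.ι F))
    epi_g := inferInstanceAs (Epi (cokernel.π (Injective.ι F))) }

/-- The cokernel. -/
noncomputable abbrev C' : CohTop.Ab X := cokernel (Injective.ι F)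

lemma isZero_HZsh_shift' (n : ℕ) :
    IsZero ((LocCohZ.HZsh U (n + 1)).obj (C' F)) ↔ IsZero ((LocCohZ.HZsh U (n + 2)).obj F) :=
  isZero_rightDerived_shift (LocCohZ.sectSuppF U) (shortExact_S' F) (n + 1)
    (Functor.isZero_rightDerived_obj_injective_succ _ n (Injective.under F))
    (Functor.isZero_rightDerived_obj_injective_succ _ (n + 1) (Injective.under F))

lemma subsingleton_HZ_shift' (V : Opens X) (n : ℕ) :
    Subsingleton (LocCohZ.HZ (C' F) (n + 1) (inf_le_left : V ⊓ U ≤ V)) ↔
      Subsingleton (LocCohZ.HZ F (n + 2) (inf_le_left : V ⊓ U ≤ V)) :=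
  subsingleton_ext_shift (shortExact_S' F) _ (n + 1)
    (Abelian.Ext.subsingleton_of_injective _ (Injective.under F) n)
    (Abelian.Ext.subsingleton_of_injective _ (Injective.under F) (n + 1))

end Shift

include h𝓑 in
/-- If the cohomology with supports vanishes in all positive degrees on a basis, so do the local
cohomology sheaves. -/
theorem isZero_HZsh_succ_of_basis (k : ℕ) : ∀ F : CohTop.Ab X,
    (∀ B ∈ 𝓑, ∀ i : ℕ, Subsingleton (LocCohZ.HZ F (i + 1) (inf_le_left : B ⊓ U ≤ B))) →
      IsZero ((LocCohZ.HZsh U (k + 1)).obj F) := by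
  induction k with
  | zero =>
    intro F h
    exact isZero_HZsh_one_of_basis U 𝓑 h𝓑 F (fun B hB => h B hB 0)
  | succ k ih =>
    intro F h
    refine (isZero_HZsh_shift' U F k).1 (ih (C' F) (fun B hB i => ?_))
    exact (subsingleton_HZ_shift' U F B i).2 (h B hB (i + 1))

include h𝓑 in
/-- Vanishing above a positive degree, tested on a basis. -/
theorem isZero_HZsh_ge_of_basis (N : ℕ) : ∀ F : CohTop.Ab X,
    (∀ B ∈ 𝓑, ∀ i : ℕ, N + 1 ≤ i → Subsingleton (LocCohZ.HZ F i (inf_le_left : B ⊓ U ≤ B))) →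
      ∀ i : ℕ, N + 1 ≤ i → IsZero ((LocCohZ.HZsh U i).obj F) := by
  induction N with
  | zero =>
    intro F h i hi
    obtain ⟨k, rfl⟩ := Nat.exists_eq_succ_of_ne_zero (Nat.one_le_iff_ne_zero.1 hi)
    exact isZero_HZsh_succ_of_basis U 𝓑 h𝓑 k F
      (fun B hB j => h B hB (j + 1) (Nat.succ_le_succ (Nat.zero_le j)))
  | succ N ih =>
    intro F h i hi
    obtain ⟨k, rfl⟩ : ∃ k, i = k + 2 := ⟨i - 2, by omega⟩
    refine (isZero_HZsh_shift' U F k).1 (ih (C' F) (fun B hB j hj => ?_) (k + 1) (by omega))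
    obtain ⟨m, rfl⟩ : ∃ m, j = m + 1 := ⟨j - 1, by omega⟩
    exact (subsingleton_HZ_shift' U F B m).2 (h B hB (m + 2) (by omega))

end Groth.Agent.H82.HZA
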