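import Mathlib
import Groth.Agent.H45.LocCohZShift

/-!
# Global sections of the first nonvanishing local cohomology sheaf
-/

set_option autoImplicit false
set_option linter.unusedSectionVars false
set_option linter.unusedVariables false
set_option linter.style.haveILetI false

universe u

open CategoryTheory CategoryTheory.Limits TopologicalSpace Opposite

namespace Groth.Agent.H82.HZS

open Groth.Agent.H45.LocCohZShift Groth.Agent.H45.LocCohZLib

section ExtShift

universe w v' u'

variable {A : Type u'} [Category.{v'} A] [Abelian A] [HasExt.{w} A]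
  {S : ShortComplex A} (hS : S.ShortExact) (W : A)

open Abelian in
include hS in
/-- The connecting map is bijective when the middle groups vanish. -/
theorem bijective_extClass_postcomp (n : ℕ) (h0 : Subsingleton (Ext W S.X₂ n))
    (h1 : Subsingleton (Ext W S.X₂ (n + 1))) :
    Function.Bijective (hS.extClass.postcomp W (rfl : n + 1 = n + 1)) := by
  constructor
  · rw [injective_iff_map_eq_zero]
    intro x₃ hx₃
    obtain ⟨x₂, rfl⟩ := Ext.covariant_sequence_exact₃ W hS x₃ rfl hx₃
    rw [Subsingleton.elim x₂ 0, Ext.zero_comp]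
  · intro x₁
    obtain ⟨x₃, hx₃⟩ := Ext.covariant_sequence_exact₁ W hS x₁ (Subsingleton.elim _ _) rfl
    exact ⟨x₃, hx₃⟩

end ExtShift

section RDerShift

universe v₁ v₂ u₁ u₂

variable {A : Type u₁} [Category.{v₁} A] [Abelian A] [EnoughInjectives A]
  {B : Type u₂} [Category.{v₂} B] [Abelian B] (G : A ⥤ B) [G.Additive]
  {S : ShortComplex A} (hS : S.ShortExact)

include hS in
theorem nonempty_rightDerived_shift_iso (n : ℕ) (h0 : IsZero ((G.rightDerived n).obj S.X₂))
    (h1 : IsZero ((G.rightDerived (n + 1)).obj S.X₂)) :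
    Nonempty ((G.rightDerived n).obj S.X₃ ≅ (G.rightDerived (n + 1)).obj S.X₁) := by
  let Δ := Groth.Agent.H82.RDerLES.derivedLES G
  have e3 := Δ.exact₃ S hS n (n + 1) rfl
  have e1 := Δ.exact₁ S hS n (n + 1) rfl
  haveI : Mono (Δ.δ S hS n (n + 1) rfl) := e3.mono_g (h0.eq_of_src _ _)
  haveI : Epi (Δ.δ S hS n (n + 1) rfl) := e1.epi_f (h1.eq_of_tgt _ _)
  haveI : IsIso (Δ.δ S hS n (n + 1) rfl) := isIso_of_mono_of_epi _
  exact ⟨asIso (Δ.δ S hS n (n + 1) rfl)⟩

end RDerShift

variable {X : TopCat.{u}} (U : Opens X)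

/-- Sections over the whole space of isomorphic sheaves. -/
noncomputable def sectionsEquivOfIso {K L : CohTop.Ab X} (e : K ≅ L) :
    K.obj.obj (op ⊤) ≃+ L.obj.obj (op ⊤) :=
  ((sheafToPresheaf (Opens.grothendieckTopology X) AddCommGrpCat.{u} ⋙
    (evaluation (Opens X)ᵒᵖ AddCommGrpCat.{u}).obj (op ⊤)).mapIso e).addCommGroupIsoToAddEquiv

/-- Changing the smaller open of a pair along an equality. -/
noncomputable def HZCongr (F : CohTop.Ab X) (i : ℕ) {W W' V : Opens X} (h : W ≤ V) (h' : W' ≤ V)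
    (hW : W = W') : LocCohZ.HZ F i h ≃+ LocCohZ.HZ F i h' := by
  subst hW
  exact AddEquiv.refl _

/-- Degree zero: global sections of `Γ_Z(F)` are the global sections of `F` vanishing on `U`. -/
theorem nonempty_sections_sectSupp_equiv (F : CohTop.Ab X) :
    Nonempty (((LocCohZ.sectSuppF U).obj F).obj.obj (op ⊤) ≃+ LocCohZ.HZc F 0 U) := by
  have hmem : ∀ s : (kernel ((η U).app F)).obj.obj (op ⊤),
      (kernel.ι ((η U).app F)).hom.app (op ⊤) s ∈ LocCohZ.sectZ F (le_top : U ≤ ⊤) := by
    intro s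
    rw [AddMonoidHom.mem_ker]
    set a := (kernel.ι ((η U).app F)).hom.app (op ⊤) s with ha_def
    have ha : ((η U).app F).hom.app (op ⊤) a = 0 :=
      congrArg (fun φ : kernel ((η U).app F) ⟶ _ => φ.hom.app (op ⊤) s)
        (kernel.condition ((η U).app F))
    have h0 := (unit_app_eq_zero_iff U F ⊤ a).1 ha
    have hle : U ≤ interOpen U ⊤ := le_interOpen U le_top le_rfl
    have := congrArg (F.obj.map (homOfLE hle).op) h0
    rw [map_zero, ← ConcreteCategory.comp_apply, ← F.obj.map_comp] at this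
    exact this
  let φ : (kernel ((η U).app F)).obj.obj (op ⊤) →+ LocCohZ.sectZ F (le_top : U ≤ ⊤) :=
    { toFun := fun s => ⟨(kernel.ι ((η U).app F)).hom.app (op ⊤) s, hmem s⟩
      map_zero' := Subtype.ext (map_zero _)
      map_add' := fun a b => Subtype.ext (map_add _ a b) }
  have hφ : Function.Bijective φ := by
    constructor
    · intro s t h
      have h1 : (φ s).1 = (φ t).1 := congrArg Subtype.val h
      exact kernel_ι_app_injective ((η U).app F) ⊤ h1
    · rintro ⟨a, ha⟩
      rw [AddMonoidHom.mem_ker] at ha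
      have hle : interOpen U ⊤ ≤ U := interOpen_le_self U ⊤
      have h0 : F.obj.map (homOfLE (interOpen_le U ⊤)).op a = 0 := by
        have := congrArg (F.obj.map (homOfLE hle).op) ha
        rw [map_zero, ← ConcreteCategory.comp_apply, ← F.obj.map_comp] at this
        exact this
      obtain ⟨s, hs⟩ := exists_kernel_lift ((η U).app F) ⊤ a
        ((unit_app_eq_zero_iff U F ⊤ a).2 h0)
      exact ⟨s, Subtype.ext hs⟩
  exact ⟨(AddEquiv.ofBijective φ hφ).trans (LocCohZ.sect0Equiv F (le_top : U ≤ ⊤)).symm⟩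

/-- If the local cohomology sheaves vanish below `d`, the global sections of the `d`-th one are
the `d`-th cohomology with supports. -/
theorem nonempty_sections_HZsh_equiv (d : ℕ) : ∀ F : CohTop.Ab X,
    (∀ i : ℕ, i < d → IsZero ((LocCohZ.HZsh U i).obj F)) →
      Nonempty (((LocCohZ.HZsh U d).obj F).obj.obj (op ⊤) ≃+ LocCohZ.HZc F d U) := by
  induction d with
  | zero =>
    intro F _
    obtain ⟨e⟩ := nonempty_sections_sectSupp_equiv U F
    exact ⟨(sectionsEquivOfIso ((HZshZeroIso U).app F)).trans e⟩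
  | succ d ih =>
    intro F hF
    have hF0 : IsZero ((LocCohZ.sectSuppF U).obj F) :=
      (hF 0 (Nat.succ_pos d)).of_iso ((HZshZeroIso U).app F).symm
    have hC : ∀ i : ℕ, i < d → IsZero ((LocCohZ.HZsh U i).obj (C U F)) := fun i hi =>
      (isZero_HZsh_shift U F hF0 i).2 (hF (i + 1) (Nat.succ_lt_succ hi))
    obtain ⟨e⟩ := ih (C U F) hC
    obtain ⟨a⟩ := nonempty_rightDerived_shift_iso (LocCohZ.sectSuppF U) (shortExact_S U F hF0) d
      (isZero_HZsh_I U F d) (isZero_HZsh_I U F (d + 1))
    have hI : ∀ n : ℕ, Subsingleton (LocCohZ.HZc (I U F) n U) := fun n =>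
      (HZCongr (I U F) n (inf_le_left : ⊤ ⊓ U ≤ ⊤) (le_top : U ≤ ⊤)
        (top_inf_eq U)).symm.toEquiv.subsingleton_congr.2 (subsingleton_HZ_I U F ⊤ n)
    have hb := bijective_extClass_postcomp (shortExact_S U F hF0)
      (LocCohZ.zq (le_top : U ≤ ⊤)) d (hI d) (hI (d + 1))
    exact ⟨(sectionsEquivOfIso a).symm.trans (e.trans (AddEquiv.ofBijective _ hb))⟩

end Groth.Agent.H82.HZS
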