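import Mathlib
import Groth.Agent.H82.HZshDepth
import Groth.Agent.H82.HZshSections
import Groth.Agent.H8.LocFreeSections
import Groth.Agent.H8.LocFreeNearFinite

/-!
# Local cohomology sheaves of finite locally free modules and depth of the local rings
-/

set_option autoImplicit false
set_option linter.unusedSectionVars false
set_option linter.unusedVariables false
set_option linter.style.haveILetI false
set_option backward.isDefEq.respectTransparency false

universe u

open CategoryTheory CategoryTheory.Limits AlgebraicGeometry TopologicalSpace Opposite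

namespace Groth.Agent.H82.HZD

section algebra2

open Abelian

variable {R : Type u} [CommRing R] [IsNoetherianRing R] (I : Ideal R)

/-- `Ext` into a finite projective module vanishes when `Ext` into the ring does. -/
theorem ext_subsingleton_of_projective (P : Type u) [AddCommGroup P] [Module R P]
    [Module.Finite R P] [Module.Projective R P] (i : ℕ)
    (h : Subsingleton (Ext (ModuleCat.of R (R ⧸ I)) (ModuleCat.of R R) i)) :
    Subsingleton (Ext (ModuleCat.of R (R ⧸ I)) (ModuleCat.of R P) i) := by
  obtain ⟨k, f, hf⟩ := Module.Finite.exists_fin' R P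
  obtain ⟨s, hs⟩ := Module.projective_lifting_property f LinearMap.id hf
  let sj : Fin k → (ModuleCat.of R P ⟶ ModuleCat.of R R) := fun j =>
    ModuleCat.ofHom ((LinearMap.proj j).comp s)
  let rj : Fin k → (ModuleCat.of R R ⟶ ModuleCat.of R P) := fun j =>
    ModuleCat.ofHom (f.comp (LinearMap.single R (fun _ : Fin k => R) j))
  have hsum : ∑ j, sj j ≫ rj j = 𝟙 (ModuleCat.of R P) := by
    apply ModuleCat.hom_ext
    refine LinearMap.ext (fun p => ?_)
    have h1 : (∑ j, sj j ≫ rj j).hom p = ∑ j, (sj j ≫ rj j).hom p := by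
      rw [ModuleCat.hom_sum, LinearMap.sum_apply]
    rw [h1]
    show ∑ j, f (Pi.single j (s p j)) = p
    rw [← map_sum, Finset.univ_sum_single]
    exact LinearMap.congr_fun hs p
  refine ⟨fun a b => ?_⟩
  have key : ∀ x : Ext (ModuleCat.of R (R ⧸ I)) (ModuleCat.of R P) i, x = 0 := by
    intro x
    have hT : ∀ T : Finset (Fin k), x.comp (Ext.mk₀ (∑ j ∈ T, sj j ≫ rj j)) (add_zero i) = 0 := by
      intro T
      classical
      induction T using Finset.induction_on with
      | empty => rw [Finset.sum_empty, Ext.mk₀_zero, Ext.comp_zero]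
      | insert j T hj ih =>
        rw [Finset.sum_insert hj, Ext.mk₀_add, Ext.comp_add, ih, add_zero,
          ← Ext.mk₀_comp_mk₀, ← Ext.comp_assoc_of_third_deg_zero]
        rw [Subsingleton.elim (x.comp (Ext.mk₀ (sj j)) (add_zero i)) 0, Ext.zero_comp]
    have h2 := hT Finset.univ
    rw [hsum, Ext.comp_mk₀_id] at h2
    exact h2
  rw [key a, key b]

/-- A finite projective module has at least the depth of the ring. -/
theorem le_idealDepth_of_projective (P : Type u) [AddCommGroup P] [Module R P]
    [Module.Finite R P] [Module.Projective R P] (n : ℕ)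
    (h : (n : ℕ∞) ≤ LocCoh.idealDepth I R) : (n : ℕ∞) ≤ LocCoh.idealDepth I P := by
  rw [Groth.Agent.H15.ExtDepth.le_idealDepth_iff_ext'] at h ⊢
  exact fun i hi => ext_subsingleton_of_projective I P i (h i hi)

end algebra2

section scheme2

open Groth.Agent.H82.FullCech Groth.Agent.H8

variable {X : Scheme.{u}} [IsLocallyNoetherian X] {V : X.Opens} (hV : IsAffineOpen V)

include hV in
theorem depth_stalk_ring_eq (x : X) (hxV : x ∈ V) :
    LocCoh.depth (X.presheaf.stalk x) (X.presheaf.stalk x) =
      LocCoh.depth (Localization.AtPrime (hV.primeIdealOf ⟨x, hxV⟩).asIdeal)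
        (LocalizedModule (hV.primeIdealOf ⟨x, hxV⟩).asIdeal.primeCompl Γ(X, V)) := by
  haveI : IsNoetherianRing Γ(X, V) := IsLocallyNoetherian.component_noetherian ⟨V, hV⟩
  letI := X.presheaf.algebra_section_stalk ⟨x, hxV⟩
  haveI := hV.isLocalization_stalk ⟨x, hxV⟩
  exact Groth.Agent.H95.TB.depth_eq_of_isLocalizedModule (hV.primeIdealOf ⟨x, hxV⟩).asIdeal
    (X.presheaf.stalk x) (Algebra.linearMap Γ(X, V) (X.presheaf.stalk x))

include hV in
/-- The depth of the ring of an affine open along the complement of `U`. -/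
theorem le_idealDepth_ring (U : X.Opens) (fs : List Γ(X, V)) (hfs : V ⊓ U = Wfs fs) (d : ℕ)
    (hdepth : ∀ x : X, x ∉ (U : Set X) →
      (d : ℕ∞) ≤ LocCoh.depth (X.presheaf.stalk x) (X.presheaf.stalk x)) :
    (d : ℕ∞) ≤ LocCoh.idealDepth (Ideal.span {a | a ∈ fs}) Γ(X, V) := by
  haveI : IsNoetherianRing Γ(X, V) := IsLocallyNoetherian.component_noetherian ⟨V, hV⟩
  rw [Groth.Agent.S5152.result Γ(X, V) (Ideal.span {a | a ∈ fs}) Γ(X, V), le_iInf_iff]
  intro p
  rw [le_iInf_iff]
  intro hp
  have hxV : hV.fromSpec p ∈ V := by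
    have : hV.fromSpec p ∈ Set.range hV.fromSpec := ⟨_, rfl⟩
    rw [hV.range_fromSpec] at this
    exact this
  have hp' : hV.primeIdealOf ⟨hV.fromSpec p, hxV⟩ = p :=
    hV.fromSpec.isOpenEmbedding.injective (hV.fromSpec_primeIdealOf ⟨hV.fromSpec p, hxV⟩)
  have hxW : hV.fromSpec p ∉ Wfs fs := by
    rw [notMem_Wfs_iff hV fs _ hxV, hp']
    exact hp
  have hxU : hV.fromSpec p ∉ U := by
    intro hU'
    apply hxW
    rw [← hfs]
    exact ⟨hxV, hU'⟩
  have h1 := hdepth (hV.fromSpec p) hxU
  rw [depth_stalk_ring_eq hV _ hxV, hp'] at h1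
  exact h1

variable (F : X.Modules) [F.IsQuasicoherent]

include hV in
/-- Vanishing of cohomology with supports below `n` on an affine open, in terms of the depth of
the module of sections. -/
theorem forall_subsingleton_HZ_iff_idealDepth [Module.Finite Γ(X, V) Γ(F, V)]
    (fs : List Γ(X, V)) (W : X.Opens) (h : W ≤ V) (hW : W = Wfs fs) (n : ℕ) :
    (∀ i : ℕ, i < n → Subsingleton (LocCohZ.HZ (X := X.carrier) (Coh.toAb F) i h)) ↔
      (n : ℕ∞) ≤ LocCoh.idealDepth (Ideal.span {a | a ∈ fs}) Γ(F, V) := by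
  haveI : IsNoetherianRing Γ(X, V) := IsLocallyNoetherian.component_noetherian ⟨V, hV⟩
  subst hW
  rw [← forall_subsingleton_H_iff]
  refine forall_congr' (fun i => forall_congr' (fun _ => ?_))
  obtain ⟨e⟩ := nonempty_koszul_equiv_HZ_V hV F fs i
  obtain ⟨k⟩ := Groth.Agent.S5173.result Γ(X, V) fs Γ(F, V) i
  exact (k.toEquiv.trans e.toEquiv).subsingleton_congr.symm

end scheme2

section main2

variable (X : Scheme.{u}) [IsLocallyNoetherian X] (U : X.Opens) (d : ℕ)
  (hdepth : ∀ x : X, x ∉ (U : Set X) →
    (d : ℕ∞) ≤ LocCoh.depth (X.presheaf.stalk x) (X.presheaf.stalk x))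
  (M : X.Modules) (hM : FlatMod.IsFinLocFree M)

include hdepth hM in
/-- The local cohomology sheaves of a finite locally free module vanish below the depth of the
local rings along the closed subset. -/
theorem isZero_HZsh_of_isFinLocFree :
    ∀ i : ℕ, i < d → IsZero ((LocCohZ.HZsh (X := X.carrier) U i).obj (Coh.toAb M)) := by
  haveI : M.IsQuasicoherent := Groth.Agent.H8.isQuasicoherent_of_isFinLocFree M hM
  refine isZero_HZsh_of_basis (X := X.carrier) U X.affineOpens X.isBasis_affineOpens d
    (Coh.toAb M) (fun V hV => ?_)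
  have hV' : IsAffineOpen V := hV
  haveI : IsNoetherianRing Γ(X, V) := IsLocallyNoetherian.component_noetherian ⟨V, hV'⟩
  obtain ⟨hfp, hproj⟩ :=
    Groth.Agent.H8.finitePresentation_projective_sections_of_isFinLocFree M hM hV'
  haveI := hproj
  haveI := hfp
  haveI : Module.Finite Γ(X, V) Γ(M, V) := inferInstance
  obtain ⟨fs, hfs⟩ := exists_list_eq_Wfs hV' (V ⊓ U) inf_le_left
  refine (forall_subsingleton_HZ_iff_idealDepth hV' M fs (V ⊓ U) inf_le_left hfs d).2 ?_
  exact le_idealDepth_of_projective _ Γ(M, V) d (le_idealDepth_ring hV' U fs hfs d hdepth)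

include hdepth hM in
/-- Global sections of the first possibly nonzero local cohomology sheaf. -/
theorem nonempty_sections_HZsh_equiv_HZM :
    Nonempty (((LocCohZ.HZsh (X := X.carrier) U d).obj (Coh.toAb M)).obj.obj (op ⊤) ≃+
      LocCohZ.HZM X M d U) :=
  Groth.Agent.H82.HZS.nonempty_sections_HZsh_equiv (X := X.carrier) U d (Coh.toAb M)
    (isZero_HZsh_of_isFinLocFree X U d hdepth M hM)

end main2

end Groth.Agent.H82.HZD
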