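import Mathlib
import Groth.Agent.H82.HZshLocFree
import Groth.Agent.H82.HZshAbove
import Groth.Agent.S0380
import Groth.Agent.S0325

/-!
# Vanishing of local cohomology sheaves above the dimension of the local rings
-/

set_option autoImplicit false
set_option linter.unusedSectionVars false
set_option linter.unusedVariables false
set_option linter.style.haveILetI false
set_option backward.isDefEq.respectTransparency false

universe u

open CategoryTheory CategoryTheory.Limits AlgebraicGeometry TopologicalSpace Opposite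

namespace Groth.Agent.H82.HZD

section algebra3

open Abelian

variable {R : Type u} [CommRing R]

theorem subsingleton_H_top (M : Type u) [AddCommGroup M] [Module R M] (i : ℕ) :
    Subsingleton (LocCoh.H (⊤ : Ideal R) i M) := by
  have key : ∀ y : LocCoh.H (⊤ : Ideal R) i M, y = 0 := by
    intro y
    obtain ⟨k, x, rfl⟩ := Groth.Agent.H58.LC.exists_rep (⊤ : Ideal R) i (ModuleCat.of R M) y
    haveI : Subsingleton (R ⧸ (⊤ : Ideal R) ^ k) := by
      rw [Ideal.top_pow]
      exact Ideal.Quotient.subsingleton_iff.2 rfl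
    have hz : IsZero (Groth.Agent.H58.LC.Q (⊤ : Ideal R) k) := ModuleCat.isZero_of_subsingleton _
    have hx : x = 0 := by
      have h1 : (Ext.mk₀ (𝟙 (Groth.Agent.H58.LC.Q (⊤ : Ideal R) k))).comp x (zero_add i) = x :=
        Ext.mk₀_id_comp x
      rw [← h1, hz.eq_of_src (𝟙 _) 0, Ext.mk₀_zero, Ext.zero_comp]
    rw [hx, map_zero]
  exact ⟨fun a b => (key a).trans (key b).symm⟩

theorem cdLE_top (d : ℕ) : LocCoh.CdLE R (⊤ : Ideal R) d :=
  fun M _ _ i _ => subsingleton_H_top M i

theorem cdLE_of_forall_dim [IsNoetherianRing R] (J : Ideal R) (d : ℕ)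
    (h : ∀ p : PrimeSpectrum R, J ≤ p.asIdeal →
      ringKrullDim (Localization.AtPrime p.asIdeal) ≤ d) : LocCoh.CdLE R J d := by
  rw [Groth.Agent.S0380.result]
  intro p hp
  by_cases hJ : J ≤ p
  · exact Groth.Agent.S0325.result _ _ d (h ⟨p, hp⟩ hJ)
  · obtain ⟨a, haJ, hap⟩ := SetLike.not_le_iff_exists.1 hJ
    have hunit : IsUnit (algebraMap R (Localization.AtPrime p) a) :=
      IsLocalization.map_units (Localization.AtPrime p) (⟨a, hap⟩ : p.primeCompl)
    have htop : J.map (algebraMap R (Localization.AtPrime p)) = ⊤ :=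
      Ideal.eq_top_of_isUnit_mem _ (Ideal.mem_map_of_mem _ haJ) hunit
    rw [htop]
    exact cdLE_top d

theorem le_of_lt_succ_withBot (x : WithBot ℕ∞) (N : ℕ)
    (h : x < ((N + 1 : ℕ) : WithBot ℕ∞)) : x ≤ (N : WithBot ℕ∞) := by
  induction x with
  | bot => exact bot_le
  | coe e =>
    have h1 : ((N + 1 : ℕ) : WithBot ℕ∞) = (((N + 1 : ℕ) : ℕ∞) : WithBot ℕ∞) := rfl
    have h2 : ((N : ℕ) : WithBot ℕ∞) = (((N : ℕ) : ℕ∞) : WithBot ℕ∞) := rfl
    rw [h1, WithBot.coe_lt_coe] at h
    rw [h2, WithBot.coe_le_coe]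
    have h3 : e < (N : ℕ∞) + 1 := by exact_mod_cast h
    exact Order.le_of_lt_add_one h3

end algebra3

section scheme3

open Groth.Agent.H82.FullCech Groth.Agent.H8

variable {X : Scheme.{u}} [IsLocallyNoetherian X] {V : X.Opens} (hV : IsAffineOpen V)

include hV in
theorem ringKrullDim_stalk_eq (x : X) (hxV : x ∈ V) :
    ringKrullDim (X.presheaf.stalk x) =
      ringKrullDim (Localization.AtPrime (hV.primeIdealOf ⟨x, hxV⟩).asIdeal) := by
  letI := X.presheaf.algebra_section_stalk ⟨x, hxV⟩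
  haveI := hV.isLocalization_stalk ⟨x, hxV⟩
  exact ringKrullDim_eq_of_ringEquiv
    (IsLocalization.algEquiv (hV.primeIdealOf ⟨x, hxV⟩).asIdeal.primeCompl (X.presheaf.stalk x)
      (Localization.AtPrime (hV.primeIdealOf ⟨x, hxV⟩).asIdeal)).toRingEquiv

variable (F : X.Modules) [F.IsQuasicoherent]

include hV in
/-- On an affine open, cohomology with supports vanishes above the dimensions of the local rings
at the points of the support. -/
theorem subsingleton_HZ_of_dim_lt (U : X.Opens) (N : ℕ)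
    (hdim : ∀ x : X, x ∉ (U : Set X) →
      ringKrullDim (X.presheaf.stalk x) < ((N + 1 : ℕ) : WithBot ℕ∞))
    (j : ℕ) (hj : N + 1 ≤ j) :
    Subsingleton (LocCohZ.HZ (X := X.carrier) (Coh.toAb F) j (inf_le_left : V ⊓ U ≤ V)) := by
  haveI : IsNoetherianRing Γ(X, V) := IsLocallyNoetherian.component_noetherian ⟨V, hV⟩
  obtain ⟨fs, hfs⟩ := exists_list_eq_Wfs hV (V ⊓ U) inf_le_left
  have hcd : LocCoh.CdLE Γ(X, V) (Ideal.span {a | a ∈ fs}) N := by
    refine cdLE_of_forall_dim _ N (fun p hp => ?_)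
    have hxV : hV.fromSpec p ∈ V := by
      have : hV.fromSpec p ∈ Set.range hV.fromSpec := ⟨_, rfl⟩
      rw [hV.range_fromSpec] at this
      exact this
    have hp' : hV.primeIdealOf ⟨hV.fromSpec p, hxV⟩ = p :=
      hV.fromSpec.isOpenEmbedding.injective (hV.fromSpec_primeIdealOf ⟨hV.fromSpec p, hxV⟩)
    have hxW : hV.fromSpec p ∉ Wfs fs := by
      rw [notMem_Wfs_iff hV fs _ hxV, hp']
      exact hp
    have hxU : hV.fromSpec p ∉ U := by
      intro hU'
      apply hxW
      rw [← hfs]
      exact ⟨hxV, hU'⟩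
    have h1 := le_of_lt_succ_withBot _ N (hdim (hV.fromSpec p) hxU)
    rw [ringKrullDim_stalk_eq hV _ hxV, hp'] at h1
    exact h1
  have key : ∀ (W : X.Opens) (h : W ≤ V) (hW : W = Wfs fs),
      Subsingleton (LocCohZ.HZ (X := X.carrier) (Coh.toAb F) j h) := by
    intro W h hW
    subst hW
    obtain ⟨e⟩ := nonempty_koszul_equiv_HZ_V hV F fs j
    obtain ⟨k⟩ := Groth.Agent.S5173.result Γ(X, V) fs Γ(F, V) j
    haveI := hcd Γ(F, V) j (Nat.lt_of_succ_le hj)
    exact (k.toEquiv.trans e.toEquiv).symm.subsingleton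
  exact key (V ⊓ U) inf_le_left hfs

end scheme3

section main3

variable (X : Scheme.{u}) [IsLocallyNoetherian X] (U : X.Opens) (G : X.Modules) [G.IsQuasicoherent]
  (i : ℕ)
  (hi : ∀ x : X, x ∉ (U : Set X) → ringKrullDim (X.presheaf.stalk x) < (i : WithBot ℕ∞))

include hi in
/-- The local cohomology sheaves of a quasi-coherent module vanish above the dimensions of the
local rings along the closed subset. -/
theorem isZero_HZsh_of_dim_lt :
    IsZero ((LocCohZ.HZsh (X := X.carrier) U i).obj (Coh.toAb G)) := by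
  match i, hi with
  | 0, hi =>
    have hU : ∀ x : X, x ∈ U := by
      intro x
      by_contra hx
      have h1 := hi x hx
      have h2 : (0 : WithBot ℕ∞) ≤ ringKrullDim (X.presheaf.stalk x) :=
        ringKrullDim_nonneg_of_nontrivial
      exact absurd (lt_of_le_of_lt h2 h1) (lt_irrefl _)
    refine IsZero.of_iso ?_ ((Groth.Agent.H45.LocCohZShift.HZshZeroIso (X := X.carrier) U).app
      (Coh.toAb G))
    refine (Groth.Agent.H45.LocCohZShift.isZero_sectSupp_iff (X := X.carrier) U (Coh.toAb G)).2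
      (fun V => ?_)
    refine (LocCohZ.sect0Equiv (X := X.carrier) (Coh.toAb G)
      (inf_le_left : V ⊓ U ≤ V)).toEquiv.subsingleton_congr.2 ?_
    have key : ∀ a : LocCohZ.sectZ (X := X.carrier) (Coh.toAb G) (inf_le_left : V ⊓ U ≤ V),
        a = 0 := by
      rintro ⟨a, ha⟩
      apply Subtype.ext
      rw [AddMonoidHom.mem_ker] at ha
      have hle : V ≤ V ⊓ U := le_inf le_rfl (fun x _ => hU x)
      have h3 := congrArg ((Coh.toAb G).obj.map (homOfLE hle).op) ha
      rw [← ConcreteCategory.comp_apply, ← (Coh.toAb G).obj.map_comp] at h3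
      have h4 : (homOfLE (inf_le_left : V ⊓ U ≤ V)).op ≫ (homOfLE hle).op = 𝟙 (op V) := rfl
      rw [h4, (Coh.toAb G).obj.map_id, map_zero] at h3
      exact h3
    exact ⟨fun a b => (key a).trans (key b).symm⟩
  | N + 1, hi =>
    refine Groth.Agent.H82.HZA.isZero_HZsh_ge_of_basis (X := X.carrier) U X.affineOpens
      X.isBasis_affineOpens N (Coh.toAb G) (fun V hV j hj => ?_) (N + 1) le_rfl
    exact subsingleton_HZ_of_dim_lt hV G U N hi j hj

end main3

end Groth.Agent.H82.HZD
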