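import Mathlib
import Groth.Agent.H59.KoszBridge
import Groth.Agent.H82.CechFun
import Groth.Agent.H82.KCTheta

/-!
# Powers of Koszul-regular sequences are Koszul-regular (cone model)

For a complex `K` and scalars `f g` there is a short exact sequence of complexes
`0 → cone(f) → cone(f*g) ⊞ cone(1) → cone(g) → 0`; applying iterated cones and the long exact
homology sequence shows that acyclicity off degree `0` of the Koszul complexes on
`l₁ ++ f :: l₂` and `l₁ ++ g :: l₂` implies that of `l₁ ++ (f*g) :: l₂`.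
-/

set_option autoImplicit false
set_option linter.unusedSectionVars false
set_option linter.unusedVariables false
set_option linter.style.haveILetI false
set_option backward.isDefEq.respectTransparency false

universe u

open CategoryTheory Limits CochainComplex HomComplex

namespace Groth.Agent.H82.KPow

open Groth.Agent.H59.Kosz Groth.Agent.H82.Cech Groth.Agent.H82.KC

variable {A : Type u} [CommRing A]

theorem comp_f_apply {X Y Z : Cx A} {a : X ⟶ Y} {b : Y ⟶ Z} {c : X ⟶ Z} (h : a ≫ b = c) (n : ℤ)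
    (x : X.X n) : (b.f n).hom ((a.f n).hom x) = (c.f n).hom x := by
  rw [← h]
  rfl

theorem id_f_apply (X : Cx A) (n : ℤ) (x : X.X n) : ((𝟙 X : X ⟶ X).f n).hom x = x := rfl

theorem smul_id_f_apply (X : Cx A) (a : A) (n : ℤ) (x : X.X n) :
    ((a • 𝟙 X : X ⟶ X).f n).hom x = a • x := rfl

theorem zero_f_apply (X Y : Cx A) (n : ℤ) (x : X.X n) : ((0 : X ⟶ Y).f n).hom x = 0 := rfl

theorem add_f_apply' {X Y : Cx A} (a b : X ⟶ Y) (n : ℤ) (x : X.X n) :
    ((a + b).f n).hom x = (a.f n).hom x + (b.f n).hom x := rfl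

theorem neg_f_apply' {X Y : Cx A} (a : X ⟶ Y) (n : ℤ) (x : X.X n) :
    ((-a).f n).hom x = -(a.f n).hom x := rfl

section base

variable (K : Cx A) (f g : A)

/-- `cone(f) ⟶ cone(f*g)`, identity on the shifted part and `g` on the other. -/
noncomputable def i₁ : mappingCone (f • 𝟙 K) ⟶ mappingCone ((f * g) • 𝟙 K) :=
  mappingCone.map _ _ (𝟙 K) (g • 𝟙 K) (by
    rw [Linear.smul_comp, Category.id_comp, Category.id_comp, smul_smul])

/-- `cone(f) ⟶ cone(1)`. -/
noncomputable def i₂ : mappingCone (f • 𝟙 K) ⟶ mappingCone ((1 : A) • 𝟙 K) :=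
  mappingCone.map _ _ (f • 𝟙 K) (𝟙 K) (by
    rw [Category.comp_id, one_smul, Category.comp_id])

/-- `cone(f*g) ⟶ cone(g)`. -/
noncomputable def p₁ : mappingCone ((f * g) • 𝟙 K) ⟶ mappingCone (g • 𝟙 K) :=
  mappingCone.map _ _ (f • 𝟙 K) (𝟙 K) (by
    rw [Category.comp_id, Linear.smul_comp, Category.id_comp, smul_smul])

/-- `cone(1) ⟶ cone(g)`. -/
noncomputable def p₂ : mappingCone ((1 : A) • 𝟙 K) ⟶ mappingCone (g • 𝟙 K) :=
  mappingCone.map _ _ (𝟙 K) (g • 𝟙 K) (by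
    rw [one_smul, Category.id_comp])

theorem i₁_p₁ : i₁ K f g ≫ p₁ K f g = i₂ K f ≫ p₂ K g := by
  unfold i₁ i₂ p₁ p₂
  rw [← mappingCone.map_comp, ← mappingCone.map_comp]
  apply map_congr'
  · simp
  · simp

/-- The short exact sequence `0 → cone(f) → cone(f*g) ⊞ cone(1) → cone(g) → 0`. -/
noncomputable def baseSC : ShortComplex (Cx A) :=
  ShortComplex.mk (biprod.lift (i₁ K f g) (i₂ K f)) (biprod.desc (p₁ K f g) (-(p₂ K g))) (by
    rw [biprod.lift_desc, Preadditive.comp_neg, ← sub_eq_add_neg, sub_eq_zero]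
    exact i₁_p₁ K f g)

theorem e_i₁ (n : ℤ) (x : (mappingCone (f • 𝟙 K)).X n) :
    coneEquiv ((f * g) • 𝟙 K) n (n + 1) rfl (((i₁ K f g).f n).hom x) =
      ((coneEquiv (f • 𝟙 K) n (n + 1) rfl x).1, g • (coneEquiv (f • 𝟙 K) n (n + 1) rfl x).2) := by
  unfold i₁
  rw [coneEquiv_map]
  rfl

theorem e_i₂ (n : ℤ) (x : (mappingCone (f • 𝟙 K)).X n) :
    coneEquiv ((1 : A) • 𝟙 K) n (n + 1) rfl (((i₂ K f).f n).hom x) =
      (f • (coneEquiv (f • 𝟙 K) n (n + 1) rfl x).1, (coneEquiv (f • 𝟙 K) n (n + 1) rfl x).2) := by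
  unfold i₂
  rw [coneEquiv_map]
  rfl

theorem e_p₁ (n : ℤ) (x : (mappingCone ((f * g) • 𝟙 K)).X n) :
    coneEquiv (g • 𝟙 K) n (n + 1) rfl (((p₁ K f g).f n).hom x) =
      (f • (coneEquiv ((f * g) • 𝟙 K) n (n + 1) rfl x).1,
        (coneEquiv ((f * g) • 𝟙 K) n (n + 1) rfl x).2) := by
  unfold p₁
  rw [coneEquiv_map]
  rfl

theorem e_p₂ (n : ℤ) (x : (mappingCone ((1 : A) • 𝟙 K)).X n) :
    coneEquiv (g • 𝟙 K) n (n + 1) rfl (((p₂ K g).f n).hom x) =
      ((coneEquiv ((1 : A) • 𝟙 K) n (n + 1) rfl x).1,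
        g • (coneEquiv ((1 : A) • 𝟙 K) n (n + 1) rfl x).2) := by
  unfold p₂
  rw [coneEquiv_map]
  rfl

theorem total_apply (W C : Cx A) (n : ℤ) (y : (W ⊞ C).X n) :
    ((biprod.inl : W ⟶ W ⊞ C).f n).hom (((biprod.fst : W ⊞ C ⟶ W).f n).hom y) +
      ((biprod.inr : C ⟶ W ⊞ C).f n).hom (((biprod.snd : W ⊞ C ⟶ C).f n).hom y) = y := by
  have h := congrArg (fun m : W ⊞ C ⟶ W ⊞ C => (m.f n).hom y) (biprod.total (X := W) (Y := C))
  exact h

theorem baseSC_shortExact : (baseSC K f g).ShortExact := by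
  apply HomologicalComplex.shortExact_of_degreewise_shortExact
  intro n
  let W : Cx A := mappingCone ((f * g) • 𝟙 K)
  let C : Cx A := mappingCone ((1 : A) • 𝟙 K)
  let eX := coneEquiv (f • 𝟙 K) n (n + 1) rfl
  let eW := coneEquiv ((f * g) • 𝟙 K) n (n + 1) rfl
  let eC := coneEquiv ((1 : A) • 𝟙 K) n (n + 1) rfl
  let eZ := coneEquiv (g • 𝟙 K) n (n + 1) rfl
  have hfst : ∀ x, ((biprod.fst : W ⊞ C ⟶ W).f n).hom
      (((biprod.lift (i₁ K f g) (i₂ K f)).f n).hom x) = ((i₁ K f g).f n).hom x :=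
    fun x => comp_f_apply (biprod.lift_fst _ _) n x
  have hsnd : ∀ x, ((biprod.snd : W ⊞ C ⟶ C).f n).hom
      (((biprod.lift (i₁ K f g) (i₂ K f)).f n).hom x) = ((i₂ K f).f n).hom x :=
    fun x => comp_f_apply (biprod.lift_snd _ _) n x
  have hinl : ∀ w, ((biprod.desc (p₁ K f g) (-(p₂ K g))).f n).hom
      (((biprod.inl : W ⟶ W ⊞ C).f n).hom w) = ((p₁ K f g).f n).hom w :=
    fun w => comp_f_apply (biprod.inl_desc _ _) n w
  have hinr : ∀ c, ((biprod.desc (p₁ K f g) (-(p₂ K g))).f n).hom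
      (((biprod.inr : C ⟶ W ⊞ C).f n).hom c) = -((p₂ K g).f n).hom c :=
    fun c => comp_f_apply (biprod.inr_desc _ _) n c
  refine ModuleCat.shortComplex_shortExact _ ?_ ?_ ?_
  · -- exactness
    show Function.Exact ((biprod.lift (i₁ K f g) (i₂ K f)).f n).hom
      ((biprod.desc (p₁ K f g) (-(p₂ K g))).f n).hom
    intro y
    constructor
    · intro hy
      rw [← total_apply W C n y, map_add, hinl, hinr] at hy
      have hy' := congrArg eZ hy
      rw [map_add, map_neg, map_zero, e_p₁, e_p₂] at hy'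
      have h1 : f • (eW (((biprod.fst : W ⊞ C ⟶ W).f n).hom y)).1 =
          (eC (((biprod.snd : W ⊞ C ⟶ C).f n).hom y)).1 := by
        have := congrArg Prod.fst hy'
        simpa [sub_eq_zero, ← sub_eq_add_neg] using this
      have h2 : (eW (((biprod.fst : W ⊞ C ⟶ W).f n).hom y)).2 =
          g • (eC (((biprod.snd : W ⊞ C ⟶ C).f n).hom y)).2 := by
        have := congrArg Prod.snd hy'
        simpa [sub_eq_zero, ← sub_eq_add_neg] using this
      refine ⟨eX.symm ((eW (((biprod.fst : W ⊞ C ⟶ W).f n).hom y)).1,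
        (eC (((biprod.snd : W ⊞ C ⟶ C).f n).hom y)).2), ?_⟩
      rw [← total_apply W C n (((biprod.lift (i₁ K f g) (i₂ K f)).f n).hom _), hfst, hsnd]
      conv_rhs => rw [← total_apply W C n y]
      congr 2
      · apply eW.injective
        rw [e_i₁, LinearEquiv.apply_symm_apply]
        exact Prod.ext rfl h2.symm
      · apply eC.injective
        rw [e_i₂, LinearEquiv.apply_symm_apply]
        exact Prod.ext h1 rfl
    · rintro ⟨x, rfl⟩
      exact comp_f_apply (baseSC K f g).zero n x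
  · -- injectivity
    show Function.Injective ((biprod.lift (i₁ K f g) (i₂ K f)).f n).hom
    rw [← LinearMap.ker_eq_bot, LinearMap.ker_eq_bot']
    intro x hx
    have h1 := congrArg (fun y => eW (((biprod.fst : W ⊞ C ⟶ W).f n).hom y)) hx
    have h2 := congrArg (fun y => eC (((biprod.snd : W ⊞ C ⟶ C).f n).hom y)) hx
    simp only [hfst, hsnd, map_zero] at h1 h2
    rw [e_i₁] at h1
    rw [e_i₂] at h2
    have h1' : (eX x).1 = 0 := congrArg Prod.fst h1
    have h2' : (eX x).2 = 0 := congrArg Prod.snd h2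
    apply eX.injective
    rw [map_zero]
    exact Prod.ext h1' h2'
  · -- surjectivity
    show Function.Surjective ((biprod.desc (p₁ K f g) (-(p₂ K g))).f n).hom
    intro z
    refine ⟨((biprod.inl : W ⟶ W ⊞ C).f n).hom (eW.symm (0, (eZ z).2)) +
      ((biprod.inr : C ⟶ W ⊞ C).f n).hom (eC.symm (-(eZ z).1, 0)), ?_⟩
    rw [map_add, hinl, hinr]
    apply eZ.injective
    rw [map_add, map_neg, e_p₁, e_p₂, LinearEquiv.apply_symm_apply, LinearEquiv.apply_symm_apply]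
    refine Prod.ext ?_ ?_
    · simp
    · simp

end base

section powers

theorem kz_append (K : Cx A) : ∀ l₁ l₂ : List A, kz K (l₁ ++ l₂) = kz (kz K l₂) l₁
  | [], l₂ => rfl
  | a :: l₁, l₂ => by
      show mappingCone (a • 𝟙 (kz K (l₁ ++ l₂))) = mappingCone (a • 𝟙 (kz (kz K l₂) l₁))
      rw [kz_append K l₁ l₂]

/-- acyclicity off degree zero of the iterated cone -/
def P (K₀ : Cx A) (l : List A) : Prop := ∀ i : ℤ, i ≠ 0 → IsZero ((kz K₀ l).homology i)

theorem kzMap_id (K : Cx A) (l : List A) : kzMap (𝟙 K) l = 𝟙 _ := by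
  have := kzMap_smul_id (1 : A) K l
  rwa [one_smul, one_smul] at this

theorem isZero_homology_kz_mul (K : Cx A) (l₁ : List A) (f g : A) (i : ℤ)
    (hf : IsZero ((kz (mappingCone (f • 𝟙 K)) l₁).homology i))
    (hg : IsZero ((kz (mappingCone (g • 𝟙 K)) l₁).homology i)) :
    IsZero ((kz (mappingCone ((f * g) • 𝟙 K)) l₁).homology i) := by
  have hT := kzSC_shortExact (baseSC K f g) (baseSC_shortExact K f g) l₁
  have hex := hT.homology_exact₂ i
  have hY : IsZero ((kz (mappingCone ((f * g) • 𝟙 K) ⊞ mappingCone ((1 : A) • 𝟙 K)) l₁).homology i) :=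
    hex.isZero_X₂ (hf.eq_of_src _ _) (hg.eq_of_tgt _ _)
  have hret : kzMap (biprod.inl : mappingCone ((f * g) • 𝟙 K) ⟶
        mappingCone ((f * g) • 𝟙 K) ⊞ mappingCone ((1 : A) • 𝟙 K)) l₁ ≫ kzMap biprod.fst l₁ = 𝟙 _ := by
    rw [← kzMap_comp, biprod.inl_fst, kzMap_id]
  rw [IsZero.iff_id_eq_zero, ← HomologicalComplex.homologyMap_id, ← hret,
    HomologicalComplex.homologyMap_comp, hY.eq_of_tgt (HomologicalComplex.homologyMap _ i) 0,
    zero_comp]

theorem isZero_homology_congr {X Y : Cx A} (h : X = Y) (i : ℤ) :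
    IsZero (X.homology i) ↔ IsZero (Y.homology i) := by
  subst h
  rfl

theorem P_mul (K₀ : Cx A) (l₁ l₂ : List A) (f g : A) (hf : P K₀ (l₁ ++ f :: l₂))
    (hg : P K₀ (l₁ ++ g :: l₂)) : P K₀ (l₁ ++ (f * g) :: l₂) := by
  intro i hi
  have hf' := hf i hi
  have hg' := hg i hi
  rw [isZero_homology_congr (kz_append K₀ l₁ (f :: l₂))] at hf'
  rw [isZero_homology_congr (kz_append K₀ l₁ (g :: l₂))] at hg'
  rw [isZero_homology_congr (kz_append K₀ l₁ ((f * g) :: l₂))]
  exact isZero_homology_kz_mul (kz K₀ l₂) l₁ f g i hf' hg'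

theorem P_pow (K₀ : Cx A) (l₁ l₂ : List A) (x : A) (h : P K₀ (l₁ ++ x :: l₂)) :
    ∀ n : ℕ, 1 ≤ n → P K₀ (l₁ ++ x ^ n :: l₂)
  | 0, h0 => absurd h0 (by omega)
  | 1, _ => by rwa [pow_one]
  | (n + 2), _ => by
      rw [pow_succ]
      exact P_mul K₀ l₁ l₂ (x ^ (n + 1)) x (P_pow K₀ l₁ l₂ x h (n + 1) (by omega)) h

theorem P_map_pow (K₀ : Cx A) (n : ℕ) (hn : 1 ≤ n) :
    ∀ l₂ l₁ : List A, P K₀ (l₁ ++ l₂) → P K₀ (l₁ ++ l₂.map (· ^ n))
  | [], l₁, h => h
  | x :: l₂, l₁, h => by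
      have h1 := P_pow K₀ l₁ l₂ x h n hn
      have h2 := P_map_pow K₀ n hn l₂ (l₁ ++ [x ^ n]) (by simpa using h1)
      simpa using h2

theorem P_map_pow' (K₀ : Cx A) (n : ℕ) (hn : 1 ≤ n) (l : List A) (h : P K₀ l) :
    P K₀ (l.map (· ^ n)) :=
  P_map_pow K₀ n hn l [] h

end powers

end Groth.Agent.H82.KPow
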