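import Groth.Prelude.Def_W4c4lgringredgrpLG
import Mathlib.LinearAlgebra.Dual.Defs
import Mathlib.RingTheory.Finiteness.Projective
import Mathlib.RingTheory.Nakayama
import Mathlib.RingTheory.Ideal.Quotient.Basic
import Mathlib.Tactic

set_option autoImplicit false

namespace Groth.Agent.H82

universe u v

/-- Over an LG-ring, a finitely generated projective module which is nonzero modulo every maximal
ideal contains a unimodular element. -/
theorem exists_unimodular_of_forall_maximal {R : Type u} [CommRing R] (hR : LGRing.IsLGRing R)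
    (M : Type v) [AddCommGroup M] [Module R M] [Module.Finite R M] [Module.Projective R M]
    (hM : ∀ (m : Ideal R) [m.IsMaximal], ¬ ((⊤ : Submodule R M) ≤ m • (⊤ : Submodule R M))) :
    ∃ (x : M) (f : Module.Dual R M), f x = 1 := by
  classical
  obtain ⟨n, f, g, hf, hg, hfg⟩ := Module.Finite.exists_comp_eq_id_of_projective R M
  let E : Fin n → Fin n → R := fun j k => g (f (Pi.single k 1)) j
  have hE : ∀ (v : Fin n → R) (j : Fin n), g (f v) j = ∑ k, E j k * v k := by
    intro v j
    have hv : v = ∑ k, v k • (Pi.single k (1 : R) : Fin n → R) := by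
      ext i; simp [Finset.sum_apply, Pi.single_apply]
    conv_lhs => rw [hv]
    simp only [map_sum, map_smul, Finset.sum_apply, Pi.smul_apply, smul_eq_mul, E]
    exact Finset.sum_congr rfl fun k _ => mul_comm _ _
  have hgf : ∀ x : M, f (g x) = x := fun x => by
    have := LinearMap.congr_fun hfg x
    simpa using this
  let P : MvPolynomial (Fin (n + n)) R :=
    ∑ j, ∑ k, MvPolynomial.C (E j k) * MvPolynomial.X (Fin.natAdd n j) * MvPolynomial.X (Fin.castAdd n k)
  have hP : ∀ (S : Type u) [CommRing S] [Algebra R S] (s : Fin (n + n) → S),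
      MvPolynomial.aeval s P =
        ∑ j, ∑ k, algebraMap R S (E j k) * s (Fin.natAdd n j) * s (Fin.castAdd n k) := by
    intro S _ _ s
    simp only [P, map_sum, map_mul, MvPolynomial.aeval_C, MvPolynomial.aeval_X]
  have hloc : ∀ (m : Ideal R) [m.IsMaximal], LGRing.RepresentsUnit P (R ⧸ m) := by
    intro m hm
    have hex : ∃ j k, E j k ∉ m := by
      by_contra hcon
      push Not at hcon
      apply hM m
      intro x _
      obtain ⟨v, rfl⟩ := hf x
      have h1 : f v = f (g (f v)) := (hgf (f v)).symm
      rw [h1]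
      have h2 : g (f v) = ∑ j, (g (f v) j) • (Pi.single j (1 : R) : Fin n → R) := by
        ext i; simp [Finset.sum_apply, Pi.single_apply]
      rw [h2, map_sum]
      refine Submodule.sum_mem _ fun j _ => ?_
      rw [map_smul]
      refine Submodule.smul_mem_smul ?_ trivial
      rw [hE]
      exact Ideal.sum_mem _ fun k _ => Ideal.mul_mem_right _ _ (hcon j k)
    obtain ⟨j₀, k₀, hjk⟩ := hex
    letI : Field (R ⧸ m) := Ideal.Quotient.field m
    refine ⟨Fin.append (Pi.single k₀ 1) (Pi.single j₀ 1), ?_⟩
    rw [hP]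
    simp only [Fin.append_left, Fin.append_right]
    rw [Finset.sum_eq_single j₀, Finset.sum_eq_single k₀]
    · simp only [Pi.single_eq_same, mul_one]
      rw [isUnit_iff_ne_zero]
      change Ideal.Quotient.mk m (E j₀ k₀) ≠ 0
      rwa [Ne, Ideal.Quotient.eq_zero_iff_mem]
    · intro k _ hk; simp [Pi.single_eq_of_ne hk]
    · intro h; exact absurd (Finset.mem_univ _) h
    · intro j _ hj
      apply Finset.sum_eq_zero
      intro k _
      simp [Pi.single_eq_of_ne hj]
    · intro h; exact absurd (Finset.mem_univ _) h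
  obtain ⟨s, hs⟩ := hR (n + n) P hloc
  rw [hP] at hs
  simp only [Algebra.algebraMap_self, RingHom.id_apply] at hs
  let v : Fin n → R := fun k => s (Fin.castAdd n k)
  let w : Fin n → R := fun j => s (Fin.natAdd n j)
  let φ : Module.Dual R M := ∑ j, w j • ((LinearMap.proj j : (Fin n → R) →ₗ[R] R) ∘ₗ g)
  have hφ : φ (f v) = ∑ j, ∑ k, E j k * s (Fin.natAdd n j) * s (Fin.castAdd n k) := by
    simp only [φ, LinearMap.sum_apply, LinearMap.smul_apply, LinearMap.comp_apply, LinearMap.proj_apply,
      smul_eq_mul, hE, Finset.mul_sum]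
    refine Finset.sum_congr rfl fun j _ => Finset.sum_congr rfl fun k _ => ?_
    simp only [v, w]; ring
  refine ⟨f v, (↑hs.unit⁻¹ : R) • φ, ?_⟩
  rw [LinearMap.smul_apply, hφ, smul_eq_mul]
  exact IsUnit.val_inv_mul hs

end Groth.Agent.H82
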