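import Mathlib
import Groth.Agent.H82.LocHomGlue
import Groth.Agent.H8.LocFree

/-!
# Splitting a locally free module off a free module up to a power of a function

Let `Y` be a quasi-compact quasi-separated scheme, `g` a global function, `F` a quasi-coherent
module with bases of sections on the members of a finite cover by quasi-compact opens, and free of
rank `r` on `D(g)`.  Then there are morphisms `a : O^r → F`, `b : F → O^r` with `a ∘ b = g^N`.
-/

set_option autoImplicit false
set_option linter.unusedSectionVars false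
set_option linter.unusedVariables false
set_option linter.style.haveILetI false

universe u

open CategoryTheory CategoryTheory.Limits AlgebraicGeometry TopologicalSpace Opposite
open AlgebraicGeometry.Scheme.Modules
open Groth.Agent.H8

namespace Groth.Agent.H82.LFG

variable {Y : Scheme.{u}}

/-- restriction of a global function -/
noncomputable abbrev gres (g : Γ(Y, ⊤)) (V : Y.Opens) : Γ(Y, V) :=
  Y.presheaf.map (homOfLE le_top).op g

theorem gres_res (g : Γ(Y, ⊤)) {V V' : Y.Opens} (h : V' ≤ V) :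
    Y.presheaf.map (homOfLE h).op (gres g V) = gres g V' :=
  ringRes_res h le_top g

theorem gres_pow (g : Γ(Y, ⊤)) (n : ℕ) (V : Y.Opens) : gres (g ^ n) V = gres g V ^ n :=
  map_pow _ _ _

theorem gres_mul (g g' : Γ(Y, ⊤)) (V : Y.Opens) : gres (g * g') V = gres g V * gres g' V :=
  map_mul _ _ _

section ops

variable {F G H : Y.Modules} {W : Y.Opens}

/-- scaling by a global function -/
noncomputable def LocHom.smul (g : Γ(Y, ⊤)) (β : LocHom F G W) : LocHom F G W where
  app V h :=
    { toFun := fun x => gres g V • β.app V h x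
      map_zero' := by rw [map_zero, smul_zero]
      map_add' := fun x y => by rw [map_add, smul_add] }
  nat V V' hV h x := by
    show G.presheaf.map (homOfLE h).op (gres g V • β.app V hV x) =
      gres g V' • β.app V' (h.trans hV) (F.presheaf.map (homOfLE h).op x)
    rw [res_smul, gres_res, β.nat]
  lin V hV c x := by
    show gres g V • β.app V hV (c • x) = c • (gres g V • β.app V hV x)
    rw [β.lin, smul_comm]

theorem LocHom.smul_app (g : Γ(Y, ⊤)) (β : LocHom F G W) (V : Y.Opens) (h : V ≤ W) (x : Γ(F, V)) :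
    (LocHom.smul g β).app V h x = gres g V • β.app V h x := rfl

/-- composition -/
noncomputable def LocHom.comp (β : LocHom F G W) (γ : LocHom G H W) : LocHom F H W where
  app V h := (γ.app V h).comp (β.app V h)
  nat V V' hV h x := by
    show H.presheaf.map (homOfLE h).op (γ.app V hV (β.app V hV x)) = _
    rw [γ.nat, β.nat]
    rfl
  lin V hV c x := by
    show γ.app V hV (β.app V hV (c • x)) = c • γ.app V hV (β.app V hV x)
    rw [β.lin, γ.lin]

theorem LocHom.comp_app (β : LocHom F G W) (γ : LocHom G H W) (V : Y.Opens) (h : V ≤ W)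
    (x : Γ(F, V)) : (β.comp γ).app V h x = γ.app V h (β.app V h x) := rfl

end ops

section extend

variable (M : Y.Modules) [M.IsQuasicoherent]

theorem exists_extend_sections {W : Y.Opens} (hW : IsCompact (W : Set Y))
    (hW' : IsQuasiSeparated (W : Set Y)) (g : Γ(Y, ⊤)) {r : ℕ}
    (t : Fin r → Γ(M, Y.basicOpen (gres g W))) :
    ∃ (n : ℕ) (σ : Fin r → Γ(M, W)), ∀ l,
      M.presheaf.map (homOfLE (Y.basicOpen_le (gres g W))).op (σ l) =
        (gres g (Y.basicOpen (gres g W))) ^ n • t l := by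
  have h1 := fun l => exists_smul_eq_res_of_qcqs M hW hW' (gres g W) (t l)
  choose n σ hσ using h1
  refine ⟨Finset.univ.sup n, fun l => (gres g W) ^ (Finset.univ.sup n - n l) • σ l, fun l => ?_⟩
  have hk : Finset.univ.sup n = (Finset.univ.sup n - n l) + n l :=
    (Nat.sub_add_cancel (Finset.le_sup (Finset.mem_univ l))).symm
  rw [res_smul, hσ l, map_pow, gres_res, ← mul_smul, ← pow_add, ← hk]

theorem exists_pow_smul_eq_zero_fin {W : Y.Opens} (hW : IsCompact (W : Set Y))
    (g : Γ(Y, ⊤)) {κ : Type} [Finite κ] (d : κ → Γ(M, W))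
    (hd : ∀ k, M.presheaf.map (homOfLE (Y.basicOpen_le (gres g W))).op (d k) = 0) :
    ∃ n : ℕ, ∀ k, (gres g W) ^ n • d k = 0 := by
  cases nonempty_fintype κ
  have h1 := fun k => exists_pow_smul_eq_zero_of_isCompact M hW (gres g W) (d k) (hd k)
  choose n hn using h1
  refine ⟨Finset.univ.sup n, fun k => ?_⟩
  have hk : Finset.univ.sup n = (Finset.univ.sup n - n k) + n k :=
    (Nat.sub_add_cancel (Finset.le_sup (Finset.mem_univ k))).symm
  rw [hk, pow_add, mul_smul, hn k, smul_zero]

end extend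

section free

variable (Y) (r : ℕ)

/-- the standard sections of `O^r` -/
noncomputable def stdSec (l : Fin r) : Γ(FlatMod.freeMod Y r, ⊤) :=
  (sectionsFreeEquiv Y r ⊤).symm (Pi.single l 1)

theorem stdSec_isBasisOn : IsBasisOn (FlatMod.freeMod Y r) ⊤ (stdSec Y r) := by
  classical
  intro V h
  have key : ∀ l, (FlatMod.freeMod Y r).presheaf.map (homOfLE h).op (stdSec Y r l) =
      (sectionsFreeEquiv Y r V).symm (Pi.single l 1) := by
    intro l
    apply (sectionsFreeEquiv Y r V).injective
    rw [LinearEquiv.apply_symm_apply]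
    funext i
    show (freeπ Y r i).app V ((FlatMod.freeMod Y r).presheaf.map (homOfLE h).op (stdSec Y r l)) = _
    rw [app_res]
    have h1 : sectionsFreeEquiv Y r ⊤ (stdSec Y r l) i = (Pi.single l 1 : Fin r → Γ(Y, ⊤)) i :=
      congrFun ((sectionsFreeEquiv Y r ⊤).apply_symm_apply (Pi.single l 1)) i
    have h2 : (freeπ Y r i).app ⊤ (stdSec Y r l) = sectionsFreeEquiv Y r ⊤ (stdSec Y r l) i := rfl
    rw [h2, h1]
    by_cases hil : i = l
    · subst hil
      rw [Pi.single_eq_same, Pi.single_eq_same]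
      exact map_one (Y.presheaf.map (homOfLE h).op).hom
    · rw [Pi.single_eq_of_ne hil, Pi.single_eq_of_ne hil]
      exact map_zero (Y.presheaf.map (homOfLE h).op).hom
  have hfun : (fun c : Fin r → Γ(Y, V) => ∑ l, c l •
      (FlatMod.freeMod Y r).presheaf.map (homOfLE h).op (stdSec Y r l)) =
      fun c => (sectionsFreeEquiv Y r V).symm c := by
    funext c
    simp only [key]
    have hc : c = ∑ l, c l • (Pi.single l 1 : Fin r → Γ(Y, V)) := by
      funext j
      rw [Finset.sum_apply, Finset.sum_eq_single j]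
      · rw [Pi.smul_apply, Pi.single_eq_same, smul_eq_mul, mul_one]
      · intro b _ hb
        rw [Pi.smul_apply, Pi.single_eq_of_ne (Ne.symm hb), smul_zero]
      · intro hj
        exact absurd (Finset.mem_univ j) hj
    conv_rhs => rw [hc]
    rw [map_sum]
    refine Finset.sum_congr rfl fun l _ => ?_
    rw [LinearEquiv.map_smul]
  rw [hfun]
  exact (sectionsFreeEquiv Y r V).symm.bijective

end free


section self

variable {F G : Y.Modules}

theorem res_self (M : Y.Modules) {V : Y.Opens} (x : Γ(M, V)) :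
    M.presheaf.map (homOfLE (le_refl V)).op x = x := by
  rw [show (homOfLE (le_refl V)) = 𝟙 V from rfl, op_id, M.presheaf.map_id]
  rfl

theorem LocHom.ofBasis_apply_basis_self {W : Y.Opens} {r : ℕ} (s : Fin r → Γ(F, W))
    (hs : IsBasisOn F W s) (t : Fin r → Γ(G, W)) (l : Fin r) :
    (LocHom.ofBasis s hs t).app W le_rfl (s l) = t l := by
  have := LocHom.ofBasis_apply_basis s hs t W le_rfl l
  rwa [res_self, res_self] at this

theorem LocHom.ext_of_basis_self {W : Y.Opens} {r : ℕ} (s : Fin r → Γ(F, W))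
    (hs : IsBasisOn F W s) (β γ : LocHom F G W)
    (h : ∀ l, β.app W le_rfl (s l) = γ.app W le_rfl (s l))
    (V : Y.Opens) (hV : V ≤ W) (x : Γ(F, V)) : β.app V hV x = γ.app V hV x := by
  refine LocHom.ext_of_basis s hs le_rfl β γ (fun l => ?_) V hV x
  rw [res_self]
  exact h l

end self

section main

variable [CompactSpace Y] [QuasiSeparatedSpace Y] (F : Y.Modules) [F.IsQuasicoherent]
  (g : Γ(Y, ⊤))
  {k : ℕ} (W : Fin k → Y.Opens) (hWc : ∀ i, IsCompact (W i : Set Y)) (hW : ∀ y : Y, ∃ i, y ∈ W i)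
  (rk : Fin k → ℕ) (s : ∀ i, Fin (rk i) → Γ(F, W i)) (hs : ∀ i, IsBasisOn F (W i) (s i))
  {r : ℕ} (s0 : Fin r → Γ(F, Y.basicOpen g)) (hs0 : IsBasisOn F (Y.basicOpen g) s0)

theorem isQuasiSeparated_opens (V : Y.Opens) : IsQuasiSeparated (V : Set Y) :=
  (isQuasiSeparated_univ (α := Y)).of_subset (Set.subset_univ _)

include hWc hW hs hs0 in
theorem exists_ab : ∃ (N : ℕ) (a : FlatMod.freeMod Y r ⟶ F) (b : F ⟶ FlatMod.freeMod Y r),
    ∀ (V : Y.Opens) (x : Γ(F, V)), a.app V (b.app V x) = gres g V ^ N • x := by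
  classical
  let G : Y.Modules := FlatMod.freeMod Y r
  let ε := stdSec Y r
  have hε := stdSec_isBasisOn Y r
  -- Step A: the map `a`
  have hA : ∃ (Na : ℕ) (σ : Fin r → Γ(F, ⊤)), ∀ l,
      F.presheaf.map (homOfLE (le_top : Y.basicOpen g ≤ ⊤)).op (σ l) =
        gres g (Y.basicOpen g) ^ Na • s0 l := by
    have hc : IsCompact ((⊤ : Y.Opens) : Set Y) := by
      rw [Opens.coe_top]
      exact isCompact_univ
    have h1 := fun l => exists_smul_eq_res_of_qcqs F hc (isQuasiSeparated_opens ⊤) g (s0 l)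
    choose n σ hσ using h1
    refine ⟨Finset.univ.sup n, fun l => g ^ (Finset.univ.sup n - n l) • σ l, fun l => ?_⟩
    have hk : Finset.univ.sup n = (Finset.univ.sup n - n l) + n l :=
      (Nat.sub_add_cancel (Finset.le_sup (Finset.mem_univ l))).symm
    rw [res_smul, hσ l, map_pow, ← mul_smul, ← pow_add, ← hk]
  obtain ⟨Na, σ, hσ⟩ := hA
  let α : LocHom G F ⊤ := LocHom.ofBasis ε hε σ
  obtain ⟨a, ha⟩ := exists_glue (fun _ : Unit => (⊤ : Y.Opens)) (fun y => ⟨(), trivial⟩)
    (fun _ => α) (fun _ _ V h1 h2 x => rfl)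
  have ha' : ∀ (V : Y.Opens) (x : Γ(G, V)), a.app V x = α.app V le_top x := fun V x =>
    ha () V le_top x
  -- Step B: the local inverse on `D(g)`
  let φ : LocHom F G (Y.basicOpen g) :=
    LocHom.ofBasis s0 hs0 (fun l => G.presheaf.map (homOfLE le_top).op (ε l))
  have haφ : ∀ (V : Y.Opens) (h : V ≤ Y.basicOpen g) (x : Γ(F, V)),
      α.app V le_top (φ.app V h x) = gres g V ^ Na • x := by
    intro V h x
    have := LocHom.ext_of_basis_self s0 hs0 (φ.comp (α.restrict le_top))
      (LocHom.smul (g ^ Na) (LocHom.ofHom (𝟙 F) _)) (fun l => ?_) V h x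
    · rw [LocHom.comp_app, LocHom.smul_app, gres_pow] at this
      exact this
    · rw [LocHom.comp_app, LocHom.smul_app, gres_pow]
      show α.app _ le_top (φ.app _ le_rfl (s0 l)) = _ • s0 l
      rw [LocHom.ofBasis_apply_basis_self, LocHom.ofBasis_apply_basis, hσ]
  -- Step C: local pieces of `b`
  have le1 : ∀ i, Y.basicOpen (gres g (W i)) ≤ W i := fun i => Y.basicOpen_le _
  have le0 : ∀ i, Y.basicOpen (gres g (W i)) ≤ Y.basicOpen g := fun i =>
    basicOpen_res_le le_top g
  have hC := fun i => exists_extend_sections G (hWc i) (isQuasiSeparated_opens _) g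
    (fun l => φ.app _ (le0 i) (F.presheaf.map (homOfLE (le1 i)).op (s i l)))
  choose n τ hτ using hC
  let N1 := Finset.univ.sup n
  let τ' : ∀ i, Fin (rk i) → Γ(G, W i) := fun i l => gres g (W i) ^ (N1 - n i) • τ i l
  have hτ' : ∀ i l, G.presheaf.map (homOfLE (le1 i)).op (τ' i l) =
      gres g (Y.basicOpen (gres g (W i))) ^ N1 •
        φ.app _ (le0 i) (F.presheaf.map (homOfLE (le1 i)).op (s i l)) := by
    intro i l
    have hk : N1 = (N1 - n i) + n i :=
      (Nat.sub_add_cancel (Finset.le_sup (Finset.mem_univ i))).symm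
    show G.presheaf.map (homOfLE (le1 i)).op (gres g (W i) ^ (N1 - n i) • τ i l) = _
    rw [res_smul, hτ i l, map_pow, gres_res, ← mul_smul, ← pow_add, ← hk]
  let β : ∀ i, LocHom F G (W i) := fun i => LocHom.ofBasis (s i) (hs i) (τ' i)
  have hCi : ∀ i (V : Y.Opens) (h : V ≤ Y.basicOpen (gres g (W i))) (x : Γ(F, V)),
      (β i).app V (h.trans (le1 i)) x = gres g V ^ N1 • φ.app V (h.trans (le0 i)) x := by
    intro i V h x
    have := LocHom.ext_of_basis (s i) (hs i) (le1 i) ((β i).restrict (le1 i))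
      (LocHom.smul (g ^ N1) (φ.restrict (le0 i))) (fun l => ?_) V h x
    · rw [LocHom.smul_app, gres_pow] at this
      exact this
    · rw [LocHom.smul_app, gres_pow]
      show (β i).app _ (le1 i) _ = _ • φ.app _ (le0 i) _
      rw [LocHom.ofBasis_apply_basis, hτ']
  -- Step D: the defect of `a ∘ b`
  let d : ∀ i, Fin (rk i) → Γ(F, W i) := fun i l =>
    a.app (W i) (τ' i l) - gres g (W i) ^ (Na + N1) • s i l
  have hd : ∀ i l, F.presheaf.map (homOfLE (le1 i)).op (d i l) = 0 := by
    intro i l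
    show F.presheaf.map (homOfLE (le1 i)).op
      (a.app (W i) (τ' i l) - gres g (W i) ^ (Na + N1) • s i l) = 0
    rw [map_sub, ← app_res, hτ', Scheme.Modules.Hom.app_smul, ha', haφ, res_smul, map_pow,
      gres_res, ← mul_smul, ← pow_add, Nat.add_comm N1 Na, sub_self]
  have hD := fun i => exists_pow_smul_eq_zero_fin F (hWc i) g (d i) (hd i)
  choose n3 hn3 using hD
  let N3 := Finset.univ.sup n3
  have hN3 : ∀ i l, gres g (W i) ^ N3 • d i l = 0 := by
    intro i l
    have hk : N3 = (N3 - n3 i) + n3 i :=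
      (Nat.sub_add_cancel (Finset.le_sup (Finset.mem_univ i))).symm
    rw [hk, pow_add, mul_smul, hn3 i l, smul_zero]
  -- Step E: agreement on overlaps up to a power of `g`
  have hcomp : ∀ i j, IsCompact ((W i ⊓ W j : Y.Opens) : Set Y) := fun i j =>
    QuasiSeparatedSpace.inter_isCompact _ _ (W i).2 (hWc i) (W j).2 (hWc j)
  let δ : ∀ i j, Fin (rk i) → Γ(G, W i ⊓ W j) := fun i j l =>
    (β i).app (W i ⊓ W j) inf_le_left (F.presheaf.map (homOfLE inf_le_left).op (s i l)) -
      (β j).app (W i ⊓ W j) inf_le_right (F.presheaf.map (homOfLE inf_le_left).op (s i l))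
  have hδ : ∀ i j l, G.presheaf.map (homOfLE (Y.basicOpen_le (gres g (W i ⊓ W j)))).op
      (δ i j l) = 0 := by
    intro i j l
    have hi : Y.basicOpen (gres g (W i ⊓ W j)) ≤ Y.basicOpen (gres g (W i)) := by
      rw [← gres_res g (inf_le_left : W i ⊓ W j ≤ W i)]
      exact basicOpen_res_le _ _
    have hj : Y.basicOpen (gres g (W i ⊓ W j)) ≤ Y.basicOpen (gres g (W j)) := by
      rw [← gres_res g (inf_le_right : W i ⊓ W j ≤ W j)]
      exact basicOpen_res_le _ _
    show G.presheaf.map (homOfLE (Y.basicOpen_le (gres g (W i ⊓ W j)))).op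
      ((β i).app (W i ⊓ W j) inf_le_left (F.presheaf.map (homOfLE inf_le_left).op (s i l)) -
        (β j).app (W i ⊓ W j) inf_le_right (F.presheaf.map (homOfLE inf_le_left).op (s i l))) = 0
    rw [map_sub, (β i).nat, (β j).nat, hCi i _ hi, hCi j _ hj, sub_self]
  have hE := fun ij : Fin k × Fin k =>
    exists_pow_smul_eq_zero_fin G (hcomp ij.1 ij.2) g (δ ij.1 ij.2) (hδ ij.1 ij.2)
  choose n2 hn2 using hE
  let N2 := Finset.univ.sup n2
  have hN2 : ∀ i j l, gres g (W i ⊓ W j) ^ N2 • δ i j l = 0 := by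
    intro i j l
    have hk : N2 = (N2 - n2 (i, j)) + n2 (i, j) :=
      (Nat.sub_add_cancel (Finset.le_sup (Finset.mem_univ (i, j)))).symm
    rw [hk, pow_add, mul_smul, hn2 (i, j) l, smul_zero]
  -- Step F: glue
  let β' : ∀ i, LocHom F G (W i) := fun i => LocHom.smul (g ^ (N2 + N3)) (β i)
  have hβ' : ∀ (i j : Fin k) (V : Y.Opens) (h1 : V ≤ W i) (h2 : V ≤ W j) (x : Γ(F, V)),
      (β' i).app V h1 x = (β' j).app V h2 x := by
    intro i j V h1 h2 x
    have := LocHom.ext_of_basis (s i) (hs i) (inf_le_left : W i ⊓ W j ≤ W i)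
      ((β' i).restrict inf_le_left) ((β' j).restrict inf_le_right) (fun l => ?_) V
      (le_inf h1 h2) x
    · exact this
    · show gres (g ^ (N2 + N3)) (W i ⊓ W j) • (β i).app (W i ⊓ W j) inf_le_left
          (F.presheaf.map (homOfLE inf_le_left).op (s i l)) =
        gres (g ^ (N2 + N3)) (W i ⊓ W j) • (β j).app (W i ⊓ W j) inf_le_right
          (F.presheaf.map (homOfLE inf_le_left).op (s i l))
      rw [← sub_eq_zero, ← smul_sub, gres_pow, Nat.add_comm, pow_add, mul_smul]
      have := hN2 i j l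
      exact (by rw [this, smul_zero] :
        gres g (W i ⊓ W j) ^ N3 • gres g (W i ⊓ W j) ^ N2 • δ i j l = 0)
  obtain ⟨b, hb⟩ := exists_glue W hW β' hβ'
  -- Step G: the composite
  refine ⟨Na + N1 + (N2 + N3), a, b, ?_⟩
  have hloc : ∀ i (V : Y.Opens) (hV : V ≤ W i) (x : Γ(F, V)),
      a.app V (b.app V x) = gres g V ^ (Na + N1 + (N2 + N3)) • x := by
    intro i V hV x
    have := LocHom.ext_of_basis_self (s i) (hs i) (LocHom.ofHom (b ≫ a) (W i))
      (LocHom.smul (g ^ (Na + N1 + (N2 + N3))) (LocHom.ofHom (𝟙 F) (W i))) (fun l => ?_) V hV x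
    · rw [LocHom.smul_app, gres_pow] at this
      exact this
    · rw [LocHom.smul_app, gres_pow]
      show a.app (W i) (b.app (W i) (s i l)) = _ • s i l
      rw [hb i (W i) le_rfl]
      show a.app (W i) (gres (g ^ (N2 + N3)) (W i) • (β i).app (W i) le_rfl (s i l)) = _
      rw [LocHom.ofBasis_apply_basis_self, Scheme.Modules.Hom.app_smul, gres_pow]
      have h1 : a.app (W i) (τ' i l) = d i l + gres g (W i) ^ (Na + N1) • s i l := by
        show _ = (a.app (W i) (τ' i l) - gres g (W i) ^ (Na + N1) • s i l) + _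
        rw [sub_add_cancel]
      rw [h1, smul_add, pow_add (gres g (W i)) N2 N3, mul_smul, hN3, smul_zero, zero_add,
        ← mul_smul, ← pow_add, ← pow_add]
      congr 2
      omega
  intro V x
  refine section_eq_of_cover F _ _ (fun y hy => ?_)
  obtain ⟨i, hi⟩ := hW y
  refine ⟨V ⊓ W i, inf_le_left, ⟨hy, hi⟩, ?_⟩
  rw [← app_res, ← app_res, hloc i _ inf_le_right, res_smul, map_pow, gres_res]

end main

end Groth.Agent.H82.LFG
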