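import Groth.Agent.H82.MVLemmas
import Groth.Agent.H6.Compact

set_option autoImplicit false
set_option linter.unusedSectionVars false
set_option linter.style.haveILetI false

namespace Groth.Agent.H82

open CategoryTheory CategoryTheory.Limits CategoryTheory.Pretriangulated

universe v u

section Proj

variable {D : Type u} [Category.{v} D] [Preadditive D]

/-- The idempotent of a coproduct projecting onto a finite subfamily. -/
noncomputable def sigmaProj {ι : Type v} (X : ι → D) [HasCoproduct X] (s : Finset ι) :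
    ∐ X ⟶ ∐ X :=
  ∑ i ∈ s, H6.sigmaπ X i ≫ Sigma.ι X i

theorem ι_sigmaProj {ι : Type v} (X : ι → D) [HasCoproduct X] (s : Finset ι) (i : ι)
    (hi : i ∈ s) : Sigma.ι X i ≫ sigmaProj X s = Sigma.ι X i := by
  classical
  unfold sigmaProj
  rw [Preadditive.comp_sum, Finset.sum_eq_single i]
  · rw [H6.ι_sigmaπ_self_assoc]
  · intro k _ hk
    rw [H6.ι_sigmaπ_of_ne_assoc (Ne.symm hk), zero_comp]
  · intro h
    exact absurd hi h

theorem comp_sigmaProj_mem_finHom {ι : Type v} (X : ι → D) [HasCoproduct X] (s : Finset ι)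
    {K : D} (f : K ⟶ ∐ X) : f ≫ sigmaProj X s ∈ H6.finHom K X := by
  unfold sigmaProj
  rw [Preadditive.comp_sum]
  refine sum_mem (fun i _ => ?_)
  rw [← Category.assoc]
  exact H6.comp_ι_mem_finHom i _

/-- A map from a compact object to the image of a coproduct under a coproduct-preserving additive
functor is fixed by all sufficiently large finite projectors. -/
theorem exists_finset_comp_map_sigmaProj {T : Type u} [Category.{v} T] [Preadditive T]
    [HasCoproducts.{v} D] [HasCoproducts.{v} T] (Ψ : D ⥤ T) [Ψ.Additive] {ι : Type v} (X : ι → D)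
    [PreservesColimit (Discrete.functor X) Ψ] {K : T} (hK : CohDer.IsCompactObject K)
    (x : K ⟶ Ψ.obj (∐ X)) :
    ∃ s : Finset ι, ∀ s' : Finset ι, s ⊆ s' → x ≫ Ψ.map (sigmaProj X s') = x := by
  classical
  obtain ⟨s, -, hs⟩ := H6.IsCompactObject.exists_finset hK (x ≫ (PreservesCoproduct.iso Ψ X).hom)
  refine ⟨s, fun s' hss' => ?_⟩
  have hx : x = ∑ i ∈ s, ((x ≫ (PreservesCoproduct.iso Ψ X).hom) ≫
      H6.sigmaπ (fun i => Ψ.obj (X i)) i) ≫ Ψ.map (Sigma.ι X i) := by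
    calc x = (x ≫ (PreservesCoproduct.iso Ψ X).hom) ≫ (PreservesCoproduct.iso Ψ X).inv := by
          rw [Category.assoc, Iso.hom_inv_id, Category.comp_id]
      _ = (∑ i ∈ s, ((x ≫ (PreservesCoproduct.iso Ψ X).hom) ≫
            H6.sigmaπ (fun i => Ψ.obj (X i)) i) ≫ Sigma.ι (fun i => Ψ.obj (X i)) i) ≫
            (PreservesCoproduct.iso Ψ X).inv := by rw [← hs]
      _ = _ := by
          rw [Preadditive.sum_comp]
          refine Finset.sum_congr rfl (fun i _ => ?_)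
          rw [Category.assoc, PreservesCoproduct.inv_hom, ι_comp_sigmaComparison]
  have h2 : (∑ i ∈ s, ((x ≫ (PreservesCoproduct.iso Ψ X).hom) ≫
      H6.sigmaπ (fun i => Ψ.obj (X i)) i) ≫ Ψ.map (Sigma.ι X i)) ≫ Ψ.map (sigmaProj X s') =
      ∑ i ∈ s, ((x ≫ (PreservesCoproduct.iso Ψ X).hom) ≫
      H6.sigmaπ (fun i => Ψ.obj (X i)) i) ≫ Ψ.map (Sigma.ι X i) := by
    rw [Preadditive.sum_comp]
    refine Finset.sum_congr rfl (fun i hi => ?_)
    rw [Category.assoc, ← Ψ.map_comp, ι_sigmaProj X s' i (hss' hi)]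
  calc x ≫ Ψ.map (sigmaProj X s') = (∑ i ∈ s, ((x ≫ (PreservesCoproduct.iso Ψ X).hom) ≫
      H6.sigmaπ (fun i => Ψ.obj (X i)) i) ≫ Ψ.map (Sigma.ι X i)) ≫ Ψ.map (sigmaProj X s') := by
        rw [← hx]
    _ = _ := h2
    _ = x := hx.symm

end Proj

section MV

open W4c3perfectstacks W4c3perfectstacks.MVSq

variable {S S' R R' : Type u} [Category.{v} S] [Category.{v} S'] [Category.{v} R] [Category.{v} R']
    [Preadditive S] [Preadditive S'] [Preadditive R] [Preadditive R']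
    [HasZeroObject S] [HasZeroObject S'] [HasZeroObject R] [HasZeroObject R']
    [HasShift S ℤ] [HasShift S' ℤ] [HasShift R ℤ] [HasShift R' ℤ]
    [∀ n : ℤ, (shiftFunctor S n).Additive] [∀ n : ℤ, (shiftFunctor S' n).Additive]
    [∀ n : ℤ, (shiftFunctor R n).Additive] [∀ n : ℤ, (shiftFunctor R' n).Additive]
    [Pretriangulated S] [Pretriangulated S'] [Pretriangulated R] [Pretriangulated R']
    (q : W4c3perfectstacks.MVSq S S' R R')
    [q.jst.CommShift ℤ] [q.fst.CommShift ℤ] [q.jpst.CommShift ℤ] [q.gst.CommShift ℤ]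
    [q.jst.IsTriangulated] [q.fst.IsTriangulated] [q.jpst.IsTriangulated] [q.gst.IsTriangulated]

/-- Naturality of the exchange map. -/
theorem bc2App_naturality {P P' : R} (p : P ⟶ P') :
    q.fst.map (q.jls.map p) ≫ q.bc2App P' = q.bc2App P ≫ q.jpls.map (q.gst.map p) := by
  have n1 := q.adjJp.unit.naturality (q.fst.map (q.jls.map p))
  have n2 := q.e.inv.naturality (q.jls.map p)
  have n3 := q.adjJ.counit.naturality p
  simp only [Functor.id_obj, Functor.id_map, Functor.comp_obj, Functor.comp_map] at n1 n2 n3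
  unfold MVSq.bc2App
  calc q.fst.map (q.jls.map p) ≫ q.adjJp.unit.app _ ≫ q.jpls.map (q.e.inv.app _) ≫
        q.jpls.map (q.gst.map (q.adjJ.counit.app P'))
      = q.adjJp.unit.app _ ≫ q.jpls.map (q.jpst.map (q.fst.map (q.jls.map p))) ≫
          q.jpls.map (q.e.inv.app _) ≫ q.jpls.map (q.gst.map (q.adjJ.counit.app P')) := by
        rw [← Category.assoc, n1, Category.assoc]
    _ = q.adjJp.unit.app _ ≫ q.jpls.map (q.jpst.map (q.fst.map (q.jls.map p)) ≫
          q.e.inv.app _ ≫ q.gst.map (q.adjJ.counit.app P')) := by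
        simp only [Functor.map_comp]
    _ = q.adjJp.unit.app _ ≫ q.jpls.map (q.e.inv.app _ ≫
          q.gst.map (q.adjJ.counit.app P) ≫ q.gst.map p) := by
        congr 2
        rw [← Category.assoc, n2, Category.assoc, ← q.gst.map_comp, n3, q.gst.map_comp]
    _ = _ := by simp only [Functor.map_comp, Category.assoc]

/-- The transposition `Hom(M, f_* f^* j_* j^* Z) → Hom(j'^* f^* M, g^* j^* Z)`. -/
noncomputable def mvTranspose (M Z : S) (x : M ⟶ q.fls.obj (q.fst.obj (q.jls.obj (q.jst.obj Z)))) :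
    q.jpst.obj (q.fst.obj M) ⟶ q.gst.obj (q.jst.obj Z) :=
  (q.adjJp.homEquiv _ _).symm ((q.adjF.homEquiv M _).symm x ≫ q.bc2App (q.jst.obj Z))

theorem mvTranspose_injective (hq : q.IsMV) (M Z : S) :
    Function.Injective (mvTranspose q M Z) := by
  intro x₁ x₂ h
  haveI := hq.isIso_bc2App (q.jst.obj Z)
  have h1 := (q.adjJp.homEquiv _ _).symm.injective h
  have h2 := (cancel_mono (q.bc2App (q.jst.obj Z))).mp h1
  exact (q.adjF.homEquiv M _).symm.injective h2

theorem mvTranspose_naturality (M : S) {Z Z' : S} (h : Z ⟶ Z')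
    (x : M ⟶ q.fls.obj (q.fst.obj (q.jls.obj (q.jst.obj Z)))) :
    mvTranspose q M Z' (x ≫ q.fls.map (q.fst.map (q.jls.map (q.jst.map h)))) =
      mvTranspose q M Z x ≫ q.gst.map (q.jst.map h) := by
  unfold mvTranspose
  rw [Adjunction.homEquiv_naturality_right_symm, Category.assoc, bc2App_naturality,
    ← Category.assoc, Adjunction.homEquiv_naturality_right_symm]

/-- Compactness over `X` from compactness of the three restrictions. -/
theorem isCompactObject_of_mv (hq : q.IsMV)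
    [HasCoproducts.{v} S] [HasCoproducts.{v} S'] [HasCoproducts.{v} R] [HasCoproducts.{v} R']
    (N : S) (hU : CohDer.IsCompactObject (q.jst.obj N)) (hX' : CohDer.IsCompactObject (q.fst.obj N))
    (hU' : CohDer.IsCompactObject (q.gst.obj (q.jst.obj N))) :
    CohDer.IsCompactObject N := by
  classical
  rw [H6.isCompactObject_iff]
  intro ι X f
  haveI pJ : PreservesColimitsOfSize.{v, v} q.jst := q.adjJ.leftAdjoint_preservesColimits
  haveI pF : PreservesColimitsOfSize.{v, v} q.fst := q.adjF.leftAdjoint_preservesColimits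
  haveI pG : PreservesColimitsOfSize.{v, v} q.gst := q.adjG.leftAdjoint_preservesColimits
  haveI addJls : q.jls.Additive := q.adjJ.right_adjoint_additive
  haveI addFls : q.fls.Additive := q.adjF.right_adjoint_additive
  -- step 1, 2
  obtain ⟨s₁, hs₁⟩ := exists_finset_comp_map_sigmaProj q.jst X hU (q.jst.map f)
  obtain ⟨s₂, hs₂⟩ := exists_finset_comp_map_sigmaProj q.fst X hX' (q.fst.map f)
  have hJ : q.jst.map (f - f ≫ sigmaProj X (s₁ ∪ s₂)) = 0 := by
    rw [q.jst.map_sub, q.jst.map_comp, hs₁ _ Finset.subset_union_left, sub_self]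
  have hF : q.fst.map (f - f ≫ sigmaProj X (s₁ ∪ s₂)) = 0 := by
    rw [q.fst.map_sub, q.fst.map_comp, hs₂ _ Finset.subset_union_right, sub_self]
  -- step 3
  have h3J : (f - f ≫ sigmaProj X (s₁ ∪ s₂)) ≫ q.adjJ.unit.app (∐ X) = 0 := by
    have n := q.adjJ.unit.naturality (f - f ≫ sigmaProj X (s₁ ∪ s₂))
    simp only [Functor.id_obj, Functor.id_map, Functor.comp_obj, Functor.comp_map] at n
    rw [n, hJ, q.jls.map_zero, comp_zero]
  have h3F : (f - f ≫ sigmaProj X (s₁ ∪ s₂)) ≫ q.adjF.unit.app (∐ X) = 0 := by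
    have n := q.adjF.unit.naturality (f - f ≫ sigmaProj X (s₁ ∪ s₂))
    simp only [Functor.id_obj, Functor.id_map, Functor.comp_obj, Functor.comp_map] at n
    rw [n, hF, q.fls.map_zero, comp_zero]
  have h3 : (f - f ≫ sigmaProj X (s₁ ∪ s₂)) ≫
      biprod.lift (q.adjJ.unit.app (∐ X)) (q.adjF.unit.app (∐ X)) = 0 := by
    apply biprod.hom_ext
    · rw [Category.assoc]; erw [biprod.lift_fst]; rw [h3J, zero_comp]
    · rw [Category.assoc]; erw [biprod.lift_snd]; rw [h3F, zero_comp]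
  -- step 4
  obtain ⟨d, hd⟩ := exists_mv_mor₃ q hq (∐ X)
  obtain ⟨x, hx⟩ : ∃ x : N⟦(1 : ℤ)⟧ ⟶ q.fls.obj (q.fst.obj (q.jls.obj (q.jst.obj (∐ X)))),
      (f - f ≫ sigmaProj X (s₁ ∪ s₂))⟦(1 : ℤ)⟧' = x ≫ d :=
    Triangle.coyoneda_exact₁ _ hd ((f - f ≫ sigmaProj X (s₁ ∪ s₂))⟦(1 : ℤ)⟧') (by
      change (f - f ≫ sigmaProj X (s₁ ∪ s₂))⟦(1 : ℤ)⟧' ≫
        (biprod.lift (q.adjJ.unit.app (∐ X)) (q.adjF.unit.app (∐ X)))⟦(1 : ℤ)⟧' = 0
      rw [← Functor.map_comp, h3, Functor.map_zero])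
  -- step 5
  have hP : CohDer.IsCompactObject (q.jpst.obj (q.fst.obj (N⟦(1 : ℤ)⟧))) := by
    have e1 : (q.gst.obj (q.jst.obj N))⟦(1 : ℤ)⟧ ≅ q.jpst.obj (q.fst.obj (N⟦(1 : ℤ)⟧)) :=
      ((q.gst.commShiftIso (1 : ℤ)).app (q.jst.obj N)).symm ≪≫
        q.gst.mapIso ((q.jst.commShiftIso (1 : ℤ)).app N).symm ≪≫ q.e.app (N⟦(1 : ℤ)⟧)
    exact H6.isCompactObject_of_iso e1 (H6.isCompactObject_shift hU' 1)
  obtain ⟨s₃, hs₃⟩ := exists_finset_comp_map_sigmaProj (q.jst ⋙ q.gst) X hP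
    (mvTranspose q (N⟦(1 : ℤ)⟧) (∐ X) x)
  have hxx : x ≫ q.fls.map (q.fst.map (q.jls.map (q.jst.map (sigmaProj X s₃)))) = x := by
    apply mvTranspose_injective q hq
    rw [mvTranspose_naturality]
    exact hs₃ s₃ (Finset.Subset.refl _)
  -- step 6
  have hnat := mv_mor₃_natural q hq (∐ X) (∐ X) (sigmaProj X s₃) d d hd hd
  have h6 : (f - f ≫ sigmaProj X (s₁ ∪ s₂))⟦(1 : ℤ)⟧' =
      ((f - f ≫ sigmaProj X (s₁ ∪ s₂)) ≫ sigmaProj X s₃)⟦(1 : ℤ)⟧' := by
    rw [Functor.map_comp, hx, Category.assoc, hnat, ← Category.assoc, hxx]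
  have h6' : f - f ≫ sigmaProj X (s₁ ∪ s₂) =
      (f - f ≫ sigmaProj X (s₁ ∪ s₂)) ≫ sigmaProj X s₃ :=
    (shiftFunctor S (1 : ℤ)).map_injective h6
  -- step 7
  have h7 : f = (f - f ≫ sigmaProj X (s₁ ∪ s₂)) ≫ sigmaProj X s₃ +
      f ≫ sigmaProj X (s₁ ∪ s₂) := by
    rw [← h6']; abel
  rw [h7]
  exact add_mem (comp_sigmaProj_mem_finHom X s₃ _) (comp_sigmaProj_mem_finHom X _ f)

end MV

end Groth.Agent.H82
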