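import Groth.Agent.H82.MVLemmas

set_option autoImplicit false
set_option linter.unusedSectionVars false
set_option linter.style.haveILetI false

namespace Groth.Agent.H82

open CategoryTheory CategoryTheory.Limits CategoryTheory.Pretriangulated

universe v u

section General

variable {C : Type*} [Category C] [Preadditive C] [HasZeroObject C] [HasShift C ℤ]
  [∀ n : ℤ, (shiftFunctor C n).Additive] [Pretriangulated C]

/-- A morphism `w : X ⟶ Y` is invertible as soon as its cone lies in a class `P` of objects, stable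
under the shift by `-1`, such that composition with `w` is injective and surjective on maps out of
objects of `P`. -/
theorem isIso_of_cone_orthogonal {X Y : C} (w : X ⟶ Y) (P : C → Prop)
    (hPshift : ∀ K, P K → P (K⟦(-1 : ℤ)⟧))
    (hcone : ∀ (K : C) (k : Y ⟶ K) (l : K ⟶ X⟦(1 : ℤ)⟧), Triangle.mk w k l ∈ distTriang C → P K)
    (hinj : ∀ K, P K → ∀ x : K ⟶ X, x ≫ w = 0 → x = 0)
    (hsurj : ∀ K, P K → ∀ t : K ⟶ Y, ∃ z : K ⟶ X, z ≫ w = t) : IsIso w := by
  obtain ⟨K, k, l, hK⟩ := distinguished_cocone_triangle w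
  have hPK := hcone K k l hK
  have hTinv := inv_rot_of_distTriang _ hK
  have h1 : (Triangle.mk w k l).invRotate.mor₁ = 0 :=
    hinj _ (hPshift K hPK) _ (comp_distTriang_mor_zero₁₂ _ hTinv)
  have hepi3 : Epi (Triangle.mk w k l).invRotate.mor₃ := Triangle.epi₃ _ hTinv h1
  have hepik : Epi k := by
    have hk : k = (Triangle.mk w k l).invRotate.mor₃ ≫
        (shiftEquiv C (1 : ℤ)).counitIso.hom.app K := by
      change k = (k ≫ (shiftEquiv C (1 : ℤ)).counitIso.inv.app K) ≫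
        (shiftEquiv C (1 : ℤ)).counitIso.hom.app K
      rw [Category.assoc, Iso.inv_hom_id_app]
      exact (Category.comp_id k).symm
    rw [hk]
    have hiso : IsIso ((shiftEquiv C (1 : ℤ)).counitIso.hom.app K) :=
      ((shiftEquiv C (1 : ℤ)).counitIso.app K).isIso_hom
    have hepi : Epi ((shiftEquiv C (1 : ℤ)).counitIso.hom.app K) :=
      @IsIso.epi_of_iso _ _ _ _ _ hiso
    exact epi_comp' hepi3 hepi
  have hl : l = 0 := Triangle.mor₃_eq_zero_of_epi₂ _ hK hepik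
  have hKz : IsZero K := by
    rw [IsZero.iff_id_eq_zero]
    obtain ⟨t, ht⟩ : ∃ t : K ⟶ Y, 𝟙 K = t ≫ k :=
      Triangle.coyoneda_exact₃ _ hK (𝟙 K) (by
        change 𝟙 K ≫ l = 0
        rw [hl, comp_zero])
    obtain ⟨z, hz⟩ := hsurj K hPK t
    have h12 : w ≫ k = 0 := comp_distTriang_mor_zero₁₂ _ hK
    rw [ht, ← hz, Category.assoc, h12, comp_zero]
  exact (Triangle.isZero₃_iff_isIso₁ _ hK).mp hKz

end General

section MV

open W4c3perfectstacks W4c3perfectstacks.MVSq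

variable {S S' R R' : Type u} [Category.{v} S] [Category.{v} S'] [Category.{v} R] [Category.{v} R']
    [Preadditive S] [Preadditive S'] [Preadditive R] [Preadditive R']
    [HasZeroObject S] [HasZeroObject S'] [HasZeroObject R] [HasZeroObject R']
    [HasShift S ℤ] [HasShift S' ℤ] [HasShift R ℤ] [HasShift R' ℤ]
    [∀ n : ℤ, (shiftFunctor S n).Additive] [∀ n : ℤ, (shiftFunctor S' n).Additive]
    [∀ n : ℤ, (shiftFunctor R n).Additive] [∀ n : ℤ, (shiftFunctor R' n).Additive]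
    [Pretriangulated S] [Pretriangulated S'] [Pretriangulated R] [Pretriangulated R']
    (q : W4c3perfectstacks.MVSq S S' R R')
    [q.jst.CommShift ℤ] [q.fst.CommShift ℤ] [q.jpst.CommShift ℤ] [q.gst.CommShift ℤ]
    [q.jst.IsTriangulated] [q.fst.IsTriangulated] [q.jpst.IsTriangulated] [q.gst.IsTriangulated]

/-- For a distinguished triangle `N ⟶ j_* NU ⊞ f_* N' ⟶ f_* j'_* X ⟶ N⟦1⟧`, composition with the
second component of the first map is bijective on maps out of objects killed by `j^*`. -/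
theorem glue_comp_snd_bijective (NU : R) (N' : S') (X : R') (N : S)
    (a : N ⟶ q.jls.obj NU ⊞ q.fls.obj N')
    (v' : q.jls.obj NU ⊞ q.fls.obj N' ⟶ q.fls.obj (q.jpls.obj X))
    (d : q.fls.obj (q.jpls.obj X) ⟶ N⟦(1 : ℤ)⟧) (hT : Triangle.mk a v' d ∈ distTriang S)
    (K : S) (hK : IsZero (q.jst.obj K)) :
    Function.Bijective (fun x : K ⟶ N => x ≫ a ≫ biprod.snd) := by
  letI csFls : q.fls.CommShift ℤ := q.adjF.rightAdjointCommShift ℤ
  letI csJpls : q.jpls.CommShift ℤ := q.adjJp.rightAdjointCommShift ℤ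
  have hK' := isZero_jpst_fst q K hK
  have hD : ∀ ρ : K ⟶ q.fls.obj (q.jpls.obj X), ρ = 0 := fun ρ =>
    adj_hom_ext (q.adjF.comp q.adjJp) (K := K) (Y := X) hK' ρ 0
  have hD' : ∀ ρ : K ⟶ (q.fls.obj (q.jpls.obj X))⟦(-1 : ℤ)⟧, ρ = 0 := fun ρ => by
    have φ : (q.fls.obj (q.jpls.obj X))⟦(-1 : ℤ)⟧ ≅ q.fls.obj (q.jpls.obj (X⟦(-1 : ℤ)⟧)) :=
      ((q.fls.commShiftIso (-1 : ℤ)).app (q.jpls.obj X)).symm ≪≫
        q.fls.mapIso ((q.jpls.commShiftIso (-1 : ℤ)).app X).symm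
    have h0 : ρ ≫ φ.hom = 0 :=
      adj_hom_ext (q.adjF.comp q.adjJp) (K := K) (Y := X⟦(-1 : ℤ)⟧) hK' _ 0
    exact (cancel_mono φ.hom).mp (h0.trans zero_comp.symm)
  have hA : ∀ ρ : K ⟶ q.jls.obj NU, ρ = 0 := fun ρ => adj_hom_ext q.adjJ hK ρ 0
  have base : Function.Bijective (fun g : K ⟶ N => g ≫ a) :=
    comp_mor₁_bijective _ hT K hD hD'
  constructor
  · intro x₁ x₂ h
    have h' : x₁ ≫ a ≫ biprod.snd = x₂ ≫ a ≫ biprod.snd := h
    apply base.1
    change x₁ ≫ a = x₂ ≫ a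
    apply biprod.hom_ext
    · rw [hA ((x₁ ≫ a) ≫ biprod.fst), hA ((x₂ ≫ a) ≫ biprod.fst)]
    · rw [Category.assoc, Category.assoc, h']
  · intro y
    obtain ⟨x, hx⟩ := base.2 (biprod.lift 0 y)
    have hx' : x ≫ a = biprod.lift 0 y := hx
    refine ⟨x, ?_⟩
    change x ≫ a ≫ biprod.snd = y
    rw [← Category.assoc, hx', biprod.lift_snd]

/-- For a distinguished triangle `N ⟶ j_* NU ⊞ f_* N' ⟶ f_* j'_* X ⟶ N⟦1⟧`, composition with the
map `f^* N ⟶ N'` adjoint to the second component is bijective on maps out of objects killed by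
`j'^*`. -/
theorem glue_comp_adj_bijective (hq : q.IsMV) (NU : R) (N' : S') (X : R') (N : S)
    (a : N ⟶ q.jls.obj NU ⊞ q.fls.obj N')
    (v' : q.jls.obj NU ⊞ q.fls.obj N' ⟶ q.fls.obj (q.jpls.obj X))
    (d : q.fls.obj (q.jpls.obj X) ⟶ N⟦(1 : ℤ)⟧) (hT : Triangle.mk a v' d ∈ distTriang S)
    (M : S') (hM : IsZero (q.jpst.obj M)) :
    Function.Bijective
      (fun y : M ⟶ q.fst.obj N => y ≫ (q.adjF.homEquiv N N').symm (a ≫ biprod.snd)) := by
  have hG : IsZero (q.jst.obj (q.fls.obj M)) := by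
    haveI := hq.isIso_bcApp M
    exact (isZero_rightAdjoint_obj q.adjG hM).of_iso (asIso (q.bcApp M))
  haveI hε : IsIso (q.adjF.counit.app M) := hq.isIso_counitF M hM
  have hC := glue_comp_snd_bijective q NU N' X N a v' d hT (q.fls.obj M) hG
  have hF := fst_map_bijective q hq (q.fls.obj M) hG N
  have key : ∀ x : q.fls.obj M ⟶ N,
      q.adjF.homEquiv _ _ (q.fst.map x ≫ (q.adjF.homEquiv N N').symm (a ≫ biprod.snd)) =
        x ≫ a ≫ biprod.snd := by
    intro x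
    rw [Adjunction.homEquiv_naturality_left, Equiv.apply_symm_apply]
  constructor
  · intro y₁ y₂ h
    have h' : y₁ ≫ (q.adjF.homEquiv N N').symm (a ≫ biprod.snd) =
        y₂ ≫ (q.adjF.homEquiv N N').symm (a ≫ biprod.snd) := h
    obtain ⟨x₁, hx₁⟩ := hF.2 (q.adjF.counit.app M ≫ y₁)
    obtain ⟨x₂, hx₂⟩ := hF.2 (q.adjF.counit.app M ≫ y₂)
    have hx₁' : q.fst.map x₁ = q.adjF.counit.app M ≫ y₁ := hx₁
    have hx₂' : q.fst.map x₂ = q.adjF.counit.app M ≫ y₂ := hx₂
    have hxx : x₁ = x₂ := by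
      apply hC.1
      change x₁ ≫ a ≫ biprod.snd = x₂ ≫ a ≫ biprod.snd
      rw [← key, ← key, hx₁', hx₂', Category.assoc, Category.assoc, h']
    have h2 : q.adjF.counit.app M ≫ y₁ = q.adjF.counit.app M ≫ y₂ := by
      rw [← hx₁', ← hx₂', hxx]
    exact (cancel_epi _).mp h2
  · intro z
    obtain ⟨x, hx⟩ := hC.2 (q.adjF.homEquiv _ _ (q.adjF.counit.app M ≫ z))
    have hx' : x ≫ a ≫ biprod.snd = q.adjF.homEquiv _ _ (q.adjF.counit.app M ≫ z) := hx
    refine ⟨inv (q.adjF.counit.app M) ≫ q.fst.map x, ?_⟩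
    change (inv (q.adjF.counit.app M) ≫ q.fst.map x) ≫
      (q.adjF.homEquiv N N').symm (a ≫ biprod.snd) = z
    have h3 : q.fst.map x ≫ (q.adjF.homEquiv N N').symm (a ≫ biprod.snd) =
        q.adjF.counit.app M ≫ z := by
      apply (q.adjF.homEquiv _ _).injective
      rw [key, hx']
    rw [Category.assoc, h3, IsIso.inv_hom_id_assoc]

/-- Glueing, first half: the map `j^* N ⟶ NU` adjoint to the first component is invertible. -/
theorem glue_isIso_adjJ (hq : q.IsMV) (NU : R) (N' : S') (δ : q.jpst.obj N' ≅ q.gst.obj NU)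
    (N : S) (a : N ⟶ q.jls.obj NU ⊞ q.fls.obj N')
    (d : q.fls.obj (q.jpls.obj (q.gst.obj NU)) ⟶ N⟦(1 : ℤ)⟧)
    (hT : Triangle.mk a
      (biprod.desc (q.adjF.unit.app (q.jls.obj NU) ≫ q.fls.map (q.bc2App NU))
        (-(q.fls.map (q.adjJp.unit.app N' ≫ q.jpls.map δ.hom)))) d ∈ distTriang S) :
    IsIso ((q.adjJ.homEquiv N NU).symm (a ≫ biprod.fst)) := by
  rw [Adjunction.homEquiv_counit]
  haveI := hq.isIso_counitJ
  have hT' := q.jst.map_distinguished _ hT
  have e1 : q.jst.map (biprod.inl : q.jls.obj NU ⟶ q.jls.obj NU ⊞ q.fls.obj N') ≫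
      q.jst.map (biprod.fst : q.jls.obj NU ⊞ q.fls.obj N' ⟶ _) = 𝟙 _ := by
    rw [← q.jst.map_comp, biprod.inl_fst, q.jst.map_id]
  have e2 : q.jst.map (biprod.inr : q.fls.obj N' ⟶ q.jls.obj NU ⊞ q.fls.obj N') ≫
      q.jst.map (biprod.fst : q.jls.obj NU ⊞ q.fls.obj N' ⟶ _) = 0 := by
    rw [← q.jst.map_comp, biprod.inr_fst, q.jst.map_zero]
  have e3 : q.jst.map (biprod.fst : q.jls.obj NU ⊞ q.fls.obj N' ⟶ _) ≫
      q.jst.map (biprod.inl : q.jls.obj NU ⟶ q.jls.obj NU ⊞ q.fls.obj N') +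
      q.jst.map (biprod.snd : q.jls.obj NU ⊞ q.fls.obj N' ⟶ _) ≫
      q.jst.map (biprod.inr : q.fls.obj N' ⟶ q.jls.obj NU ⊞ q.fls.obj N') = 𝟙 _ := by
    rw [← q.jst.map_comp, ← q.jst.map_comp, ← q.jst.map_add, biprod.total, q.jst.map_id]
  have hm : IsIso (q.jpst.map (q.adjJp.unit.app N' ≫ q.jpls.map δ.hom)) := by
    rw [q.jpst.map_comp]
    haveI := isIso_jpst_map_unitJp q hq N'
    infer_instance
  have hfm := isIso_jst_map_fls_map q hq _ hm
  have e4 : IsIso (q.jst.map (biprod.inr : q.fls.obj N' ⟶ q.jls.obj NU ⊞ q.fls.obj N') ≫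
      q.jst.map (biprod.desc (q.adjF.unit.app (q.jls.obj NU) ≫ q.fls.map (q.bc2App NU))
        (-(q.fls.map (q.adjJp.unit.app N' ≫ q.jpls.map δ.hom))))) := by
    rw [← q.jst.map_comp, biprod.inr_desc, q.jst.map_neg]
    exact (-(asIso (q.jst.map (q.fls.map (q.adjJp.unit.app N' ≫ q.jpls.map δ.hom))))).isIso_hom
  have h3 : IsIso (q.jst.map a ≫
      q.jst.map (biprod.fst : q.jls.obj NU ⊞ q.fls.obj N' ⟶ _)) :=
    isIso_mor₁_comp_fst (q.jst.mapTriangle.obj _) hT' (q.jst.map biprod.fst)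
      (q.jst.map biprod.snd) (q.jst.map biprod.inl) (q.jst.map biprod.inr) e1 e2 e3 e4
  rw [q.jst.map_comp]
  infer_instance

/-- Glueing: the map `f^* N ⟶ N'` adjoint to the second component becomes invertible after
restriction to `U'`. -/
theorem glue_isIso_jpst_map (NU : R) (N' : S') (δ : q.jpst.obj N' ≅ q.gst.obj NU)
    (N : S) (a : N ⟶ q.jls.obj NU ⊞ q.fls.obj N')
    (hE : (a ≫ biprod.fst) ≫ q.adjF.unit.app (q.jls.obj NU) ≫ q.fls.map (q.bc2App NU) =
      (a ≫ biprod.snd) ≫ q.fls.map (q.adjJp.unit.app N' ≫ q.jpls.map δ.hom))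
    (h₁ : IsIso ((q.adjJ.homEquiv N NU).symm (a ≫ biprod.fst))) :
    IsIso (q.jpst.map ((q.adjF.homEquiv N N').symm (a ≫ biprod.snd))) := by
  have hL : (q.adjF.homEquiv N _).symm
      ((a ≫ biprod.fst) ≫ q.adjF.unit.app (q.jls.obj NU) ≫ q.fls.map (q.bc2App NU)) =
      q.fst.map (a ≫ biprod.fst) ≫ q.bc2App NU := by
    rw [Adjunction.homEquiv_naturality_left_symm]
    congr 1
    apply (q.adjF.homEquiv _ _).injective
    rw [Equiv.apply_symm_apply, Adjunction.homEquiv_unit]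
  have hR : (q.adjF.homEquiv N _).symm
      ((a ≫ biprod.snd) ≫ q.fls.map (q.adjJp.unit.app N' ≫ q.jpls.map δ.hom)) =
      (q.adjF.homEquiv N N').symm (a ≫ biprod.snd) ≫
        q.adjJp.unit.app N' ≫ q.jpls.map δ.hom :=
    Adjunction.homEquiv_naturality_right_symm _ _ _
  have E' : q.fst.map (a ≫ biprod.fst) ≫ q.bc2App NU =
      (q.adjF.homEquiv N N').symm (a ≫ biprod.snd) ≫
        q.adjJp.unit.app N' ≫ q.jpls.map δ.hom :=
    hL.symm.trans ((congrArg (q.adjF.homEquiv N _).symm hE).trans hR)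
  have hb : (q.adjJp.homEquiv _ _).symm (q.bc2App NU) =
      q.e.inv.app (q.jls.obj NU) ≫ q.gst.map (q.adjJ.counit.app NU) := by
    apply (q.adjJp.homEquiv _ _).injective
    rw [Equiv.apply_symm_apply, Adjunction.homEquiv_unit, q.jpls.map_comp]
    rfl
  have hδ : (q.adjJp.homEquiv N' (q.gst.obj NU)).symm
      (q.adjJp.unit.app N' ≫ q.jpls.map δ.hom) = δ.hom := by
    apply (q.adjJp.homEquiv _ _).injective
    rw [Equiv.apply_symm_apply, Adjunction.homEquiv_unit]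
  have G : q.jpst.map ((q.adjF.homEquiv N N').symm (a ≫ biprod.snd)) ≫ δ.hom =
      q.e.inv.app N ≫ q.gst.map ((q.adjJ.homEquiv N NU).symm (a ≫ biprod.fst)) := by
    have h := congrArg (q.adjJp.homEquiv _ _).symm E'
    rw [Adjunction.homEquiv_naturality_left_symm, Adjunction.homEquiv_naturality_left_symm,
      hb, hδ] at h
    rw [← h]
    have n := q.e.inv.naturality (a ≫ biprod.fst)
    simp only [Functor.comp_obj, Functor.comp_map] at n
    rw [← Category.assoc, n, Category.assoc, ← q.gst.map_comp, Adjunction.homEquiv_counit]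
  have hfin : q.jpst.map ((q.adjF.homEquiv N N').symm (a ≫ biprod.snd)) =
      q.e.inv.app N ≫ q.gst.map ((q.adjJ.homEquiv N NU).symm (a ≫ biprod.fst)) ≫ δ.inv := by
    rw [← Category.assoc, ← G, Category.assoc, Iso.hom_inv_id, Category.comp_id]
  rw [hfin]
  infer_instance

/-- Glueing, second half: the map `f^* N ⟶ N'` adjoint to the second component is invertible. -/
theorem glue_isIso_adjF (hq : q.IsMV) (NU : R) (N' : S') (δ : q.jpst.obj N' ≅ q.gst.obj NU)
    (N : S) (a : N ⟶ q.jls.obj NU ⊞ q.fls.obj N')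
    (d : q.fls.obj (q.jpls.obj (q.gst.obj NU)) ⟶ N⟦(1 : ℤ)⟧)
    (hT : Triangle.mk a
      (biprod.desc (q.adjF.unit.app (q.jls.obj NU) ≫ q.fls.map (q.bc2App NU))
        (-(q.fls.map (q.adjJp.unit.app N' ≫ q.jpls.map δ.hom)))) d ∈ distTriang S) :
    IsIso ((q.adjF.homEquiv N N').symm (a ≫ biprod.snd)) := by
  have h₁ := glue_isIso_adjJ q hq NU N' δ N a d hT
  have hE : (a ≫ biprod.fst) ≫ q.adjF.unit.app (q.jls.obj NU) ≫ q.fls.map (q.bc2App NU) =
      (a ≫ biprod.snd) ≫ q.fls.map (q.adjJp.unit.app N' ≫ q.jpls.map δ.hom) := by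
    have h12 : a ≫ biprod.desc (q.adjF.unit.app (q.jls.obj NU) ≫ q.fls.map (q.bc2App NU))
        (-(q.fls.map (q.adjJp.unit.app N' ≫ q.jpls.map δ.hom))) = 0 :=
      comp_distTriang_mor_zero₁₂ _ hT
    rw [biprod.desc_eq, Preadditive.comp_add, Preadditive.comp_neg, Preadditive.comp_neg,
      ← sub_eq_add_neg, sub_eq_zero] at h12
    simpa only [Category.assoc] using h12
  have hj := glue_isIso_jpst_map q NU N' δ N a hE h₁
  have hB := fun M hM => glue_comp_adj_bijective q hq NU N' (q.gst.obj NU) N a _ d hT M hM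
  refine isIso_of_cone_orthogonal _ (fun K => IsZero (q.jpst.obj K)) ?_ ?_ ?_ ?_
  · intro K hK
    exact (((shiftFunctor R' (-1 : ℤ)).map_isZero hK)).of_iso
      ((q.jpst.commShiftIso (-1 : ℤ)).app K)
  · intro K k l hK
    exact (Triangle.isZero₃_iff_isIso₁ _ (q.jpst.map_distinguished _ hK)).mpr hj
  · intro K hK x hx
    apply (hB K hK).1
    change x ≫ _ = 0 ≫ _
    rw [hx, zero_comp]
  · intro K hK t
    exact (hB K hK).2 t

end MV

end Groth.Agent.H82
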