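import Mathlib.CategoryTheory.Triangulated.Functor
import Mathlib.CategoryTheory.Triangulated.Pretriangulated
import Mathlib.CategoryTheory.Shift.Adjunction
import Mathlib.CategoryTheory.Adjunction.Additive

set_option autoImplicit false

namespace Groth.Agent.H82

open CategoryTheory CategoryTheory.Limits CategoryTheory.Pretriangulated

universe v₁ v₂ u₁ u₂

section Adj

variable {C : Type u₁} {D : Type u₂} [Category.{v₁} C] [Category.{v₂} D]
  {F : C ⥤ D} {G : D ⥤ C}

/-- Two maps into the right adjoint agree when the left adjoint kills the source. -/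
theorem adj_hom_ext (adj : F ⊣ G) [HasZeroMorphisms D] {K : C} {Y : D} (hK : IsZero (F.obj K))
    (g₁ g₂ : K ⟶ G.obj Y) : g₁ = g₂ :=
  (adj.homEquiv K Y).symm.injective (hK.eq_of_src _ _)

/-- The right adjoint sends zero objects to zero objects. -/
theorem isZero_rightAdjoint_obj (adj : F ⊣ G) [HasZeroMorphisms C] [HasZeroMorphisms D] {Y : D}
    (hY : IsZero Y) : IsZero (G.obj Y) := by
  rw [IsZero.iff_id_eq_zero]
  exact (adj.homEquiv _ _).symm.injective (hY.eq_of_tgt _ _)

/-- The left adjoint is bijective on maps into an object at which the unit is invertible. -/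
theorem map_bijective_of_isIso_unit (adj : F ⊣ G) (K X : C) [IsIso (adj.unit.app X)] :
    Function.Bijective (fun g : K ⟶ X => F.map g) := by
  constructor
  · intro g₁ g₂ h
    have h' : F.map g₁ = F.map g₂ := h
    have h1 : g₁ ≫ adj.unit.app X = g₂ ≫ adj.unit.app X := by
      have e₁ := adj.unit.naturality g₁
      have e₂ := adj.unit.naturality g₂
      simp only [Functor.id_obj, Functor.id_map, Functor.comp_obj, Functor.comp_map] at e₁ e₂
      rw [e₁, e₂, h']
    exact (cancel_mono _).mp h1
  · intro h
    refine ⟨adj.homEquiv _ _ h ≫ inv (adj.unit.app X), ?_⟩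
    apply (adj.homEquiv _ _).injective
    change adj.homEquiv _ _ (F.map _) = _
    rw [Adjunction.homEquiv_unit]
    have e₁ := adj.unit.naturality (adj.homEquiv _ _ h ≫ inv (adj.unit.app X))
    simp only [Functor.id_obj, Functor.id_map, Functor.comp_obj, Functor.comp_map] at e₁
    rw [← e₁, Category.assoc, IsIso.inv_hom_id, Category.comp_id]

end Adj

section Tri

variable {C : Type u₁} [Category.{v₁} C] [Preadditive C] [HasZeroObject C] [HasShift C ℤ]
  [∀ n : ℤ, (shiftFunctor C n).Additive] [Pretriangulated C]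

/-- In a distinguished triangle, composition with the first map is bijective on maps out of an
object which has no nonzero maps to the third vertex nor to its shift by `-1`. -/
theorem comp_mor₁_bijective (T : Triangle C) (hT : T ∈ distTriang C) (K : C)
    (h₃ : ∀ g : K ⟶ T.obj₃, g = 0) (h₃' : ∀ g : K ⟶ (T.obj₃)⟦(-1 : ℤ)⟧, g = 0) :
    Function.Bijective (fun g : K ⟶ T.obj₁ => g ≫ T.mor₁) := by
  constructor
  · intro g₁ g₂ h
    have h' : g₁ ≫ T.mor₁ = g₂ ≫ T.mor₁ := h
    have h0 : (g₁ - g₂) ≫ T.invRotate.mor₂ = 0 := by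
      change (g₁ - g₂) ≫ T.mor₁ = 0
      rw [Preadditive.sub_comp, h', sub_self]
    obtain ⟨g', hg'⟩ := Triangle.coyoneda_exact₂ T.invRotate (inv_rot_of_distTriang _ hT) (g₁ - g₂) h0
    have : g' = 0 := h₃' g'
    rw [this, zero_comp] at hg'
    exact sub_eq_zero.mp hg'
  · intro h
    obtain ⟨g, hg⟩ := Triangle.coyoneda_exact₂ T hT h (h₃ _)
    exact ⟨g, hg.symm⟩

end Tri

end Groth.Agent.H82
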