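import Groth.Prelude.Def_W4c3perfectstacksMV
import Groth.Agent.H82.TriLemmas
import Mathlib.CategoryTheory.Yoneda
import Mathlib.CategoryTheory.Triangulated.Functor
import Mathlib.CategoryTheory.Triangulated.Pretriangulated
import Mathlib.CategoryTheory.Shift.Adjunction
import Mathlib.CategoryTheory.Adjunction.Additive

set_option autoImplicit false
set_option linter.unusedSectionVars false
set_option linter.style.haveILetI false

namespace Groth.Agent.H82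

open CategoryTheory CategoryTheory.Limits CategoryTheory.Pretriangulated

universe v u

section General

variable {C : Type*} [Category C] [Preadditive C] [HasZeroObject C] [HasShift C ℤ]
  [∀ n : ℤ, (shiftFunctor C n).Additive] [Pretriangulated C]

/-- In a distinguished triangle `X ⟶ Y ⟶ Z ⟶ X⟦1⟧` whose middle vertex is a biproduct of `Y₁` and
`Y₂` (given by structure maps), if the first component `X ⟶ Y₁` is invertible then the second
component `Y₂ ⟶ Z` is invertible. -/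
theorem isIso_inr_comp_mor₂ (T : Triangle C) (hT : T ∈ distTriang C) {Y₁ Y₂ : C}
    (p₁ : T.obj₂ ⟶ Y₁) (p₂ : T.obj₂ ⟶ Y₂) (i₁ : Y₁ ⟶ T.obj₂) (i₂ : Y₂ ⟶ T.obj₂)
    (h₂₁ : i₂ ≫ p₁ = 0) (h₂₂ : i₂ ≫ p₂ = 𝟙 _) (hsum : p₁ ≫ i₁ + p₂ ≫ i₂ = 𝟙 _)
    (hiso : IsIso (T.mor₁ ≫ p₁)) : IsIso (i₂ ≫ T.mor₂) := by
  have hmono : Mono T.mor₁ := mono_of_mono T.mor₁ p₁
  have hd : T.mor₃ = 0 := Triangle.mor₃_eq_zero_of_mono₁ T hT hmono
  have hepi : Epi T.mor₂ := Triangle.epi₂ T hT hd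
  apply isIso_of_coyoneda_map_bijective
  intro Z
  constructor
  · intro ψ₁ ψ₂ h
    have h0 : (i₂ ≫ T.mor₂) ≫ ψ₁ = (i₂ ≫ T.mor₂) ≫ ψ₂ := h
    have h' : i₂ ≫ T.mor₂ ≫ (ψ₁ - ψ₂) = 0 := by
      rw [Preadditive.comp_sub, Preadditive.comp_sub, ← Category.assoc, ← Category.assoc, h0,
        sub_self]
    have huφ : T.mor₁ ≫ T.mor₂ ≫ (ψ₁ - ψ₂) = 0 := by
      rw [← Category.assoc, comp_distTriang_mor_zero₁₂ _ hT, zero_comp]
    have hφ1 : T.mor₂ ≫ (ψ₁ - ψ₂) = p₁ ≫ i₁ ≫ T.mor₂ ≫ (ψ₁ - ψ₂) := by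
      calc T.mor₂ ≫ (ψ₁ - ψ₂) = (p₁ ≫ i₁ + p₂ ≫ i₂) ≫ T.mor₂ ≫ (ψ₁ - ψ₂) := by
            rw [hsum, Category.id_comp]
        _ = p₁ ≫ i₁ ≫ T.mor₂ ≫ (ψ₁ - ψ₂) + p₂ ≫ i₂ ≫ T.mor₂ ≫ (ψ₁ - ψ₂) := by
            rw [Preadditive.add_comp, Category.assoc, Category.assoc]
        _ = p₁ ≫ i₁ ≫ T.mor₂ ≫ (ψ₁ - ψ₂) := by rw [h', comp_zero, add_zero]
    have h1 : i₁ ≫ T.mor₂ ≫ (ψ₁ - ψ₂) = 0 := by
      have : (T.mor₁ ≫ p₁) ≫ i₁ ≫ T.mor₂ ≫ (ψ₁ - ψ₂) = 0 := by
        rw [Category.assoc, ← hφ1, huφ]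
      exact (cancel_epi (T.mor₁ ≫ p₁)).mp (this.trans comp_zero.symm)
    have hφ0 : T.mor₂ ≫ (ψ₁ - ψ₂) = 0 := by rw [hφ1, h1, comp_zero]
    have : ψ₁ - ψ₂ = 0 := (cancel_epi T.mor₂).mp (hφ0.trans comp_zero.symm)
    exact sub_eq_zero.mp this
  · intro χ
    have huφ : T.mor₁ ≫ (p₂ ≫ χ - p₁ ≫ inv (T.mor₁ ≫ p₁) ≫ T.mor₁ ≫ p₂ ≫ χ) = 0 := by
      rw [Preadditive.comp_sub, ← Category.assoc T.mor₁ p₁, IsIso.hom_inv_id_assoc, sub_self]
    obtain ⟨ψ, hψ⟩ := Triangle.yoneda_exact₂ T hT _ huφ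
    refine ⟨ψ, ?_⟩
    change (i₂ ≫ T.mor₂) ≫ ψ = χ
    rw [Category.assoc, ← hψ, Preadditive.comp_sub, ← Category.assoc i₂ p₂, h₂₂, Category.id_comp,
      ← Category.assoc i₂ p₁, h₂₁, zero_comp, sub_zero]

/-- In a distinguished triangle `X ⟶ Y ⟶ Z ⟶ X⟦1⟧` whose middle vertex is a biproduct of `Y₁` and
`Y₂` (given by structure maps), if the second component `Y₂ ⟶ Z` is invertible then the first
component `X ⟶ Y₁` is invertible. -/
theorem isIso_mor₁_comp_fst (T : Triangle C) (hT : T ∈ distTriang C) {Y₁ Y₂ : C}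
    (p₁ : T.obj₂ ⟶ Y₁) (p₂ : T.obj₂ ⟶ Y₂) (i₁ : Y₁ ⟶ T.obj₂) (i₂ : Y₂ ⟶ T.obj₂)
    (h₁₁ : i₁ ≫ p₁ = 𝟙 _) (h₂₁ : i₂ ≫ p₁ = 0) (hsum : p₁ ≫ i₁ + p₂ ≫ i₂ = 𝟙 _)
    (hiso : IsIso (i₂ ≫ T.mor₂)) : IsIso (T.mor₁ ≫ p₁) := by
  have hepi : Epi T.mor₂ := epi_of_epi i₂ T.mor₂
  have hd : T.mor₃ = 0 := Triangle.mor₃_eq_zero_of_epi₂ T hT hepi
  have hmono : Mono T.mor₁ := Triangle.mono₁ T hT hd
  apply isIso_of_yoneda_map_bijective
  intro Z
  constructor
  · intro x₁ x₂ h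
    have h0 : x₁ ≫ T.mor₁ ≫ p₁ = x₂ ≫ T.mor₁ ≫ p₁ := h
    have h' : ((x₁ - x₂) ≫ T.mor₁) ≫ p₁ = 0 := by
      rw [Preadditive.sub_comp, Preadditive.sub_comp, Category.assoc, Category.assoc, h0, sub_self]
    have huφ : ((x₁ - x₂) ≫ T.mor₁) ≫ T.mor₂ = 0 := by
      rw [Category.assoc, comp_distTriang_mor_zero₁₂ _ hT, comp_zero]
    have hφ1 : (x₁ - x₂) ≫ T.mor₁ = (((x₁ - x₂) ≫ T.mor₁) ≫ p₂) ≫ i₂ := by
      calc (x₁ - x₂) ≫ T.mor₁ = ((x₁ - x₂) ≫ T.mor₁) ≫ (p₁ ≫ i₁ + p₂ ≫ i₂) := by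
            rw [hsum, Category.comp_id]
        _ = (((x₁ - x₂) ≫ T.mor₁) ≫ p₁) ≫ i₁ + (((x₁ - x₂) ≫ T.mor₁) ≫ p₂) ≫ i₂ := by
            rw [Preadditive.comp_add]; simp only [Category.assoc]
        _ = (((x₁ - x₂) ≫ T.mor₁) ≫ p₂) ≫ i₂ := by rw [h', zero_comp, zero_add]
    have h1 : ((x₁ - x₂) ≫ T.mor₁) ≫ p₂ = 0 := by
      have : (((x₁ - x₂) ≫ T.mor₁) ≫ p₂) ≫ (i₂ ≫ T.mor₂) = 0 := by
        rw [← Category.assoc, ← hφ1, huφ]
      exact (cancel_mono (i₂ ≫ T.mor₂)).mp (this.trans zero_comp.symm)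
    have hφ0 : (x₁ - x₂) ≫ T.mor₁ = 0 := by rw [hφ1, h1, zero_comp]
    have : x₁ - x₂ = 0 := (cancel_mono T.mor₁).mp (hφ0.trans zero_comp.symm)
    exact sub_eq_zero.mp this
  · intro y
    have hv : (y ≫ i₁ - ((y ≫ i₁ ≫ T.mor₂) ≫ inv (i₂ ≫ T.mor₂)) ≫ i₂) ≫ T.mor₂ = 0 := by
      rw [Preadditive.sub_comp, Category.assoc _ i₂ T.mor₂, Category.assoc _ (inv _) _,
        IsIso.inv_hom_id, Category.comp_id, Category.assoc, sub_self]
    obtain ⟨x, hx⟩ := Triangle.coyoneda_exact₂ T hT _ hv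
    refine ⟨x, ?_⟩
    change x ≫ T.mor₁ ≫ p₁ = y
    rw [← Category.assoc, ← hx, Preadditive.sub_comp, Category.assoc y i₁ p₁, h₁₁, Category.comp_id,
      Category.assoc _ i₂ p₁, h₂₁, comp_zero, sub_zero]

end General


section MV

open W4c3perfectstacks W4c3perfectstacks.MVSq

variable {S S' R R' : Type u} [Category.{v} S] [Category.{v} S'] [Category.{v} R] [Category.{v} R']
    [Preadditive S] [Preadditive S'] [Preadditive R] [Preadditive R']
    [HasZeroObject S] [HasZeroObject S'] [HasZeroObject R] [HasZeroObject R']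
    [HasShift S ℤ] [HasShift S' ℤ] [HasShift R ℤ] [HasShift R' ℤ]
    [∀ n : ℤ, (shiftFunctor S n).Additive] [∀ n : ℤ, (shiftFunctor S' n).Additive]
    [∀ n : ℤ, (shiftFunctor R n).Additive] [∀ n : ℤ, (shiftFunctor R' n).Additive]
    [Pretriangulated S] [Pretriangulated S'] [Pretriangulated R] [Pretriangulated R']
    (q : W4c3perfectstacks.MVSq S S' R R')
    [q.jst.CommShift ℤ] [q.fst.CommShift ℤ] [q.jpst.CommShift ℤ] [q.gst.CommShift ℤ]
    [q.jst.IsTriangulated] [q.fst.IsTriangulated] [q.jpst.IsTriangulated] [q.gst.IsTriangulated]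

/-- `j^*` of the unit of `j` is invertible. -/
theorem isIso_jst_map_unitJ (hq : q.IsMV) (N : S) : IsIso (q.jst.map (q.adjJ.unit.app N)) := by
  haveI := hq.isIso_counitJ
  exact IsIso.of_isIso_fac_right (hh := IsIso.id _) (q.adjJ.left_triangle_components N)

/-- `j'^*` of the unit of `j'` is invertible. -/
theorem isIso_jpst_map_unitJp (hq : q.IsMV) (N : S') :
    IsIso (q.jpst.map (q.adjJp.unit.app N)) := by
  haveI := hq.isIso_counitJp
  exact IsIso.of_isIso_fac_right (hh := IsIso.id _) (q.adjJp.left_triangle_components N)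

/-- Objects killed by `j^*` have pullback to `X'` killed by `j'^*`. -/
theorem isZero_jpst_fst (K : S) (hK : IsZero (q.jst.obj K)) :
    IsZero (q.jpst.obj (q.fst.obj K)) :=
  (q.gst.map_isZero hK).of_iso ((q.e.app K).symm)

/-- The kernel of `j^*` is stable under shifts. -/
theorem isZero_jst_shift (K : S) (hK : IsZero (q.jst.obj K)) (n : ℤ) :
    IsZero (q.jst.obj (K⟦n⟧)) :=
  (((shiftFunctor R n).map_isZero hK)).of_iso ((q.jst.commShiftIso n).app K)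

/-- No nonzero maps from the kernel of `j^*` to `f_* f^* j_* P`. -/
theorem hom_flsfstjls_eq_zero (hq : q.IsMV) (K : S) (hK : IsZero (q.jst.obj K)) (P : R)
    (ρ : K ⟶ q.fls.obj (q.fst.obj (q.jls.obj P))) : ρ = 0 := by
  haveI := hq.isIso_bc2App P
  have h0 : ρ ≫ q.fls.map (q.bc2App P) = 0 ≫ q.fls.map (q.bc2App P) :=
    adj_hom_ext (q.adjF.comp q.adjJp) (K := K) (Y := q.gst.obj P) (isZero_jpst_fst q K hK) _ _
  exact (cancel_mono _).mp h0

/-- `j^* f_*` sends maps inverted by `j'^*` to isomorphisms. -/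
theorem isIso_jst_map_fls_map (hq : q.IsMV) {M₁ M₂ : S'} (m : M₁ ⟶ M₂)
    (hm : IsIso (q.jpst.map m)) : IsIso (q.jst.map (q.fls.map m)) := by
  haveI := hq.isIso_bcApp M₁
  haveI := hq.isIso_bcApp M₂
  have n1 := q.adjG.unit.naturality (q.jst.map (q.fls.map m))
  have n2 := q.e.hom.naturality (q.fls.map m)
  have n3 := q.adjF.counit.naturality m
  simp only [Functor.id_obj, Functor.id_map, Functor.comp_obj, Functor.comp_map] at n1 n2 n3
  have nat : q.jst.map (q.fls.map m) ≫ q.bcApp M₂ = q.bcApp M₁ ≫ q.gls.map (q.jpst.map m) := by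
    unfold MVSq.bcApp
    calc q.jst.map (q.fls.map m) ≫ q.adjG.unit.app _ ≫ q.gls.map (q.e.hom.app _) ≫
          q.gls.map (q.jpst.map (q.adjF.counit.app M₂))
        = q.adjG.unit.app _ ≫ q.gls.map (q.gst.map (q.jst.map (q.fls.map m))) ≫
            q.gls.map (q.e.hom.app _) ≫ q.gls.map (q.jpst.map (q.adjF.counit.app M₂)) := by
          rw [← Category.assoc, n1, Category.assoc]
      _ = q.adjG.unit.app _ ≫ q.gls.map (q.gst.map (q.jst.map (q.fls.map m)) ≫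
            q.e.hom.app _ ≫ q.jpst.map (q.adjF.counit.app M₂)) := by
          simp only [Functor.map_comp]
      _ = q.adjG.unit.app _ ≫ q.gls.map (q.e.hom.app _ ≫
            q.jpst.map (q.adjF.counit.app M₁) ≫ q.jpst.map m) := by
          congr 2
          rw [← Category.assoc, n2, Category.assoc, ← q.jpst.map_comp, n3, q.jpst.map_comp]
      _ = _ := by simp only [Functor.map_comp, Category.assoc]
  have : q.jst.map (q.fls.map m) = q.bcApp M₁ ≫ q.gls.map (q.jpst.map m) ≫ inv (q.bcApp M₂) := by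
    rw [← Category.assoc, ← nat, Category.assoc, IsIso.hom_inv_id, Category.comp_id]
  rw [this]
  infer_instance

/-- `j'^* f^*` inverts maps inverted by `j^*`. -/
theorem isIso_jpst_map_fst_map {N₁ N₂ : S} (m : N₁ ⟶ N₂) (hm : IsIso (q.jst.map m)) :
    IsIso (q.jpst.map (q.fst.map m)) := by
  have n := q.e.hom.naturality m
  simp only [Functor.comp_obj, Functor.comp_map] at n
  have : q.jpst.map (q.fst.map m) =
      q.e.inv.app N₁ ≫ q.gst.map (q.jst.map m) ≫ q.e.hom.app N₂ := by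
    rw [n, Iso.inv_hom_id_app_assoc]
  rw [this]
  infer_instance

/-- For a distinguished triangle starting with `(unit of j, b) : N ⟶ j_* j^* N ⊞ X`,
the connecting map is killed by `j^*`. -/
theorem jst_map_mor₃_eq_zero (hq : q.IsMV) (N : S) {X : S} (b : N ⟶ X) {Cn : S}
    (v : q.jls.obj (q.jst.obj N) ⊞ X ⟶ Cn) (d : Cn ⟶ N⟦(1 : ℤ)⟧)
    (hT : Triangle.mk (biprod.lift (q.adjJ.unit.app N) b) v d ∈ distTriang S) :
    q.jst.map d = 0 := by
  have hT' := q.jst.map_distinguished _ hT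
  haveI := isIso_jst_map_unitJ q hq N
  have hmono : Mono (q.jst.map (biprod.lift (q.adjJ.unit.app N) b)) := by
    haveI : Mono (q.jst.map (biprod.lift (q.adjJ.unit.app N) b) ≫ q.jst.map biprod.fst) := by
      rw [← q.jst.map_comp, biprod.lift_fst]
      infer_instance
    exact mono_of_mono _ (q.jst.map biprod.fst)
  have h3 := Triangle.mor₃_eq_zero_of_mono₁ _ hT' hmono
  dsimp at h3
  exact (cancel_mono ((q.jst.commShiftIso (1 : ℤ)).hom.app N)).mp (h3.trans zero_comp.symm)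

/-- For a distinguished triangle starting with `(unit of j, b) : N ⟶ j_* j^* N ⊞ X`,
the connecting map composes to zero with every map to an object `f_* f^* j_* P`. -/
theorem mor₃_comp_eq_zero (hq : q.IsMV) (N : S) {X : S} (b : N ⟶ X) {Cn : S}
    (v : q.jls.obj (q.jst.obj N) ⊞ X ⟶ Cn) (d : Cn ⟶ N⟦(1 : ℤ)⟧)
    (hT : Triangle.mk (biprod.lift (q.adjJ.unit.app N) b) v d ∈ distTriang S) (P : R)
    (ρ : N⟦(1 : ℤ)⟧ ⟶ q.fls.obj (q.fst.obj (q.jls.obj P))) : d ≫ ρ = 0 := by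
  haveI := hq.isIso_bc2App P
  have hd := jst_map_mor₃_eq_zero q hq N b v d hT
  have hd' : q.jpst.map (q.fst.map d) = 0 := by
    have n := q.e.hom.naturality d
    simp only [Functor.comp_obj, Functor.comp_map] at n
    rw [hd, q.gst.map_zero, zero_comp] at n
    exact (cancel_epi (q.e.hom.app Cn)).mp (n.symm.trans comp_zero.symm)
  have h0 : (d ≫ ρ) ≫ q.fls.map (q.bc2App P) = 0 := by
    apply ((q.adjF.comp q.adjJp).homEquiv _ _).symm.injective
    have hF : (q.fst ⋙ q.jpst).map d = 0 := hd'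
    rw [Adjunction.homEquiv_counit, Adjunction.homEquiv_counit, Category.assoc, Functor.map_comp,
      hF, zero_comp, Functor.map_zero, zero_comp]
  exact (cancel_mono (q.fls.map (q.bc2App P))).mp (h0.trans zero_comp.symm)


/-- The pullback along `X' ⟶ X` is bijective on maps out of an object killed by `j^*`. -/
theorem fst_map_bijective (hq : q.IsMV) (K : S) (hK : IsZero (q.jst.obj K)) (N : S) :
    Function.Bijective (fun g : K ⟶ N => q.fst.map g) := by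
  classical
  letI csJls : q.jls.CommShift ℤ := q.adjJ.rightAdjointCommShift ℤ
  letI csJpls : q.jpls.CommShift ℤ := q.adjJp.rightAdjointCommShift ℤ
  have hK' : IsZero (q.jpst.obj (q.fst.obj K)) := isZero_jpst_fst q K hK
  obtain ⟨Γ, ι, h, hT⟩ := distinguished_cocone_triangle₁ (q.adjJ.unit.app N)
  have hΓ : IsZero (q.jst.obj Γ) := by
    have hT' := q.jst.map_distinguished _ hT
    refine (Triangle.isZero₁_iff_isIso₂ _ hT').mpr ?_
    exact isIso_jst_map_unitJ q hq N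
  haveI : IsIso (q.adjF.unit.app Γ) := hq.isIso_unitF Γ hΓ
  have top := comp_mor₁_bijective _ hT K
    (fun g => adj_hom_ext q.adjJ hK g 0)
    (fun g => by
      have φ : (q.jls.obj (q.jst.obj N))⟦(-1 : ℤ)⟧ ≅ q.jls.obj ((q.jst.obj N)⟦(-1 : ℤ)⟧) :=
        ((q.jls.commShiftIso (-1 : ℤ)).app (q.jst.obj N)).symm
      have h0 : g ≫ φ.hom = 0 := adj_hom_ext q.adjJ hK _ 0
      exact (cancel_mono φ.hom).mp (h0.trans zero_comp.symm))
  have hT' := q.fst.map_distinguished _ hT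
  haveI := hq.isIso_bc2App (q.jst.obj N)
  have bot := comp_mor₁_bijective _ hT' (q.fst.obj K)
    (fun g => by
      have ψ : q.fst.obj (q.jls.obj (q.jst.obj N)) ≅ q.jpls.obj (q.gst.obj (q.jst.obj N)) :=
        asIso (q.bc2App (q.jst.obj N))
      have h0 : g ≫ ψ.hom = 0 := adj_hom_ext q.adjJp hK' _ 0
      exact (cancel_mono ψ.hom).mp (h0.trans zero_comp.symm))
    (fun g => by
      have ψ : q.fst.obj (q.jls.obj (q.jst.obj N)) ≅ q.jpls.obj (q.gst.obj (q.jst.obj N)) :=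
        asIso (q.bc2App (q.jst.obj N))
      have φ : (q.fst.obj (q.jls.obj (q.jst.obj N)))⟦(-1 : ℤ)⟧ ≅
          q.jpls.obj ((q.gst.obj (q.jst.obj N))⟦(-1 : ℤ)⟧) :=
        ((shiftFunctor S' (-1 : ℤ)).mapIso ψ) ≪≫
          ((q.jpls.commShiftIso (-1 : ℤ)).app (q.gst.obj (q.jst.obj N))).symm
      have h0 : g ≫ φ.hom = 0 := adj_hom_ext q.adjJp hK' _ 0
      exact (cancel_mono φ.hom).mp (h0.trans zero_comp.symm))
  have left := map_bijective_of_isIso_unit q.adjF K Γ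
  have top' : ∀ g : K ⟶ N, ∃ g' : K ⟶ Γ, g' ≫ ι = g := top.2
  have bot' : Function.Bijective
      (fun g : q.fst.obj K ⟶ q.fst.obj Γ => g ≫ q.fst.map ι) := bot
  constructor
  · intro g₁ g₂ hg
    have hg' : q.fst.map g₁ = q.fst.map g₂ := hg
    obtain ⟨g₁', rfl⟩ := top' g₁
    obtain ⟨g₂', rfl⟩ := top' g₂
    rw [q.fst.map_comp g₁' ι, q.fst.map_comp g₂' ι] at hg'
    have h1 : q.fst.map g₁' = q.fst.map g₂' := bot'.1 hg'
    have h2 : g₁' = g₂' := left.1 h1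
    rw [h2]
  · intro h
    obtain ⟨h', rfl⟩ := bot'.2 h
    obtain ⟨g', rfl⟩ := left.2 h'
    exact ⟨g' ≫ ι, q.fst.map_comp g' ι⟩

/-- Composition with the unit of `f` is bijective on maps out of an object killed by `j^*`. -/
theorem comp_unitF_bijective (hq : q.IsMV) (K : S) (hK : IsZero (q.jst.obj K)) (N : S) :
    Function.Bijective (fun x : K ⟶ N => x ≫ q.adjF.unit.app N) := by
  have h1 := fst_map_bijective q hq K hK N
  have h2 := (q.adjF.homEquiv K (q.fst.obj N)).bijective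
  have : (fun x : K ⟶ N => x ≫ q.adjF.unit.app N) =
      (q.adjF.homEquiv K (q.fst.obj N)) ∘ (fun g : K ⟶ N => q.fst.map g) := by
    funext x
    have n := q.adjF.unit.naturality x
    simp only [Functor.id_obj, Functor.id_map, Functor.comp_obj, Functor.comp_map] at n
    simp only [Function.comp, Adjunction.homEquiv_unit]
    exact n
  rw [this]
  exact h2.comp h1

/-- The cone of `(unit of j, unit of f) : N ⟶ j_* j^* N ⊞ f_* f^* N` receives no nonzero map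
from an object killed by `j^*`. -/
theorem hom_cone_eq_zero (hq : q.IsMV) (N : S) {C₀ : S}
    (v₀ : q.jls.obj (q.jst.obj N) ⊞ q.fls.obj (q.fst.obj N) ⟶ C₀) (d₀ : C₀ ⟶ N⟦(1 : ℤ)⟧)
    (hT : Triangle.mk (biprod.lift (q.adjJ.unit.app N) (q.adjF.unit.app N)) v₀ d₀ ∈ distTriang S)
    (K : S) (hK : IsZero (q.jst.obj K)) (g : K ⟶ C₀) : g = 0 := by
  letI csFls : q.fls.CommShift ℤ := q.adjF.rightAdjointCommShift ℤ
  haveI : q.adjF.CommShift ℤ := q.adjF.commShift_of_leftAdjoint ℤ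
  have h1 : g ≫ d₀ = 0 := by
    have h31 : d₀ ≫ (biprod.lift (q.adjJ.unit.app N) (q.adjF.unit.app N))⟦(1 : ℤ)⟧' = 0 :=
      comp_distTriang_mor_zero₃₁ _ hT
    have h2 : (g ≫ d₀) ≫ (q.adjF.unit.app N)⟦(1 : ℤ)⟧' = 0 := by
      have e0 : (q.adjF.unit.app N)⟦(1 : ℤ)⟧' =
          (biprod.lift (q.adjJ.unit.app N) (q.adjF.unit.app N))⟦(1 : ℤ)⟧' ≫
            (biprod.snd)⟦(1 : ℤ)⟧' := by
        rw [← Functor.map_comp, biprod.lift_snd]
      rw [e0, Category.assoc, ← Category.assoc d₀, h31, zero_comp, comp_zero]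
    have h' : (g ≫ d₀) ≫ q.adjF.unit.app (N⟦(1 : ℤ)⟧) = 0 := by
      have e1 := q.adjF.unit_app_shift_commShiftIso_inv_app ℤ (1 : ℤ) N
      rw [← e1, ← Category.assoc, h2, zero_comp]
    exact (comp_unitF_bijective q hq K hK (N⟦(1 : ℤ)⟧)).1 (h'.trans zero_comp.symm)
  obtain ⟨g', hg'⟩ : ∃ g' : K ⟶ q.jls.obj (q.jst.obj N) ⊞ q.fls.obj (q.fst.obj N),
      g = g' ≫ v₀ := Triangle.coyoneda_exact₃ _ hT g h1
  obtain ⟨x, hx⟩ := (comp_unitF_bijective q hq K hK N).2 (g' ≫ biprod.snd)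
  have hx2 : x ≫ q.adjF.unit.app N = g' ≫ biprod.snd := hx
  have hx1 : x ≫ q.adjJ.unit.app N = g' ≫ biprod.fst := adj_hom_ext q.adjJ hK _ _
  have hg'' : g' = x ≫ biprod.lift (q.adjJ.unit.app N) (q.adjF.unit.app N) := by
    apply biprod.hom_ext
    · rw [Category.assoc]; erw [biprod.lift_fst]; rw [hx1]
    · rw [Category.assoc]; erw [biprod.lift_snd]; rw [hx2]
  have h12 : biprod.lift (q.adjJ.unit.app N) (q.adjF.unit.app N) ≫ v₀ = 0 :=
    comp_distTriang_mor_zero₁₂ _ hT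
  rw [hg', hg'', Category.assoc, h12, comp_zero]


/-- If the cone `C₀` of `(unit of j, unit of f)` maps to `f_* f^* j_* j^* N` compatibly with the
Mayer–Vietoris second map, then this comparison map is inverted by `j^*`. -/
theorem isIso_jst_map_of_fac (hq : q.IsMV) (N : S) {C₀ : S}
    (v₀ : q.jls.obj (q.jst.obj N) ⊞ q.fls.obj (q.fst.obj N) ⟶ C₀) (d₀ : C₀ ⟶ N⟦(1 : ℤ)⟧)
    (hT : Triangle.mk (biprod.lift (q.adjJ.unit.app N) (q.adjF.unit.app N)) v₀ d₀ ∈ distTriang S)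
    (w : C₀ ⟶ q.fls.obj (q.fst.obj (q.jls.obj (q.jst.obj N))))
    (hw : v₀ ≫ w = biprod.desc (q.adjF.unit.app (q.jls.obj (q.jst.obj N)))
          (-(q.fls.map (q.fst.map (q.adjJ.unit.app N))))) :
    IsIso (q.jst.map w) := by
  have hT' := q.jst.map_distinguished _ hT
  have hα := isIso_jst_map_unitJ q hq N
  have e1 : q.jst.map (biprod.inr : q.fls.obj (q.fst.obj N) ⟶
      q.jls.obj (q.jst.obj N) ⊞ q.fls.obj (q.fst.obj N)) ≫
      q.jst.map (biprod.fst : q.jls.obj (q.jst.obj N) ⊞ q.fls.obj (q.fst.obj N) ⟶ _) = 0 := by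
    rw [← q.jst.map_comp, biprod.inr_fst, q.jst.map_zero]
  have e2 : q.jst.map (biprod.inr : q.fls.obj (q.fst.obj N) ⟶
      q.jls.obj (q.jst.obj N) ⊞ q.fls.obj (q.fst.obj N)) ≫
      q.jst.map (biprod.snd : q.jls.obj (q.jst.obj N) ⊞ q.fls.obj (q.fst.obj N) ⟶ _) = 𝟙 _ := by
    rw [← q.jst.map_comp, biprod.inr_snd, q.jst.map_id]
  have e3 : q.jst.map (biprod.fst : q.jls.obj (q.jst.obj N) ⊞ q.fls.obj (q.fst.obj N) ⟶ _) ≫
      q.jst.map (biprod.inl : q.jls.obj (q.jst.obj N) ⟶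
        q.jls.obj (q.jst.obj N) ⊞ q.fls.obj (q.fst.obj N)) +
      q.jst.map (biprod.snd : q.jls.obj (q.jst.obj N) ⊞ q.fls.obj (q.fst.obj N) ⟶ _) ≫
      q.jst.map (biprod.inr : q.fls.obj (q.fst.obj N) ⟶
        q.jls.obj (q.jst.obj N) ⊞ q.fls.obj (q.fst.obj N)) = 𝟙 _ := by
    rw [← q.jst.map_comp, ← q.jst.map_comp, ← q.jst.map_add, biprod.total, q.jst.map_id]
  have e4 : IsIso (q.jst.map (biprod.lift (q.adjJ.unit.app N) (q.adjF.unit.app N) :
        N ⟶ q.jls.obj (q.jst.obj N) ⊞ q.fls.obj (q.fst.obj N)) ≫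
      q.jst.map (biprod.fst : q.jls.obj (q.jst.obj N) ⊞ q.fls.obj (q.fst.obj N) ⟶ _)) := by
    rw [← q.jst.map_comp, biprod.lift_fst]
    exact hα
  have h1 : IsIso (q.jst.map (biprod.inr : q.fls.obj (q.fst.obj N) ⟶
      q.jls.obj (q.jst.obj N) ⊞ q.fls.obj (q.fst.obj N)) ≫ q.jst.map v₀) :=
    isIso_inr_comp_mor₂ (q.jst.mapTriangle.obj _) hT' (q.jst.map biprod.fst)
      (q.jst.map biprod.snd) (q.jst.map biprod.inl) (q.jst.map biprod.inr) e1 e2 e3 e4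
  have hδ : IsIso (q.jst.map (q.fls.map (q.fst.map (q.adjJ.unit.app N)))) :=
    isIso_jst_map_fls_map q hq _ (isIso_jpst_map_fst_map q _ hα)
  have h2 : (q.jst.map (biprod.inr : q.fls.obj (q.fst.obj N) ⟶
      q.jls.obj (q.jst.obj N) ⊞ q.fls.obj (q.fst.obj N)) ≫ q.jst.map v₀) ≫ q.jst.map w =
      -(q.jst.map (q.fls.map (q.fst.map (q.adjJ.unit.app N)))) := by
    rw [← q.jst.map_comp, ← q.jst.map_comp, Category.assoc, hw, biprod.inr_desc, q.jst.map_neg]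
  have h3 : IsIso (-(q.jst.map (q.fls.map (q.fst.map (q.adjJ.unit.app N))))) :=
    (-(asIso (q.jst.map (q.fls.map (q.fst.map (q.adjJ.unit.app N)))))).isIso_hom
  exact IsIso.of_isIso_fac_left (hh := h3) h2

/-- Existence of the connecting map of the Mayer–Vietoris triangle. -/
theorem exists_mv_mor₃ (hq : q.IsMV) (N : S) :
    ∃ d : q.fls.obj (q.fst.obj (q.jls.obj (q.jst.obj N))) ⟶ N⟦(1 : ℤ)⟧,
      Triangle.mk (biprod.lift (q.adjJ.unit.app N) (q.adjF.unit.app N))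
        (biprod.desc (q.adjF.unit.app (q.jls.obj (q.jst.obj N)))
          (-(q.fls.map (q.fst.map (q.adjJ.unit.app N))))) d ∈ distTriang S := by
  obtain ⟨C₀, v₀, d₀, hT₀⟩ := distinguished_cocone_triangle
    (biprod.lift (q.adjJ.unit.app N) (q.adjF.unit.app N))
  have huv : biprod.lift (q.adjJ.unit.app N) (q.adjF.unit.app N) ≫
      biprod.desc (q.adjF.unit.app (q.jls.obj (q.jst.obj N)))
        (-(q.fls.map (q.fst.map (q.adjJ.unit.app N)))) = 0 := by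
    have n := q.adjF.unit.naturality (q.adjJ.unit.app N)
    simp only [Functor.id_obj, Functor.id_map, Functor.comp_obj, Functor.comp_map] at n
    erw [biprod.lift_desc]
    rw [Preadditive.comp_neg, ← sub_eq_add_neg, sub_eq_zero]
    exact n
  obtain ⟨w, hw⟩ : ∃ w : C₀ ⟶ q.fls.obj (q.fst.obj (q.jls.obj (q.jst.obj N))),
      biprod.desc (q.adjF.unit.app (q.jls.obj (q.jst.obj N)))
        (-(q.fls.map (q.fst.map (q.adjJ.unit.app N)))) = v₀ ≫ w :=
    Triangle.yoneda_exact₂ _ hT₀ _ huv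
  have hjw : IsIso (q.jst.map w) := isIso_jst_map_of_fac q hq N v₀ d₀ hT₀ w hw.symm
  obtain ⟨K, k, l, hK⟩ := distinguished_cocone_triangle w
  have hjK : IsZero (q.jst.obj K) :=
    (Triangle.isZero₃_iff_isIso₁ _ (q.jst.map_distinguished _ hK)).mpr hjw
  have hTinv := inv_rot_of_distTriang _ hK
  have h1 : (Triangle.mk w k l).invRotate.mor₁ = 0 :=
    hom_cone_eq_zero q hq N v₀ d₀ hT₀ _ (isZero_jst_shift q K hjK (-1)) _
  have hepi3 : Epi (Triangle.mk w k l).invRotate.mor₃ := Triangle.epi₃ _ hTinv h1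
  have hepik : Epi k := by
    have hk : k = (Triangle.mk w k l).invRotate.mor₃ ≫
        (shiftEquiv S (1 : ℤ)).counitIso.hom.app K := by
      change k = (k ≫ (shiftEquiv S (1 : ℤ)).counitIso.inv.app K) ≫
        (shiftEquiv S (1 : ℤ)).counitIso.hom.app K
      rw [Category.assoc, Iso.inv_hom_id_app]
      exact (Category.comp_id k).symm
    rw [hk]
    have hiso : IsIso ((shiftEquiv S (1 : ℤ)).counitIso.hom.app K) :=
      ((shiftEquiv S (1 : ℤ)).counitIso.app K).isIso_hom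
    have hepi : Epi ((shiftEquiv S (1 : ℤ)).counitIso.hom.app K) :=
      @IsIso.epi_of_iso _ _ _ _ _ hiso
    exact epi_comp' hepi3 hepi
  have hl : l = 0 := Triangle.mor₃_eq_zero_of_epi₂ _ hK hepik
  have hKz : IsZero K := by
    rw [IsZero.iff_id_eq_zero]
    obtain ⟨t, ht⟩ : ∃ t : K ⟶ q.fls.obj (q.fst.obj (q.jls.obj (q.jst.obj N))), 𝟙 K = t ≫ k :=
      Triangle.coyoneda_exact₃ _ hK (𝟙 K) (by
        change 𝟙 K ≫ l = 0
        rw [hl, comp_zero])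
    have ht0 : t = 0 := hom_flsfstjls_eq_zero q hq K hjK _ t
    rw [ht, ht0, zero_comp]
  have hwiso : IsIso w := (Triangle.isZero₃_iff_isIso₁ _ hK).mp hKz
  refine ⟨inv w ≫ d₀, isomorphic_distinguished _ hT₀ _ ?_⟩
  refine Triangle.isoMk _ _ (Iso.refl _) (Iso.refl _) (asIso w).symm ?_ ?_ ?_
  · exact (Category.comp_id _).trans (Category.id_comp _).symm
  · change biprod.desc (q.adjF.unit.app (q.jls.obj (q.jst.obj N)))
        (-(q.fls.map (q.fst.map (q.adjJ.unit.app N)))) ≫ inv w = 𝟙 _ ≫ v₀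
    rw [hw, Category.assoc, IsIso.hom_inv_id, Category.comp_id]
    exact (Category.id_comp _).symm
  · change (inv w ≫ d₀) ≫ (shiftFunctor S (1 : ℤ)).map (𝟙 N) = inv w ≫ d₀
    erw [CategoryTheory.Functor.map_id, Category.comp_id]

/-- Uniqueness of the connecting map of the Mayer–Vietoris triangle. -/
theorem mv_mor₃_unique (hq : q.IsMV) (N : S)
    (d₁ d₂ : q.fls.obj (q.fst.obj (q.jls.obj (q.jst.obj N))) ⟶ N⟦(1 : ℤ)⟧)
    (h₁ : Triangle.mk (biprod.lift (q.adjJ.unit.app N) (q.adjF.unit.app N))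
        (biprod.desc (q.adjF.unit.app (q.jls.obj (q.jst.obj N)))
          (-(q.fls.map (q.fst.map (q.adjJ.unit.app N))))) d₁ ∈ distTriang S)
    (h₂ : Triangle.mk (biprod.lift (q.adjJ.unit.app N) (q.adjF.unit.app N))
        (biprod.desc (q.adjF.unit.app (q.jls.obj (q.jst.obj N)))
          (-(q.fls.map (q.fst.map (q.adjJ.unit.app N))))) d₂ ∈ distTriang S) : d₁ = d₂ := by
  obtain ⟨θ, hθ₁, hθ₂⟩ : ∃ θ : q.fls.obj (q.fst.obj (q.jls.obj (q.jst.obj N))) ⟶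
      q.fls.obj (q.fst.obj (q.jls.obj (q.jst.obj N))),
      biprod.desc (q.adjF.unit.app (q.jls.obj (q.jst.obj N)))
        (-(q.fls.map (q.fst.map (q.adjJ.unit.app N)))) ≫ θ =
      𝟙 (q.jls.obj (q.jst.obj N) ⊞ q.fls.obj (q.fst.obj N)) ≫
        biprod.desc (q.adjF.unit.app (q.jls.obj (q.jst.obj N)))
          (-(q.fls.map (q.fst.map (q.adjJ.unit.app N)))) ∧
      d₁ ≫ (shiftFunctor S (1 : ℤ)).map (𝟙 N) = θ ≫ d₂ :=
    complete_distinguished_triangle_morphism _ _ h₁ h₂ (𝟙 N) (𝟙 _)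
      ((Category.comp_id _).trans (Category.id_comp _).symm)
  have hθ₁' : biprod.desc (q.adjF.unit.app (q.jls.obj (q.jst.obj N)))
      (-(q.fls.map (q.fst.map (q.adjJ.unit.app N)))) ≫ θ =
      biprod.desc (q.adjF.unit.app (q.jls.obj (q.jst.obj N)))
        (-(q.fls.map (q.fst.map (q.adjJ.unit.app N)))) := by
    exact hθ₁.trans (Category.id_comp _)
  have hθ₂' : d₁ = θ ≫ d₂ := by
    rw [← hθ₂, CategoryTheory.Functor.map_id]
    exact (Category.comp_id _).symm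
  have h0 : biprod.desc (q.adjF.unit.app (q.jls.obj (q.jst.obj N)))
      (-(q.fls.map (q.fst.map (q.adjJ.unit.app N)))) ≫ (θ - 𝟙 _) = 0 := by
    rw [Preadditive.comp_sub, hθ₁']
    erw [Category.comp_id]
    rw [sub_self]
  obtain ⟨ρ, hρ⟩ : ∃ ρ : N⟦(1 : ℤ)⟧ ⟶ q.fls.obj (q.fst.obj (q.jls.obj (q.jst.obj N))),
      θ - 𝟙 _ = d₁ ≫ ρ := Triangle.yoneda_exact₃ _ h₁ _ h0
  have hz : d₁ ≫ ρ = 0 := mor₃_comp_eq_zero q hq N _ _ d₁ h₁ _ ρ
  have hθ : θ = 𝟙 _ := sub_eq_zero.mp (hρ.trans hz)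
  rw [hθ₂', hθ, Category.id_comp]

/-- Naturality of the connecting map of the Mayer–Vietoris triangle. -/
theorem mv_mor₃_natural (hq : q.IsMV) (N₁ N₂ : S) (φ : N₁ ⟶ N₂)
    (d₁ : q.fls.obj (q.fst.obj (q.jls.obj (q.jst.obj N₁))) ⟶ N₁⟦(1 : ℤ)⟧)
    (d₂ : q.fls.obj (q.fst.obj (q.jls.obj (q.jst.obj N₂))) ⟶ N₂⟦(1 : ℤ)⟧)
    (h₁ : Triangle.mk (biprod.lift (q.adjJ.unit.app N₁) (q.adjF.unit.app N₁))
        (biprod.desc (q.adjF.unit.app (q.jls.obj (q.jst.obj N₁)))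
          (-(q.fls.map (q.fst.map (q.adjJ.unit.app N₁))))) d₁ ∈ distTriang S)
    (h₂ : Triangle.mk (biprod.lift (q.adjJ.unit.app N₂) (q.adjF.unit.app N₂))
        (biprod.desc (q.adjF.unit.app (q.jls.obj (q.jst.obj N₂)))
          (-(q.fls.map (q.fst.map (q.adjJ.unit.app N₂))))) d₂ ∈ distTriang S) :
    d₁ ≫ (shiftFunctor S (1 : ℤ)).map φ = q.fls.map (q.fst.map (q.jls.map (q.jst.map φ))) ≫ d₂ := by
  have nJ := q.adjJ.unit.naturality φ
  have nF := q.adjF.unit.naturality φ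
  have nFA := q.adjF.unit.naturality (q.jls.map (q.jst.map φ))
  simp only [Functor.id_obj, Functor.id_map, Functor.comp_obj, Functor.comp_map] at nJ nF nFA
  have comm : biprod.lift (q.adjJ.unit.app N₁) (q.adjF.unit.app N₁) ≫
      biprod.map (q.jls.map (q.jst.map φ)) (q.fls.map (q.fst.map φ)) =
      φ ≫ biprod.lift (q.adjJ.unit.app N₂) (q.adjF.unit.app N₂) := by
    apply biprod.hom_ext
    · simp only [Category.assoc, biprod.map_fst]
      erw [biprod.lift_fst_assoc, biprod.lift_fst]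
      exact nJ.symm
    · simp only [Category.assoc, biprod.map_snd]
      erw [biprod.lift_snd_assoc, biprod.lift_snd]
      exact nF.symm
  obtain ⟨θ, hθ₁, hθ₂⟩ : ∃ θ : q.fls.obj (q.fst.obj (q.jls.obj (q.jst.obj N₁))) ⟶
      q.fls.obj (q.fst.obj (q.jls.obj (q.jst.obj N₂))),
      biprod.desc (q.adjF.unit.app (q.jls.obj (q.jst.obj N₁)))
        (-(q.fls.map (q.fst.map (q.adjJ.unit.app N₁)))) ≫ θ =
      biprod.map (q.jls.map (q.jst.map φ)) (q.fls.map (q.fst.map φ)) ≫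
        biprod.desc (q.adjF.unit.app (q.jls.obj (q.jst.obj N₂)))
          (-(q.fls.map (q.fst.map (q.adjJ.unit.app N₂)))) ∧
      d₁ ≫ (shiftFunctor S (1 : ℤ)).map φ = θ ≫ d₂ :=
    complete_distinguished_triangle_morphism _ _ h₁ h₂ φ
      (biprod.map (q.jls.map (q.jst.map φ)) (q.fls.map (q.fst.map φ))) comm
  have hθ₁' : biprod.desc (q.adjF.unit.app (q.jls.obj (q.jst.obj N₁)))
      (-(q.fls.map (q.fst.map (q.adjJ.unit.app N₁)))) ≫ θ =
      biprod.map (q.jls.map (q.jst.map φ)) (q.fls.map (q.fst.map φ)) ≫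
        biprod.desc (q.adjF.unit.app (q.jls.obj (q.jst.obj N₂)))
          (-(q.fls.map (q.fst.map (q.adjJ.unit.app N₂)))) := hθ₁
  have hθ₂' : d₁ ≫ (shiftFunctor S (1 : ℤ)).map φ = θ ≫ d₂ := hθ₂
  have hΦ : biprod.desc (q.adjF.unit.app (q.jls.obj (q.jst.obj N₁)))
      (-(q.fls.map (q.fst.map (q.adjJ.unit.app N₁)))) ≫
        q.fls.map (q.fst.map (q.jls.map (q.jst.map φ))) =
      biprod.map (q.jls.map (q.jst.map φ)) (q.fls.map (q.fst.map φ)) ≫
        biprod.desc (q.adjF.unit.app (q.jls.obj (q.jst.obj N₂)))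
          (-(q.fls.map (q.fst.map (q.adjJ.unit.app N₂)))) := by
    apply biprod.hom_ext'
    · simp only [biprod.inl_desc_assoc, biprod.inl_map_assoc, biprod.inl_desc]
      exact nFA.symm
    · simp only [biprod.inr_desc_assoc, biprod.inr_map_assoc, biprod.inr_desc,
        Preadditive.neg_comp, Preadditive.comp_neg, neg_inj]
      rw [← q.fls.map_comp, ← q.fst.map_comp, ← q.fls.map_comp, ← q.fst.map_comp, nJ]
  have h0 : biprod.desc (q.adjF.unit.app (q.jls.obj (q.jst.obj N₁)))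
      (-(q.fls.map (q.fst.map (q.adjJ.unit.app N₁)))) ≫
        (θ - q.fls.map (q.fst.map (q.jls.map (q.jst.map φ)))) = 0 := by
    rw [Preadditive.comp_sub, hθ₁', hΦ, sub_self]
  obtain ⟨ρ, hρ⟩ : ∃ ρ : N₁⟦(1 : ℤ)⟧ ⟶ q.fls.obj (q.fst.obj (q.jls.obj (q.jst.obj N₂))),
      θ - q.fls.map (q.fst.map (q.jls.map (q.jst.map φ))) = d₁ ≫ ρ :=
    Triangle.yoneda_exact₃ _ h₁ _ h0
  have hz : d₁ ≫ ρ = 0 := mor₃_comp_eq_zero q hq N₁ _ _ d₁ h₁ _ ρ
  have hθ : θ = q.fls.map (q.fst.map (q.jls.map (q.jst.map φ))) := sub_eq_zero.mp (hρ.trans hz)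
  rw [hθ₂', hθ]

end MV

end Groth.Agent.H82
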