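import Groth.Agent.H82.MumfordVan

/-!
# Castelnuovo–Mumford regularity: propagation and the general multiplication step
-/

set_option autoImplicit false
set_option linter.unusedSectionVars false
set_option linter.unusedVariables false
set_option linter.style.haveILetI false
universe u

open CategoryTheory CategoryTheory.Limits AlgebraicGeometry Opposite TopologicalSpace MvPolynomial
open Groth.Agent.H82.KoszulPn Groth.Agent.H82.KoszulPn2 Groth.Agent.H82.KoszulPn3
  Groth.Agent.H82.ProjSerre Groth.Agent.H18 Groth.Agent.H82.RankTwo Groth.Agent.H82.ProjCoh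

noncomputable section

namespace Groth.Agent.H82.Mumford

section Main

variable (k : Type u) [Field k] (n : ℕ)

theorem nonempty_twist_twist_iso (F : (CohB1.ProjSpace n k).Modules) (m e : ℤ) :
    Nonempty (CohB1.tensorMod (CohB1.tensorMod F (Ot n k m)) (Ot n k e) ≅
      CohB1.tensorMod F (Ot n k (m + e))) := by
  obtain ⟨a1⟩ := TensorAssoc.nonempty_tensorMod_assoc F (Ot n k m) (Ot n k e)
    (isInvertible_Ot n k m) (isInvertible_Ot n k e)
  obtain ⟨a2⟩ := nonempty_tensor_Ot n k m e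
  obtain ⟨a3⟩ := TensorModIso.nonempty_tensorMod_congr (Iso.refl F) a2
  exact ⟨a1 ≪≫ a3⟩

/-- the general multiplication step -/
theorem mumford_gen (F : (CohB1.ProjSpace n k).Modules) (d e : ℤ)
    (h : Curv2.IsMRegular k n F (d + e))
    (hU : PS n k (CohB1.tensorMod F (Twist.twistProjSpace n k d)) e) :
    PS n k (CohB1.tensorMod F (Twist.twistProjSpace n k d)) (((1 : ℕ) : ℤ) + e) := by
  have hVAN := van k n
  obtain ⟨W, c, h1, h2, h3, h4⟩ := Groth.Agent.H2.KoszulMat.exists_koszul_matrices (n + 1)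
  set G : (Proj (CohB1.polyGrading n k)).Modules := CohB1.tensorMod F (Twist.twistProjSpace n k d)
    with hG
  let b : ℤ := e - (n : ℤ) - 1
  let A' : ℕ → (Proj (CohB1.polyGrading n k)).Modules :=
    fun i => ∐ fun _ : Fin (cc (n + 1) i) => GO n k G (sh b i)
  let d' : ∀ i, A' i ⟶ A' (i + 1) := fun i => DG n k G (W' n W i) (sh b i)
  have hd' : ∀ i, d' i ≫ d' (i + 1) = 0 := fun i =>
    D_comp_D (GO n k G) _ (gm n k G) (gm_comm n k G) (W' n W i) (W' n W (i + 1))
      (R1 n W h1 i) (R2 n W h2 i) (sh b i)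
  have hex : ∀ i, (ShortComplex.mk (d' i) (d' (i + 1)) (hd' i)).Exact := fun i =>
    exact_DG n k G (W' n W i) (W' n W (i + 1)) (c' n c i) (c' n c (i + 1))
      (R3 n W c h3 h4 i) (sh b i) (hd' i)
  have h0 : IsZero (A' 0) := isZero_sigma_fin rfl _
  have hN : IsZero (A' (n + 3)) := by
    refine isZero_sigma_fin ?_ _
    show (n + 1).choose (n + 2) = 0
    exact Nat.choose_eq_zero_of_lt (by omega)
  have hvan : ∀ i, 1 ≤ i → i ≤ n →
      Subsingleton (Coh.HH (Proj (CohB1.polyGrading n k)) (A' i) (n + 1 - i)) := by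
    intro i hi1 hin
    refine hVAN F d (sh b i) (n + 1 - i) (cc (n + 1) i) ?_
    have hj := h (n + 1 - i) (by omega) (by omega)
    have he : d + e - ((n + 1 - i : ℕ) : ℤ) = d + sh b i := by
      rw [sh_eq]
      have : ((n + 1 - i : ℕ) : ℤ) = (n : ℤ) + 1 - i := by omega
      rw [this]
      show _ = d + (e - (n : ℤ) - 1 + i)
      ring
    rw [he] at hj
    exact hj
  have hsurj : Function.Surjective ((d' (n + 1)).app ⊤) :=
    Groth.Agent.H75.Mumford_HL.HL n A' d' hd' hex h0 hN hvan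
  have he0 : sh b (n + 1) = e := by
    rw [sh_eq]
    show e - (n : ℤ) - 1 + ((n + 1 : ℕ) : ℤ) = e
    push_cast
    ring
  have hU' : PS n k G (sh b (n + 1)) := by
    rw [he0]
    exact hU
  have hq : 0 < cc (n + 1) (n + 1 + 1) := by
    show 0 < (n + 1).choose (n + 1)
    rw [Nat.choose_self]
    exact Nat.one_pos
  have key := surj_step n k G (sh b (n + 1)) (W' n W (n + 1)) ⟨0, hq⟩
    (fun φ z => Groth.Agent.H26.Mumford_NAT.NAT G φ z) hU' hsurj
  rw [he0] at key
  exact key

/-- the statement (HL2), as a hypothesis -/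
def HL2Statement : Prop :=
  ∀ (X : Scheme.{u}) (n i : ℕ) (A : ℕ → X.Modules) (d : ∀ k, A k ⟶ A (k + 1))
    (hd : ∀ k, d k ≫ d (k + 1) = 0)
    (hex : ∀ k, (ShortComplex.mk (d k) (d (k + 1)) (hd k)).Exact)
    (h0 : IsZero (A 0)) (hN : IsZero (A (n + 3)))
    (hvan : ∀ l, 1 ≤ l → l ≤ n + 1 → Subsingleton (Coh.HH X (A l) (i + n + 1 - l))),
    Subsingleton (Coh.HH X (A (n + 2)) i)

/-- the statement (RET), as a hypothesis -/
def RETStatement : Prop :=
  ∀ (X : Scheme.{u}) (M : X.Modules) (p i : ℕ) (hp : 0 < p)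
    (h : Subsingleton (Coh.HH X (∐ fun _ : Fin p => M) i)), Subsingleton (Coh.HH X M i)

/-- regularity propagates -/
theorem reg_succ (hHL2 : HL2Statement.{u}) (hRET : RETStatement.{u})
    (F : (CohB1.ProjSpace n k).Modules) (hF : Coh.IsCoh F) (m : ℤ)
    (h : Curv2.IsMRegular k n F m) : Curv2.IsMRegular k n F (m + 1) := by
  intro i hi1 hin
  have hVAN := van k n
  obtain ⟨W, c, h1, h2, h3, h4⟩ := Groth.Agent.H2.KoszulMat.exists_koszul_matrices (n + 1)
  set G : (Proj (CohB1.polyGrading n k)).Modules := CohB1.tensorMod F (Twist.twistProjSpace n k m)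
    with hG
  let b : ℤ := -(i : ℤ) - (n : ℤ) - 1
  let A' : ℕ → (Proj (CohB1.polyGrading n k)).Modules :=
    fun l => ∐ fun _ : Fin (cc (n + 1) l) => GO n k G (sh b l)
  let d' : ∀ l, A' l ⟶ A' (l + 1) := fun l => DG n k G (W' n W l) (sh b l)
  have hd' : ∀ l, d' l ≫ d' (l + 1) = 0 := fun l =>
    D_comp_D (GO n k G) _ (gm n k G) (gm_comm n k G) (W' n W l) (W' n W (l + 1))
      (R1 n W h1 l) (R2 n W h2 l) (sh b l)
  have hex : ∀ l, (ShortComplex.mk (d' l) (d' (l + 1)) (hd' l)).Exact := fun l =>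
    exact_DG n k G (W' n W l) (W' n W (l + 1)) (c' n c l) (c' n c (l + 1))
      (R3 n W c h3 h4 l) (sh b l) (hd' l)
  have h0 : IsZero (A' 0) := isZero_sigma_fin rfl _
  have hN : IsZero (A' (n + 3)) := by
    refine isZero_sigma_fin ?_ _
    show (n + 1).choose (n + 2) = 0
    exact Nat.choose_eq_zero_of_lt (by omega)
  have hvan : ∀ l, 1 ≤ l → l ≤ n + 1 →
      Subsingleton (Coh.HH (Proj (CohB1.polyGrading n k)) (A' l) (i + n + 1 - l)) := by
    intro l hl1 hln
    refine hVAN F m (sh b l) (i + n + 1 - l) (cc (n + 1) l) ?_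
    have he : m - ((i + n + 1 - l : ℕ) : ℤ) = m + sh b l := by
      rw [sh_eq]
      have : ((i + n + 1 - l : ℕ) : ℤ) = (i : ℤ) + (n : ℤ) + 1 - l := by omega
      rw [this]
      show _ = m + (-(i : ℤ) - (n : ℤ) - 1 + l)
      ring
    by_cases hq : i + n + 1 - l ≤ n
    · have hj := h (i + n + 1 - l) (by omega) hq
      rw [he] at hj
      exact hj
    · haveI : Coh.IsQCoh (CohB1.tensorMod F (Twist.twistProjSpace n k (m + sh b l))) :=
        (Groth.Agent.H18.TensorCoh.isCoh_tensorMod hF (isInvertible_Ot n k (m + sh b l))).1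
      exact Groth.Agent.H82.ProjFinite.subsingleton_HH_above n k _ (i + n + 1 - l) (by omega)
  have hend := hHL2 (Proj (CohB1.polyGrading n k)) n i A' d' hd' hex h0 hN hvan
  have hq : 0 < cc (n + 1) (n + 2) := by
    show 0 < (n + 1).choose (n + 1)
    rw [Nat.choose_self]
    exact Nat.one_pos
  have hM := hRET (Proj (CohB1.polyGrading n k)) (GO n k G (sh b (n + 2))) (cc (n + 1) (n + 2)) i hq hend
  obtain ⟨a⟩ := nonempty_twist_twist_iso k n F m (sh b (n + 2))
  have hfin := subsingleton_HH_of_iso a i hM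
  have he1 : m + sh b (n + 2) = m + 1 - (i : ℤ) := by
    rw [sh_eq]
    show m + (-(i : ℤ) - (n : ℤ) - 1 + ((n + 2 : ℕ) : ℤ)) = _
    push_cast
    ring
  rw [he1] at hfin
  exact hfin

theorem reg_add (hHL2 : HL2Statement.{u}) (hRET : RETStatement.{u})
    (F : (CohB1.ProjSpace n k).Modules) (hF : Coh.IsCoh F) (m : ℤ)
    (h : Curv2.IsMRegular k n F m) (t : ℕ) : Curv2.IsMRegular k n F (m + t) := by
  induction t with
  | zero => simpa using h
  | succ t ih =>
    have := reg_succ k n hHL2 hRET F hF (m + t) ih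
    have e : m + (t : ℤ) + 1 = m + ((t + 1 : ℕ) : ℤ) := by push_cast; ring
    rw [e] at this
    exact this

/-- Castelnuovo–Mumford: all multiplication maps are onto -/
theorem mumford_all (hHL2 : HL2Statement.{u}) (hRET : RETStatement.{u})
    (F : (CohB1.ProjSpace n k).Modules) (hF : Coh.IsCoh F) (m d : ℤ) (hd : m ≤ d)
    (h : Curv2.IsMRegular k n F m) (e : ℕ) :
    PS n k (CohB1.tensorMod F (Twist.twistProjSpace n k d)) (e : ℤ) := by
  induction e with
  | zero =>
    exact Groth.Agent.H26.Mumford_UNIT0.UNIT0 k n _ (Groth.Agent.H41.Mumford_UNIT.UNIT _)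
      (fun φ z => Groth.Agent.H26.Mumford_NAT.NAT _ φ z)
  | succ e ih =>
    have hreg : Curv2.IsMRegular k n F (d + e) := by
      have h1 := reg_add k n hHL2 hRET F hF m h (d - m + e).toNat
      have e1 : m + (((d - m + e).toNat : ℕ) : ℤ) = d + e := by
        rw [Int.toNat_of_nonneg (by omega)]
        ring
      rw [e1] at h1
      exact h1
    have key := mumford_gen k n F d e hreg ih
    have e2 : ((1 : ℕ) : ℤ) + (e : ℤ) = ((e + 1 : ℕ) : ℤ) := by push_cast; ring
    rw [e2] at key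
    exact key

end Main

end Groth.Agent.H82.Mumford
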