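import Groth.Agent.H82.ProjClosed
import Groth.Agent.H82.Mumford4
import Groth.Agent.H75.Mumford_HL2
import Groth.Agent.H21.Mumford_RET

/-!
# Castelnuovo–Mumford regularity on closed subschemes of projective space: reduction to `P^n`
-/

set_option autoImplicit false
set_option linter.unusedSectionVars false
set_option linter.unusedVariables false
set_option linter.style.haveILetI false
universe u

open CategoryTheory CategoryTheory.Limits AlgebraicGeometry Opposite TopologicalSpace
open Groth.Agent.H82.ProjSerre Groth.Agent.H82.ProjFinite Groth.Agent.H82.ProjCoh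
  Groth.Agent.H82.RankTwo

noncomputable section

namespace Groth.Agent.H82.MumfordClosed

/-- the projection formula for an invertible module along an affine morphism -/
theorem nonempty_push_tensor_iso {X Y : Scheme.{u}} (i : X ⟶ Y) [IsAffineHom i]
    (F : X.Modules) (L : Y.Modules) (hL : PicF.IsInvertible L) :
    Nonempty (CohB1.tensorMod ((Coh.push i).obj F) L ≅
      (Coh.push i).obj (CohB1.tensorMod F ((Scheme.Modules.pullback i).obj L))) := by
  obtain ⟨e1⟩ := Groth.Agent.H18.AmpleTwistGG.nonempty_tensorMod_comm F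
    ((Scheme.Modules.pullback i).obj L)
  obtain ⟨e2⟩ := Groth.Agent.H18.AmpleTwistGG.nonempty_tensorMod_comm L ((Coh.push i).obj F)
  have hLf : FlatMod.IsFinLocFree L := Groth.Agent.H8.isFinLocFree_of_isInvertible hL
  let e3 : CohB1.tensorMod L ((Coh.push i).obj F) ≅
      (Coh.push i).obj (CohB1.tensorMod ((Scheme.Modules.pullback i).obj L) F) :=
    (Groth.Agent.H53.ProjFormula.pfIso i L hLf).app F
  exact ⟨e2.symm ≪≫ e3 ≪≫ (Coh.push i).mapIso e1.symm⟩

/-- transfer of vanishing of cohomology, from the source to the target -/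
theorem subsingleton_HH_push_tensor {X Y : Scheme.{u}} (i : X ⟶ Y) [IsAffineHom i]
    (F : X.Modules) [hFq : F.IsQuasicoherent] (L : Y.Modules) (hL : PicF.IsInvertible L) (j : ℕ)
    (h : Subsingleton (Coh.HH X (CohB1.tensorMod F ((Scheme.Modules.pullback i).obj L)) j)) :
    Subsingleton (Coh.HH Y (CohB1.tensorMod ((Coh.push i).obj F) L) j) := by
  have hL' : PicF.IsInvertible ((Scheme.Modules.pullback i).obj L) :=
    Groth.Agent.H22.PullGen.isInvertible_pullback i hL
  obtain ⟨e⟩ := nonempty_push_tensor_iso i F L hL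
  haveI hq1 : (CohB1.tensorMod F ((Scheme.Modules.pullback i).obj L)).IsQuasicoherent :=
    Groth.Agent.H18.TensorCoh.isQuasicoherent_tensorMod F _ hL'
  obtain ⟨E⟩ := Groth.Agent.S0012.result i
    (CohB1.tensorMod F ((Scheme.Modules.pullback i).obj L)) j
  have h3 : Subsingleton (Coh.HH Y
      ((Coh.push i).obj (CohB1.tensorMod F ((Scheme.Modules.pullback i).obj L))) j) :=
    E.symm.toEquiv.subsingleton
  exact subsingleton_HH_of_iso e.symm j h3

theorem isGloballyGenerated_of_iso {X : Scheme.{u}} {M N : X.Modules} (e : M ≅ N)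
    (h : Curv2.IsGloballyGenerated M) : Curv2.IsGloballyGenerated N := by
  obtain ⟨ι, p, hp⟩ := h
  refine ⟨ι, p ≫ e.hom, ?_⟩
  have h2 : Epi e.hom := by
    haveI : IsIso e.hom := Iso.isIso_hom e
    exact IsIso.epi_of_iso e.hom
  exact @epi_comp _ _ _ _ _ p hp e.hom h2

section Main

variable (k : Type u) [Field k] (n : ℕ)

theorem closed_main
    (hGG : ∀ (F' : (CohB1.ProjSpace n k).Modules), Coh.IsCoh F' → ∀ m : ℤ,
      Curv2.IsMRegular k n F' m →
      Curv2.IsGloballyGenerated (CohB1.tensorMod F' (Twist.twistProjSpace n k m)))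
    (hGGC : ∀ {X : Scheme.{u}} (i : X ⟶ CohB1.ProjSpace n k) [IsClosedImmersion i] (M : X.Modules),
      Curv2.IsGloballyGenerated ((Coh.push i).obj M) → Curv2.IsGloballyGenerated M)
    {X : Scheme.{u}} (i : X ⟶ CohB1.ProjSpace n k) [IsClosedImmersion i] (F : X.Modules)
    (hF : Coh.IsCoh F) (m : ℤ) (h : Pic13.IsMRegular k i F m) (n' : ℤ) (hn' : m ≤ n') :
    Pic13.IsMRegular k i F n' ∧ Curv2.IsGloballyGenerated (Pic13.twistOn k i F n') := by
  haveI := isLocallyNoetherian n k
  haveI : F.IsQuasicoherent := hF.1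
  have hF' : Coh.IsCoh ((Coh.push i).obj F) := Groth.Agent.S0019.result i F hF
  have hreg0 : Curv2.IsMRegular k n ((Coh.push i).obj F) m := by
    intro q hq1 hqn
    exact subsingleton_HH_push_tensor i F (Twist.twistProjSpace n k (m - q))
      (isInvertible_Ot n k (m - q)) q (h q hq1)
  have hreg : Curv2.IsMRegular k n ((Coh.push i).obj F) n' := by
    have h1 := Groth.Agent.H82.Mumford.reg_add k n
      (fun X n i A d hd hex h0 hN hvan => Groth.Agent.H75.Mumford_HL2.HL2 n i A d hd hex h0 hN hvan)
      (fun X M p i hp hh => Groth.Agent.H21.Mumford_RET.RET M p i hp hh)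
      ((Coh.push i).obj F) hF' m hreg0 (n' - m).toNat
    have e1 : m + (((n' - m).toNat : ℕ) : ℤ) = n' := by
      rw [Int.toNat_of_nonneg (by omega)]
      ring
    rw [e1] at h1
    exact h1
  constructor
  · intro q hq1
    refine Groth.Agent.H82.ProjClosed.subsingleton_HH_tensor_pullback i F (Twist.twistProjSpace n k (n' - q))
      (isInvertible_Ot n k (n' - q)) q ?_
    by_cases hqn : q ≤ n
    · exact hreg q hq1 hqn
    · haveI : Coh.IsQCoh (CohB1.tensorMod ((Coh.push i).obj F) (Twist.twistProjSpace n k (n' - q))) :=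
        (Groth.Agent.H18.TensorCoh.isCoh_tensorMod hF' (isInvertible_Ot n k (n' - q))).1
      exact subsingleton_HH_above n k _ q (by omega)
  · have h1 := hGG ((Coh.push i).obj F) hF' n' hreg
    obtain ⟨e⟩ := nonempty_push_tensor_iso i F (Twist.twistProjSpace n k n') (isInvertible_Ot n k n')
    exact hGGC i _ (isGloballyGenerated_of_iso e h1)

end Main

end Groth.Agent.H82.MumfordClosed
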