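import Groth.Agent.H82.RankTwo
import Groth.Agent.H31.Invertible
import Groth.Agent.H31.FlatSite
import Groth.Agent.H18.TwistTensor

/-!
# Twisting back: `(- ⊗ O(-m)) ⊗ O(m) ≅ id` on `P^n_k`, naturally
-/

set_option autoImplicit false
set_option linter.unusedSectionVars false
set_option linter.unusedVariables false
set_option linter.style.haveILetI false
universe u

open CategoryTheory CategoryTheory.Limits AlgebraicGeometry Opposite TopologicalSpace
open Groth.Agent.H82.RankTwo Groth.Agent.H82.ProjSerre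

noncomputable section

namespace Groth.Agent.H82.MumfordTwistBack

section General

variable {X : Scheme.{u}}

/-- if `L ⊗ L' ≅ O` then `(- ⊗ L) ⊗ L' ≅ id`, naturally -/
theorem nonempty_T_comp_T_iso (L L' : X.Modules)
    (e : CohB1.tensorMod L L' ≅ Coh.structureModule X) :
    Nonempty (T L ⋙ T L' ≅ 𝟭 X.Modules) := by
  have b1 : T L ≅ (ModSite.tensorBi (X.sheaf)).obj L := (Groth.Agent.H31.braidIso (O := X.sheaf) L).symm
  have b2 : T L' ≅ (ModSite.tensorBi (X.sheaf)).obj L' := (Groth.Agent.H31.braidIso (O := X.sheaf) L').symm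
  have a : (ModSite.tensorBi (X.sheaf)).obj (((ModSite.tensorBi (X.sheaf)).obj L).obj L') ≅
      (ModSite.tensorBi (X.sheaf)).obj L ⋙ (ModSite.tensorBi (X.sheaf)).obj L' :=
    Groth.Agent.H31.tensorObjAssocIso (O := X.sheaf) L L'
  have c : (ModSite.tensorBi (X.sheaf)).obj (((ModSite.tensorBi (X.sheaf)).obj L).obj L') ≅
      (ModSite.tensorBi (X.sheaf)).obj (ModSite.unit (X.sheaf)) :=
    (ModSite.tensorBi (X.sheaf)).mapIso e
  have d : (ModSite.tensorBi (X.sheaf)).obj (ModSite.unit (X.sheaf)) ≅ 𝟭 _ :=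
    Groth.Agent.H31.tensorUnitNatIso (X.sheaf)
  exact ⟨Functor.isoWhiskerRight b1 (T L') ≪≫ Functor.isoWhiskerLeft _ b2 ≪≫ a.symm ≪≫ c ≪≫ d⟩

end General

theorem nonempty_twist_back (k : Type u) [Field k] (n : ℕ) (m : ℤ) :
    Nonempty (T (Ot n k (-m)) ⋙ T (Ot n k m) ≅ 𝟭 (CohB1.ProjSpace n k).Modules) := by
  obtain ⟨a⟩ := nonempty_tensor_Ot n k (-m) m
  obtain ⟨e0⟩ := Groth.Agent.H18.TwistTensor.nonempty_twist_zero_iso (CohB1.polyGrading n k)
  have h0 : -m + m = 0 := by ring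
  rw [h0] at a
  exact nonempty_T_comp_T_iso _ _ (a ≪≫ e0)

end Groth.Agent.H82.MumfordTwistBack
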