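import Groth.Agent.H82.MumfordGen
import Groth.Agent.H82.MumfordTwistBack
import Groth.Agent.H82.Mumford4

/-!
# An `m`-regular coherent module on `P^n_k` is a quotient of `O(-m)^b` with `(m+1)`-regular kernel
-/

set_option autoImplicit false
set_option linter.unusedSectionVars false
set_option linter.unusedVariables false
set_option linter.style.haveILetI false
universe u

open CategoryTheory CategoryTheory.Limits AlgebraicGeometry Opposite TopologicalSpace
open Groth.Agent.H82.RankTwo Groth.Agent.H82.ProjSerre Groth.Agent.H82.HHA Groth.Agent.H82.HHFinite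
  Groth.Agent.H82.HHLES Groth.Agent.H82.ProjCoh

noncomputable section

namespace Groth.Agent.H82.MumfordDir2

section General

variable {X : Scheme.{u}}

theorem surjective_app_top_of_iso {M N : X.Modules} (e : M ≅ N) :
    Function.Surjective (e.hom.app ⊤) := by
  intro t
  refine ⟨e.inv.app ⊤ t, ?_⟩
  have h := congrArg (fun f : N ⟶ N => f.app ⊤ t) e.inv_hom_id
  exact h

theorem surjective_app_top_comp {M N P : X.Modules} (f : M ⟶ N) (g : N ⟶ P)
    (hf : Function.Surjective (f.app ⊤)) (hg : Function.Surjective (g.app ⊤)) :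
    Function.Surjective ((f ≫ g).app ⊤) := by
  intro t
  obtain ⟨s, hs⟩ := hg t
  obtain ⟨r, hr⟩ := hf s
  refine ⟨r, ?_⟩
  show g.app ⊤ (f.app ⊤ r) = t
  rw [hr, hs]

/-- `H^1` of the kernel vanishes when the map is onto on global sections and `H^1` of the middle
term vanishes -/
theorem subsingleton_H1_of_surj (S : ShortComplex X.Modules) (hS : S.ShortExact)
    (hsurj : Function.Surjective (S.g.app ⊤)) (h₂ : Subsingleton (Coh.HH X S.X₂ 1)) :
    Subsingleton (Coh.HH X S.X₁ 1) := by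
  have key : ∀ x : Coh.HH X S.X₁ 1, x = 0 := by
    intro x
    obtain ⟨y, hy⟩ := left_exact S hS 0 x (Subsingleton.elim _ _)
    obtain ⟨s, hs⟩ := hsurj (e0 S.X₃ y)
    have hz : Sheaf.H.map (abMap S.g) 0 ((e0 S.X₂).symm s) = y := by
      apply (e0 S.X₃).injective
      have h := Sheaf.H.equiv₀_naturality (T := (⊤ : Opens X)) isTerminalTop (abMap S.g)
        ((e0 S.X₂).symm s)
      refine h.symm.trans ?_
      have h2 : (e0 S.X₂) ((e0 S.X₂).symm s) = s := AddEquiv.apply_symm_apply _ _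
      exact (congrArg (fun w => S.g.app ⊤ w) h2).trans hs
    rw [← hy, ← hz, δ_map]
  exact ⟨fun a b => (key a).trans (key b).symm⟩

end General

section Pn

variable (k : Type u) [Field k] (n : ℕ)

/-- `H^i` of `O(-m)^b ⊗ O(m+1-i)` vanishes for `1 ≤ i ≤ n` -/
theorem subsingleton_HH_mid (m : ℤ) (b : ℕ) (t : ℤ) (i : ℕ)
    (h₀ : ¬ (i = 0 ∧ 0 ≤ -m + t)) (hn : ¬ (i = n ∧ -m + t ≤ -((n : ℤ) + 1))) :
    Subsingleton (Coh.HH (CohB1.ProjSpace n k)
      ((T (Ot n k t)).obj (∐ fun _ : Fin b => Ot n k (-m))) i) := by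
  have e1 := sigmaIso (Ot n k t) (fun _ : Fin b => Ot n k (-m))
  refine subsingleton_HH_of_iso e1.symm i ?_
  refine subsingleton_HH_sigma _ i (fun _ => ?_)
  obtain ⟨a⟩ := nonempty_tensor_Ot n k (-m) t
  refine subsingleton_HH_of_iso a.symm i ?_
  exact subsingleton_HH n k (-m + t) i h₀ hn

theorem dir2 (F : (CohB1.ProjSpace n k).Modules) (hF : Coh.IsCoh F)
    (m : ℤ) (h : Curv2.IsMRegular k n F m)
    (hgg : Curv2.IsGloballyGenerated (CohB1.tensorMod F (Twist.twistProjSpace n k m))) :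
    ∃ (b : ℕ) (φ : (∐ fun _ : Fin b => Twist.twistProjSpace n k (-m)) ⟶ F),
      Epi φ ∧ Curv2.IsMRegular k n (kernel φ) (m + 1) := by
  have hG : Coh.IsCoh (CohB1.tensorMod F (Twist.twistProjSpace n k m)) :=
    Groth.Agent.H18.TensorCoh.isCoh_tensorMod hF (isInvertible_Ot n k m)
  obtain ⟨b, ψ, hψ, hψs⟩ := Groth.Agent.H82.MumfordGen.exists_epi_surj k n _ hG hgg
  -- the two twist-back isomorphisms
  obtain ⟨η2⟩ := Groth.Agent.H82.MumfordTwistBack.nonempty_twist_back k n m
  obtain ⟨η1⟩ : Nonempty (T (Ot n k m) ⋙ T (Ot n k (-m)) ≅ 𝟭 (CohB1.ProjSpace n k).Modules) := by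
    obtain ⟨a⟩ := nonempty_tensor_Ot n k m (-m)
    obtain ⟨e0'⟩ := Groth.Agent.H18.TwistTensor.nonempty_twist_zero_iso (CohB1.polyGrading n k)
    have h0 : m + -m = 0 := by ring
    rw [h0] at a
    exact Groth.Agent.H82.MumfordTwistBack.nonempty_T_comp_T_iso _ _ (a ≪≫ e0')
  let OX : (CohB1.ProjSpace n k).Modules := Coh.structureModule (CohB1.ProjSpace n k)
  -- the source
  let β : (∐ fun _ : Fin b => Ot n k (-m)) ≅ (T (Ot n k (-m))).obj (∐ fun _ : Fin b => OX) :=
    (Sigma.mapIso (fun _ : Fin b => (lunit (Ot n k (-m))).symm)) ≪≫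
      (sigmaIso (Ot n k (-m)) (fun _ : Fin b => OX)).symm
  let φ0 : (T (Ot n k (-m))).obj (∐ fun _ : Fin b => OX) ⟶
      (T (Ot n k (-m))).obj ((T (Ot n k m)).obj F) := (T (Ot n k (-m))).map ψ
  let α : (T (Ot n k (-m))).obj ((T (Ot n k m)).obj F) ≅ F := η1.app F
  let φ : (∐ fun _ : Fin b => Ot n k (-m)) ⟶ F := β.hom ≫ φ0 ≫ α.hom
  haveI : Epi ψ := hψ
  haveI : (T (Ot n k (-m))).PreservesEpimorphisms :=
    Functor.preservesEpimorphisms_of_adjunction (Adjunction.ofIsLeftAdjoint (T (Ot n k (-m))))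
  haveI : Epi φ0 := (T (Ot n k (-m))).map_epi ψ
  haveI hφ : Epi φ := by
    haveI : Epi (φ0 ≫ α.hom) := epi_comp _ _
    exact epi_comp _ _
  refine ⟨b, φ, hφ, ?_⟩
  -- the short exact sequence
  let S : ShortComplex (CohB1.ProjSpace n k).Modules := ShortComplex.mk (kernel.ι φ) φ
    (kernel.condition φ)
  have hS : S.ShortExact :=
    { exact := ShortComplex.exact_of_f_is_kernel _ (kernelIsKernel φ)
      mono_f := inferInstanceAs (Mono (kernel.ι φ))
      epi_g := hφ }
  intro i hi1 hin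
  have hS' := shortExact_map_T (isInvertible_Ot n k (m + 1 - (i : ℤ))) S hS
  have hmid : Subsingleton (Coh.HH (CohB1.ProjSpace n k) (S.map (T (Ot n k (m + 1 - (i : ℤ))))).X₂ i) := by
    refine subsingleton_HH_mid k n m b (m + 1 - (i : ℤ)) i (fun hh => by omega) (fun hh => ?_)
    obtain ⟨h1, h2⟩ := hh
    have : (i : ℤ) = n := by exact_mod_cast h1
    omega
  rcases Nat.eq_or_lt_of_le hi1 with hi | hi
  · -- i = 1
    subst hi
    refine subsingleton_H1_of_surj _ hS' ?_ hmid
    have hgen : ∀ t : ℤ, t = m → Function.Surjective (((T (Ot n k t)).map φ).app ⊤) := by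
      intro t ht
      subst ht
      have e1 : (T (Ot n k t)).map φ = ((T (Ot n k t)).mapIso β).hom ≫
          ((T (Ot n k t)).map φ0 ≫ ((T (Ot n k t)).mapIso α).hom) := by
        show (T (Ot n k t)).map (β.hom ≫ φ0 ≫ α.hom) = _
        rw [Functor.map_comp, Functor.map_comp]
        rfl
      rw [e1]
      refine surjective_app_top_comp _ _ (surjective_app_top_of_iso _)
        (surjective_app_top_comp _ _ ?_ (surjective_app_top_of_iso _))
      have hnat := η2.hom.naturality ψ
      have e2 : (T (Ot n k t)).map φ0 =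
          (η2.app _).hom ≫ (ψ ≫ (η2.app _).inv) := by
        have h1 : (T (Ot n k (-t)) ⋙ T (Ot n k t)).map ψ ≫ η2.hom.app _ = η2.hom.app _ ≫ ψ := hnat
        have h3 := congrArg (fun z => z ≫ η2.inv.app _) h1
        have h2 : (T (Ot n k (-t)) ⋙ T (Ot n k t)).map ψ =
            η2.hom.app _ ≫ ψ ≫ η2.inv.app _ :=
          (Category.comp_id _).symm.trans
            ((congrArg (fun z => (T (Ot n k (-t)) ⋙ T (Ot n k t)).map ψ ≫ z)
              (η2.hom_inv_id_app _).symm).trans
              ((Category.assoc _ _ _).symm.trans (h3.trans (Category.assoc _ _ _))))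
        exact h2
      rw [e2]
      exact surjective_app_top_comp _ _ (surjective_app_top_of_iso _)
        (surjective_app_top_comp _ _ hψs (surjective_app_top_of_iso (η2.app _).symm))
    exact hgen _ (by push_cast; ring)
  · -- i ≥ 2
    obtain ⟨j, rfl⟩ : ∃ j, i = j + 1 := ⟨i - 1, by omega⟩
    have h3 : Subsingleton (Coh.HH (CohB1.ProjSpace n k)
        (S.map (T (Ot n k (m + 1 - ((j + 1 : ℕ) : ℤ))))).X₃ j) := by
      have hj := h j (by omega) (by omega)
      have e : m - (j : ℤ) = m + 1 - ((j + 1 : ℕ) : ℤ) := by push_cast; ring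
      rw [e] at hj
      exact hj
    exact subsingleton_left _ hS' j h3 hmid

theorem dir1 (F : (CohB1.ProjSpace n k).Modules) (hF : Coh.IsCoh F)
    (m : ℤ) (b : ℕ) (φ : (∐ fun _ : Fin b => Twist.twistProjSpace n k (-m)) ⟶ F) (hφ : Epi φ)
    (hKq : Coh.IsQCoh (kernel φ))
    (hK : Curv2.IsMRegular k n (kernel φ) (m + 1)) : Curv2.IsMRegular k n F m := by
  let S : ShortComplex (CohB1.ProjSpace n k).Modules := ShortComplex.mk (kernel.ι φ) φ
    (kernel.condition φ)
  have hS : S.ShortExact :=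
    { exact := ShortComplex.exact_of_f_is_kernel _ (kernelIsKernel φ)
      mono_f := inferInstanceAs (Mono (kernel.ι φ))
      epi_g := hφ }
  intro i hi1 hin
  have hS' := shortExact_map_T (isInvertible_Ot n k (m - (i : ℤ))) S hS
  have hmid : Subsingleton (Coh.HH (CohB1.ProjSpace n k) (S.map (T (Ot n k (m - (i : ℤ))))).X₂ i) := by
    refine subsingleton_HH_mid k n m b (m - (i : ℤ)) i (fun hh => by omega) (fun hh => ?_)
    obtain ⟨h1, h2⟩ := hh
    have : (i : ℤ) = n := by exact_mod_cast h1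
    omega
  have h1 : Subsingleton (Coh.HH (CohB1.ProjSpace n k)
      (S.map (T (Ot n k (m - (i : ℤ))))).X₁ (i + 1)) := by
    by_cases hi : i + 1 ≤ n
    · have hj := hK (i + 1) (by omega) hi
      have e : m + 1 - ((i + 1 : ℕ) : ℤ) = m - (i : ℤ) := by push_cast; ring
      rw [e] at hj
      exact hj
    · haveI : (kernel φ).IsQuasicoherent := hKq
      haveI : Coh.IsQCoh (CohB1.tensorMod (kernel φ) (Ot n k (m - (i : ℤ)))) :=
        Groth.Agent.H18.TensorCoh.isQuasicoherent_tensorMod (kernel φ) _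
          (isInvertible_Ot n k (m - (i : ℤ)))
      exact Groth.Agent.H82.ProjFinite.subsingleton_HH_above n k
        (CohB1.tensorMod (kernel φ) (Ot n k (m - (i : ℤ)))) (i + 1) (by omega)
  exact subsingleton_right _ hS' i hmid h1

end Pn

end Groth.Agent.H82.MumfordDir2
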