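import Groth.Agent.H82.RankTwo
import Groth.Agent.H82.HHAction
import Groth.Agent.H18.GlobGen
import Groth.Agent.H18.GlobGenConv
import Groth.Agent.H18.FreeEpi
import Groth.Agent.H82.ProjFinite

/-!
# Finitely many global sections generating a coherent globally generated module on `P^n_k`
and spanning its global sections
-/

set_option autoImplicit false
set_option linter.unusedSectionVars false
set_option linter.unusedVariables false
set_option linter.style.haveILetI false
universe u

open CategoryTheory CategoryTheory.Limits AlgebraicGeometry Opposite TopologicalSpace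
open Groth.Agent.H82.RankTwo Groth.Agent.H82.HHA Groth.Agent.H18.GlobGen

noncomputable section

namespace Groth.Agent.H82.MumfordGen

section General

variable {X : Scheme.{u}}

/-- `e0` is linear over global functions -/
theorem e0_smul (M : X.Modules) (r : Coh.Γtop X) (x : Coh.HH X M 0) :
    e0 M (r • x) = (show Γ(X, ⊤) from r) • e0 M x := by
  rw [Groth.Agent.H82.HHA.smul_def]
  have h := Sheaf.H.equiv₀_naturality (T := (⊤ : Opens X)) isTerminalTop (Coh.smulAb M r) x
  refine h.symm.trans ?_
  rw [Coh.smulAb_app]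
  have hr : Coh.resTop X (op ⊤) r = r := by
    show (X.ringCatSheaf.obj.map (𝟙 (op (⊤ : Opens X)))).hom r = r
    rw [CategoryTheory.Functor.map_id]
    rfl
  rw [hr]
  rfl

/-- the morphism `∐ O ⟶ M` attached to finitely many global sections -/
def secMap (M : X.Modules) {b : ℕ} (σ : Fin b → Γ(M, ⊤)) :
    (∐ fun _ : Fin b => Coh.structureModule X) ⟶ M :=
  Sigma.desc fun j => (SheafOfModules.unitHomEquiv (R := X.ringCatSheaf) M).symm
    (Groth.Agent.H18.RestrictUnit.globalSections M (σ j))

theorem secMap_ι_app (M : X.Modules) {b : ℕ} (σ : Fin b → Γ(M, ⊤)) (j : Fin b) (V : X.Opens)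
    (r : Γ(X, V)) :
    (secMap M σ).app V ((Sigma.ι (fun _ : Fin b =>
      Coh.structureModule X) j).app V r) =
      r • M.presheaf.map (homOfLE (le_top : V ≤ ⊤)).op (σ j) := by
  have h1 : Sigma.ι (fun _ : Fin b => Coh.structureModule X) j ≫
      secMap M σ = (SheafOfModules.unitHomEquiv (R := X.ringCatSheaf) M).symm
        (Groth.Agent.H18.RestrictUnit.globalSections M (σ j)) := Sigma.ι_desc _ _
  have h2 := congrArg (fun f : Coh.structureModule X ⟶ M =>
    (f.val.app (op V)).hom r) h1
  exact h2.trans (Groth.Agent.H18.FreeEpi.unitHomEquiv_symm_app_apply M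
    (Groth.Agent.H18.RestrictUnit.globalSections M (σ j)) V r)

theorem span_le_range (M : X.Modules) {b : ℕ} (σ : Fin b → Γ(M, ⊤)) (V : X.Opens)
    (t : Γ(M, V))
    (ht : t ∈ Submodule.span Γ(X, V)
      (Set.range fun j : Fin b => M.presheaf.map (homOfLE (le_top : V ≤ ⊤)).op (σ j))) :
    ∃ s : Γ((∐ fun _ : Fin b => Coh.structureModule X), V),
      (secMap M σ).app V s = t := by
  induction ht using Submodule.span_induction with
  | mem y hy =>
    obtain ⟨j, rfl⟩ := hy
    exact ⟨_, (secMap_ι_app M σ j V 1).trans (one_smul _ _)⟩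
  | zero => exact ⟨0, map_zero _⟩
  | add y₁ y₂ _ _ h₁ h₂ =>
    obtain ⟨s₁, rfl⟩ := h₁
    obtain ⟨s₂, rfl⟩ := h₂
    exact ⟨s₁ + s₂, map_add _ _ _⟩
  | smul c y _ h =>
    obtain ⟨s, rfl⟩ := h
    exact ⟨c • s, Scheme.Modules.Hom.app_smul _ _ _⟩

/-- sections in the global span restrict into the local span -/
theorem res_mem_span (M : X.Modules) {b : ℕ} (σ : Fin b → Γ(M, ⊤)) (V : X.Opens) (g : Γ(M, ⊤))
    (hg : g ∈ Submodule.span Γ(X, ⊤) (Set.range σ)) :
    M.presheaf.map (homOfLE (le_top : V ≤ ⊤)).op g ∈ Submodule.span Γ(X, V)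
      (Set.range fun j : Fin b => M.presheaf.map (homOfLE (le_top : V ≤ ⊤)).op (σ j)) := by
  induction hg using Submodule.span_induction with
  | mem y hy =>
    obtain ⟨j, rfl⟩ := hy
    exact Submodule.subset_span ⟨j, rfl⟩
  | zero =>
    rw [map_zero]
    exact Submodule.zero_mem _
  | add y₁ y₂ _ _ h₁ h₂ =>
    rw [map_add]
    exact Submodule.add_mem _ h₁ h₂
  | smul c y _ h =>
    rw [Groth.Agent.H8.res_smul]
    exact Submodule.smul_mem _ _ h

/-- finitely many global sections spanning `Γ(M, ⊤)` generate a globally generated module -/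
theorem epi_secMap (M : X.Modules) (hgg : Curv2.IsGloballyGenerated M) {b : ℕ}
    (σ : Fin b → Γ(M, ⊤)) (hσ : ∀ g : Γ(M, ⊤), g ∈ Submodule.span Γ(X, ⊤) (Set.range σ)) :
    Epi (secMap M σ) ∧ Function.Surjective ((secMap M σ).app ⊤) := by
  constructor
  · refine epi_of_locally _ fun U t x hxU => ?_
    obtain ⟨V, hV, hxV, hmem⟩ :=
      Groth.Agent.H18.GlobGenConv.ggAt_of_isGloballyGenerated M hgg x U t hxU
    refine ⟨V, hV, hxV, ?_⟩
    have hle : Submodule.span Γ(X, V)
        (Set.range fun g : Γ(M, ⊤) => M.presheaf.map (homOfLE (le_top : V ≤ ⊤)).op g) ≤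
        Submodule.span Γ(X, V)
          (Set.range fun j : Fin b => M.presheaf.map (homOfLE (le_top : V ≤ ⊤)).op (σ j)) := by
      rw [Submodule.span_le]
      rintro _ ⟨g, rfl⟩
      exact res_mem_span M σ V g (hσ g)
    exact span_le_range M σ V _ (hle hmem)
  · intro t
    have h1 := res_mem_span M σ ⊤ t (hσ t)
    obtain ⟨s, hs⟩ := span_le_range M σ ⊤ _ h1
    refine ⟨s, hs.trans ?_⟩
    have : (homOfLE (le_top : (⊤ : X.Opens) ≤ ⊤)).op = 𝟙 _ := rfl
    rw [this, CategoryTheory.Functor.map_id]
    rfl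

end General

section Pn

open Groth.Agent.H82.ProjFinite

/-- (a) a coherent globally generated module on `P^n_k` is generated by finitely many global sections
which also span its space of global sections -/
theorem exists_epi_surj (k : Type u) [Field k] (n : ℕ) (G : (CohB1.ProjSpace n k).Modules)
    (hG : Coh.IsCoh G) (hgg : Curv2.IsGloballyGenerated G) :
    ∃ (b : ℕ) (ψ : (∐ fun _ : Fin b => Coh.structureModule (CohB1.ProjSpace n k)) ⟶ G),
      Epi ψ ∧ Function.Surjective (ψ.app ⊤) := by
  have hfin : Module.Finite k (Coh.HH (CohB1.ProjSpace n k) G 0) := finite_HH n k G hG 0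
  obtain ⟨b, s, hs⟩ := Module.Finite.exists_fin (R := k) (M := Coh.HH (CohB1.ProjSpace n k) G 0)
  let σ : Fin b → Γ(G, ⊤) := fun j => e0 G (s j)
  refine ⟨b, secMap G σ, epi_secMap G hgg σ fun g => ?_⟩
  have hx : (e0 G).symm g ∈ Submodule.span k (Set.range s) := by rw [hs]; trivial
  have key : ∀ x ∈ Submodule.span k (Set.range s),
      e0 G x ∈ Submodule.span Γ(CohB1.ProjSpace n k, ⊤) (Set.range σ) := by
    intro x hx
    induction hx using Submodule.span_induction with
    | mem y hy =>
      obtain ⟨j, rfl⟩ := hy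
      exact Submodule.subset_span ⟨j, rfl⟩
    | zero =>
      rw [map_zero]
      exact Submodule.zero_mem _
    | add y₁ y₂ _ _ h₁ h₂ =>
      rw [map_add]
      exact Submodule.add_mem _ h₁ h₂
    | smul c y _ h =>
      have hc : c • y = (Coh.toGlobal (CohB1.ProjSpace n k ↘ Spec (CommRingCat.of k)) c) • y := rfl
      rw [hc, e0_smul]
      exact Submodule.smul_mem _ _ h
  have := key _ hx
  rwa [AddEquiv.apply_symm_apply] at this

end Pn

end Groth.Agent.H82.MumfordGen
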