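import Mathlib

/-!
# Monomial combinatorics for the top local cohomology of a polynomial ring

For `S = A[X_i : i ∈ σ]` (`σ` finite) we define `A`-linear maps `ψ n : S → S` ("reflection in the
box `[0,n)^σ`") whose kernel is the monomial ideal `(X_i ^ n)`, compatible with multiplication by
powers of `∏ X_i`, and jointly surjective.  Also: the variables form a weakly regular sequence.
-/

set_option autoImplicit false
set_option linter.unusedSectionVars false
set_option linter.unusedVariables false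

universe u

open MvPolynomial

namespace Groth.Agent.H82.MPN

variable {σ : Type} [Fintype σ] [DecidableEq σ] {A : Type u} [CommRing A]

/-- exponent vectors in the box `[0,n)^σ` -/
noncomputable def boxF (n : ℕ) : Finset (σ →₀ ℕ) :=
  (Fintype.piFinset fun _ : σ => Finset.range n).map Finsupp.equivFunOnFinite.symm.toEmbedding

theorem mem_boxF {n : ℕ} {k : σ →₀ ℕ} : k ∈ boxF n ↔ ∀ i, k i < n := by
  unfold boxF
  rw [Finset.mem_map_equiv, Fintype.mem_piFinset]
  simp only [Equiv.symm_symm, Finset.mem_range]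
  rfl

/-- reflection `k ↦ n - 1 - k` -/
noncomputable def refl (n : ℕ) (k : σ →₀ ℕ) : σ →₀ ℕ := Finsupp.equivFunOnFinite.symm fun i => n - 1 - k i

@[simp] theorem refl_apply (n : ℕ) (k : σ →₀ ℕ) (i : σ) : refl n k i = n - 1 - k i := rfl

theorem refl_mem {n : ℕ} {k : σ →₀ ℕ} (h : k ∈ boxF n) : refl n k ∈ boxF n := by
  rw [mem_boxF] at *
  intro i
  rw [refl_apply]
  have := h i
  omega

theorem refl_refl {n : ℕ} {k : σ →₀ ℕ} (h : k ∈ boxF n) : refl n (refl n k) = k := by
  ext i
  simp only [refl_apply]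
  have := (mem_boxF.1 h) i
  omega

/-- the reflection map on polynomials -/
noncomputable def ψ (n : ℕ) : MvPolynomial σ A →ₗ[A] MvPolynomial σ A :=
  ∑ k ∈ boxF n, (monomial k).comp (lcoeff A (refl n k))

theorem coeff_ψ (n : ℕ) (p : MvPolynomial σ A) (k : σ →₀ ℕ) :
    coeff k (ψ n p) = if k ∈ boxF n then coeff (refl n k) p else 0 := by
  unfold ψ
  rw [LinearMap.sum_apply, coeff_sum]
  simp only [LinearMap.comp_apply, coeff_monomial, lcoeff_apply]
  rw [Finset.sum_ite_eq']

theorem ψ_eq_zero_iff (n : ℕ) (p : MvPolynomial σ A) :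
    ψ n p = 0 ↔ ∀ e ∈ p.support, e ∉ boxF n := by
  constructor
  · intro h e he hb
    have h1 := coeff_ψ n p (refl n e)
    rw [h, coeff_zero, if_pos (refl_mem hb), refl_refl hb] at h1
    exact (mem_support_iff.1 he) h1.symm
  · intro h
    apply MvPolynomial.ext
    intro k
    rw [coeff_ψ, coeff_zero]
    split_ifs with hk
    · by_contra hne
      exact h _ (mem_support_iff.2 hne) (refl_mem hk)
    · rfl

theorem ψ_ψ (n : ℕ) (c : MvPolynomial σ A) (hc : ∀ e ∈ c.support, e ∈ boxF n) :
    ψ n (ψ n c) = c := by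
  apply MvPolynomial.ext
  intro k
  rw [coeff_ψ]
  split_ifs with hk
  · rw [coeff_ψ, if_pos (refl_mem hk), refl_refl hk]
  · by_contra hne
    exact hk (hc k (mem_support_iff.2 (Ne.symm hne)))

theorem exists_ψ (c : MvPolynomial σ A) : ∃ (n : ℕ) (p : MvPolynomial σ A), ψ n p = c := by
  refine ⟨(Finset.univ.sup fun i => degreeOf i c) + 1, ψ _ c, ψ_ψ _ c ?_⟩
  intro e he
  rw [mem_boxF]
  intro i
  have h1 := monomial_le_degreeOf i he
  have h2 : degreeOf i c ≤ Finset.univ.sup fun i => degreeOf i c :=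
    Finset.le_sup (f := fun i => degreeOf i c) (Finset.mem_univ i)
  omega

/-- the constant exponent vector -/
noncomputable def dvec (t : ℕ) : σ →₀ ℕ := Finsupp.equivFunOnFinite.symm fun _ => t

@[simp] theorem dvec_apply (t : ℕ) (i : σ) : (dvec t : σ →₀ ℕ) i = t := rfl

theorem prod_X_pow (t : ℕ) :
    (∏ i : σ, (X i : MvPolynomial σ A)) ^ t = monomial (dvec t) 1 := by
  have h1 : (∏ i : σ, (X i : MvPolynomial σ A)) = monomial (∑ i : σ, Finsupp.single i 1) 1 := by
    rw [monomial_sum_one]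
    rfl
  have h2 : t • ∑ i : σ, Finsupp.single i 1 = dvec t := by
    ext j
    rw [Finsupp.smul_apply, Finsupp.finsetSum_apply, dvec_apply]
    simp [Finsupp.single_apply]
  rw [h1, monomial_pow, one_pow, h2]

theorem ψ_monomial_mul (n m : ℕ) (h : n ≤ m) (p : MvPolynomial σ A) :
    ψ m (monomial (dvec (m - n)) 1 * p) = ψ n p := by
  apply MvPolynomial.ext
  intro k
  rw [coeff_ψ, coeff_ψ]
  by_cases hkm : k ∈ boxF m
  · rw [if_pos hkm, coeff_monomial_mul', one_mul]
    by_cases hkn : k ∈ boxF n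
    · rw [if_pos hkn]
      have hle : dvec (m - n) ≤ refl m k := by
        rw [Finsupp.le_def]
        intro i
        rw [dvec_apply, refl_apply]
        have := (mem_boxF.1 hkn) i
        omega
      rw [if_pos hle]
      congr 1
      ext i
      rw [Finsupp.tsub_apply, dvec_apply, refl_apply, refl_apply]
      have := (mem_boxF.1 hkn) i
      omega
    · rw [if_neg hkn]
      have hnle : ¬ dvec (m - n) ≤ refl m k := by
        rw [Finsupp.le_def]
        intro hall
        apply hkn
        rw [mem_boxF]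
        intro i
        have h1 := hall i
        rw [dvec_apply, refl_apply] at h1
        have := (mem_boxF.1 hkm) i
        omega
      rw [if_neg hnle]
  · rw [if_neg hkm]
    have hkn : k ∉ boxF n := by
      intro hkn
      apply hkm
      rw [mem_boxF] at *
      intro i
      have := hkn i
      omega
    rw [if_neg hkn]

section fin

variable (r : ℕ)

/-- the list of variables -/
noncomputable abbrev Xs : List (MvPolynomial (Fin (r + 1)) A) :=
  List.ofFn (fun j : Fin (r + 1) => (X j : MvPolynomial (Fin (r + 1)) A))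

theorem prod_Xs : (Xs (A := A) r).prod = ∏ i : Fin (r + 1), (X i : MvPolynomial (Fin (r + 1)) A) :=
  List.prod_ofFn

theorem ofList_Xs_pow (n : ℕ) :
    Ideal.ofList ((Xs (A := A) r).map (· ^ n)) =
      Ideal.span ((fun s => monomial s (1 : A)) ''
        (Set.range fun i : Fin (r + 1) => Finsupp.single i n)) := by
  show Ideal.span {y | y ∈ (Xs (A := A) r).map (· ^ n)} = _
  congr 1
  ext y
  simp only [Set.mem_ofPred_eq, List.mem_map, List.mem_ofFn, Set.mem_image, Set.mem_range,
    exists_exists_eq_and]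
  constructor
  · rintro ⟨i, rfl⟩
    exact ⟨i, (X_pow_eq_monomial).symm⟩
  · rintro ⟨i, rfl⟩
    exact ⟨i, X_pow_eq_monomial⟩

theorem mem_ofList_Xs_pow_iff (n : ℕ) (p : MvPolynomial (Fin (r + 1)) A) :
    p ∈ Ideal.ofList ((Xs (A := A) r).map (· ^ n)) ↔ ψ n p = 0 := by
  rw [ofList_Xs_pow, mem_ideal_span_monomial_image, ψ_eq_zero_iff]
  refine forall₂_congr fun e he => ?_
  rw [mem_boxF]
  constructor
  · rintro ⟨_, ⟨i, rfl⟩, hi⟩ hall
    rw [Finsupp.single_le_iff] at hi
    have := hall i
    omega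
  · intro hne
    push Not at hne
    obtain ⟨i, hi⟩ := hne
    exact ⟨_, ⟨i, rfl⟩, Finsupp.single_le_iff.2 hi⟩

theorem ψ_prod_mul (n m : ℕ) (h : n ≤ m) (p : MvPolynomial (Fin (r + 1)) A) :
    ψ m ((Xs (A := A) r).prod ^ (m - n) * p) = ψ n p := by
  rw [prod_Xs, prod_X_pow, ψ_monomial_mul n m h]

theorem Xs_take_eq (s : ℕ) :
    Ideal.ofList ((Xs (A := A) r).take s) =
      Ideal.span (X '' {i : Fin (r + 1) | i.val < s}) := by
  show Ideal.span {y | y ∈ (Xs (A := A) r).take s} = _
  congr 1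
  ext y
  rw [Set.mem_ofPred_eq, List.mem_take_iff_getElem]
  constructor
  · rintro ⟨n, hn, rfl⟩
    have hn' := lt_min_iff.1 hn
    rw [List.length_ofFn] at hn'
    refine ⟨⟨n, hn'.2⟩, hn'.1, ?_⟩
    rw [List.getElem_ofFn]
  · rintro ⟨i, hi, rfl⟩
    have hi' : i.val < s := hi
    refine ⟨i.val, lt_min_iff.2 ⟨hi', ?_⟩, ?_⟩
    · rw [List.length_ofFn]
      exact i.isLt
    · rw [List.getElem_ofFn]

theorem Xs_isWeaklyRegular :
    RingTheory.Sequence.IsWeaklyRegular (MvPolynomial (Fin (r + 1)) A) (Xs (A := A) r) := by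
  classical
  refine ⟨fun s hs => ?_⟩
  have hs' : s < r + 1 := by
    rw [List.length_ofFn] at hs
    exact hs
  rw [isSMulRegular_quotient_iff_mem_of_smul_mem]
  have hset : Ideal.ofList ((Xs (A := A) r).take s) •
        (⊤ : Submodule (MvPolynomial (Fin (r + 1)) A) (MvPolynomial (Fin (r + 1)) A)) =
      Ideal.span (X '' {i : Fin (r + 1) | i.val < s}) := by
    rw [smul_eq_mul, Ideal.mul_top]
    exact Xs_take_eq r s
  have hget : (Xs (A := A) r)[s] = X ⟨s, hs'⟩ := by
    rw [List.getElem_ofFn]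
  rw [hset, hget]
  intro p hp
  rw [smul_eq_mul, mem_ideal_span_X_image] at hp
  rw [mem_ideal_span_X_image]
  intro m hm
  have hm' : Finsupp.single (⟨s, hs'⟩ : Fin (r + 1)) 1 + m ∈
      (X (⟨s, hs'⟩ : Fin (r + 1)) * p).support := by
    rw [mem_support_iff, coeff_X_mul]
    exact mem_support_iff.1 hm
  obtain ⟨i, hi, hne⟩ := hp _ hm'
  refine ⟨i, hi, ?_⟩
  have his : i ≠ (⟨s, hs'⟩ : Fin (r + 1)) := by
    intro h
    rw [h] at hi
    exact lt_irrefl _ (show s < s from hi)
  rw [Finsupp.add_apply, Finsupp.single_eq_of_ne his, zero_add] at hne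
  exact hne

end fin

end Groth.Agent.H82.MPN
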