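import Mathlib
import Groth.Agent.H82.ProjSerre
import Groth.Agent.H22.PullGen
import Groth.Agent.H53.ProjFormula
import Groth.Agent.S0012
import Groth.Agent.S0019

/-!
# Serre vanishing on closed subschemes of projective space over a Noetherian ring
-/

set_option autoImplicit false
set_option linter.unusedSectionVars false
set_option linter.unusedVariables false
set_option linter.style.haveILetI false

universe u

open CategoryTheory CategoryTheory.Limits Opposite TopologicalSpace AlgebraicGeometry

namespace Groth.Agent.H82.ProjClosed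

open Groth.Agent.H82.ProjSerre Groth.Agent.H82.ProjFinite Groth.Agent.H82.ProjCoh

/-- transfer of vanishing of cohomology along an affine morphism and the projection formula -/
theorem subsingleton_HH_tensor_pullback {X Y : Scheme.{u}} (i : X ⟶ Y) [IsAffineHom i]
    (F : X.Modules) [hFq : F.IsQuasicoherent] (L : Y.Modules) (hL : PicF.IsInvertible L) (j : ℕ)
    (h : Subsingleton (Coh.HH Y (CohB1.tensorMod ((Coh.push i).obj F) L) j)) :
    Subsingleton (Coh.HH X (CohB1.tensorMod F ((Scheme.Modules.pullback i).obj L)) j) := by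
  have hL' : PicF.IsInvertible ((Scheme.Modules.pullback i).obj L) :=
    Groth.Agent.H22.PullGen.isInvertible_pullback i hL
  obtain ⟨e1⟩ := Groth.Agent.H18.AmpleTwistGG.nonempty_tensorMod_comm F
    ((Scheme.Modules.pullback i).obj L)
  obtain ⟨e2⟩ := Groth.Agent.H18.AmpleTwistGG.nonempty_tensorMod_comm L ((Coh.push i).obj F)
  have hLf : FlatMod.IsFinLocFree L := Groth.Agent.H8.isFinLocFree_of_isInvertible hL
  let e3 : CohB1.tensorMod L ((Coh.push i).obj F) ≅
      (Coh.push i).obj (CohB1.tensorMod ((Scheme.Modules.pullback i).obj L) F) :=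
    (Groth.Agent.H53.ProjFormula.pfIso i L hLf).app F
  haveI hq1 : (CohB1.tensorMod F ((Scheme.Modules.pullback i).obj L)).IsQuasicoherent :=
    Groth.Agent.H18.TensorCoh.isQuasicoherent_tensorMod F _ hL'
  haveI hq2 : Coh.IsQCoh (CohB1.tensorMod ((Scheme.Modules.pullback i).obj L) F) :=
    Groth.Agent.H22.QCohLimits.isQuasicoherent_of_iso e1
  obtain ⟨E⟩ := Groth.Agent.S0012.result i
    (CohB1.tensorMod ((Scheme.Modules.pullback i).obj L) F) j
  have h1 : Subsingleton (Coh.HH Y (CohB1.tensorMod L ((Coh.push i).obj F)) j) :=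
    subsingleton_HH_of_iso e2.symm j h
  have h2 : Subsingleton (Coh.HH Y
      ((Coh.push i).obj (CohB1.tensorMod ((Scheme.Modules.pullback i).obj L) F)) j) :=
    subsingleton_HH_of_iso e3 j h1
  have h3 : Subsingleton (Coh.HH X (CohB1.tensorMod ((Scheme.Modules.pullback i).obj L) F) j) :=
    E.toEquiv.subsingleton
  exact subsingleton_HH_of_iso e1.symm j h3

/-- Serre vanishing on a closed subscheme of projective space over a Noetherian ring -/
theorem serre_vanishing_closed (A : Type u) [CommRing A] [IsNoetherianRing A] (r : ℕ)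
    {X : Scheme.{u}} (i : X ⟶ CohB1.ProjSpace r A) [IsClosedImmersion i]
    (F : X.Modules) (hF : Coh.IsCoh F) :
    ∃ N : ℤ, ∀ n : ℤ, N ≤ n → ∀ j : ℕ, 1 ≤ j →
      Subsingleton (Coh.HH X (CohB1.tensorMod F
        ((Scheme.Modules.pullback i).obj (Twist.twistProjSpace r A n))) j) := by
  haveI := isLocallyNoetherian r A
  haveI : F.IsQuasicoherent := hF.1
  have hpush : Coh.IsCoh ((Coh.push i).obj F) := Groth.Agent.S0019.result i F hF
  obtain ⟨N, hN⟩ := serre_vanishing r A ((Coh.push i).obj F) hpush
  refine ⟨N, fun n hn j hj => ?_⟩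
  exact subsingleton_HH_tensor_pullback i F (Twist.twistProjSpace r A n) (isInvertible_Fd r A n) j
    (hN n hn j hj)

end Groth.Agent.H82.ProjClosed
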