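import Mathlib
import Groth.Prelude.Def_Wider
import Groth.Prelude.Def_Coh
import Groth.Prelude.Def_FlatMod2
import Groth.Agent.H8.LocFreeNearFinite
import Groth.Agent.H82.LocHomAB
import Groth.Agent.H82.HHAction

/-!
# Annihilators of the cohomology of finite locally free modules on a punctured spectrum
-/

set_option autoImplicit false
set_option linter.unusedSectionVars false
set_option linter.unusedVariables false
set_option linter.style.haveILetI false

universe u

open CategoryTheory CategoryTheory.Limits AlgebraicGeometry TopologicalSpace Opposite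
open AlgebraicGeometry.Scheme.Modules
open Groth.Agent.H8 Groth.Agent.H82.LFG Groth.Agent.H82.HHA

namespace Groth.Agent.H82.PAnn

variable (A : Type u) [CommRing A] (U : (Spec (CommRingCat.of A)).Opens)

/-- the ring map `A → Γ(U, O_U)` -/
noncomputable abbrev ρ : A →+* Coh.Γtop (↑U : Scheme.{u}) := Coh.toGlobal U.ι

theorem over_eq : ((↑U : Scheme.{u}) ↘ Spec (CommRingCat.of A)) = U.ι := rfl

theorem smulA_def (M : (↑U : Scheme.{u}).Modules) (n : ℕ) (a : A) (x : Coh.HH (↑U) M n) :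
    a • x = ρ A U a • x := rfl

theorem basicOpen_eq (f : A) :
    (↑U : Scheme.{u}).basicOpen (ρ A U f) = U.ι ⁻¹ᵁ (PrimeSpectrum.basicOpen f) := by
  have h := Scheme.preimage_basicOpen_top U.ι ((Scheme.ΓSpecIso (CommRingCat.of A)).inv f)
  rw [basicOpen_eq_of_affine] at h
  exact h.symm

theorem mem_basicOpen_iff (f : A) (y : (↑U : Scheme.{u})) :
    y ∈ (↑U : Scheme.{u}).basicOpen (ρ A U f) ↔ f ∉ (U.ι y).asIdeal := by
  rw [basicOpen_eq]
  rfl

theorem exists_basicOpen_le (y : (↑U : Scheme.{u})) (V : (↑U : Scheme.{u}).Opens) (hy : y ∈ V) :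
    ∃ f : A, y ∈ (↑U : Scheme.{u}).basicOpen (ρ A U f) ∧
      (↑U : Scheme.{u}).basicOpen (ρ A U f) ≤ V := by
  have h1 : U.ι y ∈ U.ι ''ᵁ V := ⟨y, hy, rfl⟩
  obtain ⟨_, ⟨f, rfl⟩, hyf, hfV⟩ :=
    Opens.isBasis_iff_nbhd.1 (PrimeSpectrum.isBasis_basic_opens (R := A)) h1
  refine ⟨f, ?_, ?_⟩
  · rw [basicOpen_eq]
    exact hyf
  · rw [basicOpen_eq]
    intro z hz
    obtain ⟨v, hv, hvz⟩ := hfV hz
    have : v = z := U.ι.isOpenEmbedding.injective hvz
    rw [← this]
    exact hv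


section main

variable {A}
variable (J I : Ideal A) (hJI : J ≤ I) (hI : I.FG) (p n : ℕ)

include hJI hI in
theorem exists_pow_annihilates
    (hO : ∀ a ∈ J ^ n, ∀ x : Coh.HH (↑(LocCoh.puncturedOpen A I))
      (Coh.structureModule (↑(LocCoh.puncturedOpen A I))) p, a • x = 0)
    (F : (↑(LocCoh.puncturedOpen A I) : Scheme.{u}).Modules) (hF : FlatMod.IsFinLocFree F) :
    ∃ m : ℕ, ∀ a ∈ J ^ m, ∀ x : Coh.HH (↑(LocCoh.puncturedOpen A I)) F p, a • x = 0 := by
  classical
  let U : (Spec (CommRingCat.of A)).Opens := LocCoh.puncturedOpen A I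
  let Y : Scheme.{u} := ↑U
  have hUc : IsCompact (U : Set (Spec (CommRingCat.of A))) :=
    (PrimeSpectrum.isCompact_isOpen_iff_ideal.mpr ⟨I, hI, rfl⟩).1
  haveI : CompactSpace Y := isCompact_iff_compactSpace.mp hUc
  haveI : QuasiSeparatedSpace Y := (U.ι.isOpenEmbedding).quasiSeparatedSpace
  haveI : F.IsQuasicoherent := isQuasicoherent_of_isFinLocFree F hF
  -- local trivialisations on basic opens
  have hloc : ∀ y : Y, ∃ (f : A) (r : ℕ), y ∈ Y.basicOpen (ρ A U f) ∧
      Nonempty (F.restrict (Y.basicOpen (ρ A U f)).ι ≅ FlatMod.freeMod (↑(Y.basicOpen (ρ A U f))) r) := by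
    intro y
    obtain ⟨V, r, hyV, ⟨e⟩⟩ := hF y
    obtain ⟨f, hyf, hfV⟩ := exists_basicOpen_le A U y V hyV
    exact ⟨f, r, hyf, nonempty_restrict_iso_freeMod_of_le F hfV r e⟩
  choose f r hy he using hloc
  obtain ⟨t, ht⟩ := isCompact_univ.elim_finite_subcover
    (fun y : Y => ((Y.basicOpen (ρ A U (f y)) : Y.Opens) : Set Y))
    (fun y => (Y.basicOpen (ρ A U (f y))).2)
    (fun y _ => Set.mem_iUnion.2 ⟨y, hy y⟩)
  let k := t.card
  let e : Fin k ≃ t := t.equivFin.symm
  let W : Fin k → Y.Opens := fun i => Y.basicOpen (ρ A U (f (e i)))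
  have hW : ∀ y : Y, ∃ i, y ∈ W i := by
    intro y
    have h1 := ht (Set.mem_univ y)
    simp only [Set.mem_iUnion] at h1
    obtain ⟨z, hz, hyz⟩ := h1
    exact ⟨e.symm ⟨z, hz⟩, by
      show y ∈ Y.basicOpen (ρ A U (f (e (e.symm ⟨z, hz⟩))))
      rw [Equiv.apply_symm_apply]
      exact hyz⟩
  have hWc : ∀ i, IsCompact (W i : Set Y) := fun i => by
    refine isCompact_basicOpen Y (U := ⊤) ?_ _
    rw [Opens.coe_top]
    exact isCompact_univ
  have hbas : ∀ i, ∃ s : Fin (r (e i)) → Γ(F, W i), IsBasisOn F (W i) s := fun i =>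
    exists_isBasisOn F (he (e i)).some
  choose s hs using hbas
  -- the key annihilation statement for each member of the cover
  have hkey : ∀ i0 : Fin k, ∃ N : ℕ, ∀ c ∈ J ^ n, ∀ x : Coh.HH Y F p,
      (c * f (e i0) ^ N) • x = 0 := by
    intro i0
    obtain ⟨N, a, b, hab⟩ := exists_ab F (ρ A U (f (e i0))) W hWc hW (fun i => r (e i)) s hs
      (s i0) (hs i0)
    refine ⟨N, fun c hc x => ?_⟩
    rw [smulA_def, map_mul, map_pow, mul_smul]
    have h1 : ρ A U (f (e i0)) ^ N • x =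
        Sheaf.H.map (abMap a) p (Sheaf.H.map (abMap b) p x) := by
      refine smul_eq_of_comp a b _ (fun V z => ?_) p x
      rw [hab V z, ← gres_pow]
      rfl
    rw [h1, ← HHA.map_smul]
    have h2 : ρ A U c • Sheaf.H.map (abMap b) p x = 0 :=
      smul_eq_zero_freeMod _ p (ρ A U c) (fun z => hO c hc z) _
    rw [h2, _root_.map_zero]
  choose N hN using hkey
  -- the radical argument
  let 𝔟 : Ideal A := Ideal.span (Set.range fun i : Fin k => f (e i) ^ N i)
  have hrad : I ≤ 𝔟.radical := by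
    rw [Ideal.radical_eq_sInf]
    refine le_sInf ?_
    rintro 𝔭 ⟨h𝔟, h𝔭⟩
    by_contra hI𝔭
    have hmem : (⟨𝔭, h𝔭⟩ : PrimeSpectrum A) ∈ U := by
      show (⟨𝔭, h𝔭⟩ : PrimeSpectrum A) ∈ (PrimeSpectrum.zeroLocus (I : Set A))ᶜ
      rw [Set.mem_compl_iff, PrimeSpectrum.mem_zeroLocus]
      exact hI𝔭
    let y : Y := ⟨⟨𝔭, h𝔭⟩, hmem⟩
    obtain ⟨i, hi⟩ := hW y
    have h3 := (mem_basicOpen_iff A U (f (e i)) y).1 hi
    apply h3
    have h4 : f (e i) ^ N i ∈ 𝔭 := h𝔟 (Ideal.subset_span ⟨i, rfl⟩)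
    exact h𝔭.mem_of_pow_mem _ h4
  obtain ⟨q, hq⟩ := Ideal.exists_pow_le_of_le_radical_of_fg hrad hI
  refine ⟨n + q, fun a ha x => ?_⟩
  have hmul : J ^ (n + q) ≤ J ^ n * 𝔟 := by
    rw [pow_add]
    exact Ideal.mul_mono_right ((Ideal.pow_right_mono hJI q).trans hq)
  have hann : ∀ z ∈ J ^ n * 𝔟, ∀ x : Coh.HH Y F p, z • x = 0 := by
    intro z hz
    refine Submodule.mul_induction_on hz ?_ ?_
    · intro c hc w hw x
      induction hw using Submodule.span_induction generalizing x with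
      | mem w hw' =>
        obtain ⟨i, rfl⟩ := hw'
        exact hN i c hc x
      | zero => rw [mul_zero, zero_smul]
      | add w w' _ _ h1 h2 => rw [mul_add, add_smul, h1, h2, add_zero]
      | smul v w _ h1 =>
        rw [smul_eq_mul, ← mul_assoc, mul_comm c v, mul_assoc, mul_smul, h1, smul_zero]
    · intro z z' h1 h2 x
      rw [add_smul, h1, h2, add_zero]
  exact hann a (hmul ha) x

end main

end Groth.Agent.H82.PAnn
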