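import Mathlib
import Groth.Prelude.Def_RDerDelta
import Groth.Agent.H82.RDerHorseshoe

set_option linter.unusedSectionVars false
set_option linter.unusedVariables false
set_option linter.style.haveILetI false
set_option backward.isDefEq.respectTransparency false

universe v u v' u'

open CategoryTheory CategoryTheory.Limits

namespace Groth.Agent.H82.RDerLES

variable {C : Type u} [Category.{v} C] [Abelian C] {D : Type u'} [Category.{v'} D] [Abelian D]
variable [EnoughInjectives C] (F : C ⥤ D) [F.Additive]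

/-- `R⁰F` sends the first map of a short exact sequence to a monomorphism. -/
theorem mono_rightDerived_zero_map_f {S : ShortComplex C} (hS : S.ShortExact) :
    Mono ((F.rightDerived 0).map S.f) := by
  obtain ⟨T⟩ := nonempty_sesRes hS
  have h := map_f_iso F T 0
  have hm0 : Mono (((F.mapHomologicalComplex (ComplexShape.up ℕ)).map T.f).f 0) :=
    ((T.splitting 0).map F).shortExact.mono_f
  have hm : Mono ((HomologicalComplex.homologyFunctor D _ 0).map
      ((F.mapHomologicalComplex (ComplexShape.up ℕ)).map T.f)) :=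
    HomologicalComplex.mono_homologyMap_of_mono_of_not_rel _ 0 (by intro i; simp)
  have : Mono ((F.rightDerived 0).map S.f ≫ (T.I₂.isoRightDerivedObj F 0).hom) := by
    rw [h]; infer_instance
  exact mono_of_mono _ (T.I₂.isoRightDerivedObj F 0).hom

/-- `R⁰F` is left exact. -/
theorem preservesFiniteLimits_rightDerived_zero : PreservesFiniteLimits (F.rightDerived 0) := by
  refine ((F.rightDerived 0).preservesFiniteLimits_tfae.out 0 3).1 ?_
  intro S hS
  exact ⟨(derivedLES F).exact₂ S hS 0, mono_rightDerived_zero_map_f F hS⟩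

section Acyclic

variable [PreservesFiniteLimits F] {S : ShortComplex C} (hS : S.ShortExact)

theorem epi_rightDerived_zero_map_iff {X Y : C} (g : X ⟶ Y) :
    Epi ((F.rightDerived 0).map g) ↔ Epi (F.map g) := by
  have nat : F.map g ≫ F.toRightDerivedZero.app Y =
      F.toRightDerivedZero.app X ≫ (F.rightDerived 0).map g := F.toRightDerivedZero.naturality g
  constructor
  · intro h
    have : Epi (F.map g ≫ F.toRightDerivedZero.app Y) := by rw [nat]; infer_instance
    have e : F.map g = (F.map g ≫ F.toRightDerivedZero.app Y) ≫ inv (F.toRightDerivedZero.app Y) := by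
      simp
    rw [e]; infer_instance
  · intro h
    have : Epi (F.toRightDerivedZero.app X ≫ (F.rightDerived 0).map g) := by rw [← nat]; infer_instance
    have e : (F.rightDerived 0).map g = inv (F.toRightDerivedZero.app X) ≫
        (F.toRightDerivedZero.app X ≫ (F.rightDerived 0).map g) := by simp
    rw [e]; infer_instance

include hS in
theorem shortExact_map_of_epi (h : Epi (F.map S.g)) : (S.map F).ShortExact := by
  have hex : (S.map F).Exact ∧ Mono (F.map S.f) := by
    have h30 := F.preservesFiniteLimits_tfae.out 3 0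
    exact h30.1 inferInstance S hS
  exact ShortComplex.ShortExact.mk' hex.1 hex.2 h

include hS in
theorem epi_map_g_of_isZero (h : IsZero ((F.rightDerived 1).obj S.X₁)) : Epi (F.map S.g) := by
  rw [← epi_rightDerived_zero_map_iff]
  exact ((derivedLES F).exact₃ S hS 0 1 rfl).epi_f (h.eq_of_tgt _ _)

include hS in
theorem acyclic_main :
    ((∀ i : ℕ, 0 < i → IsZero ((F.rightDerived i).obj S.X₁)) →
      (∀ i : ℕ, 0 < i → IsZero ((F.rightDerived i).obj S.X₃)) →
      (∀ i : ℕ, 0 < i → IsZero ((F.rightDerived i).obj S.X₂)) ∧ (S.map F).ShortExact) ∧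
    ((∀ i : ℕ, 0 < i → IsZero ((F.rightDerived i).obj S.X₁)) →
      (∀ i : ℕ, 0 < i → IsZero ((F.rightDerived i).obj S.X₂)) →
      (∀ i : ℕ, 0 < i → IsZero ((F.rightDerived i).obj S.X₃)) ∧ (S.map F).ShortExact) ∧
    ((∀ i : ℕ, 0 < i → IsZero ((F.rightDerived i).obj S.X₂)) →
      (∀ i : ℕ, 0 < i → IsZero ((F.rightDerived i).obj S.X₃)) →
      Epi (F.map S.g) → (∀ i : ℕ, 0 < i → IsZero ((F.rightDerived i).obj S.X₁)) ∧
        (S.map F).ShortExact) := by
  refine ⟨fun h₁ h₃ => ⟨fun i hi => ?_, ?_⟩, fun h₁ h₂ => ⟨fun i hi => ?_, ?_⟩,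
    fun h₂ h₃ hg => ⟨fun i hi => ?_, shortExact_map_of_epi F hS hg⟩⟩
  · exact ((derivedLES F).exact₂ S hS i).isZero_X₂ ((h₁ i hi).eq_of_src _ _)
      ((h₃ i hi).eq_of_tgt _ _)
  · exact shortExact_map_of_epi F hS (epi_map_g_of_isZero F hS (h₁ 1 Nat.one_pos))
  · exact ((derivedLES F).exact₃ S hS i (i + 1) rfl).isZero_X₂ ((h₂ i hi).eq_of_src _ _)
      ((h₁ (i + 1) (Nat.succ_pos i)).eq_of_tgt _ _)
  · exact shortExact_map_of_epi F hS (epi_map_g_of_isZero F hS (h₁ 1 Nat.one_pos))
  · obtain ⟨k, rfl⟩ : ∃ k, i = k + 1 := Nat.exists_eq_succ_of_ne_zero hi.ne'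
    cases k with
    | zero =>
      have hg' : Epi ((F.rightDerived 0).map S.g) := (epi_rightDerived_zero_map_iff F S.g).2 hg
      have h0 : (derivedLES F).δ S hS 0 1 rfl = 0 := by
        rw [← cancel_epi ((F.rightDerived 0).map S.g), (derivedLES F).comp_δ S hS 0 1 rfl, comp_zero]
      have he : Epi ((derivedLES F).δ S hS 0 1 rfl) :=
        ((derivedLES F).exact₁ S hS 0 1 rfl).epi_f ((h₂ 1 Nat.one_pos).eq_of_tgt _ _)
      exact IsZero.of_epi_eq_zero _ h0
    | succ k =>
      exact ((derivedLES F).exact₁ S hS (k + 1) (k + 1 + 1) rfl).isZero_X₂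
        ((h₃ (k + 1) (Nat.succ_pos k)).eq_of_src _ _)
        ((h₂ (k + 1 + 1) (Nat.succ_pos _)).eq_of_tgt _ _)

end Acyclic

end Groth.Agent.H82.RDerLES
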