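import Mathlib
import Groth.Agent.H82.TorColim
import Groth.Agent.H82.TorFlat

set_option linter.unusedSectionVars false
set_option linter.unusedVariables false
set_option linter.style.haveILetI false
set_option backward.isDefEq.respectTransparency false

universe u

open CategoryTheory CategoryTheory.Limits MonoidalCategory
open scoped TensorProduct

namespace Groth.Agent.H82.TorNat

open Groth.Agent.H82.LDer Groth.Agent.H82.TorLib Groth.Agent.H82

section Bridge

variable {R : Type u} [CommRing R]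

theorem iso_inv_hom_apply {X Y : ModuleCat.{u} R} (e : X ≅ Y) (v : X) :
    e.inv (e.hom v) = v := by
  have h := FiltColim.app_congr e.hom_inv_id v
  exact h

/-- If `Tor₁(N, φ.τ₃) = 0` then `N ⊗ φ.τ₁` kills the kernel of `N ⊗ S.f`. -/
theorem whisker_kills (Nc : ModuleCat.{u} R) {S S' : ShortComplex (ModuleCat.{u} R)}
    (hS : S.ShortExact) (hS' : S'.ShortExact) (φ : S ⟶ S')
    (h0 : ((Tor (ModuleCat.{u} R) 1).obj Nc).map φ.τ₃ = 0)
    (z : (Nc ⊗ S.X₁ : ModuleCat.{u} R)) (hz : (Nc ◁ S.f) z = 0) : (Nc ◁ φ.τ₁) z = 0 := by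
  let t := TorColim.natLES_tor Nc
  let e0 : (Tor (ModuleCat.{u} R) 0).obj Nc ≅ tensorLeft Nc :=
    (tensorLeft Nc).leftDerivedZeroIsoSelf
  have hnat : t.δ S hS 0 ≫ ((Tor (ModuleCat.{u} R) 0).obj Nc).map φ.τ₁ =
      ((Tor (ModuleCat.{u} R) 1).obj Nc).map φ.τ₃ ≫ t.δ S' hS' 0 := t.δ_nat φ hS hS' 0
  rw [h0, Limits.zero_comp] at hnat
  have hex := t.exact₁ S hS 0
  rw [ShortComplex.moduleCat_exact_iff] at hex
  have hz₀ : ((Tor (ModuleCat.{u} R) 0).obj Nc).map S.f ((e0.inv.app S.X₁) z) = 0 := by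
    have hn := FiltColim.app_congr (e0.inv.naturality S.f) z
    rw [FiltColim.app_comp, FiltColim.app_comp] at hn
    rw [← hn]
    have hz2 : ((tensorLeft Nc).map S.f) z = 0 := hz
    rw [hz2, map_zero]
  obtain ⟨w, hw⟩ := hex ((e0.inv.app S.X₁) z) hz₀
  have h1 : ((Tor (ModuleCat.{u} R) 0).obj Nc).map φ.τ₁ ((e0.inv.app S.X₁) z) = 0 := by
    have h2 := FiltColim.app_congr hnat w
    rw [FiltColim.app_comp] at h2
    have hw' : (t.δ S hS 0) w = (e0.inv.app S.X₁) z := hw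
    rw [hw'] at h2
    exact h2
  have hn2 := FiltColim.app_congr (e0.hom.naturality φ.τ₁) ((e0.inv.app S.X₁) z)
  rw [FiltColim.app_comp, FiltColim.app_comp] at hn2
  have hzz : (e0.hom.app S.X₁) ((e0.inv.app S.X₁) z) = z := by
    rw [← FiltColim.app_comp, Iso.inv_hom_id_app]
    rfl
  rw [h1, map_zero, hzz] at hn2
  exact hn2.symm

/-- Conversely, if `Tor₁(N, S'.X₂) = 0` and `N ⊗ φ.τ₁` kills the kernel of `N ⊗ S.f`, then
`Tor₁(N, φ.τ₃) = 0`. -/
theorem tor_map_zero_of_whisker (Nc : ModuleCat.{u} R) {S S' : ShortComplex (ModuleCat.{u} R)}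
    (hS : S.ShortExact) (hS' : S'.ShortExact) (φ : S ⟶ S')
    (hproj : IsZero (((Tor (ModuleCat.{u} R) 1).obj Nc).obj S'.X₂))
    (H : ∀ z : (Nc ⊗ S.X₁ : ModuleCat.{u} R), (Nc ◁ S.f) z = 0 → (Nc ◁ φ.τ₁) z = 0) :
    ((Tor (ModuleCat.{u} R) 1).obj Nc).map φ.τ₃ = 0 := by
  let t := TorColim.natLES_tor Nc
  let e0 : (Tor (ModuleCat.{u} R) 0).obj Nc ≅ tensorLeft Nc :=
    (tensorLeft Nc).leftDerivedZeroIsoSelf
  have hnat : t.δ S hS 0 ≫ ((Tor (ModuleCat.{u} R) 0).obj Nc).map φ.τ₁ =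
      ((Tor (ModuleCat.{u} R) 1).obj Nc).map φ.τ₃ ≫ t.δ S' hS' 0 := t.δ_nat φ hS hS' 0
  have hmono : Mono (t.δ S' hS' 0) := (t.exact₃ S' hS' 0).mono_g (hproj.eq_of_src _ _)
  have hzero : t.δ S hS 0 ≫ ((Tor (ModuleCat.{u} R) 0).obj Nc).map φ.τ₁ = 0 := by
    refine ModuleCat.hom_ext (LinearMap.ext fun x => ?_)
    show (((Tor (ModuleCat.{u} R) 0).obj Nc).map φ.τ₁) ((t.δ S hS 0) x) = 0
    have hy : ((Tor (ModuleCat.{u} R) 0).obj Nc).map S.f ((t.δ S hS 0) x) = 0 :=
      FiltColim.app_congr (t.δ_map S hS 0) x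
    have h1 : (Nc ◁ S.f) ((e0.hom.app S.X₁) ((t.δ S hS 0) x)) = 0 := by
      have hn := FiltColim.app_congr (e0.hom.naturality S.f) ((t.δ S hS 0) x)
      rw [FiltColim.app_comp, FiltColim.app_comp] at hn
      have hn' : (Nc ◁ S.f) ((e0.hom.app S.X₁) ((t.δ S hS 0) x)) =
          (e0.hom.app S.X₂) (((Tor (ModuleCat.{u} R) 0).obj Nc).map S.f ((t.δ S hS 0) x)) :=
        hn.symm
      rw [hn', hy, map_zero]
    have h2 := H _ h1
    have hn2 := FiltColim.app_congr (e0.hom.naturality φ.τ₁) ((t.δ S hS 0) x)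
    rw [FiltColim.app_comp, FiltColim.app_comp] at hn2
    have hn2' : (e0.hom.app S'.X₁)
        (((Tor (ModuleCat.{u} R) 0).obj Nc).map φ.τ₁ ((t.δ S hS 0) x)) =
        (Nc ◁ φ.τ₁) ((e0.hom.app S.X₁) ((t.δ S hS 0) x)) := hn2
    rw [h2] at hn2'
    have hback := iso_inv_hom_apply (e0.app S'.X₁)
      (((Tor (ModuleCat.{u} R) 0).obj Nc).map φ.τ₁ ((t.δ S hS 0) x))
    have hn3 : (e0.app S'.X₁).hom
        (((Tor (ModuleCat.{u} R) 0).obj Nc).map φ.τ₁ ((t.δ S hS 0) x)) = 0 := hn2'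
    rw [hn3, map_zero] at hback
    exact hback.symm
  rw [hzero] at hnat
  exact (cancel_mono (t.δ S' hS' 0)).1 (by rw [← hnat, zero_comp])

end Bridge

section ArtinRees

variable {R : Type u} [CommRing R] [IsNoetherianRing R] (I : Ideal R)
  (M : Type u) [AddCommGroup M] [Module R M] [Module.Finite R M]

/-- Artin–Rees: the kernel of `M ⊗ I^m → M ⊗ R` dies in `M ⊗ I^n` for `m ≫ n`. -/
theorem exists_pow_kernel_dies (n : ℕ) : ∃ m : ℕ, n ≤ m ∧ ∀ h : I ^ m ≤ I ^ n,
    ∀ z : M ⊗[R] ↥(I ^ m), LinearMap.lTensor M (Submodule.subtype (I ^ m)) z = 0 →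
      LinearMap.lTensor M (Submodule.inclusion h) z = 0 := by
  obtain ⟨r, π, hπ⟩ := Module.Finite.exists_fin' R M
  let K : Submodule R (Fin r → R) := LinearMap.ker π
  obtain ⟨c, hc⟩ := Ideal.exists_pow_inf_eq_pow_smul I K
  refine ⟨n + c, Nat.le_add_right n c, fun h z hz => ?_⟩
  have hAR : (I ^ (n + c) • ⊤ ⊓ K : Submodule R (Fin r → R)) ≤ I ^ n • K := by
    rw [hc (n + c) (Nat.le_add_left c n), Nat.add_sub_cancel]
    exact Submodule.smul_mono le_rfl inf_le_right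
  obtain ⟨zt, hzt⟩ := LinearMap.rTensor_surjective (↥(I ^ (n + c))) hπ z
  -- the image of `zt` in `F`
  have hgen : ∀ v : (Fin r → R) ⊗[R] R, π (TensorProduct.rid R (Fin r → R) v) =
      TensorProduct.rid R M (LinearMap.rTensor R π v) := by
    intro v
    induction v using TensorProduct.induction_on with
    | zero => simp
    | tmul f a => simp
    | add a b ha hb => simp only [map_add, ha, hb]
  obtain ⟨y, hydef⟩ : ∃ y : Fin r → R, y = TensorProduct.rid R (Fin r → R)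
    (LinearMap.lTensor (Fin r → R) (Submodule.subtype (I ^ (n + c))) zt) := ⟨_, rfl⟩
  have hyK : y ∈ K := by
    rw [LinearMap.mem_ker, hydef, hgen, ← LinearMap.comp_apply, LinearMap.rTensor_comp_lTensor,
      ← LinearMap.lTensor_comp_rTensor, LinearMap.comp_apply, hzt, hz, map_zero]
  have hyI : y ∈ (I ^ (n + c) • ⊤ : Submodule R (Fin r → R)) := by
    rw [hydef]
    clear hydef hzt
    induction zt using TensorProduct.induction_on with
    | zero => simp
    | tmul f a =>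
      simp only [LinearMap.lTensor_tmul, Submodule.subtype_apply, TensorProduct.rid_tmul]
      exact Submodule.smul_mem_smul a.2 Submodule.mem_top
    | add a b ha hb =>
      simp only [map_add]
      exact Submodule.add_mem _ (ha) (hb)
  have hy : y ∈ (I ^ n • K : Submodule R (Fin r → R)) := hAR ⟨hyI, hyK⟩
  -- write `y` as the image of an element of `K ⊗ I^n`
  have hw : ∃ w : ↥K ⊗[R] ↥(I ^ n), TensorProduct.rid R (Fin r → R)
      (LinearMap.lTensor (Fin r → R) (Submodule.subtype (I ^ n))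
        (LinearMap.rTensor (↥(I ^ n)) K.subtype w)) = y := by
    refine Submodule.smul_induction_on hy ?_ ?_
    · intro a ha k hk
      refine ⟨(⟨k, hk⟩ : K) ⊗ₜ[R] (⟨a, ha⟩ : ↥(I ^ n)), ?_⟩
      simp
    · rintro y₁ y₂ ⟨w₁, h₁⟩ ⟨w₂, h₂⟩
      exact ⟨w₁ + w₂, by simp only [map_add, h₁, h₂]⟩
  obtain ⟨w, hw⟩ := hw
  have hflat : Function.Injective
      (LinearMap.lTensor (Fin r → R) (Submodule.subtype (I ^ n))) :=
    Module.Flat.lTensor_preserves_injective_linearMap _ (Submodule.injective_subtype _)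
  have hcomp : (Submodule.subtype (I ^ n)) ∘ₗ (Submodule.inclusion h) =
      Submodule.subtype (I ^ (n + c)) := LinearMap.ext fun x => rfl
  have heq : LinearMap.rTensor (↥(I ^ n)) K.subtype w =
      LinearMap.lTensor (Fin r → R) (Submodule.inclusion h) zt := by
    apply hflat
    apply (TensorProduct.rid R (Fin r → R)).injective
    rw [hw, ← LinearMap.comp_apply, ← LinearMap.lTensor_comp, hcomp, hydef]
  have h3 : LinearMap.lTensor M (Submodule.inclusion h) z =
      LinearMap.rTensor (↥(I ^ n)) π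
        (LinearMap.lTensor (Fin r → R) (Submodule.inclusion h) zt) := by
    rw [← hzt, ← LinearMap.comp_apply, ← LinearMap.comp_apply, LinearMap.lTensor_comp_rTensor,
      LinearMap.rTensor_comp_lTensor]
  rw [h3, ← heq, ← LinearMap.comp_apply, ← LinearMap.rTensor_comp]
  have hπK : π ∘ₗ K.subtype = 0 := LinearMap.ext fun x => LinearMap.mem_ker.1 x.2
  rw [hπK, LinearMap.rTensor_zero, LinearMap.zero_apply]

end ArtinRees

end Groth.Agent.H82.TorNat
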