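import Mathlib
import Groth.Agent.H82.TorNat
import Groth.Agent.H82.TorSymm
import Groth.Agent.H82.TorColim
import Groth.Agent.H82.FiltColim

set_option linter.unusedSectionVars false
set_option linter.unusedVariables false
set_option linter.style.haveILetI false
set_option backward.isDefEq.respectTransparency false

/-!
# Uniform Artin–Rees for `Tor` against modules killed by a fixed power
-/

universe u

open CategoryTheory CategoryTheory.Limits MonoidalCategory
open scoped TensorProduct

namespace Groth.Agent.H82.TorAR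

open Groth.Agent.H82.LDer Groth.Agent.H82.TorLib Groth.Agent.H82 Groth.Agent.H82.TorSymm

section General

variable {R : Type u} [CommRing R]

/-- Dimension shifting of vanishing of a `δ`-morphism. -/
theorem zstep {T₁ T₂ : ℕ → ModuleCat.{u} R ⥤ ModuleCat.{u} R} (t₁ : NatLES T₁) (t₂ : NatLES T₂)
    (τ : ∀ n, T₁ n ⟶ T₂ n) (hτ : IsδMor t₁ t₂ τ) (S : ShortComplex (ModuleCat.{u} R))
    (hS : S.ShortExact) (j : ℕ) (hz : IsZero ((T₂ (j + 1)).obj S.X₂))
    (h : (τ j).app S.X₁ = 0) : (τ (j + 1)).app S.X₃ = 0 := by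
  have h1 := hτ S hS j
  rw [h, comp_zero] at h1
  haveI : Mono (t₂.δ S hS j) := (t₂.exact₃ S hS j).mono_g (hz.eq_of_src _ _)
  exact (cancel_mono (t₂.δ S hS j)).1 (by rw [← h1, zero_comp])

/-- The two-step chase. -/
theorem zchase {T₁ T₂ T₃ : ℕ → ModuleCat.{u} R ⥤ ModuleCat.{u} R} (t₁ : NatLES T₁)
    (t₂ : NatLES T₂) (τ : ∀ n, T₁ n ⟶ T₂ n) (hτ : IsδMor t₁ t₂ τ) (σ : ∀ n, T₂ n ⟶ T₃ n)
    (S : ShortComplex (ModuleCat.{u} R)) (hS : S.ShortExact) (j : ℕ)
    (h1 : (τ j).app S.X₁ = 0) (h2 : (σ (j + 1)).app S.X₂ = 0) :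
    (τ (j + 1)).app S.X₃ ≫ (σ (j + 1)).app S.X₃ = 0 := by
  refine ModuleCat.hom_ext (LinearMap.ext fun x => ?_)
  have hδ := hτ S hS j
  rw [h1, comp_zero] at hδ
  have hy : (t₂.δ S hS j) (((τ (j + 1)).app S.X₃) x) = 0 := by
    have := FiltColim.app_congr hδ.symm x
    rw [FiltColim.app_comp] at this
    exact this
  have hex := t₂.exact₃ S hS j
  rw [ShortComplex.moduleCat_exact_iff] at hex
  obtain ⟨z, hz⟩ := hex _ hy
  have hnat := FiltColim.app_congr ((σ (j + 1)).naturality S.g) z
  rw [FiltColim.app_comp, FiltColim.app_comp] at hnat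
  have hz' : ((T₂ (j + 1)).map S.g) z = ((τ (j + 1)).app S.X₃) x := hz
  rw [hz', h2] at hnat
  show ((σ (j + 1)).app S.X₃) (((τ (j + 1)).app S.X₃) x) = 0
  rw [hnat]
  simp

instance additive_cxFunctor_tensoringLeft (K : ChainComplex (ModuleCat.{u} R) ℕ) :
    (cxFunctor (tensoringLeft (ModuleCat.{u} R)) K).Additive where
  map_add {X Y f g} := by
    ext i
    simp [MonoidalPreadditive.add_whiskerRight]

theorem additive_tor_flip (X : ModuleCat.{u} R) (n : ℕ) :
    ((Tor (ModuleCat.{u} R) n).flip.obj X).Additive := by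
  haveI : (cxFunctor (tensoringLeft (ModuleCat.{u} R)) (projectiveResolution X).complex ⋙
      HomologicalComplex.homologyFunctor _ _ n).Additive := inferInstance
  exact Functor.additive_of_iso (TorColim.torFlipIso X (projectiveResolution X) n).symm

theorem natTrans_app_pi_eq_zero {G G' : ModuleCat.{u} R ⥤ ModuleCat.{u} R} [G.Additive]
    [G'.Additive] (τ : G ⟶ G') (A : Type u) [AddCommGroup A] [Module R A] (r : ℕ)
    (h : τ.app (ModuleCat.of R A) = 0) : τ.app (ModuleCat.of R (Fin r → A)) = 0 := by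
  have hid : 𝟙 (ModuleCat.of R (Fin r → A)) = ∑ i : Fin r,
      ModuleCat.ofHom (LinearMap.proj (R := R) (φ := fun _ : Fin r => A) i) ≫
        ModuleCat.ofHom (LinearMap.single R (fun _ : Fin r => A) i) := by
    refine ModuleCat.hom_ext (LinearMap.ext fun x => ?_)
    simp only [ModuleCat.hom_id, ModuleCat.hom_sum, ModuleCat.hom_comp, ModuleCat.hom_ofHom,
      LinearMap.id_apply, LinearMap.sum_apply, LinearMap.comp_apply, LinearMap.proj_apply,
      LinearMap.coe_single]
    exact (Finset.univ_sum_single x).symm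
  have h0 : τ.app (ModuleCat.of R (Fin r → A)) = G.map (𝟙 _) ≫ τ.app _ := by simp
  rw [h0, hid, Functor.map_sum, Preadditive.sum_comp]
  refine Finset.sum_eq_zero fun i _ => ?_
  rw [Functor.map_comp, Category.assoc, τ.naturality, h, zero_comp, comp_zero]

/-- A natural transformation out of a functor commuting with filtered colimits vanishes on a
module as soon as it vanishes on its finitely generated submodules. -/
theorem natTrans_app_eq_zero_of_fg {G G' : ModuleCat.{u} R ⥤ ModuleCat.{u} R}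
    (hG : ∀ (J : Type u) [SmallCategory J] [IsFiltered J], PreservesColimitsOfShape J G)
    (τ : G ⟶ G') (M : Type u) [AddCommGroup M] [Module R M]
    (h : ∀ N : Submodule R M, N.FG → τ.app (ModuleCat.of R N) = 0) :
    τ.app (ModuleCat.of R M) = 0 := by
  let J := {N : Submodule R M // N.FG}
  haveI : IsDirected J (· ≤ ·) :=
    ⟨fun a b => ⟨⟨a.1 ⊔ b.1, a.2.sup b.2⟩, le_sup_left (a := a.1), le_sup_right (b := b.1)⟩⟩
  haveI : Nonempty J := ⟨⟨⊥, Submodule.fg_bot⟩⟩
  let D : J ⥤ ModuleCat.{u} R :=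
    { obj := fun N => ModuleCat.of R N.1
      map := fun {N N'} f => ModuleCat.ofHom (Submodule.inclusion (leOfHom f))
      map_id := fun N => ModuleCat.hom_ext (LinearMap.ext fun x => rfl)
      map_comp := fun f g => ModuleCat.hom_ext (LinearMap.ext fun x => rfl) }
  let c : Cocone D :=
    { pt := ModuleCat.of R M
      ι := { app := fun N => ModuleCat.ofHom N.1.subtype
             naturality := fun N N' f => ModuleCat.hom_ext (LinearMap.ext fun x => rfl) } }
  obtain ⟨hc⟩ : Nonempty (IsColimit c) := by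
    apply FiltColim.nonempty_isColimit_of_rep
    · intro x
      exact ⟨⟨Submodule.span R {x}, Submodule.fg_span_singleton x⟩,
        ⟨x, Submodule.mem_span_singleton_self x⟩, rfl⟩
    · intro N y hy
      refine ⟨N, 𝟙 N, ?_⟩
      have hy0 : y = 0 := Subtype.ext hy
      rw [hy0, map_zero]
  haveI := hG J
  have hc' := isColimitOfPreserves G hc
  refine hc'.hom_ext fun N => ?_
  have hn := τ.naturality (c.ι.app N)
  show G.map (c.ι.app N) ≫ τ.app (ModuleCat.of R M) = G.map (c.ι.app N) ≫ 0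
  rw [comp_zero]
  have : G.map (c.ι.app N) ≫ τ.app (ModuleCat.of R M) = τ.app (D.obj N) ≫ G'.map (c.ι.app N) := hn
  rw [this]
  have h0 : τ.app (D.obj N) = 0 := h N.1 N.2
  rw [h0, zero_comp]

end General

section AR

variable {R : Type u} [CommRing R] (I : Ideal R)

/-- The projection `R/I^n → R/I^k`. -/
noncomputable def proj (n k : ℕ) (h : k ≤ n) :=
  ModuleCat.ofHom (Submodule.mapQ (I ^ n) (I ^ k) LinearMap.id (Ideal.pow_le_pow_right h))

theorem proj_comp (n k l : ℕ) (h : k ≤ n) (h' : l ≤ k) :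
    proj I n k h ≫ proj I k l h' = proj I n l (h'.trans h) := by
  refine ModuleCat.hom_ext (Submodule.linearMap_qext _ (LinearMap.ext fun x => ?_))
  rfl

variable [IsNoetherianRing R]

/-- Artin–Rees with a uniform constant: the kernel of `M ⊗ I^(n+c) → M ⊗ R` dies in
`M ⊗ I^n`. -/
theorem exists_const_kernel_dies (M : Type u) [AddCommGroup M] [Module R M] [Module.Finite R M] :
    ∃ c : ℕ, ∀ (n : ℕ) (h : I ^ (n + c) ≤ I ^ n) (z : M ⊗[R] ↥(I ^ (n + c))),
      LinearMap.lTensor M (Submodule.subtype (I ^ (n + c))) z = 0 →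
      LinearMap.lTensor M (Submodule.inclusion h) z = 0 := by
  obtain ⟨r, π, hπ⟩ := Module.Finite.exists_fin' R M
  let K : Submodule R (Fin r → R) := LinearMap.ker π
  obtain ⟨c, hc⟩ := Ideal.exists_pow_inf_eq_pow_smul I K
  refine ⟨c, fun n h z hz => ?_⟩
  have hAR : (I ^ (n + c) • ⊤ ⊓ K : Submodule R (Fin r → R)) ≤ I ^ n • K := by
    rw [hc (n + c) (Nat.le_add_left c n), Nat.add_sub_cancel]
    exact Submodule.smul_mono le_rfl inf_le_right
  obtain ⟨zt, hzt⟩ := LinearMap.rTensor_surjective (↥(I ^ (n + c))) hπ z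
  have hgen : ∀ v : (Fin r → R) ⊗[R] R, π (TensorProduct.rid R (Fin r → R) v) =
      TensorProduct.rid R M (LinearMap.rTensor R π v) := by
    intro v
    induction v using TensorProduct.induction_on with
    | zero => simp
    | tmul f a => simp
    | add a b ha hb => simp only [map_add, ha, hb]
  obtain ⟨y, hydef⟩ : ∃ y : Fin r → R, y = TensorProduct.rid R (Fin r → R)
    (LinearMap.lTensor (Fin r → R) (Submodule.subtype (I ^ (n + c))) zt) := ⟨_, rfl⟩
  have hyK : y ∈ K := by
    rw [LinearMap.mem_ker, hydef, hgen, ← LinearMap.comp_apply, LinearMap.rTensor_comp_lTensor,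
      ← LinearMap.lTensor_comp_rTensor, LinearMap.comp_apply, hzt, hz, map_zero]
  have hyI : y ∈ (I ^ (n + c) • ⊤ : Submodule R (Fin r → R)) := by
    rw [hydef]
    clear hydef hzt
    induction zt using TensorProduct.induction_on with
    | zero => simp
    | tmul f a =>
      simp only [LinearMap.lTensor_tmul, Submodule.subtype_apply, TensorProduct.rid_tmul]
      exact Submodule.smul_mem_smul a.2 Submodule.mem_top
    | add a b ha hb =>
      simp only [map_add]
      exact Submodule.add_mem _ (ha) (hb)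
  have hy : y ∈ (I ^ n • K : Submodule R (Fin r → R)) := hAR ⟨hyI, hyK⟩
  have hw : ∃ w : ↥K ⊗[R] ↥(I ^ n), TensorProduct.rid R (Fin r → R)
      (LinearMap.lTensor (Fin r → R) (Submodule.subtype (I ^ n))
        (LinearMap.rTensor (↥(I ^ n)) K.subtype w)) = y := by
    refine Submodule.smul_induction_on hy ?_ ?_
    · intro a ha k hk
      refine ⟨(⟨k, hk⟩ : K) ⊗ₜ[R] (⟨a, ha⟩ : ↥(I ^ n)), ?_⟩
      simp
    · rintro y₁ y₂ ⟨w₁, h₁⟩ ⟨w₂, h₂⟩
      exact ⟨w₁ + w₂, by simp only [map_add, h₁, h₂]⟩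
  obtain ⟨w, hw⟩ := hw
  have hflat : Function.Injective
      (LinearMap.lTensor (Fin r → R) (Submodule.subtype (I ^ n))) :=
    Module.Flat.lTensor_preserves_injective_linearMap _ (Submodule.injective_subtype _)
  have hcomp : (Submodule.subtype (I ^ n)) ∘ₗ (Submodule.inclusion h) =
      Submodule.subtype (I ^ (n + c)) := LinearMap.ext fun x => rfl
  have heq : LinearMap.rTensor (↥(I ^ n)) K.subtype w =
      LinearMap.lTensor (Fin r → R) (Submodule.inclusion h) zt := by
    apply hflat
    apply (TensorProduct.rid R (Fin r → R)).injective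
    rw [hw, ← LinearMap.comp_apply, ← LinearMap.lTensor_comp, hcomp, hydef]
  have h3 : LinearMap.lTensor M (Submodule.inclusion h) z =
      LinearMap.rTensor (↥(I ^ n)) π
        (LinearMap.lTensor (Fin r → R) (Submodule.inclusion h) zt) := by
    rw [← hzt, ← LinearMap.comp_apply, ← LinearMap.comp_apply, LinearMap.lTensor_comp_rTensor,
      LinearMap.rTensor_comp_lTensor]
  rw [h3, ← heq, ← LinearMap.comp_apply, ← LinearMap.rTensor_comp]
  have hπK : π ∘ₗ K.subtype = 0 := LinearMap.ext fun x => LinearMap.mem_ker.1 x.2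
  rw [hπK, LinearMap.rTensor_zero, LinearMap.zero_apply]

/-- From a statement on tensor products to `Tor₁`. -/
theorem tor_one_proj_eq_zero (M : Type u) [AddCommGroup M] [Module R M] (n k : ℕ) (h : k ≤ n)
    (H : ∀ z : M ⊗[R] ↥(I ^ n), LinearMap.lTensor M (Submodule.subtype (I ^ n)) z = 0 →
      LinearMap.lTensor M (Submodule.inclusion (Ideal.pow_le_pow_right h)) z = 0) :
    ((Tor (ModuleCat.{u} R) 1).obj (ModuleCat.of R M)).map (proj I n k h) = 0 := by
  have hexm := LinearMap.exact_subtype_mkQ (I ^ n : Submodule R R)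
  have hexn := LinearMap.exact_subtype_mkQ (I ^ k : Submodule R R)
  have hSm := TorFlat.shortExact_of (A := R) _ _
    (Submodule.injective_subtype (I ^ n : Submodule R R)) (Submodule.mkQ_surjective _) hexm
  have hSn := TorFlat.shortExact_of (A := R) _ _
    (Submodule.injective_subtype (I ^ k : Submodule R R)) (Submodule.mkQ_surjective _) hexn
  let φ : ModuleCat.shortComplexOfCompEqZero (Submodule.subtype (I ^ n : Submodule R R))
        (Submodule.mkQ (I ^ n : Submodule R R)) hexm.linearMap_comp_eq_zero ⟶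
      ModuleCat.shortComplexOfCompEqZero (Submodule.subtype (I ^ k : Submodule R R))
        (Submodule.mkQ (I ^ k : Submodule R R)) hexn.linearMap_comp_eq_zero :=
    { τ₁ := ModuleCat.ofHom (Submodule.inclusion (Ideal.pow_le_pow_right h))
      τ₂ := 𝟙 _
      τ₃ := proj I n k h
      comm₁₂ := ModuleCat.hom_ext (LinearMap.ext fun x => rfl)
      comm₂₃ := ModuleCat.hom_ext (LinearMap.ext fun x => rfl) }
  haveI : Projective (ModuleCat.of R R) :=
    (IsProjective.iff_projective (R := R) _).1 inferInstance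
  have hproj : Limits.IsZero (((Tor (ModuleCat.{u} R) 1).obj (ModuleCat.of R M)).obj
      (ModuleCat.of R R)) :=
    TorLib.vanish_tor (ModuleCat.of R M) 0 (ModuleCat.of R R) inferInstance
  exact TorNat.tor_map_zero_of_whisker (ModuleCat.of R M) hSm hSn φ hproj
    (fun z hz => H z hz)

theorem ar_tor_one (N : Type u) [AddCommGroup N] [Module R N] [Module.Finite R N] :
    ∃ c : ℕ, ∀ (n k : ℕ) (h : k + c ≤ n),
      ((Tor (ModuleCat.{u} R) 1).obj (ModuleCat.of R N)).map
        (proj I n k ((Nat.le_add_right k c).trans h)) = 0 := by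
  obtain ⟨c, hc⟩ := exists_const_kernel_dies I N
  refine ⟨c, fun n k h => ?_⟩
  rw [← proj_comp I n (k + c) k h (Nat.le_add_right k c), Functor.map_comp]
  rw [tor_one_proj_eq_zero I N (k + c) k (Nat.le_add_right k c)
    (fun z hz => hc k _ z hz), comp_zero]

theorem ar_tor (j : ℕ) : ∀ (N : Type u) [AddCommGroup N] [Module R N] [Module.Finite R N],
    ∃ c : ℕ, ∀ (n k : ℕ) (h : k + c ≤ n),
      ((Tor (ModuleCat.{u} R) (j + 1)).obj (ModuleCat.of R N)).map
        (proj I n k ((Nat.le_add_right k c).trans h)) = 0 := by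
  induction j with
  | zero => exact fun N _ _ _ => ar_tor_one I N
  | succ j ih =>
    intro N _ _ _
    obtain ⟨r, π, hπ⟩ := Module.Finite.exists_fin' R N
    obtain ⟨c, hc⟩ := ih (LinearMap.ker π)
    refine ⟨c, fun n k h => ?_⟩
    have hS := TorFlat.shortExact_of (A := R) (LinearMap.ker π).subtype π
      (Submodule.injective_subtype _) hπ (LinearMap.exact_subtype_ker_map π)
    haveI : Projective (ModuleCat.of R (Fin r → R)) :=
      (IsProjective.iff_projective (R := R) _).1 inferInstance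
    exact zstep (tT' _) (tT' _)
      (fun i => (Tor (ModuleCat.{u} R) i).flip.map (proj I n k ((Nat.le_add_right k c).trans h)))
      (isδMor_T'_map _) _ hS (j + 1)
      (vanish_T' _ (j + 1) (ModuleCat.of R (Fin r → R)) inferInstance) (hc n k h)

theorem tensor_incl_zero (m : ℕ) (M : Type u) [AddCommGroup M] [Module R M]
    (hM : ∀ a ∈ I ^ m, ∀ x : M, a • x = 0) (n k : ℕ) (h : k + m ≤ n) (h' : I ^ n ≤ I ^ k)
    (z : M ⊗[R] ↥(I ^ n)) : LinearMap.lTensor M (Submodule.inclusion h') z = 0 := by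
  induction z using TensorProduct.induction_on with
  | zero => simp
  | add a b ha hb => rw [map_add, ha, hb, add_zero]
  | tmul x r =>
    rw [LinearMap.lTensor_tmul]
    have hr : (r : R) ∈ I ^ m * I ^ k := by
      rw [← pow_add]
      exact Ideal.pow_le_pow_right (by omega) r.2
    have key : ∀ (s : R) (hs : s ∈ I ^ m * I ^ k) (hs' : s ∈ I ^ k),
        x ⊗ₜ[R] (⟨s, hs'⟩ : ↥(I ^ k)) = 0 := by
      intro s hs
      refine Submodule.mul_induction_on'
        (C := fun s _ => ∀ hs' : s ∈ I ^ k, x ⊗ₜ[R] (⟨s, hs'⟩ : ↥(I ^ k)) = 0) ?_ ?_ hs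
      · intro a ha b hb hs'
        have e : (⟨a * b, hs'⟩ : ↥(I ^ k)) = a • (⟨b, hb⟩ : ↥(I ^ k)) :=
          Subtype.ext (by simp [smul_eq_mul])
        rw [e, TensorProduct.tmul_smul, TensorProduct.smul_tmul', hM a ha x,
          TensorProduct.zero_tmul]
      · intro s hs t ht ihs iht hs'
        have hs1 : s ∈ I ^ k := Ideal.mul_le_right hs
        have ht1 : t ∈ I ^ k := Ideal.mul_le_right ht
        have e : (⟨s + t, hs'⟩ : ↥(I ^ k)) = ⟨s, hs1⟩ + ⟨t, ht1⟩ := rfl
        rw [e, TensorProduct.tmul_add, ihs hs1, iht ht1, add_zero]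
    exact key r hr _

theorem claim_fg (m j : ℕ) : ∃ c : ℕ, ∀ (M : Type u) [AddCommGroup M] [Module R M]
    [Module.Finite R M], (∀ a ∈ I ^ m, ∀ x : M, a • x = 0) → ∀ (n k : ℕ) (h : k + c ≤ n),
      ((Tor (ModuleCat.{u} R) (j + 1)).obj (ModuleCat.of R M)).map
        (proj I n k ((Nat.le_add_right k c).trans h)) = 0 := by
  induction j with
  | zero =>
    refine ⟨m, fun M _ _ _ hM n k h => ?_⟩
    exact tor_one_proj_eq_zero I M n k _
      (fun z _ => tensor_incl_zero I m M hM n k h _ z)
  | succ j ih =>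
    obtain ⟨c₁, h₁⟩ := ih
    obtain ⟨c₂, h₂⟩ := ar_tor I (j + 1) (R ⧸ I ^ m)
    refine ⟨c₁ + c₂, fun M _ _ _ hM n k h => ?_⟩
    obtain ⟨r, g, hg⟩ := Module.Finite.exists_fin (R := R) (M := M)
    let comp : Fin r → ((R ⧸ I ^ m) →ₗ[R] M) := fun i =>
      Submodule.liftQ (I ^ m) (LinearMap.toSpanSingleton R M (g i))
        (fun a ha => by
          rw [LinearMap.mem_ker, LinearMap.toSpanSingleton_apply]
          exact hM a ha (g i))
    let π : (Fin r → R ⧸ I ^ m) →ₗ[R] M := ∑ i, (comp i) ∘ₗ LinearMap.proj i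
    have hπ : Function.Surjective π := by
      intro x
      have hx : x ∈ Submodule.span R (Set.range g) := by rw [hg]; exact Submodule.mem_top
      obtain ⟨cf, hcf⟩ := (Submodule.mem_span_range_iff_exists_fun R).1 hx
      refine ⟨fun i => Submodule.Quotient.mk (cf i), ?_⟩
      rw [← hcf]
      simp only [π, LinearMap.sum_apply, LinearMap.comp_apply, LinearMap.proj_apply]
      refine Finset.sum_congr rfl fun i _ => ?_
      show (comp i) (Submodule.Quotient.mk (cf i)) = cf i • g i
      rfl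
    have hK : ∀ a ∈ I ^ m, ∀ x : LinearMap.ker π, a • x = 0 := by
      intro a ha x
      refine Subtype.ext (funext fun i => ?_)
      show a • (x.1 i) = 0
      obtain ⟨y, hy⟩ := Submodule.Quotient.mk_surjective _ (x.1 i)
      rw [← hy, ← Submodule.Quotient.mk_smul, Submodule.Quotient.mk_eq_zero, smul_eq_mul]
      exact Ideal.mul_mem_right _ _ ha
    have hS := TorFlat.shortExact_of (A := R) (LinearMap.ker π).subtype π
      (Submodule.injective_subtype _) hπ (LinearMap.exact_subtype_ker_map π)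
    have hk' : k + c₂ + c₁ ≤ n := by omega
    haveI := additive_tor_flip (ModuleCat.of R (R ⧸ I ^ (k + c₂))) (j + 1 + 1)
    haveI := additive_tor_flip (ModuleCat.of R (R ⧸ I ^ k)) (j + 1 + 1)
    have hA := natTrans_app_pi_eq_zero
      ((Tor (ModuleCat.{u} R) (j + 1 + 1)).flip.map (proj I (k + c₂) k (Nat.le_add_right k c₂)))
      (R ⧸ I ^ m) r (h₂ (k + c₂) k le_rfl)
    have := zchase (tT' _) (tT' _)
      (fun i => (Tor (ModuleCat.{u} R) i).flip.map
        (proj I n (k + c₂) ((Nat.le_add_right (k + c₂) c₁).trans hk')))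
      (isδMor_T'_map _)
      (fun i => (Tor (ModuleCat.{u} R) i).flip.map (proj I (k + c₂) k (Nat.le_add_right k c₂)))
      _ hS (j + 1) (h₁ (LinearMap.ker π) hK n (k + c₂) hk') hA
    rw [← proj_comp I n (k + c₂) k ((Nat.le_add_right (k + c₂) c₁).trans hk')
      (Nat.le_add_right k c₂), Functor.map_comp]
    exact this

theorem claim_all (m j : ℕ) : ∃ c : ℕ, ∀ (M : Type u) [AddCommGroup M] [Module R M],
    (∀ a ∈ I ^ m, ∀ x : M, a • x = 0) → ∀ (n k : ℕ) (h : k + c ≤ n),
      ((Tor (ModuleCat.{u} R) (j + 1)).obj (ModuleCat.of R M)).map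
        (proj I n k ((Nat.le_add_right k c).trans h)) = 0 := by
  obtain ⟨c, hc⟩ := claim_fg I m j
  refine ⟨c, fun M _ _ hM n k h => ?_⟩
  exact natTrans_app_eq_zero_of_fg
    (fun J _ _ => TorColim.preserves_tor_flip _ (j + 1) J)
    ((Tor (ModuleCat.{u} R) (j + 1)).flip.map (proj I n k ((Nat.le_add_right k c).trans h))) M
    (fun N hN => by
      haveI : Module.Finite R N := Module.Finite.iff_fg.2 hN
      exact hc N (fun a ha x => Subtype.ext (by simpa using hM a ha x.1)) n k h)

end AR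

end Groth.Agent.H82.TorAR
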