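import Mathlib
import Groth.Agent.H82.TorReg
import Groth.Agent.H82.TorFlat
import Groth.Agent.H82.FiltColim

set_option linter.unusedSectionVars false
set_option linter.unusedVariables false
set_option linter.style.haveILetI false
set_option backward.isDefEq.respectTransparency false

universe u

open CategoryTheory CategoryTheory.Limits MonoidalCategory

namespace Groth.Agent.H82.TorTF

open Groth.Agent.H82.LDer Groth.Agent.H82.TorLib

/-- A finite length module over a domain which is not a field is killed by a nonzero element. -/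
theorem exists_ne_zero_smul_eq_zero (O : Type u) [CommRing O] [IsDomain O]
    (hdim : ringKrullDim O = 1) (T : Type u) [AddCommGroup T] [Module O T]
    (hT : IsFiniteLength O T) : ∃ a : O, a ≠ 0 ∧ ∀ t : T, a • t = 0 := by
  classical
  obtain ⟨hN, hA⟩ := isFiniteLength_iff_isNoetherian_isArtinian.mp hT
  haveI := hN
  haveI := hA
  have hnf : ¬ IsField O := fun hF => by
    have h0 := ringKrullDim_eq_zero_of_isField hF
    rw [hdim] at h0
    exact absurd h0 (by simp)
  have key : ∀ t : T, ∃ a : O, a ≠ 0 ∧ a • t = 0 := by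
    intro t
    by_contra hcon
    push Not at hcon
    have hinj : Function.Injective (LinearMap.toSpanSingleton O T t) := by
      rw [injective_iff_map_eq_zero]
      intro a ha
      by_contra ha0
      exact hcon a ha0 (by simpa [LinearMap.toSpanSingleton_apply] using ha)
    haveI : IsArtinian O O := isArtinian_of_injective _ hinj
    exact hnf (IsArtinianRing.isField_of_isDomain O)
  haveI : Module.Finite O T := inferInstance
  obtain ⟨s, hs⟩ := (Module.Finite.fg_top : (⊤ : Submodule O T).FG)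
  choose a ha0 hat using key
  refine ⟨∏ t ∈ s, a t, Finset.prod_ne_zero_iff.mpr (fun t _ => ha0 t), ?_⟩
  have hle : (⊤ : Submodule O T) ≤ LinearMap.ker (LinearMap.lsmul O T (∏ t ∈ s, a t)) := by
    rw [← hs, Submodule.span_le]
    intro t ht
    rw [SetLike.mem_coe, LinearMap.mem_ker, LinearMap.lsmul_apply]
    rw [← Finset.mul_prod_erase s a ht, mul_comm, mul_smul, hat t, smul_zero]
  intro t
  exact hle (Submodule.mem_top : t ∈ ⊤)

/-- A scalar regular on `B` is regular on `B ⊗ P` for flat `P`. -/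
theorem reg_tensor {O : Type u} [CommRing O] {B P : Type u} [AddCommGroup B] [Module O B]
    [AddCommGroup P] [Module O P] [Module.Flat O P] (c : O) (hc : ∀ b : B, c • b = 0 → b = 0) :
    ∀ z : TensorProduct O B P, c • z = 0 → z = 0 := by
  have hinj : Function.Injective (LinearMap.lsmul O B c) :=
    (injective_iff_map_eq_zero (LinearMap.lsmul O B c)).2 (fun b hb => hc b hb)
  have h1 := Module.Flat.rTensor_preserves_injective_linearMap (M := P)
    (LinearMap.lsmul O B c) hinj
  intro z hz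
  apply h1
  rw [map_zero]
  have e : (LinearMap.lsmul O B c).rTensor P = LinearMap.lsmul O (TensorProduct O B P) c := by
    refine TensorProduct.ext' fun b p => ?_
    simp [TensorProduct.smul_tmul']
  rw [e]
  exact hz

/-- Elements of the integral closure in the fraction field are torsion free. -/
theorem intClosure_reg (O : Type u) [CommRing O] [IsDomain O] (K : Type u) [Field K] [Algebra O K]
    [IsFractionRing O K] (c : O) (hc : c ≠ 0) :
    ∀ b : ↥(integralClosure O K), c • b = 0 → b = 0 := by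
  intro b hb
  have h1 : (algebraMap O K c) * (b : K) = 0 := by
    have h2 := congrArg Subtype.val hb
    rw [← Algebra.smul_def]
    exact h2
  rcases mul_eq_zero.1 h1 with h | h
  · exact absurd ((IsFractionRing.injective O K) (h.trans (map_zero _).symm)) hc
  · exact Subtype.ext h

section Core

variable {O : Type u} [CommRing O] (B : Type u) [AddCommGroup B] [Module O B]

/-- A scalar killing `X` kills `Tor_n(B, X)`. -/
theorem tor_smul_eq_zero (n : ℕ) (a : O) (X : ModuleCat.{u} O) (haX : ∀ t : X, a • t = 0)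
    (x : ((Tor (ModuleCat.{u} O) n).obj (ModuleCat.of O B)).obj X) : a • x = 0 := by
  have hsm : ((tensorLeft (ModuleCat.of O B)).leftDerived n).map (a • 𝟙 X) = a • 𝟙 _ :=
    TorReg.leftDerived_map_smul (tensorLeft (ModuleCat.of O B)) n a X
  have ha0 : a • 𝟙 X = (0 : O) • 𝟙 X := by
    rw [zero_smul]
    refine ModuleCat.hom_ext (LinearMap.ext fun t => ?_)
    exact haT' haX t
  have hsm0 : ((tensorLeft (ModuleCat.of O B)).leftDerived n).map ((0 : O) • 𝟙 X) =
      (0 : O) • 𝟙 _ :=
    TorReg.leftDerived_map_smul (tensorLeft (ModuleCat.of O B)) n (0 : O) X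
  rw [← ha0, hsm, zero_smul] at hsm0
  have h2 := FiltColim.app_congr hsm0
    (x : ((tensorLeft (ModuleCat.of O B)).leftDerived n).obj X)
  exact h2
where
  haT' {X : ModuleCat.{u} O} {a : O} (haX : ∀ t : X, a • t = 0) (t : X) :
      (a • 𝟙 X : X ⟶ X).hom t = (0 : X ⟶ X).hom t := haX t

variable {P M : Type u} [AddCommGroup P] [Module O P] [Module.Projective O P]
  [AddCommGroup M] [Module O M]

theorem core (a : O) (haB : ∀ b : B, a • b = 0 → b = 0) (f : P →ₗ[O] M)
    (hf : Function.Injective f) (haT : ∀ t : M ⧸ LinearMap.range f, a • t = 0) :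
    Nonempty (((Tor (ModuleCat.{u} O) 1).obj (ModuleCat.of O B)).obj (ModuleCat.of O M) ≅
      ((Tor (ModuleCat.{u} O) 1).obj (ModuleCat.of O B)).obj
        (ModuleCat.of O (M ⧸ LinearMap.range f))) ∧
    Function.Injective (LinearMap.lTensor B f) := by
  let Bc := ModuleCat.of O B
  let S := ModuleCat.shortComplexOfCompEqZero f (LinearMap.range f).mkQ
    (LinearMap.exact_map_mkQ_range f).linearMap_comp_eq_zero
  have hS : S.ShortExact := TorFlat.shortExact_of (A := O) f (LinearMap.range f).mkQ hf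
    (Submodule.mkQ_surjective _) (LinearMap.exact_map_mkQ_range f)
  have hles := TorLib.hasLES_tor Bc
  obtain ⟨-, -, δ, w₁, w₂, e1, e2⟩ := hles S hS 0
  obtain ⟨h0', h1', -⟩ := hles S hS 1
  haveI : Projective (ModuleCat.of O P) := (IsProjective.iff_projective (R := O) _).1 inferInstance
  have hz1 : IsZero (((Tor (ModuleCat.{u} O) 1).obj Bc).obj S.X₁) :=
    TorLib.vanish_tor Bc 0 (ModuleCat.of O P) inferInstance
  have hreg := reg_tensor (O := O) (B := B) (P := P) a haB
  have hδ : δ = 0 := by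
    refine ModuleCat.hom_ext (LinearMap.ext fun x => ?_)
    show δ x = 0
    have hx : a • x = 0 := tor_smul_eq_zero B 1 a S.X₃ haT x
    have h1 : a • δ x = 0 := by
      have h3 : δ (a • x) = a • δ x := δ.hom.map_smul a x
      rw [← h3, hx]
      exact δ.hom.map_zero
    let E0 : (Tor (ModuleCat.{u} O) 0).obj Bc ≅ tensorLeft Bc :=
      (tensorLeft Bc).leftDerivedZeroIsoSelf
    let e0 : ((Tor (ModuleCat.{u} O) 0).obj Bc).obj S.X₁ ≃ₗ[O] TensorProduct O B P :=
      (E0.app S.X₁).toLinearEquiv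
    have h2 : a • e0 (δ x) = 0 := by rw [← map_smul, h1, map_zero]
    have h3 : e0 (δ x) = 0 := hreg _ h2
    exact e0.injective (h3.trans (map_zero e0).symm)
  have hmono : Mono (((Tor (ModuleCat.{u} O) 1).obj Bc).map S.g) :=
    (h1' h0').mono_g (hz1.eq_of_src _ _)
  have hepi : Epi (((Tor (ModuleCat.{u} O) 1).obj Bc).map S.g) := e1.epi_f hδ
  haveI := hmono
  haveI := hepi
  haveI : IsIso (((Tor (ModuleCat.{u} O) 1).obj Bc).map S.g) := isIso_of_mono_of_epi _
  refine ⟨⟨asIso (((Tor (ModuleCat.{u} O) 1).obj Bc).map S.g)⟩, ?_⟩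
  have hm0 : Mono (((Tor (ModuleCat.{u} O) 0).obj Bc).map S.f) := e2.mono_g hδ
  let E : (Tor (ModuleCat.{u} O) 0).obj Bc ≅ tensorLeft Bc :=
    (tensorLeft Bc).leftDerivedZeroIsoSelf
  let e1' : ((Tor (ModuleCat.{u} O) 0).obj Bc).obj S.X₁ ≃ₗ[O] TensorProduct O B P :=
    (E.app S.X₁).toLinearEquiv
  let e2' : ((Tor (ModuleCat.{u} O) 0).obj Bc).obj S.X₂ ≃ₗ[O] TensorProduct O B M :=
    (E.app S.X₂).toLinearEquiv
  have hnat : ∀ y : ((Tor (ModuleCat.{u} O) 0).obj Bc).obj S.X₁,
      e2' (((Tor (ModuleCat.{u} O) 0).obj Bc).map S.f y) = LinearMap.lTensor B f (e1' y) := by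
    intro y
    exact FiltColim.app_congr (E.hom.naturality S.f) y
  have hinj0 : Function.Injective (((Tor (ModuleCat.{u} O) 0).obj Bc).map S.f) :=
    (ModuleCat.mono_iff_injective (((Tor (ModuleCat.{u} O) 0).obj Bc).map S.f)).1 hm0
  rw [injective_iff_map_eq_zero]
  intro z hz
  have h5 : ((Tor (ModuleCat.{u} O) 0).obj Bc).map S.f (e1'.symm z) = 0 := by
    apply e2'.injective
    rw [hnat, LinearEquiv.apply_symm_apply, hz, map_zero]
  have h6 : e1'.symm z = 0 := by
    apply hinj0
    rw [h5]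
    exact ((((Tor (ModuleCat.{u} O) 0).obj Bc).map S.f).hom.map_zero).symm
  have h7 := congrArg e1' h6
  rw [LinearEquiv.apply_symm_apply, map_zero] at h7
  exact h7

theorem core2 [IsDomain O] (haB : ∀ c : O, c ≠ 0 → ∀ b : B, c • b = 0 → b = 0)
    (g : M →ₗ[O] P) (hg : Function.Injective g) (a : O) (ha : a ≠ 0)
    (haT : ∀ t : P ⧸ LinearMap.range g, a • t = 0) :
    Nonempty (↥(Submodule.torsion O (TensorProduct O B M)) ≃ₗ[O]
      ↑(((Tor (ModuleCat.{u} O) 1).obj (ModuleCat.of O B)).obj
        (ModuleCat.of O (P ⧸ LinearMap.range g)))) := by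
  let Bc := ModuleCat.of O B
  let S := ModuleCat.shortComplexOfCompEqZero g (LinearMap.range g).mkQ
    (LinearMap.exact_map_mkQ_range g).linearMap_comp_eq_zero
  have hS : S.ShortExact := TorFlat.shortExact_of (A := O) g (LinearMap.range g).mkQ hg
    (Submodule.mkQ_surjective _) (LinearMap.exact_map_mkQ_range g)
  have hles := TorLib.hasLES_tor Bc
  obtain ⟨-, -, δ, w₁, w₂, e1, e2⟩ := hles S hS 0
  haveI : Projective (ModuleCat.of O P) := (IsProjective.iff_projective (R := O) _).1 inferInstance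
  have hz1 : IsZero (((Tor (ModuleCat.{u} O) 1).obj Bc).obj S.X₂) :=
    TorLib.vanish_tor Bc 0 (ModuleCat.of O P) inferInstance
  have hδm : Mono δ := e1.mono_g (hz1.eq_of_src _ _)
  have hδinj : Function.Injective δ := (ModuleCat.mono_iff_injective δ).1 hδm
  let E : (Tor (ModuleCat.{u} O) 0).obj Bc ≅ tensorLeft Bc :=
    (tensorLeft Bc).leftDerivedZeroIsoSelf
  let e1' : ((Tor (ModuleCat.{u} O) 0).obj Bc).obj S.X₁ ≃ₗ[O] TensorProduct O B M :=
    (E.app S.X₁).toLinearEquiv
  let e2' : ((Tor (ModuleCat.{u} O) 0).obj Bc).obj S.X₂ ≃ₗ[O] TensorProduct O B P :=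
    (E.app S.X₂).toLinearEquiv
  have hnat : ∀ y : ((Tor (ModuleCat.{u} O) 0).obj Bc).obj S.X₁,
      e2' (((Tor (ModuleCat.{u} O) 0).obj Bc).map S.f y) = LinearMap.lTensor B g (e1' y) := by
    intro y
    exact FiltColim.app_congr (E.hom.naturality S.f) y
  have hkill : ∀ x : ((Tor (ModuleCat.{u} O) 1).obj Bc).obj S.X₃, a • x = 0 :=
    fun x => tor_smul_eq_zero B 1 a S.X₃ haT x
  have htors : ∀ x : ((Tor (ModuleCat.{u} O) 1).obj Bc).obj S.X₃,
      (e1'.toLinearMap ∘ₗ δ.hom) x ∈ Submodule.torsion O (TensorProduct O B M) := by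
    intro x
    refine (Submodule.mem_torsion_iff (R := O) (M := TensorProduct O B M) _).2
      ⟨⟨a, mem_nonZeroDivisors_of_ne_zero ha⟩, ?_⟩
    show a • e1' (δ x) = 0
    have h3 : δ (a • x) = a • δ x := δ.hom.map_smul a x
    rw [← map_smul, ← h3, hkill x]
    have h4 : δ (0 : ((Tor (ModuleCat.{u} O) 1).obj Bc).obj S.X₃) = 0 := δ.hom.map_zero
    rw [h4, map_zero]
  let φ : ((Tor (ModuleCat.{u} O) 1).obj Bc).obj S.X₃ →ₗ[O]
      Submodule.torsion O (TensorProduct O B M) :=
    (e1'.toLinearMap ∘ₗ δ.hom).codRestrict _ htors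
  have hφinj : Function.Injective φ := by
    intro x y hxy
    have h5 : e1' (δ x) = e1' (δ y) := congrArg Subtype.val hxy
    exact hδinj (e1'.injective h5)
  have hφsurj : Function.Surjective φ := by
    rintro ⟨z, hz⟩
    rw [Submodule.mem_torsion_iff] at hz
    obtain ⟨⟨c, hc⟩, hcz⟩ := hz
    have hc0 : c ≠ 0 := nonZeroDivisors.ne_zero hc
    have hcz' : c • z = 0 := hcz
    have hz2 : LinearMap.lTensor B g z = 0 := by
      apply reg_tensor (O := O) (B := B) (P := P) c (haB c hc0)
      rw [← map_smul, hcz', map_zero]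
    have hy : ((Tor (ModuleCat.{u} O) 0).obj Bc).map S.f (e1'.symm z) = 0 := by
      apply e2'.injective
      rw [hnat, LinearEquiv.apply_symm_apply, hz2, map_zero]
    have hex := (ShortComplex.moduleCat_exact_iff _).1 e2
    obtain ⟨x, hx⟩ := hex (e1'.symm z) hy
    refine ⟨x, Subtype.ext ?_⟩
    show e1' (δ x) = z
    have hx' : δ x = e1'.symm z := hx
    rw [hx', LinearEquiv.apply_symm_apply]
  exact ⟨(LinearEquiv.ofBijective φ ⟨hφinj, hφsurj⟩).symm⟩

end Core

end Groth.Agent.H82.TorTF
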